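import Mathlib
import Groth.Prelude.Def_LCI2

/-!
# Flat base change of Koszul-regular sequences

For a ring map `φ : A → B` the termwise extension of scalars of the (mapping cone model of the)
Koszul complex of `l` is the Koszul complex of `l.map φ`.  When `φ` is flat, extension of scalars
commutes with homology, so Koszul-regular sequences stay Koszul-regular.
-/

set_option autoImplicit false
universe u

namespace Groth.Agent.Lib.Helper10.KoszulFlat

open CategoryTheory CategoryTheory.Limits CochainComplex HomComplex ChangeOfRings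

section ConeIso

variable {A : Type u} [CommRing A]

/-- isomorphic complexes have isomorphic cones of multiplication by `f`. -/
noncomputable def coneIso {K L : CochainComplex (ModuleCat.{u} A) ℤ} (f : A) (e : K ≅ L) :
    mappingCone (f • 𝟙 K) ≅ mappingCone (f • 𝟙 L) where
  hom := mappingCone.map _ _ e.hom e.hom (by simp)
  inv := mappingCone.map _ _ e.inv e.inv (by simp)
  hom_inv_id := by
    rw [← mappingCone.map_comp]
    simp [mappingCone.map_id]
  inv_hom_id := by
    rw [← mappingCone.map_comp]
    simp [mappingCone.map_id]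

/-- cones of equal maps. -/
noncomputable def coneCongr {K L : CochainComplex (ModuleCat.{u} A) ℤ} {α β : K ⟶ L} (h : α = β) :
    mappingCone α ≅ mappingCone β := by
  subst h
  exact Iso.refl _

end ConeIso

variable {A B : Type u} [CommRing A] [CommRing B] (φ : A →+* B)

instance : (ModuleCat.extendScalars.{_, _, u} φ).Additive :=
  (ModuleCat.extendRestrictScalarsAdj φ).left_adjoint_additive

/-- termwise extension of scalars on complexes. -/
noncomputable abbrev E : CochainComplex (ModuleCat.{u} A) ℤ ⥤ CochainComplex (ModuleCat.{u} B) ℤ :=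
  (ModuleCat.extendScalars.{_, _, u} φ).mapHomologicalComplex (ComplexShape.up ℤ)

set_option backward.isDefEq.respectTransparency false in
lemma extendScalars_map_smul {M N : ModuleCat.{u} A} (a : A) (g : M ⟶ N) :
    (ModuleCat.extendScalars.{_, _, u} φ).map (a • g) =
      φ a • (ModuleCat.extendScalars.{_, _, u} φ).map g := by
  apply ModuleCat.ExtendScalars.hom_ext
  intro m
  rw [ModuleCat.ExtendScalars.map_tmul]
  change _ = φ a • ((ModuleCat.extendScalars.{_, _, u} φ).map g) ((1 : B) ⊗ₜ[A,φ] m)
  rw [ModuleCat.ExtendScalars.map_tmul, ModuleCat.ExtendScalars.smul_tmul, mul_one]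
  have h1 : (ConcreteCategory.hom (a • g)) m = a • (ConcreteCategory.hom g) m := rfl
  rw [h1]
  let _ : Module A B := Module.compHom B φ
  refine (TensorProduct.smul_tmul a (1 : B) ((ConcreteCategory.hom g) m)).symm.trans ?_
  congr 1
  exact mul_one _

lemma E_map_smul {K L : CochainComplex (ModuleCat.{u} A) ℤ} (a : A) (g : K ⟶ L) :
    (E φ).map (a • g) = φ a • (E φ).map g := by
  apply HomologicalComplex.hom_ext
  intro n
  exact extendScalars_map_smul φ a (g.f n)

lemma E_map_smul_id (K : CochainComplex (ModuleCat.{u} A) ℤ) (a : A) :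
    (E φ).map (a • 𝟙 K) = φ a • 𝟙 ((E φ).obj K) := by
  rw [E_map_smul, CategoryTheory.Functor.map_id]

/-- `B ⊗_A A ≅ B`. -/
noncomputable def baseIso :
    (ModuleCat.extendScalars.{_, _, u} φ).obj (ModuleCat.of A A) ≅ ModuleCat.of B B :=
  (Functor.Monoidal.εIso (ModuleCat.extendScalars.{_, _, u} φ)).symm

noncomputable def nilIso : (E φ).obj (Koszul.koszul A []) ≅ Koszul.koszul B [] :=
  (HomologicalComplex.singleMapHomologicalComplex (ModuleCat.extendScalars.{_, _, u} φ)
    (ComplexShape.up ℤ) 0).app (ModuleCat.of A A) ≪≫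
    (HomologicalComplex.single (ModuleCat.{u} B) (ComplexShape.up ℤ) 0).mapIso (baseIso φ)

/-- extension of scalars of the Koszul complex is the Koszul complex of the image sequence. -/
noncomputable def koszulIso : ∀ l : List A,
    ((E φ).obj (Koszul.koszul A l) ≅ Koszul.koszul B (l.map φ))
  | [] => nilIso φ
  | f :: l =>
      mappingCone.mapHomologicalComplexIso (f • 𝟙 (Koszul.koszul A l))
        (ModuleCat.extendScalars.{_, _, u} φ) ≪≫
      coneCongr (E_map_smul_id φ (Koszul.koszul A l) f) ≪≫
      coneIso (φ f) (koszulIso l)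

/-- flat extension of scalars commutes with homology. -/
noncomputable def homologyIso (hφ : φ.Flat) (K : CochainComplex (ModuleCat.{u} A) ℤ) (i : ℤ) :
    ((E φ).obj K).homology i ≅ (ModuleCat.extendScalars.{_, _, u} φ).obj (K.homology i) := by
  have := ModuleCat.preservesFiniteLimits_extendScalars_of_flat hφ
  exact ShortComplex.mapHomologyIso (K.sc i) (ModuleCat.extendScalars.{_, _, u} φ)

lemma isZero_homology_E (hφ : φ.Flat) (K : CochainComplex (ModuleCat.{u} A) ℤ) (i : ℤ)
    (h : IsZero (K.homology i)) : IsZero (((E φ).obj K).homology i) :=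
  IsZero.of_iso ((ModuleCat.extendScalars.{_, _, u} φ).map_isZero h) (homologyIso φ hφ K i)

/-- Koszul-regular sequences are preserved by flat ring maps. -/
theorem isKoszulRegularSeq_map (hφ : φ.Flat) (l : List A) (h : LCI.IsKoszulRegularSeq A l) :
    LCI.IsKoszulRegularSeq B (l.map φ) := fun i hi =>
  IsZero.of_iso (isZero_homology_E φ hφ _ i (h i hi))
    ((HomologicalComplex.homologyFunctor _ _ i).mapIso (koszulIso φ l)).symm

set_option backward.isDefEq.respectTransparency false in
lemma isZero_of_isZero_extendScalars (hφ : φ.FaithfullyFlat) (H : ModuleCat.{u} A)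
    (h : IsZero ((ModuleCat.extendScalars.{_, _, u} φ).obj H)) : IsZero H := by
  rw [ModuleCat.isZero_iff_subsingleton] at h ⊢
  algebraize [φ]
  have h' : Subsingleton (TensorProduct A B H) := h
  exact (Module.FaithfullyFlat.subsingleton_tensorProduct_iff_right (R := A) (M := B)).mp h'

/-- Koszul-regularity descends along faithfully flat ring maps. -/
theorem isKoszulRegularSeq_of_map (hφ : φ.FaithfullyFlat) (l : List A)
    (h : LCI.IsKoszulRegularSeq B (l.map φ)) : LCI.IsKoszulRegularSeq A l := fun i hi => by
  have h1 : IsZero (((E φ).obj (Koszul.koszul A l)).homology i) :=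
    IsZero.of_iso (h i hi) ((HomologicalComplex.homologyFunctor _ _ i).mapIso (koszulIso φ l))
  exact isZero_of_isZero_extendScalars φ hφ _
    (IsZero.of_iso h1 (homologyIso φ hφ.flat _ i).symm)

end Groth.Agent.Lib.Helper10.KoszulFlat
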