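import Mathlib
import Groth.Prelude.Def_Fitting

/-!
# Fitting ideals: basic library (helper10)

`Fitt.ideal R M r` is defined in the prelude as the ideal spanned by the determinants of all square
matrices `a` (over all generating tuples `x : Fin n → M`) whose first `n - r` rows are relations
among the `x i`.  Here we develop the basic theory: independence of the generating tuple, etc.
-/

set_option autoImplicit false

namespace Groth.Agent.Lib.Helper10.Fitting

open Matrix

section Basic

variable {R : Type*} [CommRing R] {M : Type*} [AddCommGroup M] [Module R M]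

variable (R) in
/-- The relation vectors of a finite tuple. -/
def Rel {ι : Type*} [Fintype ι] (x : ι → M) : Submodule R (ι → R) :=
  LinearMap.ker (Fintype.linearCombination R x)

theorem mem_Rel {ι : Type*} [Fintype ι] (x : ι → M) (v : ι → R) :
    v ∈ Rel R x ↔ ∑ i, v i • x i = 0 := by
  unfold Rel
  rw [LinearMap.mem_ker, Fintype.linearCombination_apply]

/-- If all rows of `a` are relations among the `x i`, then `det a` kills every `x j`. -/
theorem det_smul_eq_zero {ι : Type*} [Fintype ι] [DecidableEq ι] (x : ι → M) (a : Matrix ι ι R)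
    (ha : ∀ i, ∑ j, a i j • x j = 0) (j : ι) : a.det • x j = 0 := by
  have h1 : ∑ k, (a.adjugate * a) j k • x k = a.det • x j := by
    rw [Matrix.adjugate_mul]
    simp only [Matrix.smul_apply, Matrix.one_apply, smul_eq_mul, mul_ite, mul_one, mul_zero,
      ite_smul, zero_smul]
    rw [Finset.sum_ite_eq]
    simp
  rw [← h1]
  simp only [Matrix.mul_apply, Finset.sum_smul, mul_smul]
  rw [Finset.sum_comm]
  apply Finset.sum_eq_zero
  intro i _
  rw [← Finset.smul_sum, ha i, smul_zero]

/-- If all rows of `a` are relations among the generators `x i`, then `det a` annihilates `M`. -/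
theorem det_mem_annihilator {ι : Type*} [Fintype ι] [DecidableEq ι] (x : ι → M)
    (hx : Submodule.span R (Set.range x) = ⊤) (a : Matrix ι ι R)
    (ha : ∀ i, ∑ j, a i j • x j = 0) : a.det ∈ Module.annihilator R M := by
  rw [Module.mem_annihilator]
  intro m
  have hm : m ∈ Submodule.span R (Set.range x) := by rw [hx]; trivial
  induction hm using Submodule.span_induction with
  | mem y hy =>
    obtain ⟨j, rfl⟩ := hy
    exact det_smul_eq_zero x a ha j
  | zero => simp
  | add y z _ _ hy hz => rw [smul_add, hy, hz, add_zero]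
  | smul c y _ hy => rw [smul_comm, hy, smul_zero]

theorem fitt_zero_le_annihilator : Fitt.ideal R M 0 ≤ Module.annihilator R M := by
  unfold Fitt.ideal
  rw [Ideal.span_le]
  rintro d ⟨n, x, a, hx, ha, rfl⟩
  apply det_mem_annihilator x hx a
  intro i
  apply ha i
  simp

/-- Basic membership: the determinant of a matrix whose first `n - r` rows are relations. -/
theorem det_mem_fitt {n : ℕ} (x : Fin n → M) (hx : Submodule.span R (Set.range x) = ⊤)
    (r : ℕ) (a : Matrix (Fin n) (Fin n) R)
    (ha : ∀ i : Fin n, (i : ℕ) < n - r → ∑ j, a i j • x j = 0) : a.det ∈ Fitt.ideal R M r :=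
  Ideal.subset_span ⟨n, x, a, hx, ha, rfl⟩

end Basic


section Core

variable {R : Type*} [CommRing R] {M : Type*} [AddCommGroup M] [Module R M]

open Classical in
/-- The number of rows of `a` that are not relations among the `x i`. -/
noncomputable def nonRelCard {ι : Type*} [Fintype ι] (x : ι → M) (a : Matrix ι ι R) : ℕ :=
  (Finset.univ.filter fun i => a i ∉ Rel R x).card

variable (R) in
/-- The ideal spanned by the determinants of the square matrices with at most `r` rows that are
not relations among the `x i`. -/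
noncomputable def G {ι : Type*} [Fintype ι] [DecidableEq ι] (x : ι → M) (r : ℕ) : Ideal R :=
  Ideal.span {d | ∃ a : Matrix ι ι R, nonRelCard x a ≤ r ∧ d = a.det}

theorem det_mem_G {ι : Type*} [Fintype ι] [DecidableEq ι] (x : ι → M) (r : ℕ)
    (a : Matrix ι ι R) (ha : nonRelCard x a ≤ r) : a.det ∈ G R x r :=
  Ideal.subset_span ⟨a, ha, rfl⟩

theorem G_le_iff {ι : Type*} [Fintype ι] [DecidableEq ι] (x : ι → M) (r : ℕ) (J : Ideal R) :
    G R x r ≤ J ↔ ∀ a : Matrix ι ι R, nonRelCard x a ≤ r → a.det ∈ J := by
  unfold G
  rw [Ideal.span_le]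
  constructor
  · intro h a ha
    exact h ⟨a, ha, rfl⟩
  · rintro h d ⟨a, ha, rfl⟩
    exact h a ha

theorem nonRelCard_le_of_injective {ι κ : Type*} [Fintype ι] [Fintype κ] (x : ι → M) (z : κ → M)
    (a : Matrix ι ι R) (b : Matrix κ κ R) (f : ι → κ) (hf : Function.Injective f)
    (h : ∀ i, a i ∉ Rel R x → b (f i) ∉ Rel R z) : nonRelCard x a ≤ nonRelCard z b := by
  classical
  unfold nonRelCard
  apply Finset.card_le_card_of_injOn f
  · intro i hi
    simp only [Finset.coe_filter, Finset.mem_univ, true_and, Set.mem_setOf_eq] at hi ⊢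
    exact h i hi
  · exact hf.injOn

theorem nonRelCard_le_of_forall_exists {ι κ : Type*} [Fintype ι] [Fintype κ] (x : ι → M)
    (z : κ → M) (a : Matrix ι ι R) (b : Matrix κ κ R) (f : ι → κ) (hf : Function.Injective f)
    (h : ∀ k, b k ∉ Rel R z → ∃ i, f i = k ∧ a i ∉ Rel R x) : nonRelCard z b ≤ nonRelCard x a := by
  classical
  unfold nonRelCard
  rw [← Finset.card_map ⟨f, hf⟩]
  apply Finset.card_le_card
  intro k hk
  simp only [Finset.mem_filter, Finset.mem_univ, true_and] at hk
  obtain ⟨i, rfl, hi⟩ := h k hk
  simp only [Finset.mem_map, Finset.mem_filter, Finset.mem_univ, true_and,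
    Function.Embedding.coeFn_mk]
  exact ⟨i, hi, rfl⟩

/-- Reindexing. -/
theorem G_comp_equiv_le {ι κ : Type*} [Fintype ι] [DecidableEq ι] [Fintype κ] [DecidableEq κ]
    (e : ι ≃ κ) (x : κ → M) (r : ℕ) : G R (x ∘ e) r ≤ G R x r := by
  rw [G_le_iff]
  intro a ha
  have hdet : (a.submatrix e.symm e.symm).det = a.det := Matrix.det_submatrix_equiv_self e.symm a
  rw [← hdet]
  apply det_mem_G
  refine le_trans ?_ ha
  apply nonRelCard_le_of_injective x (x ∘ e) _ a e.symm e.symm.injective
  intro k hk hk'
  apply hk
  rw [mem_Rel] at hk' ⊢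
  rw [← hk', ← Equiv.sum_comp e]
  apply Finset.sum_congr rfl
  intro i _
  simp

theorem G_comp_equiv {ι κ : Type*} [Fintype ι] [DecidableEq ι] [Fintype κ] [DecidableEq κ]
    (e : ι ≃ κ) (x : κ → M) (r : ℕ) : G R (x ∘ e) r = G R x r := by
  apply le_antisymm (G_comp_equiv_le e x r)
  have h := G_comp_equiv_le (R := R) e.symm (x ∘ e) r
  have h2 : (x ∘ e) ∘ e.symm = x := by
    funext k
    simp
  rwa [h2] at h

end Core

section Bridge

variable {R : Type*} [CommRing R] {M : Type*} [AddCommGroup M] [Module R M]

theorem sign_mul_self {n : Type*} [DecidableEq n] [Fintype n] (σ : Equiv.Perm n) :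
    (((Equiv.Perm.sign σ : ℤˣ) : ℤ) : R) * (((Equiv.Perm.sign σ : ℤˣ) : ℤ) : R) = 1 := by
  rw [← Int.cast_mul, Int.units_coe_mul_self, Int.cast_one]

theorem fitt_le {J : Ideal R} (r : ℕ)
    (h : ∀ (n : ℕ) (x : Fin n → M), Submodule.span R (Set.range x) = ⊤ → G R x r ≤ J) :
    Fitt.ideal R M r ≤ J := by
  classical
  unfold Fitt.ideal
  rw [Ideal.span_le]
  rintro d ⟨n, x, a, hx, ha, rfl⟩
  apply h n x hx
  apply det_mem_G
  unfold nonRelCard
  have h1 := Finset.card_filter_add_card_filter_not (s := (Finset.univ : Finset (Fin n)))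
    (fun i : Fin n => (i : ℕ) < n - r)
  rw [Fin.card_filter_val_lt, Finset.card_univ, Fintype.card_fin] at h1
  have h2 : (Finset.univ.filter fun i => a i ∉ Rel R x).card ≤
      (Finset.univ.filter fun i : Fin n => ¬ ((i : ℕ) < n - r)).card := by
    apply Finset.card_le_card
    intro i hi
    simp only [Finset.mem_filter, Finset.mem_univ, true_and] at hi ⊢
    intro hlt
    exact hi ((mem_Rel x _).mpr (ha i hlt))
  omega

theorem G_le_fitt {n : ℕ} (x : Fin n → M) (hx : Submodule.span R (Set.range x) = ⊤) (r : ℕ) :
    G R x r ≤ Fitt.ideal R M r := by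
  classical
  rw [G_le_iff]
  intro a ha
  set N := Finset.univ.filter (fun i => a i ∉ Rel R x) with hN
  set L := Finset.univ.filter (fun i : Fin n => ¬ ((i : ℕ) < n - r)) with hL
  have hNL : N.card ≤ L.card := by
    have h1 := Finset.card_filter_add_card_filter_not
      (s := (Finset.univ : Finset (Fin n))) (fun i : Fin n => (i : ℕ) < n - r)
    rw [Fin.card_filter_val_lt, Finset.card_univ, Fintype.card_fin] at h1
    have h2 : N.card ≤ n := by simpa using Finset.card_le_univ N
    have h3 : N.card ≤ r := ha
    have h1' : min n (n - r) + L.card = n := by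
      rw [hL]
      convert h1
    omega
  obtain ⟨N', hN'L, hN'card⟩ := Finset.exists_subset_card_eq hNL
  let e1 : {i // i ∈ N} ≃ {i // i ∈ N'} := Finset.equivOfCardEq hN'card.symm
  let τ : Equiv.Perm (Fin n) := e1.extendSubtype
  have hτ : ∀ i, i ∉ N' → τ.symm i ∉ N := by
    intro i hi hmem
    have := Equiv.extendSubtype_mem e1 (τ.symm i) hmem
    rw [Equiv.apply_symm_apply] at this
    exact hi this
  have hdet := Matrix.det_permute τ.symm a
  have hmem : (a.submatrix τ.symm id).det ∈ Fitt.ideal R M r := by
    apply det_mem_fitt x hx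
    intro i hi
    have hiL : i ∉ L := by
      rw [hL, Finset.mem_filter]
      intro h
      exact h.2 hi
    have hiN' : i ∉ N' := fun h => hiL (hN'L h)
    have := hτ i hiN'
    simp only [hN, Finset.mem_filter, Finset.mem_univ, true_and, not_not] at this
    exact (mem_Rel x _).mp this
  rw [hdet] at hmem
  have : a.det = (((Equiv.Perm.sign τ.symm : ℤˣ) : ℤ) : R) *
      ((((Equiv.Perm.sign τ.symm : ℤˣ) : ℤ) : R) * a.det) := by
    rw [← mul_assoc, sign_mul_self, one_mul]
  rw [this]
  exact Ideal.mul_mem_left _ _ hmem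

end Bridge

section Independence

variable {R : Type*} [CommRing R] {M : Type*} [AddCommGroup M] [Module R M]

/-- Adding redundant generators does not shrink the ideal. -/
theorem G_le_G_sumElim {ι κ : Type*} [Fintype ι] [DecidableEq ι] [Fintype κ] [DecidableEq κ]
    (x : ι → M) (y : κ → M) (hy : ∀ k, y k ∈ Submodule.span R (Set.range x)) (r : ℕ) :
    G R x r ≤ G R (Sum.elim x y) r := by
  classical
  rw [G_le_iff]
  intro a ha
  choose c hc using fun k => (Submodule.mem_span_range_iff_exists_fun R).mp (hy k)
  let a' : Matrix (ι ⊕ κ) (ι ⊕ κ) R := Matrix.fromBlocks a 0 (Matrix.of fun k i => - c k i) 1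
  have hdet : a'.det = a.det := by
    rw [Matrix.det_fromBlocks_zero₁₂, Matrix.det_one, mul_one]
  rw [← hdet]
  apply det_mem_G
  refine le_trans ?_ ha
  apply nonRelCard_le_of_forall_exists x (Sum.elim x y) a a' Sum.inl Sum.inl_injective
  rintro (i | k) hk
  · refine ⟨i, rfl, ?_⟩
    intro hi
    apply hk
    rw [mem_Rel] at hi ⊢
    rw [Fintype.sum_sum_type]
    simp [a', hi]
  · exfalso
    apply hk
    rw [mem_Rel, Fintype.sum_sum_type]
    simp only [a', Matrix.fromBlocks_apply₂₁, Matrix.of_apply, neg_smul, Sum.elim_inl,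
      Finset.sum_neg_distrib, hc, Matrix.fromBlocks_apply₂₂, Matrix.one_apply, ite_smul, one_smul,
      zero_smul, Sum.elim_inr, Finset.sum_ite_eq, Finset.mem_univ, if_true]
    simp

/-- Removing one redundant generator does not shrink the ideal. -/
theorem G_sumElim_one_le {ι : Type*} [Fintype ι] [DecidableEq ι]
    (x : ι → M) (y : M) (hy : y ∈ Submodule.span R (Set.range x)) (r : ℕ) :
    G R (Sum.elim x (fun _ : Fin 1 => y)) r ≤ G R x r := by
  classical
  obtain ⟨c, hc⟩ := (Submodule.mem_span_range_iff_exists_fun R).mp hy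
  rw [G_le_iff]
  intro a' ha'
  let U : Matrix (ι ⊕ Fin 1) (ι ⊕ Fin 1) R :=
    Matrix.fromBlocks 1 0 (Matrix.of fun _ i => c i) 1
  have hU : U.det = 1 := by
    rw [Matrix.det_fromBlocks_zero₁₂]
    simp
  let B := a' * U
  have hBdet : B.det = a'.det := by rw [Matrix.det_mul, hU, mul_one]
  have hBl : ∀ s i, B s (Sum.inl i) = a' s (Sum.inl i) + a' s (Sum.inr 0) * c i := by
    intro s i
    simp [B, U, Matrix.mul_apply, Fintype.sum_sum_type, Matrix.one_apply]
  have hBsum : ∀ s, ∑ i, B s (Sum.inl i) • x i =
      ∑ t, a' s t • (Sum.elim x (fun _ : Fin 1 => y)) t := by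
    intro s
    rw [Fintype.sum_sum_type]
    simp only [hBl, add_smul, Finset.sum_add_distrib, mul_smul, Sum.elim_inl, Sum.elim_inr]
    rw [← Finset.smul_sum, hc]
    simp
  rw [← hBdet, Matrix.det_eq_sum_mul_adjugate_col B (Sum.inr 0)]
  apply Ideal.sum_mem
  intro s _
  apply Ideal.mul_mem_left
  rw [Matrix.adjugate_apply]
  set C := B.updateRow s (Pi.single (Sum.inr 0) 1) with hC
  let σ : Equiv.Perm (ι ⊕ Fin 1) := Equiv.swap s (Sum.inr 0)
  set C' := C.submatrix σ id with hC'
  have hdetC' : C'.det = (((Equiv.Perm.sign σ : ℤˣ) : ℤ) : R) * C.det := Matrix.det_permute σ C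
  have hrow : ∀ j, C' (Sum.inr 0) j = if j = Sum.inr 0 then 1 else 0 := by
    intro j
    have h1 : σ (Sum.inr 0) = s := Equiv.swap_apply_right _ _
    simp only [hC', Matrix.submatrix_apply, id_eq, h1, hC, Matrix.updateRow_self, Pi.single_apply]
  have hblock : C' = Matrix.fromBlocks C'.toBlocks₁₁ C'.toBlocks₁₂ 0 1 := by
    conv_lhs => rw [← Matrix.fromBlocks_toBlocks C']
    congr 1
    · ext k i
      have hk : k = 0 := Subsingleton.elim _ _
      subst hk
      simp [Matrix.toBlocks₂₁, hrow]
    · ext k k'
      have hk : k = 0 := Subsingleton.elim _ _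
      have hk' : k' = 0 := Subsingleton.elim _ _
      subst hk hk'
      simp [Matrix.toBlocks₂₂, hrow]
  have hdetC'' : C'.det = C'.toBlocks₁₁.det := by
    have := congrArg Matrix.det hblock
    rw [Matrix.det_fromBlocks_zero₂₁, Matrix.det_one, mul_one] at this
    exact this
  have hmem : C'.toBlocks₁₁.det ∈ G R x r := by
    apply det_mem_G
    refine le_trans ?_ ha'
    apply nonRelCard_le_of_injective x (Sum.elim x (fun _ : Fin 1 => y)) _ a'
      (fun i => σ (Sum.inl i)) (σ.injective.comp Sum.inl_injective)
    intro i hi hrel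
    apply hi
    have hne : σ (Sum.inl i) ≠ s := by
      intro h
      have h2 : σ (σ (Sum.inl i)) = σ s := by rw [h]
      have h3 : σ s = Sum.inr 0 := Equiv.swap_apply_left _ _
      rw [h3] at h2
      have h4 : σ (σ (Sum.inl i)) = Sum.inl i := Equiv.swap_apply_self _ _ _
      rw [h4] at h2
      exact Sum.inl_ne_inr h2
    have hrowi : C'.toBlocks₁₁ i = fun j => B (σ (Sum.inl i)) (Sum.inl j) := by
      funext j
      simp only [Matrix.toBlocks₁₁, hC', Matrix.submatrix_apply, id_eq, Matrix.of_apply, hC,
        Matrix.updateRow_ne hne]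
    rw [hrowi, mem_Rel, hBsum]
    exact (mem_Rel _ _).mp hrel
  rw [← hdetC''] at hmem
  rw [hdetC'] at hmem
  have : C.det = (((Equiv.Perm.sign σ : ℤˣ) : ℤ) : R) *
      ((((Equiv.Perm.sign σ : ℤˣ) : ℤ) : R) * C.det) := by
    rw [← mul_assoc, sign_mul_self, one_mul]
  rw [this]
  exact Ideal.mul_mem_left _ _ hmem

theorem G_sumElim_fin_le (r : ℕ) (m : ℕ) : ∀ {ι : Type*} [Fintype ι] [DecidableEq ι]
    (x : ι → M) (y : Fin m → M) (_ : ∀ k, y k ∈ Submodule.span R (Set.range x)),
    G R (Sum.elim x y) r ≤ G R x r := by
  induction m with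
  | zero =>
    intro ι _ _ x y _
    have h : Sum.elim x y = x ∘ ⇑(Equiv.sumEmpty ι (Fin 0)) := by
      funext s
      cases s with
      | inl i => simp
      | inr k => exact k.elim0
    rw [h, G_comp_equiv]
  | succ m ih =>
    intro ι _ _ x y hy
    let x' : ι ⊕ Fin m → M := Sum.elim x (y ∘ Fin.castSucc)
    let E : ι ⊕ Fin (m + 1) ≃ (ι ⊕ Fin m) ⊕ Fin 1 :=
      (Equiv.sumCongr (Equiv.refl ι) finSumFinEquiv.symm).trans
        (Equiv.sumAssoc ι (Fin m) (Fin 1)).symm
    have h : Sum.elim x y = (Sum.elim x' (fun _ : Fin 1 => y (Fin.last m))) ∘ ⇑E := by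
      funext s
      cases s with
      | inl i => simp [E, x']
      | inr j =>
        refine Fin.lastCases ?_ (fun j' => ?_) j
        · simp [E, finSumFinEquiv_symm_last]
        · have h1 : finSumFinEquiv.symm (Fin.castSucc j') = (Sum.inl j' : Fin m ⊕ Fin 1) :=
            finSumFinEquiv_symm_apply_castAdd j'
          simp [E, x', h1]
    rw [h, G_comp_equiv]
    have hsub : Submodule.span R (Set.range x) ≤ Submodule.span R (Set.range x') := by
      apply Submodule.span_mono
      rintro _ ⟨i, rfl⟩
      exact ⟨Sum.inl i, rfl⟩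
    refine le_trans (G_sumElim_one_le x' (y (Fin.last m)) (hsub (hy _)) r) ?_
    exact ih x (y ∘ Fin.castSucc) (fun k => hy _)

theorem G_sumElim_le {ι κ : Type*} [Fintype ι] [DecidableEq ι] [Fintype κ] [DecidableEq κ]
    (x : ι → M) (y : κ → M) (hy : ∀ k, y k ∈ Submodule.span R (Set.range x)) (r : ℕ) :
    G R (Sum.elim x y) r ≤ G R x r := by
  let e := Fintype.equivFin κ
  have h : Sum.elim x y = (Sum.elim x (y ∘ e.symm)) ∘ ⇑(Equiv.sumCongr (Equiv.refl ι) e) := by
    funext s
    cases s with
    | inl i => simp
    | inr k => simp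
  rw [h, G_comp_equiv]
  exact G_sumElim_fin_le r _ x (y ∘ e.symm) (fun k => hy _)

theorem G_sumElim_eq {ι κ : Type*} [Fintype ι] [DecidableEq ι] [Fintype κ] [DecidableEq κ]
    (x : ι → M) (y : κ → M) (hy : ∀ k, y k ∈ Submodule.span R (Set.range x)) (r : ℕ) :
    G R (Sum.elim x y) r = G R x r :=
  le_antisymm (G_sumElim_le x y hy r) (G_le_G_sumElim x y hy r)

/-- Independence of the generating tuple. -/
theorem G_eq_of_span_eq_top {ι κ : Type*} [Fintype ι] [DecidableEq ι] [Fintype κ] [DecidableEq κ]
    (x : ι → M) (y : κ → M) (hx : Submodule.span R (Set.range x) = ⊤)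
    (hy : Submodule.span R (Set.range y) = ⊤) (r : ℕ) : G R x r = G R y r := by
  have h1 := G_sumElim_eq x y (fun k => by rw [hx]; trivial) r
  have h2 := G_sumElim_eq y x (fun k => by rw [hy]; trivial) r
  have h : Sum.elim x y = (Sum.elim y x) ∘ ⇑(Equiv.sumComm ι κ) := by
    funext s
    cases s with
    | inl i => simp
    | inr k => simp
  rw [← h1, ← h2, h, G_comp_equiv]

/-- The Fitting ideal can be computed from any finite generating family. -/
theorem fitt_eq_G {ι : Type*} [Fintype ι] [DecidableEq ι] (x : ι → M)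
    (hx : Submodule.span R (Set.range x) = ⊤) (r : ℕ) : Fitt.ideal R M r = G R x r := by
  apply le_antisymm
  · exact fitt_le r (fun n x' hx' => (G_eq_of_span_eq_top x' x hx' hx r).le)
  · let e := Fintype.equivFin ι
    have hx' : Submodule.span R (Set.range (x ∘ e.symm)) = ⊤ := by
      rw [e.symm.surjective.range_comp]
      exact hx
    rw [G_eq_of_span_eq_top x (x ∘ e.symm) hx hx' r]
    exact G_le_fitt _ hx' r

end Independence

section Multilinear

variable {R : Type*} [CommRing R]

/-- A multilinear form with values in an ideal on tuples from generating sets has values in the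
ideal on tuples from the spans. -/
theorem multilinear_mem_of_span {ι : Type*} [Fintype ι] [DecidableEq ι] {N : Type*}
    [AddCommGroup N] [Module R N] (f : MultilinearMap R (fun _ : ι => N) R) (J : Ideal R)
    (S : ι → Set N) (h : ∀ v : ι → N, (∀ i, v i ∈ S i) → f v ∈ J)
    (v : ι → N) (hv : ∀ i, v i ∈ Submodule.span R (S i)) : f v ∈ J := by
  have key : ∀ t : Finset ι, ∀ v : ι → N, (∀ i ∈ t, v i ∈ Submodule.span R (S i)) →
      (∀ i, i ∉ t → v i ∈ S i) → f v ∈ J := by
    intro t
    induction t using Finset.induction_on with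
    | empty =>
      intro v _ hv2
      exact h v (fun i => hv2 i (Finset.notMem_empty i))
    | insert j t hj ih =>
      intro v hv1 hv2
      have hgen : ∀ w ∈ Submodule.span R (S j), f (Function.update v j w) ∈ J := by
        intro w hw
        induction hw using Submodule.span_induction with
        | mem w hw =>
          apply ih
          · intro i hi
            have hij : i ≠ j := fun h => hj (h ▸ hi)
            rw [Function.update_of_ne hij]
            exact hv1 i (Finset.mem_insert_of_mem hi)
          · intro i hi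
            by_cases hij : i = j
            · subst hij
              rw [Function.update_self]
              exact hw
            · rw [Function.update_of_ne hij]
              apply hv2
              rw [Finset.mem_insert, not_or]
              exact ⟨hij, hi⟩
        | zero =>
          rw [f.map_coord_zero j (Function.update_self j 0 v)]
          exact J.zero_mem
        | add w1 w2 _ _ h1 h2 =>
          rw [f.map_update_add]
          exact J.add_mem h1 h2
        | smul c w _ h1 =>
          rw [f.map_update_smul]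
          exact J.mul_mem_left c h1
      have := hgen (v j) (hv1 j (Finset.mem_insert_self j t))
      rwa [Function.update_eq_self] at this
  exact key Finset.univ v (fun i _ => hv i) (fun i hi => absurd (Finset.mem_univ i) hi)

theorem det_mem_of_rows_mem_span {ι : Type*} [Fintype ι] [DecidableEq ι] (J : Ideal R)
    (S : ι → Set (ι → R)) (h : ∀ a : Matrix ι ι R, (∀ i, a i ∈ S i) → a.det ∈ J)
    (a : Matrix ι ι R) (ha : ∀ i, a i ∈ Submodule.span R (S i)) : a.det ∈ J :=
  multilinear_mem_of_span (Matrix.detRowAlternating (R := R) (n := ι)).toMultilinearMap J S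
    (fun v hv => h v hv) a ha

variable {M : Type*} [AddCommGroup M] [Module R M]

open Classical in
/-- If the relations are spanned by `S`, the ideal `G` is generated by determinants of matrices
whose rows are in `S` or standard basis vectors. -/
theorem G_le_of_rel_le_span {ι : Type*} [Fintype ι] [DecidableEq ι] (x : ι → M) (r : ℕ)
    (S : Set (ι → R)) (hS : Rel R x ≤ Submodule.span R S) (J : Ideal R)
    (h : ∀ a : Matrix ι ι R, (∀ i, a i ∈ S ∨ ∃ j, a i = Pi.single j 1) →
      (Finset.univ.filter fun i => a i ∉ S).card ≤ r → a.det ∈ J) : G R x r ≤ J := by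
  rw [G_le_iff]
  intro a ha
  set N := Finset.univ.filter (fun i => a i ∉ Rel R x) with hN
  apply det_mem_of_rows_mem_span J
    (fun i => if i ∈ N then Set.range (fun j : ι => (Pi.single j 1 : ι → R)) else S)
  · intro v hv
    apply h v
    · intro i
      have := hv i
      by_cases hi : i ∈ N
      · rw [if_pos hi] at this
        obtain ⟨j, hj⟩ := this
        exact Or.inr ⟨j, hj.symm⟩
      · rw [if_neg hi] at this
        exact Or.inl this
    · refine le_trans (Finset.card_le_card ?_) ha
      intro i hi
      rw [Finset.mem_filter] at hi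
      by_contra hiN
      have := hv i
      rw [if_neg hiN] at this
      exact hi.2 this
  · intro i
    by_cases hi : i ∈ N
    · rw [if_pos hi]
      have hb : Submodule.span R (Set.range (fun j : ι => (Pi.single j 1 : ι → R))) = ⊤ := by
        have := (Pi.basisFun R ι).span_eq
        convert this using 3
        funext j
        rw [Pi.basisFun_apply]
      rw [hb]
      trivial
    · rw [if_neg hi]
      apply hS
      rw [hN, Finset.mem_filter] at hi
      by_contra hc
      exact hi ⟨Finset.mem_univ i, hc⟩

end Multilinear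

section BaseChange

open TensorProduct

variable {R : Type*} [CommRing R] {M : Type*} [AddCommGroup M] [Module R M]
variable (R' : Type*) [CommRing R'] [Algebra R R']

variable (R) in
/-- The base change of a tuple. -/
def bcTuple {ι : Type*} (x : ι → M) : ι → R' ⊗[R] M := fun i => (1 : R') ⊗ₜ[R] x i

theorem span_bcTuple {ι : Type*} (x : ι → M) (hx : Submodule.span R (Set.range x) = ⊤) :
    Submodule.span R' (Set.range (bcTuple R R' x)) = ⊤ := by
  have h1 : Set.range (bcTuple R R' x) = ⇑((TensorProduct.mk R R' M) 1) '' Set.range x := by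
    rw [← Set.range_comp]
    rfl
  rw [h1, ← Submodule.baseChange_span, hx, Submodule.baseChange_top]

theorem map_mem_Rel_bcTuple {ι : Type*} [Fintype ι] (x : ι → M) (u : ι → R)
    (hu : u ∈ Rel R x) : (fun i => algebraMap R R' (u i)) ∈ Rel R' (bcTuple R R' x) := by
  rw [mem_Rel] at hu ⊢
  have : ∀ i, algebraMap R R' (u i) • bcTuple R R' x i = (1 : R') ⊗ₜ[R] (u i • x i) := by
    intro i
    unfold bcTuple
    rw [TensorProduct.smul_tmul', TensorProduct.tmul_smul, smul_eq_mul, mul_one,
      Algebra.algebraMap_eq_smul_one, TensorProduct.smul_tmul']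
  simp only [this]
  rw [← TensorProduct.tmul_sum, hu, TensorProduct.tmul_zero]

theorem Rel_bcTuple_le {ι : Type*} [Fintype ι] [DecidableEq ι] (x : ι → M)
    (hx : Submodule.span R (Set.range x) = ⊤) :
    Rel R' (bcTuple R R' x) ≤ Submodule.span R'
      (Set.range fun u : Rel R x => (fun i => algebraMap R R' (u.1 i))) := by
  intro v' hv'
  set g := Fintype.linearCombination R x with hg
  have hsurj : Function.Surjective g := by
    rw [← LinearMap.range_eq_top, Fintype.range_linearCombination, hx]
  have hex : Function.Exact (Rel R x).subtype g := LinearMap.exact_subtype_ker_map g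
  have hex' := lTensor_exact R' hex hsurj
  let e := TensorProduct.piScalarRight R R' R' ι
  have he : ∀ (r' : R') (u : ι → R), e (r' ⊗ₜ u) = fun i => u i • r' := by
    intro r' u
    rw [TensorProduct.piScalarRight_apply, TensorProduct.piScalarRightHom_tmul]
  have key : ∀ w : R' ⊗[R] (ι → R), (LinearMap.lTensor R' g) w = ∑ i, (e w) i • bcTuple R R' x i := by
    intro w
    induction w with
    | zero => simp
    | tmul r' u =>
      rw [he, LinearMap.lTensor_tmul, hg, Fintype.linearCombination_apply, TensorProduct.tmul_sum]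
      apply Finset.sum_congr rfl
      intro i _
      unfold bcTuple
      rw [TensorProduct.smul_tmul', smul_eq_mul, mul_one, TensorProduct.tmul_smul,
        TensorProduct.smul_tmul']
    | add a b ha hb =>
      simp only [map_add, Pi.add_apply, add_smul, Finset.sum_add_distrib, ha, hb]
  have hw : (LinearMap.lTensor R' g) (e.symm v') = 0 := by
    rw [key, LinearEquiv.apply_symm_apply]
    exact (mem_Rel _ _).mp hv'
  obtain ⟨z, hz⟩ := (hex' (e.symm v')).mp hw
  have hv'z : v' = e ((LinearMap.lTensor R' (Rel R x).subtype) z) := by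
    rw [hz, LinearEquiv.apply_symm_apply]
  rw [hv'z]
  clear hv'z hz hw hv'
  induction z with
  | zero => simp
  | tmul r' u =>
    rw [LinearMap.lTensor_tmul, he]
    have : (fun i => (Rel R x).subtype u i • r') =
        r' • (fun i => algebraMap R R' (u.1 i)) := by
      funext i
      simp only [Submodule.subtype_apply, Pi.smul_apply, smul_eq_mul]
      rw [Algebra.smul_def, mul_comm]
    rw [this]
    exact Submodule.smul_mem _ _ (Submodule.subset_span ⟨u, rfl⟩)
  | add a b ha hb =>
    rw [map_add, map_add]
    exact Submodule.add_mem _ ha hb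

/-- Fitting ideals commute with base change (tuple version). -/
theorem G_bcTuple {ι : Type*} [Fintype ι] [DecidableEq ι] (x : ι → M)
    (hx : Submodule.span R (Set.range x) = ⊤) (r : ℕ) :
    G R' (bcTuple R R' x) r = (G R x r).map (algebraMap R R') := by
  classical
  apply le_antisymm
  · apply G_le_of_rel_le_span (bcTuple R R' x) r _ (Rel_bcTuple_le R' x hx)
    intro a' ha1 ha2
    have hrow : ∀ i, ∃ u : ι → R, (fun j => algebraMap R R' (u j)) = a' i ∧
        (a' i ∈ (Set.range fun u : Rel R x => (fun i => algebraMap R R' (u.1 i))) →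
          u ∈ Rel R x) := by
      intro i
      by_cases hi : a' i ∈ (Set.range fun u : Rel R x => (fun i => algebraMap R R' (u.1 i)))
      · obtain ⟨u, hu⟩ := hi
        exact ⟨u.1, hu, fun _ => u.2⟩
      · rcases ha1 i with h | ⟨j, hj⟩
        · exact absurd h hi
        · refine ⟨Pi.single j 1, ?_, fun h => absurd h hi⟩
          rw [hj]
          funext l
          by_cases hl : l = j
          · subst hl
            simp
          · simp [Pi.single_eq_of_ne hl]
    choose u hu1 hu2 using hrow
    let a : Matrix ι ι R := Matrix.of u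
    have ha' : a' = (algebraMap R R').mapMatrix a := by
      ext i j
      have := congrFun (hu1 i) j
      simp [a, ← this]
    rw [ha', ← RingHom.map_det]
    apply Ideal.mem_map_of_mem
    apply det_mem_G
    refine le_trans ?_ ha2
    unfold nonRelCard
    apply Finset.card_le_card
    intro i hi
    rw [Finset.mem_filter] at hi ⊢
    refine ⟨hi.1, fun hmem => hi.2 ?_⟩
    exact hu2 i hmem
  · rw [Ideal.map_le_iff_le_comap, G_le_iff]
    intro a ha
    rw [Ideal.mem_comap, RingHom.map_det]
    apply det_mem_G
    refine le_trans ?_ ha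
    unfold nonRelCard
    apply Finset.card_le_card
    intro i hi
    rw [Finset.mem_filter] at hi ⊢
    refine ⟨hi.1, fun hrel => hi.2 ?_⟩
    exact map_mem_Rel_bcTuple R' x (a i) hrel

theorem fitt_baseChange [Module.Finite R M] (r : ℕ) :
    Fitt.ideal R' (R' ⊗[R] M) r = (Fitt.ideal R M r).map (algebraMap R R') := by
  classical
  obtain ⟨n, x, hx⟩ := Module.Finite.exists_fin (R := R) (M := M)
  rw [fitt_eq_G x hx r, fitt_eq_G (bcTuple R R' x) (span_bcTuple R' x hx) r, G_bcTuple R' x hx r]

end BaseChange

section Utilities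

open TensorProduct

variable {R : Type*} [CommRing R] {M : Type*} [AddCommGroup M] [Module R M]
variable {M' : Type*} [AddCommGroup M'] [Module R M']

theorem fitt_le_of_surjective (f : M →ₗ[R] M') (hf : Function.Surjective f) (k : ℕ) :
    Fitt.ideal R M k ≤ Fitt.ideal R M' k := by
  unfold Fitt.ideal
  rw [Ideal.span_le]
  rintro d ⟨n, x, a, hx, ha, rfl⟩
  apply Ideal.subset_span
  refine ⟨n, f ∘ x, a, ?_, ?_, rfl⟩
  · rw [Set.range_comp, ← Submodule.map_span, hx, Submodule.map_top, LinearMap.range_eq_top]
    exact hf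
  · intro i hi
    have := ha i hi
    simp only [Function.comp_apply]
    rw [← map_zero f, ← this, map_sum]
    apply Finset.sum_congr rfl
    intro j _
    rw [map_smul]

theorem fitt_congr (e : M ≃ₗ[R] M') (k : ℕ) : Fitt.ideal R M k = Fitt.ideal R M' k :=
  le_antisymm (fitt_le_of_surjective e.toLinearMap e.surjective k)
    (fitt_le_of_surjective e.symm.toLinearMap e.symm.surjective k)

theorem fitt_mono {k l : ℕ} (h : k ≤ l) : Fitt.ideal R M k ≤ Fitt.ideal R M l := by
  unfold Fitt.ideal
  rw [Ideal.span_le]
  rintro d ⟨n, x, a, hx, ha, rfl⟩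
  apply Ideal.subset_span
  exact ⟨n, x, a, hx, fun i hi => ha i (by omega), rfl⟩

theorem fitt_eq_top_of_span {n : ℕ} (x : Fin n → M) (hx : Submodule.span R (Set.range x) = ⊤)
    {k : ℕ} (h : n ≤ k) : Fitt.ideal R M k = ⊤ := by
  rw [eq_top_iff]
  refine le_trans ?_ (fitt_mono h)
  rw [top_le_iff, Ideal.eq_top_iff_one]
  have h1 := det_mem_fitt x hx n (1 : Matrix (Fin n) (Fin n) R) (by
    intro i hi
    simp at hi)
  rwa [Matrix.det_one] at h1

theorem Rel_eq_bot_of_linearIndependent {ι : Type*} [Fintype ι] (x : ι → M)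
    (hx : LinearIndependent R x) : Rel R x = ⊥ := by
  rw [eq_bot_iff]
  intro v hv
  rw [mem_Rel] at hv
  rw [Submodule.mem_bot]
  funext i
  exact Fintype.linearIndependent_iff.mp hx v hv i

theorem G_eq_bot_of_linearIndependent {ι : Type*} [Fintype ι] [DecidableEq ι] (x : ι → M)
    (hx : LinearIndependent R x) {k : ℕ} (h : k < Fintype.card ι) : G R x k = ⊥ := by
  classical
  rw [eq_bot_iff, G_le_iff]
  intro a ha
  rw [Ideal.mem_bot]
  have hex : ∃ i, a i ∈ Rel R x := by
    by_contra hcon
    have hall : ∀ i, a i ∉ Rel R x := fun i hi => hcon ⟨i, hi⟩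
    have : nonRelCard x a = Fintype.card ι := by
      unfold nonRelCard
      rw [Finset.filter_true_of_mem (fun i _ => hall i), Finset.card_univ]
    omega
  obtain ⟨i, hi⟩ := hex
  rw [Rel_eq_bot_of_linearIndependent x hx, Submodule.mem_bot] at hi
  exact Matrix.det_eq_zero_of_row_eq_zero i (fun j => congrFun hi j)

theorem fitt_eq_bot_of_basis {ι : Type*} [Fintype ι] (b : Module.Basis ι R M) {k : ℕ}
    (h : k < Fintype.card ι) : Fitt.ideal R M k = ⊥ := by
  classical
  rw [fitt_eq_G (⇑b) b.span_eq k]
  exact G_eq_bot_of_linearIndependent _ b.linearIndependent h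

theorem fitt_isBaseChange {R' : Type*} [CommRing R'] [Algebra R R'] [Module R' M']
    [IsScalarTower R R' M'] [Module.Finite R M] {f : M →ₗ[R] M'} (h : IsBaseChange R' f)
    (k : ℕ) : Fitt.ideal R' M' k = (Fitt.ideal R M k).map (algebraMap R R') := by
  rw [← fitt_baseChange R' k]
  exact (fitt_congr h.equiv k).symm

theorem fitt_isLocalizedModule (S : Submonoid R) (A : Type*) [CommRing A] [Algebra R A]
    [IsLocalization S A] [Module A M'] [IsScalarTower R A M'] (f : M →ₗ[R] M')
    [IsLocalizedModule S f] [Module.Finite R M] (k : ℕ) :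
    Fitt.ideal A M' k = (Fitt.ideal R M k).map (algebraMap R A) :=
  fitt_isBaseChange (IsLocalizedModule.isBaseChange S A f) k

end Utilities

section Local

open TensorProduct

theorem fitt_eq_top_iff_finrank_le {K : Type*} [Field K] {V : Type*} [AddCommGroup V] [Module K V]
    [Module.Finite K V] (k : ℕ) : Fitt.ideal K V k = ⊤ ↔ Module.finrank K V ≤ k := by
  let b := Module.finBasis K V
  constructor
  · intro h
    by_contra hlt
    rw [not_le] at hlt
    have := fitt_eq_bot_of_basis b (k := k) (by rw [Fintype.card_fin]; exact hlt)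
    rw [this] at h
    exact bot_ne_top h
  · intro h
    exact fitt_eq_top_of_span b b.span_eq h

theorem not_le_prime_iff_map_residueField_eq_top {R : Type*} [CommRing R] (p : Ideal R)
    [p.IsPrime] (I : Ideal R) : ¬ I ≤ p ↔ I.map (algebraMap R p.ResidueField) = ⊤ := by
  constructor
  · intro h
    obtain ⟨d, hdI, hdp⟩ := Set.not_subset.mp h
    apply Ideal.eq_top_of_isUnit_mem _ (Ideal.mem_map_of_mem _ hdI)
    rw [isUnit_iff_ne_zero]
    intro h0
    apply hdp
    have : d ∈ RingHom.ker (algebraMap R p.ResidueField) := h0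
    rwa [Ideal.ker_algebraMap_residueField] at this
  · intro h hle
    have : I.map (algebraMap R p.ResidueField) ≤ ⊥ := by
      rw [Ideal.map_le_iff_le_comap]
      intro d hd
      rw [Ideal.mem_comap, Ideal.mem_bot, ← RingHom.mem_ker, Ideal.ker_algebraMap_residueField]
      exact hle hd
    rw [h] at this
    exact bot_ne_top (le_bot_iff.mp this).symm

/-- Over a local ring, a finite module whose `k`-th Fitting ideal is the unit ideal is generated
by `k` elements. -/
theorem exists_span_eq_top_of_fitt_eq_top {A : Type*} [CommRing A] [IsLocalRing A] {N : Type*}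
    [AddCommGroup N] [Module A N] [Module.Finite A N] {k : ℕ} (h : Fitt.ideal A N k = ⊤) :
    ∃ g : Fin k → N, Submodule.span A (Set.range g) = ⊤ := by
  classical
  have h1 : Fitt.ideal (IsLocalRing.ResidueField A) (IsLocalRing.ResidueField A ⊗[A] N) k = ⊤ := by
    rw [fitt_baseChange (IsLocalRing.ResidueField A) k, h, Ideal.map_top]
  have h2 : Module.finrank (IsLocalRing.ResidueField A) (IsLocalRing.ResidueField A ⊗[A] N) ≤ k :=
    (fitt_eq_top_iff_finrank_le k).mp h1
  set s : Set (IsLocalRing.ResidueField A ⊗[A] N) :=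
    Set.range (TensorProduct.mk A (IsLocalRing.ResidueField A) N 1) with hsdef
  have hs : Submodule.span (IsLocalRing.ResidueField A) s = ⊤ := by
    rw [eq_top_iff]
    rintro z -
    induction z with
    | zero => exact zero_mem _
    | tmul c n =>
      have : c ⊗ₜ[A] n = c • ((1 : IsLocalRing.ResidueField A) ⊗ₜ[A] n) := by
        rw [TensorProduct.smul_tmul', smul_eq_mul, mul_one]
      rw [this]
      exact Submodule.smul_mem _ _ (Submodule.subset_span ⟨n, rfl⟩)
    | add a b ha hb => exact add_mem ha hb
  obtain ⟨f, hf1, hf2, hf3⟩ :=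
    Submodule.exists_fun_fin_finrank_span_eq (IsLocalRing.ResidueField A) s
  have hd : Module.finrank (IsLocalRing.ResidueField A)
      ↥(Submodule.span (IsLocalRing.ResidueField A) s) =
      Module.finrank (IsLocalRing.ResidueField A) (IsLocalRing.ResidueField A ⊗[A] N) := by
    rw [hs]
    exact finrank_top _ _
  choose n hn using hf1
  let b : Module.Basis _ (IsLocalRing.ResidueField A) (IsLocalRing.ResidueField A ⊗[A] N) :=
    Module.Basis.mk hf3 (by rw [hf2, hs])
  have hspan : Submodule.span A (Set.range n) = ⊤ :=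
    IsLocalRing.span_eq_top_of_tmul_eq_basis n b (fun i => by
      rw [Module.Basis.mk_apply]
      exact hn i)
  refine ⟨fun i => if h : (i : ℕ) < Module.finrank (IsLocalRing.ResidueField A)
      ↥(Submodule.span (IsLocalRing.ResidueField A) s) then n ⟨i, h⟩ else 0, ?_⟩
  rw [eq_top_iff, ← hspan]
  apply Submodule.span_mono
  rintro _ ⟨j, rfl⟩
  refine ⟨⟨j, by omega⟩, ?_⟩
  simp

end Local

section Spreading

variable {R : Type*} [CommRing R] {M : Type*} [AddCommGroup M] [Module R M]

/-- If the localization at `p` is generated by `k` elements, so is the localization at some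
`f ∉ p`. -/
theorem exists_span_away_of_span_atPrime [Module.Finite R M] (p : Ideal R) [p.IsPrime] {k : ℕ}
    (g : Fin k → LocalizedModule p.primeCompl M)
    (hg : Submodule.span (Localization.AtPrime p) (Set.range g) = ⊤) :
    ∃ f : R, f ∉ p ∧ ∃ g' : Fin k → LocalizedModule (Submonoid.powers f) M,
      Submodule.span (Localization.Away f) (Set.range g') = ⊤ := by
  classical
  have hex : ∀ i, ∃ (m : M) (s : p.primeCompl), g i = LocalizedModule.mk m s := by
    intro i
    induction g i using LocalizedModule.induction_on with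
    | h m s => exact ⟨m, s, rfl⟩
  choose m s hms using hex
  let N : Submodule R M := Submodule.span R (Set.range m)
  let φ := LocalizedModule.mkLinearMap p.primeCompl M
  have hA : ∀ y : M, ∃ u : R, u ∉ p ∧ u • y ∈ N := by
    intro y
    have htop : Submodule.localized' (Localization.AtPrime p) p.primeCompl φ N = ⊤ := by
      rw [eq_top_iff, ← hg, Submodule.span_le]
      rintro _ ⟨i, rfl⟩
      rw [SetLike.mem_coe, Submodule.mem_localized']
      refine ⟨m i, Submodule.subset_span ⟨i, rfl⟩, s i, ?_⟩
      rw [hms i, IsLocalizedModule.mk'_eq_iff, LocalizedModule.mkLinearMap_apply,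
        Submonoid.smul_def, LocalizedModule.smul'_mk]
      exact (LocalizedModule.mk_cancel (s i) (m i)).symm
    have hy : φ y ∈ Submodule.localized' (Localization.AtPrime p) p.primeCompl φ N := by
      rw [htop]
      trivial
    rw [Submodule.mem_localized'] at hy
    obtain ⟨n, hn, t, hnt⟩ := hy
    rw [IsLocalizedModule.mk'_eq_iff] at hnt
    have h1 : φ n = φ ((t : R) • y) := by
      rw [hnt, map_smul]
      rfl
    obtain ⟨c, hc⟩ := (IsLocalizedModule.eq_iff_exists p.primeCompl φ).mp h1
    refine ⟨(c : R) * (t : R), ?_, ?_⟩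
    · exact (p.primeCompl.mul_mem c.2 t.2)
    · rw [mul_smul]
      have : (c : R) • (t : R) • y = (c : R) • n := hc.symm
      rw [this]
      exact Submodule.smul_mem _ _ hn
  obtain ⟨n', x, hx⟩ := Module.Finite.exists_fin (R := R) (M := M)
  choose u hup huN using fun j => hA (x j)
  have hfp : (∏ j, u j) ∉ p := by
    intro h
    rw [Ideal.IsPrime.prod_mem_iff] at h
    obtain ⟨j, _, hj⟩ := h
    exact hup j hj
  refine ⟨∏ j, u j, hfp, fun i => LocalizedModule.mk (m i) 1, ?_⟩
  set f := ∏ j, u j with hf
  set W := Submodule.span (Localization.Away f)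
    (Set.range fun i => LocalizedModule.mk (m i) (1 : Submonoid.powers f)) with hW
  let ψ := LocalizedModule.mkLinearMap (Submonoid.powers f) M
  have hsm : ∀ (c : R) (z : LocalizedModule (Submonoid.powers f) M), z ∈ W → c • z ∈ W := by
    intro c z hz
    rw [← algebraMap_smul (Localization.Away f) c z]
    exact Submodule.smul_mem _ _ hz
  have hN : ∀ n ∈ N, ψ n ∈ W := by
    intro n hn
    induction hn using Submodule.span_induction with
    | mem y hy =>
      obtain ⟨i, rfl⟩ := hy
      exact Submodule.subset_span ⟨i, rfl⟩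
    | zero =>
      rw [map_zero]
      exact zero_mem _
    | add a b _ _ ha hb =>
      rw [map_add]
      exact add_mem ha hb
    | smul c a _ ha =>
      rw [map_smul]
      exact hsm c _ ha
  have hunit : IsUnit (algebraMap R (Localization.Away f) f) :=
    IsLocalization.Away.algebraMap_isUnit f
  have hfy : ∀ y, f • y ∈ N → ψ y ∈ W := by
    intro y hy
    have h1 := hN _ hy
    rw [map_smul, ← algebraMap_smul (Localization.Away f) f (ψ y)] at h1
    have := Submodule.smul_mem W (↑hunit.unit⁻¹ : Localization.Away f) h1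
    rwa [smul_smul, IsUnit.val_inv_mul, one_smul] at this
  have hx' : ∀ j, ψ (x j) ∈ W := by
    intro j
    apply hfy
    have : f = (∏ l ∈ Finset.univ.erase j, u l) * u j := by
      rw [hf, Finset.prod_erase_mul _ _ (Finset.mem_univ j)]
    rw [this, mul_smul]
    exact Submodule.smul_mem _ _ (huN j)
  have hall : ∀ y : M, ψ y ∈ W := by
    intro y
    have hy : y ∈ Submodule.span R (Set.range x) := by
      rw [hx]
      trivial
    induction hy using Submodule.span_induction with
    | mem z hz =>
      obtain ⟨j, rfl⟩ := hz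
      exact hx' j
    | zero =>
      rw [map_zero]
      exact zero_mem _
    | add a b _ _ ha hb =>
      rw [map_add]
      exact add_mem ha hb
    | smul c a _ ha =>
      rw [map_smul]
      exact hsm c _ ha
  rw [eq_top_iff]
  rintro z -
  induction z using LocalizedModule.induction_on with
  | h y t =>
    have : LocalizedModule.mk y t = (Localization.mk 1 t : Localization.Away f) • ψ y := by
      rw [LocalizedModule.mkLinearMap_apply, LocalizedModule.mk_smul_mk, one_smul, mul_one]
    rw [this]
    exact Submodule.smul_mem _ _ (hall y)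

end Spreading

end Groth.Agent.Lib.Helper10.Fitting
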