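import Mathlib
import Groth.Agent.Lib.Helper10.Fitting

/-!
# Fitting ideals via minors (helper10)
-/

set_option autoImplicit false

namespace Groth.Agent.Lib.Helper10.Fitting

open Matrix

section PMI

variable {R : Type*} [CommRing R]

/-- If the rows of `A` indexed by `P` are the corresponding standard basis vectors, then `det A`
is the principal minor on the complement of `P`. -/
theorem det_eq_det_submatrix_of_unit_rows {ι : Type*} [Fintype ι] [DecidableEq ι]
    (A : Matrix ι ι R) (P : ι → Prop) [DecidablePred P] (h : ∀ i, P i → A i = Pi.single i 1) :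
    A.det = (A.submatrix (Subtype.val : {i // ¬ P i} → ι) Subtype.val).det := by
  let σ := Equiv.sumCompl (fun i => ¬ P i)
  rw [← Matrix.det_submatrix_equiv_self σ A]
  have hblock : A.submatrix σ σ =
      Matrix.fromBlocks (A.submatrix (Subtype.val : {i // ¬ P i} → ι) Subtype.val)
        (A.submatrix σ σ).toBlocks₁₂ 0 1 := by
    conv_lhs => rw [← Matrix.fromBlocks_toBlocks (A.submatrix σ σ)]
    congr 1
    · ext i j
      have hi : P i.1 := not_not.mp i.2
      have hne : (j.1 : ι) ≠ i.1 := by
        intro hji
        exact j.2 (hji ▸ hi)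
      simp only [Matrix.toBlocks₂₁, Matrix.submatrix_apply, Matrix.of_apply, σ,
        Equiv.sumCompl_apply_inl, Equiv.sumCompl_apply_inr, Matrix.zero_apply]
      rw [h i.1 hi, Pi.single_eq_of_ne hne]
    · ext i j
      have hi : P i.1 := not_not.mp i.2
      simp only [Matrix.toBlocks₂₂, Matrix.submatrix_apply, Matrix.of_apply, σ,
        Equiv.sumCompl_apply_inr]
      rw [h i.1 hi, Matrix.one_apply]
      by_cases hij : i = j
      · subst hij
        simp
      · rw [if_neg hij, Pi.single_eq_of_ne]
        intro hji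
        exact hij (Subtype.ext hji.symm)
  rw [hblock, Matrix.det_fromBlocks_zero₂₁, Matrix.det_one, mul_one]

end PMI

section Minors

variable {R : Type*} [CommRing R] {M : Type*} [AddCommGroup M] [Module R M]

/-- The ideal generated by the `p × p` minors (with arbitrary column selections) of the matrices
whose rows are taken from `S`. -/
def Minors {ι : Type*} (S : Set (ι → R)) (p : ℕ) : Ideal R :=
  Ideal.span {d | ∃ (z : Fin p → (ι → R)) (e : Fin p → ι), (∀ b, z b ∈ S) ∧
    d = Matrix.det (Matrix.of fun a b => z b (e a))}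

theorem det_mem_Minors_of_unit_rows {ι : Type*} [Fintype ι] [DecidableEq ι] (S : Set (ι → R))
    (p k : ℕ) (hpk : p + k = Fintype.card ι) (v : Matrix ι ι R) (T' : Finset ι)
    (hT' : T'.card = k) (c : ι → ι) (hunit : ∀ i ∈ T', v i = Pi.single (c i) 1)
    (hS : ∀ i, i ∉ T' → v i ∈ S) : v.det ∈ Minors S p := by
  classical
  by_cases hinj : Set.InjOn c (T' : Set ι)
  · let e₀ : {i // i ∈ T'} ≃ {j // j ∈ T'.image c} :=
      Equiv.ofBijective (fun i => ⟨c i.1, Finset.mem_image_of_mem c i.2⟩) (by
        constructor
        · intro i i' hii'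
          apply Subtype.ext
          exact hinj i.2 i'.2 (congrArg Subtype.val hii')
        · rintro ⟨j, hj⟩
          obtain ⟨i, hi, rfl⟩ := Finset.mem_image.mp hj
          exact ⟨⟨i, hi⟩, rfl⟩)
    let π : Equiv.Perm ι := e₀.symm.extendSubtype
    have hπ : ∀ i ∈ T', π (c i) = i := by
      intro i hi
      have hmem : c i ∈ T'.image c := Finset.mem_image_of_mem c hi
      have h1 : π (c i) = ↑(e₀.symm ⟨c i, hmem⟩) :=
        Equiv.extendSubtype_apply_of_mem e₀.symm (c i) hmem
      have h2 : e₀ ⟨i, hi⟩ = ⟨c i, hmem⟩ := rfl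
      rw [h1, ← h2, Equiv.symm_apply_apply]
    set v'' := v.submatrix id π.symm with hv''
    have hv''unit : ∀ i, i ∈ T' → v'' i = Pi.single i 1 := by
      intro i hi
      funext j
      show v i (π.symm j) = _
      rw [hunit i hi]
      by_cases hji : j = i
      · subst hji
        have : π.symm j = c j := by rw [Equiv.symm_apply_eq, hπ j hi]
        rw [this, Pi.single_eq_same, Pi.single_eq_same]
      · rw [Pi.single_eq_of_ne hji, Pi.single_eq_of_ne]
        intro h
        apply hji
        rw [Equiv.symm_apply_eq] at h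
        rw [h, hπ i hi]
    have hdet'' : v''.det = (((Equiv.Perm.sign π.symm : ℤˣ) : ℤ) : R) * v.det :=
      Matrix.det_permute' π.symm v
    have hpmi := det_eq_det_submatrix_of_unit_rows v'' (fun i => i ∈ T') hv''unit
    have hcard : Fintype.card {i // ¬ (i ∈ T')} = p := by
      rw [Fintype.card_subtype_compl, Fintype.card_coe, hT']
      omega
    let ρ : {i // ¬ (i ∈ T')} ≃ Fin p := Fintype.equivFinOfCardEq hcard
    have hdetρ : ((v''.submatrix (Subtype.val : {i // ¬ (i ∈ T')} → ι) Subtype.val).submatrix
        ρ.symm ρ.symm).det = (v''.submatrix (Subtype.val : {i // ¬ (i ∈ T')} → ι) Subtype.val).det :=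
      Matrix.det_submatrix_equiv_self ρ.symm _
    have hgen : ((v''.submatrix (Subtype.val : {i // ¬ (i ∈ T')} → ι) Subtype.val).submatrix
        ρ.symm ρ.symm).det ∈ Minors S p := by
      apply Ideal.subset_span
      refine ⟨fun b => v (ρ.symm b).1, fun a => π.symm (ρ.symm a).1, fun b => hS _ (ρ.symm b).2, ?_⟩
      rw [← Matrix.det_transpose]
      rfl
    rw [hdetρ, ← hpmi, hdet''] at hgen
    have : v.det = (((Equiv.Perm.sign π.symm : ℤˣ) : ℤ) : R) *
        ((((Equiv.Perm.sign π.symm : ℤˣ) : ℤ) : R) * v.det) := by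
      rw [← mul_assoc, sign_mul_self, one_mul]
    rw [this]
    exact Ideal.mul_mem_left _ _ hgen
  · rw [Set.InjOn] at hinj
    simp only [not_forall] at hinj
    obtain ⟨i, hi, i', hi', hc, hne⟩ := hinj
    have : v.det = 0 := Matrix.det_zero_of_row_eq hne (by rw [hunit i hi, hunit i' hi', hc])
    rw [this]
    exact zero_mem _

theorem G_le_Minors {ι : Type*} [Fintype ι] [DecidableEq ι] (x : ι → M) (S : Set (ι → R))
    (hS2 : Rel R x ≤ Submodule.span R S) (p k : ℕ) (hpk : p + k = Fintype.card ι) :
    G R x k ≤ Minors S p := by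
  classical
  rw [G_le_iff]
  intro a ha
  set N := Finset.univ.filter (fun i => a i ∉ Rel R x) with hN
  obtain ⟨T', hNT', -, hT'⟩ := Finset.exists_subsuperset_card_eq (Finset.subset_univ N) ha
    (by rw [Finset.card_univ]; omega)
  apply det_mem_of_rows_mem_span (Minors S p)
    (fun i => if i ∈ T' then Set.range (fun j : ι => (Pi.single j 1 : ι → R)) else S)
  · intro v hv
    have hc : ∀ i, ∃ j, i ∈ T' → v i = Pi.single j 1 := by
      intro i
      by_cases hi : i ∈ T'
      · have := hv i
        rw [if_pos hi] at this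
        obtain ⟨j, hj⟩ := this
        exact ⟨j, fun _ => hj.symm⟩
      · exact ⟨i, fun h => absurd h hi⟩
    choose c hc using hc
    apply det_mem_Minors_of_unit_rows S p k hpk v T' hT' c (fun i hi => hc i hi)
    intro i hi
    have := hv i
    rwa [if_neg hi] at this
  · intro i
    by_cases hi : i ∈ T'
    · rw [if_pos hi]
      have hb : Submodule.span R (Set.range (fun j : ι => (Pi.single j 1 : ι → R))) = ⊤ := by
        have := (Pi.basisFun R ι).span_eq
        convert this using 3
        funext j
        rw [Pi.basisFun_apply]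
      rw [hb]
      trivial
    · rw [if_neg hi]
      apply hS2
      by_contra hcon
      apply hi
      apply hNT'
      rw [hN, Finset.mem_filter]
      exact ⟨Finset.mem_univ i, hcon⟩

theorem Minors_le_G {ι : Type*} [Fintype ι] [DecidableEq ι] (x : ι → M) (S : Set (ι → R))
    (hS1 : S ⊆ Rel R x) (p k : ℕ) (hpk : p + k = Fintype.card ι) :
    Minors S p ≤ G R x k := by
  classical
  unfold Minors
  rw [Ideal.span_le]
  rintro d ⟨z, e, hz, rfl⟩
  by_cases hinj : Function.Injective e
  · let v : Matrix ι ι R := fun i =>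
      if h : ∃ a, e a = i then z (Classical.choose h) else Pi.single i 1
    have hv1 : ∀ a, v (e a) = z a := by
      intro a
      have h : ∃ a', e a' = e a := ⟨a, rfl⟩
      show (if h : ∃ a', e a' = e a then z (Classical.choose h) else Pi.single (e a) 1) = z a
      rw [dif_pos h]
      congr 1
      exact hinj (Classical.choose_spec h)
    have hv2 : ∀ i, (¬ ∃ a, e a = i) → v i = Pi.single i 1 := by
      intro i hi
      show (if h : ∃ a', e a' = i then z (Classical.choose h) else Pi.single i 1) = _
      rw [dif_neg hi]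
    have hpmi := det_eq_det_submatrix_of_unit_rows v (fun i => ¬ ∃ a, e a = i) hv2
    let ρ : Fin p ≃ {i // ¬ ¬ ∃ a, e a = i} :=
      Equiv.ofBijective (fun a => ⟨e a, not_not.mpr ⟨a, rfl⟩⟩) (by
        constructor
        · intro a a' h
          exact hinj (congrArg Subtype.val h)
        · rintro ⟨i, hi⟩
          obtain ⟨a, rfl⟩ := not_not.mp hi
          exact ⟨a, rfl⟩)
    have hdetρ : ((v.submatrix (Subtype.val : {i // ¬ ¬ ∃ a, e a = i} → ι) Subtype.val).submatrix
        ρ ρ).det = (v.submatrix (Subtype.val : {i // ¬ ¬ ∃ a, e a = i} → ι) Subtype.val).det :=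
      Matrix.det_submatrix_equiv_self ρ _
    have heq : (Matrix.of fun a b => z b (e a)) =
        ((v.submatrix (Subtype.val : {i // ¬ ¬ ∃ a, e a = i} → ι) Subtype.val).submatrix
          ρ ρ).transpose := by
      ext a b
      show z b (e a) = v (e b) (e a)
      rw [hv1]
    rw [heq, Matrix.det_transpose, hdetρ, ← hpmi]
    apply det_mem_G
    unfold nonRelCard
    have hsub : (Finset.univ.filter fun i => v i ∉ Rel R x) ⊆ (Finset.univ.image e)ᶜ := by
      intro i hi
      rw [Finset.mem_filter] at hi
      rw [Finset.mem_compl, Finset.mem_image]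
      rintro ⟨a, -, rfl⟩
      apply hi.2
      rw [hv1]
      exact hS1 (hz a)
    refine le_trans (Finset.card_le_card hsub) ?_
    rw [Finset.card_compl, Finset.card_image_of_injective _ hinj, Finset.card_univ,
      Fintype.card_fin]
    omega
  · rw [Function.Injective] at hinj
    simp only [not_forall] at hinj
    obtain ⟨a, a', hea, hne⟩ := hinj
    have : (Matrix.of fun a b => z b (e a)).det = 0 := by
      apply Matrix.det_zero_of_row_eq hne
      funext b
      show z b (e a) = z b (e a')
      rw [hea]
    rw [this]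
    exact zero_mem _

/-- The Fitting ideal as an ideal of minors. -/
theorem G_eq_Minors {ι : Type*} [Fintype ι] [DecidableEq ι] (x : ι → M) (S : Set (ι → R))
    (hS1 : S ⊆ Rel R x) (hS2 : Rel R x ≤ Submodule.span R S) (p k : ℕ)
    (hpk : p + k = Fintype.card ι) : G R x k = Minors S p :=
  le_antisymm (G_le_Minors x S hS2 p k hpk) (Minors_le_G x S hS1 p k hpk)

end Minors

end Groth.Agent.Lib.Helper10.Fitting
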