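import Mathlib
import Groth.Prelude.Def_LCI2
import Groth.Prelude.Def_CAlgX

/-!
# Koszul-regular sequences are `H_1`-regular

For the mapping-cone model `Koszul.koszul A l` of the Koszul complex we identify the terms in degrees
`0` and `-1` with `A` and `A^c` well enough to show: if `H^{-1}` of the Koszul complex vanishes, every
relation `∑ a_i l_i = 0` is a combination of the trivial relations (`CAlgX.IsH1Regular l.get`).
-/

set_option autoImplicit false
universe u

namespace Groth.Agent.Lib.Helper10.KoszulH1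

open CategoryTheory CategoryTheory.Limits CochainComplex HomComplex

variable {A : Type u} [CommRing A]

/-- the submodule of trivial (Koszul) relations. -/
def Triv {c : ℕ} (f : Fin c → A) : Submodule A (Fin c → A) :=
  Submodule.span A {v | ∃ i j : Fin c, v = Pi.single i (f j) - Pi.single j (f i)}

lemma koszul_cons (f : A) (l : List A) :
    Koszul.koszul A (f :: l) = mappingCone (f • 𝟙 (Koszul.koszul A l)) := rfl

lemma isZero_X_of_pos : ∀ (l : List A) (i : ℤ), 0 < i → IsZero ((Koszul.koszul A l).X i)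
  | [], i, hi => HomologicalComplex.isZero_single_obj_X _ _ _ _ (by omega)
  | f :: l, i, hi => by
      rw [koszul_cons, mappingCone.isZero_X_iff]
      exact ⟨isZero_X_of_pos l _ (by omega), isZero_X_of_pos l _ hi⟩

lemma eq_zero_of_isZero {M : ModuleCat.{u} A} (h : IsZero M) (x : M) : x = 0 := by
  have := congrArg (fun m => m.hom x) (h.eq_of_src (𝟙 M) 0)
  simpa using this

section Cone

variable (K : CochainComplex (ModuleCat.{u} A) ℤ) (f : A)

/-- first projection of the cone of `f` on `K`. -/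
noncomputable def Fst (p q : ℤ) (h : p + 1 = q) : (mappingCone (f • 𝟙 K)).X p →ₗ[A] K.X q :=
  ((mappingCone.fst (f • 𝟙 K)).1.v p q h).hom

/-- second projection. -/
noncomputable def Snd (p : ℤ) : (mappingCone (f • 𝟙 K)).X p →ₗ[A] K.X p :=
  ((mappingCone.snd (f • 𝟙 K)).v p p (add_zero p)).hom

/-- first inclusion. -/
noncomputable def Inl (p q : ℤ) (h : p + (-1) = q) : K.X p →ₗ[A] (mappingCone (f • 𝟙 K)).X q :=
  ((mappingCone.inl (f • 𝟙 K)).v p q h).hom

/-- second inclusion. -/
noncomputable def Inr (p : ℤ) : K.X p →ₗ[A] (mappingCone (f • 𝟙 K)).X p :=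
  ((mappingCone.inr (f • 𝟙 K)).f p).hom

lemma Fst_Inl (p q : ℤ) (h : q + 1 = p) (x : K.X p) :
    Fst K f q p h (Inl K f p q (by omega) x) = x := by
  show ((mappingCone.inl (f • 𝟙 K)).v p q (by omega) ≫
    (mappingCone.fst (f • 𝟙 K)).1.v q p h).hom x = x
  rw [mappingCone.inl_v_fst_v]; rfl

lemma Snd_Inl (p q : ℤ) (h : p + (-1) = q) (x : K.X p) :
    Snd K f q (Inl K f p q h x) = 0 := by
  show ((mappingCone.inl (f • 𝟙 K)).v p q h ≫
    (mappingCone.snd (f • 𝟙 K)).v q q (add_zero q)).hom x = 0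
  rw [mappingCone.inl_v_snd_v]; rfl

lemma Fst_Inr (p q : ℤ) (h : p + 1 = q) (x : K.X p) :
    Fst K f p q h (Inr K f p x) = 0 := by
  show ((mappingCone.inr (f • 𝟙 K)).f p ≫
    (mappingCone.fst (f • 𝟙 K)).1.v p q h).hom x = 0
  rw [mappingCone.inr_f_fst_v]; rfl

lemma Snd_Inr (p : ℤ) (x : K.X p) :
    Snd K f p (Inr K f p x) = x := by
  show ((mappingCone.inr (f • 𝟙 K)).f p ≫
    (mappingCone.snd (f • 𝟙 K)).v p p (add_zero p)).hom x = x
  rw [mappingCone.inr_f_snd_v]; rfl

lemma decomp (p q : ℤ) (h : p + 1 = q) (z : (mappingCone (f • 𝟙 K)).X p) :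
    Inl K f q p (by omega) (Fst K f p q h z) + Inr K f p (Snd K f p z) = z := by
  have := congrArg (fun m => m.hom z) (mappingCone.id_X (f • 𝟙 K) p q h)
  simpa [Fst, Snd, Inl, Inr] using this

lemma Snd_d (i j : ℤ) (h : i + 1 = j) (z : (mappingCone (f • 𝟙 K)).X i) :
    Snd K f j (((mappingCone (f • 𝟙 K)).d i j).hom z) =
      f • Fst K f i j h z + (K.d i j).hom (Snd K f i z) := by
  have := congrArg (fun m => m.hom z) (mappingCone.d_snd_v (f • 𝟙 K) i j h)
  simpa [Fst, Snd] using this

lemma Fst_d (i j k : ℤ) (hij : i + 1 = j) (hjk : j + 1 = k) (z : (mappingCone (f • 𝟙 K)).X i) :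
    Fst K f j k hjk (((mappingCone (f • 𝟙 K)).d i j).hom z) =
      - (K.d j k).hom (Fst K f i j hij z) := by
  have := congrArg (fun m => m.hom z) (mappingCone.d_fst_v (f • 𝟙 K) i j k hij hjk)
  simpa [Fst] using this

end Cone

/-- identifications of the degree `0` and `-1` terms of the Koszul complex, good enough to
read off `H_1`-regularity. -/
structure LowData (l : List A) where
  ε : ((Koszul.koszul A l).X 0) ≃ₗ[A] A
  ψ : ((Koszul.koszul A l).X (-1)) →ₗ[A] (Fin l.length → A)
  φ : (Fin l.length → A) →ₗ[A] ((Koszul.koszul A l).X (-1))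
  ψφ : ∀ a, ψ (φ a) = a
  εd : ∀ x, ε (((Koszul.koszul A l).d (-1) 0).hom x) = ∑ i, ψ x i * l.get i
  ψd : ∀ w, ψ (((Koszul.koszul A l).d (-2) (-1)).hom w) ∈ Triv l.get

noncomputable def lowNil : LowData ([] : List A) where
  ε := (HomologicalComplex.singleObjXSelf (ComplexShape.up ℤ) (0 : ℤ)
    (ModuleCat.of A A)).toLinearEquiv
  ψ := 0
  φ := 0
  ψφ a := funext fun i => i.elim0
  εd x := by
    have hz : IsZero ((Koszul.koszul A ([] : List A)).X (-1)) :=
      HomologicalComplex.isZero_single_obj_X _ _ _ _ (by omega)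
    rw [eq_zero_of_isZero hz x]
    simp
  ψd w := by simp

/-- the map `t ↦ (0, t)` preserves trivial relations. -/
lemma cons_zero_mem_Triv (f : A) (l : List A) (t : Fin l.length → A) (ht : t ∈ Triv l.get) :
    (Fin.cons 0 t : Fin (l.length + 1) → A) ∈ Triv (f :: l).get := by
  let L : (Fin l.length → A) →ₗ[A] (Fin (l.length + 1) → A) :=
    { toFun := fun t => Fin.cons 0 t
      map_add' := fun a b => by
        ext i; refine Fin.cases ?_ (fun i => ?_) i <;> simp
      map_smul' := fun r a => by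
        ext i; refine Fin.cases ?_ (fun i => ?_) i <;> simp }
  have hL : ∀ (i : Fin l.length) (a : A), L (Pi.single i a) = Pi.single i.succ a := by
    intro i a
    ext j
    refine Fin.cases ?_ (fun j => ?_) j
    · simp [L, Pi.single_apply, Fin.succ_ne_zero, eq_comm]
    · simp [L, Pi.single_apply]
  have : Submodule.map L (Triv l.get) ≤ Triv (f :: l).get := by
    unfold Triv
    rw [Submodule.map_span, Submodule.span_le]
    rintro _ ⟨v, ⟨i, j, rfl⟩, rfl⟩
    apply Submodule.subset_span
    refine ⟨i.succ, j.succ, ?_⟩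
    rw [map_sub, hL, hL]
    rfl
  exact this ⟨t, ht, rfl⟩

/-- degree `0` of the cone is degree `0` of `K` when `K.X 1 = 0`. -/
noncomputable def sndEquiv (K : CochainComplex (ModuleCat.{u} A) ℤ) (f : A) (h : IsZero (K.X 1)) :
    (mappingCone (f • 𝟙 K)).X 0 ≃ₗ[A] K.X 0 :=
  LinearEquiv.ofLinear (Snd K f 0) (Inr K f 0)
    (by ext x; exact Snd_Inr K f 0 x)
    (by
      ext z
      have h1 := decomp K f 0 1 (by omega) z
      rw [eq_zero_of_isZero h (Fst K f 0 1 (by omega) z), map_zero, zero_add] at h1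
      exact h1)

noncomputable def lowCons (f : A) (l : List A) (D : LowData l) : LowData (f :: l) where
  ε := (sndEquiv (Koszul.koszul A l) f (isZero_X_of_pos l 1 one_pos)).trans D.ε
  ψ := LinearMap.pi (Fin.cons (α := fun _ => (mappingCone (f • 𝟙 (Koszul.koszul A l))).X (-1) →ₗ[A] A)
      (D.ε.toLinearMap ∘ₗ Fst (Koszul.koszul A l) f (-1) 0 (by omega))
      (fun i => LinearMap.proj i ∘ₗ D.ψ ∘ₗ Snd (Koszul.koszul A l) f (-1)))
  φ := Inl (Koszul.koszul A l) f 0 (-1) (by omega) ∘ₗ D.ε.symm.toLinearMap ∘ₗ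
        (LinearMap.proj (0 : Fin (l.length + 1)) : (Fin (l.length + 1) → A) →ₗ[A] A) +
      Inr (Koszul.koszul A l) f (-1) ∘ₗ D.φ ∘ₗ
        (LinearMap.funLeft A A (Fin.succ : Fin l.length → Fin (l.length + 1)))
  ψφ a := by
    funext j
    refine Fin.cases ?_ (fun i => ?_) j
    · show D.ε (Fst (Koszul.koszul A l) f (-1) 0 (by omega)
        (Inl (Koszul.koszul A l) f 0 (-1) (by omega) (D.ε.symm (a 0)) +
          Inr (Koszul.koszul A l) f (-1) (D.φ (fun i => a i.succ)))) = a 0
      rw [map_add, Fst_Inl, Fst_Inr, add_zero, LinearEquiv.apply_symm_apply]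
    · show D.ψ (Snd (Koszul.koszul A l) f (-1)
        (Inl (Koszul.koszul A l) f 0 (-1) (by omega) (D.ε.symm (a 0)) +
          Inr (Koszul.koszul A l) f (-1) (D.φ (fun i => a i.succ)))) i = a i.succ
      rw [map_add, Snd_Inl, Snd_Inr, zero_add, D.ψφ]
  εd x := by
    refine Eq.trans ?_ (Fin.sum_univ_succ (n := l.length) _).symm
    show D.ε (Snd (Koszul.koszul A l) f 0
        (((mappingCone (f • 𝟙 (Koszul.koszul A l))).d (-1) 0).hom x)) =
      D.ε (Fst (Koszul.koszul A l) f (-1) 0 (by omega) x) * f +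
        ∑ i : Fin l.length, D.ψ (Snd (Koszul.koszul A l) f (-1) x) i * l.get i
    rw [Snd_d (Koszul.koszul A l) f (-1) 0 (by omega) x, map_add, map_smul, D.εd, smul_eq_mul,
      mul_comm]
  ψd w := by
    have h1 := Fst_d (Koszul.koszul A l) f (-2) (-1) 0 (by omega) (by omega) w
    have h2 := Snd_d (Koszul.koszul A l) f (-2) (-1) (by omega) w
    set x := Fst (Koszul.koszul A l) f (-2) (-1) (by omega) w with hx
    set y := Snd (Koszul.koszul A l) f (-2) w with hy
    have key : (LinearMap.pi (Fin.cons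
        (α := fun _ => (mappingCone (f • 𝟙 (Koszul.koszul A l))).X (-1) →ₗ[A] A)
        (D.ε.toLinearMap ∘ₗ Fst (Koszul.koszul A l) f (-1) 0 (by omega))
        (fun i => LinearMap.proj i ∘ₗ D.ψ ∘ₗ Snd (Koszul.koszul A l) f (-1))))
        (((mappingCone (f • 𝟙 (Koszul.koszul A l))).d (-2) (-1)).hom w) =
        (∑ i : Fin l.length, D.ψ x i •
          -(Pi.single (0 : Fin (l.length + 1)) ((f :: l).get i.succ) -
            Pi.single i.succ ((f :: l).get (0 : Fin (l.length + 1))))) +
        (Fin.cons 0 (D.ψ (((Koszul.koszul A l).d (-2) (-1)).hom y)) : Fin (l.length + 1) → A) := by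
      funext j
      refine Fin.cases ?_ (fun i => ?_) j
      · show D.ε (Fst (Koszul.koszul A l) f (-1) 0 (by omega)
          (((mappingCone (f • 𝟙 (Koszul.koszul A l))).d (-2) (-1)).hom w)) = _
        rw [h1, map_neg, D.εd]
        simp [Finset.sum_apply, Pi.single_apply, Fin.succ_ne_zero]
      · show D.ψ (Snd (Koszul.koszul A l) f (-1)
          (((mappingCone (f • 𝟙 (Koszul.koszul A l))).d (-2) (-1)).hom w)) i = _
        rw [h2, map_add, map_smul]
        simp [Finset.sum_apply, Pi.single_apply, Fin.succ_ne_zero, mul_comm]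
    refine (congrArg (· ∈ Triv (f :: l).get) key).mpr ?_
    refine Submodule.add_mem _ (Submodule.sum_mem _ fun i _ => Submodule.smul_mem _ _
      (Submodule.neg_mem _ (Submodule.subset_span ⟨0, i.succ, rfl⟩)))
      (cons_zero_mem_Triv f l _ (D.ψd y))

theorem nonempty_lowData : ∀ l : List A, Nonempty (LowData l)
  | [] => ⟨lowNil⟩
  | f :: l => (nonempty_lowData l).map (lowCons f l)

/-- exactness of the Koszul complex in degree `-1` gives `H_1`-regularity. -/
theorem isH1Regular_of_exact (l : List A)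
    (hex : ∀ z : (Koszul.koszul A l).X (-1), ((Koszul.koszul A l).d (-1) 0).hom z = 0 →
      ∃ w, ((Koszul.koszul A l).d (-2) (-1)).hom w = z) :
    CAlgX.IsH1Regular l.get := by
  obtain ⟨D⟩ := nonempty_lowData l
  intro a ha
  have hz : ((Koszul.koszul A l).d (-1) 0).hom (D.φ a) = 0 := by
    apply D.ε.injective
    rw [D.εd, D.ψφ, map_zero]
    exact ha
  obtain ⟨w, hw⟩ := hex _ hz
  have := D.ψd w
  rw [hw, D.ψφ] at this
  exact this

/-- vanishing of `H^{-1}` of the Koszul complex gives `H_1`-regularity. -/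
theorem isH1Regular_of_isZero_homology (l : List A)
    (h : IsZero ((Koszul.koszul A l).homology (-1))) : CAlgX.IsH1Regular l.get := by
  apply isH1Regular_of_exact
  have hex : ((Koszul.koszul A l).sc' (-2) (-1) 0).Exact := by
    rw [← HomologicalComplex.exactAt_iff' (Koszul.koszul A l) (-2) (-1) 0 (by simp) (by simp),
      HomologicalComplex.exactAt_iff_isZero_homology]
    exact h
  rw [ShortComplex.moduleCat_exact_iff] at hex
  exact hex

/-- **Koszul-regular sequences are `H_1`-regular.** -/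
theorem isH1Regular_of_isKoszulRegularSeq (l : List A) (h : LCI.IsKoszulRegularSeq A l) :
    CAlgX.IsH1Regular l.get :=
  isH1Regular_of_isZero_homology l (h (-1) (by omega))

/-- `H_1`-regular sequences are linearly independent modulo the ideal they generate:
if `∑ a_i f_i ∈ J²` then all `a_i ∈ J`. -/
theorem coeff_mem_of_isH1Regular {c : ℕ} (f : Fin c → A) (h : CAlgX.IsH1Regular f)
    (a : Fin c → A) (ha : ∑ i, a i * f i ∈ Ideal.span (Set.range f) ^ 2) (i : Fin c) :
    a i ∈ Ideal.span (Set.range f) := by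
  set J := Ideal.span (Set.range f) with hJ
  -- elements of J² are of the form ∑ b_i f_i with b_i ∈ J
  have hsq : ∀ y ∈ J ^ 2, ∃ b : Fin c → A, (∀ i, b i ∈ J) ∧ y = ∑ i, b i * f i := by
    intro y hy
    rw [pow_two, ← Ideal.smul_eq_mul, hJ] at hy
    rw [Submodule.mem_ideal_smul_span_iff_exists_sum] at hy
    obtain ⟨b, hb, hby⟩ := hy
    refine ⟨fun i => b i, hb, ?_⟩
    rw [← hby, Finsupp.sum_fintype _ _ (fun i => by simp)]
    simp
  obtain ⟨b, hb, hab⟩ := hsq _ ha
  have hrel : ∑ i, (a - b) i * f i = 0 := by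
    simp only [Pi.sub_apply, sub_mul, Finset.sum_sub_distrib]
    rw [hab, sub_self]
  have hmem := h (a - b) hrel
  have hall : ∀ v ∈ Submodule.span A {v : Fin c → A | ∃ i j : Fin c,
      v = Pi.single i (f j) - Pi.single j (f i)}, ∀ k, v k ∈ J := by
    intro v hv
    induction hv using Submodule.span_induction with
    | mem v hv =>
      obtain ⟨i, j, rfl⟩ := hv
      intro k
      have hfj : ∀ j, f j ∈ J := fun j => Ideal.subset_span ⟨j, rfl⟩
      simp only [Pi.sub_apply, Pi.single_apply]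
      refine J.sub_mem ?_ ?_ <;> split_ifs <;> simp [hfj]
    | zero => intro k; simp
    | add u v _ _ hu hv => intro k; exact J.add_mem (hu k) (hv k)
    | smul r v _ hv => intro k; exact J.mul_mem_left r (hv k)
  have := hall _ hmem i
  have h2 : a i = (a - b) i + b i := by simp
  rw [h2]
  exact J.add_mem this (hb i)

end Groth.Agent.Lib.Helper10.KoszulH1
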