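import Mathlib
import Groth.Prelude.Def_CAlgX
import Groth.Agent.Lib.Helper10.KoszulH1
import Groth.Agent.Lib.Helper89.JacCritTFAE
import Groth.Agent.S6894

/-!
# The Jacobian criterion for `C = B/(r_1,…,r_c)`, `B` smooth of relative dimension `m + c`

`C` is smooth over `A` near a prime `p` iff `Fitt_m Ω_{C/A} ⊄ p` (one direction needs the sequence
`r` to be `H_1`-regular).
-/

set_option autoImplicit false
universe u

namespace Groth.Agent.Lib.Helper10.LciJacobian

open TensorProduct KaehlerDifferential Algebra Groth.Agent.Lib.Helper89.JacCrit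
open Groth.Agent.Lib.Helper10.KoszulH1

/-- the image of a trivial relation is a trivial relation. -/
lemma map_mem_Triv {B B' : Type u} [CommRing B] [CommRing B'] (ρ : B →+* B') {c : ℕ}
    (f : Fin c → B) (v : Fin c → B) (hv : v ∈ Triv f) :
    (fun i => ρ (v i)) ∈ Triv (fun i => ρ (f i)) := by
  unfold Triv at hv ⊢
  induction hv using Submodule.span_induction with
  | mem v hv =>
    obtain ⟨i, j, rfl⟩ := hv
    apply Submodule.subset_span
    refine ⟨i, j, ?_⟩
    funext k
    simp only [Pi.sub_apply, Pi.single_apply, map_sub]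
    split_ifs <;> simp
  | zero =>
    have : (fun i => ρ ((0 : Fin c → B) i)) = 0 := by
      funext i; simp
    rw [this]; exact Submodule.zero_mem _
  | add u v _ _ hu hv =>
    have : (fun i => ρ ((u + v) i)) = (fun i => ρ (u i)) + fun i => ρ (v i) := by
      funext i; simp
    rw [this]; exact Submodule.add_mem _ hu hv
  | smul r v _ hv =>
    have : (fun i => ρ ((r • v) i)) = ρ r • fun i => ρ (v i) := by
      funext i; simp
    rw [this]; exact Submodule.smul_mem _ _ hv

/-- `H_1`-regular sequences stay `H_1`-regular in a localization. -/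
theorem isH1Regular_of_isLocalization {B B' : Type u} [CommRing B] [CommRing B'] [Algebra B B']
    (M : Submonoid B) [IsLocalization M B'] {c : ℕ} (f : Fin c → B) (h : CAlgX.IsH1Regular f) :
    CAlgX.IsH1Regular (fun i => algebraMap B B' (f i)) := by
  intro a ha
  obtain ⟨b, hb⟩ := IsLocalization.exist_integer_multiples M (Finset.univ : Finset (Fin c)) a
  choose b' hb' using fun i => hb i (Finset.mem_univ i)
  -- hb' i : algebraMap b' i = b • a i
  have h1 : algebraMap B B' (∑ i, b' i * f i) = 0 := by
    rw [map_sum]
    have : ∀ i, algebraMap B B' (b' i * f i) = (b : B) • (a i * algebraMap B B' (f i)) := by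
      intro i
      rw [map_mul, hb' i, smul_mul_assoc]
    rw [Finset.sum_congr rfl fun i _ => this i, ← Finset.smul_sum, ha, smul_zero]
  obtain ⟨m, hm⟩ := (IsLocalization.map_eq_zero_iff M B' _).1 h1
  have h2 : ∑ i, ((m : B) • b') i * f i = 0 := by
    simp only [Pi.smul_apply, smul_eq_mul, mul_assoc]
    rw [← Finset.mul_sum]; exact hm
  have h3 := map_mem_Triv (algebraMap B B') f _ (h _ h2)
  have hu : IsUnit (algebraMap B B' ((m * b : M) : B)) := IsLocalization.map_units B' (m * b)
  have h4 : (fun i => algebraMap B B' (((m : B) • b') i)) =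
      algebraMap B B' ((m * b : M) : B) • a := by
    funext i
    simp only [Pi.smul_apply, smul_eq_mul, map_mul, hb' i, Submonoid.coe_mul, Algebra.smul_def]
    ring
  rw [h4] at h3
  have h5 := Submodule.smul_mem (Triv fun i => algebraMap B B' (f i)) (↑hu.unit⁻¹ : B') h3
  rw [smul_smul, IsUnit.val_inv_mul, one_smul] at h5
  exact h5

section Core

variable {A B C : Type u} [CommRing A] [CommRing B] [CommRing C] [Algebra A B] [Algebra B C]
  [Algebra A C] [IsScalarTower A B C]
variable (hsurj : Function.Surjective (algebraMap B C))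
variable {c : ℕ} (rs : Fin c → B)
  (hrs : Ideal.span (Set.range rs) = RingHom.ker (algebraMap B C))

include hrs in
lemma rs_mem (i : Fin c) : rs i ∈ (ext (A := A) hsurj).ker := by
  show rs i ∈ RingHom.ker (algebraMap B C)
  rw [← hrs]; exact Ideal.subset_span ⟨i, rfl⟩

/-- the classes of the generators in the cotangent module of the extension `B → C`. -/
noncomputable def tgen (i : Fin c) : (ext (A := A) hsurj).Cotangent :=
  Extension.Cotangent.mk ⟨rs i, rs_mem (A := A) hsurj rs hrs i⟩

lemma span_tgen : Submodule.span C (Set.range (tgen (A := A) hsurj rs hrs)) = ⊤ :=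
  Extension.Cotangent.span_eq_top_of_span_eq_ker (P := ext (A := A) hsurj) rs hrs

lemma linearIndependent_tgen (hH1 : CAlgX.IsH1Regular rs) :
    LinearIndependent C (tgen (A := A) hsurj rs hrs) := by
  rw [Fintype.linearIndependent_iff]
  intro g hg i
  choose b hb using fun i => hsurj (g i)
  have h1 : Extension.Cotangent.mk (P := ext (A := A) hsurj)
      (∑ i, b i • (⟨rs i, rs_mem (A := A) hsurj rs hrs i⟩ : (ext (A := A) hsurj).ker)) = 0 := by
    rw [map_sum, ← hg]
    refine Finset.sum_congr rfl fun i _ => ?_
    rw [map_smul, ← hb i]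
    exact (algebraMap_smul C (b i) (tgen (A := A) hsurj rs hrs i)).symm
  rw [Extension.Cotangent.mk_eq_zero_iff] at h1
  have h2 : ∑ i, b i * rs i ∈ Ideal.span (Set.range rs) ^ 2 := by
    rw [hrs]
    convert h1 using 1
    simp
  have h3 := coeff_mem_of_isH1Regular rs hH1 b h2 i
  rw [hrs, RingHom.mem_ker, hb i] at h3
  exact h3

end Core

section Dim

variable {A B C : Type u} [CommRing A] [CommRing B] [CommRing C] [Algebra A B] [Algebra B C]
  [Algebra A C] [IsScalarTower A B C]
variable (hsurj : Function.Surjective (algebraMap B C))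
variable {c : ℕ} (rs : Fin c → B)
  (hrs : Ideal.span (Set.range rs) = RingHom.ker (algebraMap B C))
variable (p : Ideal C) [p.IsPrime]

omit [Algebra A B] [Algebra A C] [IsScalarTower A B C] in
include hrs in
lemma ker_fg' : (RingHom.ker (algebraMap B C)).FG := by
  classical
  rw [← hrs]
  exact ⟨Finset.univ.image rs, by simp⟩

include hrs in
lemma ker_fg : (ext (A := A) hsurj).ker.FG := ker_fg' rs hrs

include hrs in
lemma finite_cotangent' : Module.Finite C (ext (A := A) hsurj).Cotangent :=
  Extension.Cotangent.finite (ker_fg (A := A) hsurj rs hrs)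

omit [Algebra A B] [Algebra A C] [IsScalarTower A B C] in
include hrs in
lemma finite_ker_cotangent : Module.Finite B (RingHom.ker (algebraMap B C)).Cotangent := by
  haveI : Module.Finite B (RingHom.ker (algebraMap B C)) :=
    Module.Finite.iff_fg.mpr (ker_fg' rs hrs)
  exact Module.Finite.of_surjective (RingHom.ker (algebraMap B C)).toCotangent
    (Ideal.toCotangent_surjective _)

/-- the base change of the cotangent complex to the residue field. -/
noncomputable abbrev uκ : p.ResidueField ⊗[C] (ext (A := A) hsurj).Cotangent →ₗ[p.ResidueField]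
    p.ResidueField ⊗[C] (ext (A := A) hsurj).CotangentSpace :=
  (ext (A := A) hsurj).cotangentComplex.baseChange p.ResidueField

/-- the base change of the map to the differentials of `C`. -/
noncomputable abbrev vκ : p.ResidueField ⊗[C] (ext (A := A) hsurj).CotangentSpace →ₗ[p.ResidueField]
    p.ResidueField ⊗[C] Ω[C⁄A] :=
  (ext (A := A) hsurj).toKaehler.baseChange p.ResidueField

lemma exact_uκ_vκ : Function.Exact (uκ (A := A) hsurj p) (vκ (A := A) hsurj p) :=
  lTensor_exact p.ResidueField (ext (A := A) hsurj).exact_cotangentComplex_toKaehler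
    (ext (A := A) hsurj).toKaehler_surjective

lemma vκ_surjective : Function.Surjective (vκ (A := A) hsurj p) :=
  LinearMap.lTensor_surjective p.ResidueField (ext (A := A) hsurj).toKaehler_surjective

lemma finrank_cotangentSpace [Module.Free B Ω[B⁄A]] [Module.Finite B Ω[B⁄A]] :
    Module.finrank p.ResidueField
      (p.ResidueField ⊗[C] (ext (A := A) hsurj).CotangentSpace) = Module.finrank B Ω[B⁄A] := by
  haveI : Nontrivial C := ⟨0, 1, fun h => (‹p.IsPrime›).ne_top ((Ideal.eq_top_iff_one p).2
    (h ▸ p.zero_mem))⟩
  haveI : Nontrivial B := (algebraMap B C).domain_nontrivial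
  rw [Module.finrank_baseChange]
  exact Module.finrank_baseChange

include hrs in
lemma finrank_cotangent_le :
    Module.finrank p.ResidueField (p.ResidueField ⊗[C] (ext (A := A) hsurj).Cotangent) ≤ c := by
  have h1 : Submodule.span p.ResidueField (Set.range fun i : Fin c =>
      (1 : p.ResidueField) ⊗ₜ[C] tgen (A := A) hsurj rs hrs i) = ⊤ := by
    have h2 := Submodule.baseChange_span (R := C) (M := (ext (A := A) hsurj).Cotangent)
      (A := p.ResidueField) (Set.range (tgen (A := A) hsurj rs hrs))
    rw [span_tgen, Submodule.baseChange_top, ← Set.range_comp] at h2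
    exact h2.symm
  have := finrank_le_of_span_eq_top h1
  simpa using this

include hrs in
lemma finrank_cotangent_eq (hH1 : CAlgX.IsH1Regular rs) :
    Module.finrank p.ResidueField (p.ResidueField ⊗[C] (ext (A := A) hsurj).Cotangent) = c := by
  haveI : Nontrivial C := ⟨0, 1, fun h => (‹p.IsPrime›).ne_top ((Ideal.eq_top_iff_one p).2
    (h ▸ p.zero_mem))⟩
  let b : Module.Basis (Fin c) C (ext (A := A) hsurj).Cotangent :=
    Module.Basis.mk (linearIndependent_tgen (A := A) hsurj rs hrs hH1)
      (span_tgen (A := A) hsurj rs hrs).ge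
  haveI : Module.Free C (ext (A := A) hsurj).Cotangent := Module.Free.of_basis b
  rw [Module.finrank_baseChange, Module.finrank_eq_card_basis b, Fintype.card_fin]

variable [Module.Free B Ω[B⁄A]] [Module.Finite B Ω[B⁄A]]

include hrs in
/-- rank count for the (base changed) cotangent sequence. -/
lemma finrank_count :
    Module.finrank p.ResidueField (p.ResidueField ⊗[C] Ω[C⁄A]) +
      Module.finrank p.ResidueField (p.ResidueField ⊗[C] (ext (A := A) hsurj).Cotangent) =
    Module.finrank B Ω[B⁄A] + Module.finrank p.ResidueField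
      (LinearMap.ker (uκ (A := A) hsurj p)) := by
  haveI := finite_cotangent' (A := A) hsurj rs hrs
  have hex := exact_uκ_vκ (A := A) hsurj p
  have hker : LinearMap.ker (vκ (A := A) hsurj p) = LinearMap.range (uκ (A := A) hsurj p) :=
    (LinearMap.exact_iff.mp hex)
  have h1 := LinearMap.finrank_range_add_finrank_ker (vκ (A := A) hsurj p)
  have h2 := LinearMap.finrank_range_add_finrank_ker (uκ (A := A) hsurj p)
  rw [LinearMap.range_eq_top.mpr (vκ_surjective (A := A) hsurj p), finrank_top, hker,
    finrank_cotangentSpace] at h1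
  omega

variable [Module.Finite C Ω[C⁄A]] [Algebra.FormallySmooth A B]

include hsurj hrs in
/-- Outside the `m`-th Jacobian locus, `C = B/(r_1, …, r_c)` is formally smooth near `p`. -/
theorem exists_away_formallySmooth (m : ℕ) (hrank : Module.finrank B Ω[B⁄A] = m + c)
    (hfit : ¬ Fitt.ideal C Ω[C⁄A] m ≤ p) :
    ∃ g : C, g ∉ p ∧ Algebra.FormallySmooth A (Localization.Away g) := by
  haveI := finite_ker_cotangent rs hrs
  have h1 : Module.finrank p.ResidueField (p.ResidueField ⊗[C] Ω[C⁄A]) ≤ m :=
    ((Groth.Agent.S6894.result Ω[C⁄A] m p).1).mp hfit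
  have h2 := finrank_cotangent_le (A := A) hsurj rs hrs p
  have h3 := finrank_count (A := A) hsurj rs hrs p
  have h4 : Module.finrank p.ResidueField (LinearMap.ker (uκ (A := A) hsurj p)) = 0 := by
    omega
  haveI := finite_cotangent' (A := A) hsurj rs hrs
  have h5 : LinearMap.ker (uκ (A := A) hsurj p) = ⊥ := Submodule.finrank_eq_zero.mp h4
  exact exists_away_of_injective hsurj p (LinearMap.ker_eq_bot.mp h5)

include hsurj hrs in
/-- If `C = B/(r_1, …, r_c)` with `r` an `H_1`-regular sequence is formally smooth at `p`, then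
`p` is outside the `m`-th Jacobian locus. -/
theorem not_fitt_le_of_formallySmooth (m : ℕ) (hrank : Module.finrank B Ω[B⁄A] = m + c)
    (hH1 : CAlgX.IsH1Regular rs) (hsm : Algebra.FormallySmooth A (Localization.AtPrime p)) :
    ¬ Fitt.ideal C Ω[C⁄A] m ≤ p := by
  have hinj := injective_of_formallySmooth_atPrime hsurj p hsm
  have h2 := finrank_cotangent_eq (A := A) hsurj rs hrs p hH1
  have h3 := finrank_count (A := A) hsurj rs hrs p
  have h4 : Module.finrank p.ResidueField (LinearMap.ker (uκ (A := A) hsurj p)) = 0 := by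
    rw [LinearMap.ker_eq_bot.mpr hinj, finrank_bot]
  refine ((Groth.Agent.S6894.result Ω[C⁄A] m p).1).mpr ?_
  omega

end Dim

end Groth.Agent.Lib.Helper10.LciJacobian
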