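import Mathlib
import Groth.Prelude.Def_RegImm
import Groth.Agent.Lib.Helper10.KoszulFlat
import Groth.Agent.Lib.Helper10.LciJacobian
import Groth.Agent.Lib.Helper47.QuasiRegularBaseChange

/-!
# Flat base change for the four kinds of regular sequences
-/

set_option autoImplicit false
universe u

namespace Groth.Agent.Lib.Helper10.RegSeqFlat

open Groth.Agent.Lib.Helper10.KoszulH1 Groth.Agent.Lib.Helper10.LciJacobian Groth.Agent.Lib.Helper47

variable {B B' : Type u} [CommRing B] [CommRing B'] (φ : B →+* B')

/-- `H_1`-regular sequences are preserved by flat ring maps. -/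
theorem isH1Regular_map (hφ : φ.Flat) {c : ℕ} (f : Fin c → B) (h : CAlgX.IsH1Regular f) :
    CAlgX.IsH1Regular (fun i => φ (f i)) := by
  algebraize [φ]
  intro a' ha'
  have hrel : ∑ i, f i • a' i = 0 := by
    rw [← ha']
    refine Finset.sum_congr rfl fun i _ => ?_
    rw [Algebra.smul_def, mul_comm]; rfl
  obtain ⟨k, a, y, hx, hcol⟩ :=
    Module.Flat.isTrivialRelation_of_sum_smul_eq_zero (R := B) (M := B') (f := f) (x := a') hrel
  have hcolT : ∀ j, (fun i => a i j) ∈ Triv f := fun j => by
    refine h _ ?_
    rw [← hcol j]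
    exact Finset.sum_congr rfl fun i _ => mul_comm _ _
  have hsum : a' = ∑ j, y j • (fun i => φ (a i j)) := by
    funext i
    rw [hx i, Finset.sum_apply]
    refine Finset.sum_congr rfl fun j _ => ?_
    rw [Pi.smul_apply, Algebra.smul_def, smul_eq_mul, mul_comm]; rfl
  rw [hsum]
  exact Submodule.sum_mem _ fun j _ => Submodule.smul_mem _ _ (map_mem_Triv φ f _ (hcolT j))

lemma mon_map {c : ℕ} (f : Fin c → B) (d : Fin c →₀ ℕ) :
    mon (fun i => φ (f i)) d = φ (mon f d) := by
  simp [mon, map_prod, map_pow]

lemma span_range_map {c : ℕ} (f : Fin c → B) :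
    Ideal.span (Set.range fun i => φ (f i)) = (Ideal.span (Set.range f)).map φ := by
  rw [Ideal.map_span]
  congr 1
  ext x
  simp [Set.mem_image]

/-- quasi-regular sequences are preserved by flat ring maps. -/
theorem isQuasiRegular_map (hφ : φ.Flat) {c : ℕ} (f : Fin c → B) (h : CAlgX.IsQuasiRegular f) :
    CAlgX.IsQuasiRegular (fun i => φ (f i)) := by
  classical
  algebraize [φ]
  rw [isQuasiRegular_iff] at h ⊢
  intro n c' hc' d₀
  obtain ⟨q', hq'⟩ := (mem_pow_iff _ (n + 1) _).mp hc'
  -- the relation over `expos c n ⊕ expos c (n+1)`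
  let F : (expos c n) ⊕ (expos c (n + 1)) → B := Sum.elim (fun d => mon f d) (fun e => - mon f e)
  let x : (expos c n) ⊕ (expos c (n + 1)) → B' := Sum.elim c' q'
  have hrel : ∑ i, F i • x i = 0 := by
    rw [Fintype.sum_sum_type]
    simp only [F, x, Sum.elim_inl, Sum.elim_inr]
    rw [monComb_apply, monComb_apply] at hq'
    have e1 : ∑ d : expos c n, mon f d • c' d = ∑ d : expos c n, c' d * mon (fun i => φ (f i)) d :=
      Finset.sum_congr rfl fun d _ => by
        rw [mon_map, Algebra.smul_def, mul_comm]; rfl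
    have e2 : ∑ e : expos c (n + 1), (- mon f e) • q' e =
        - ∑ e : expos c (n + 1), q' e * mon (fun i => φ (f i)) e := by
      rw [← Finset.sum_neg_distrib]
      refine Finset.sum_congr rfl fun e _ => ?_
      rw [mon_map, Algebra.smul_def, map_neg, neg_mul, mul_comm]; rfl
    rw [e1, e2, hq', add_neg_cancel]
  obtain ⟨k, a, y, hx, hcol⟩ :=
    Module.Flat.isTrivialRelation_of_sum_smul_eq_zero (R := B) (M := B') (f := F) (x := x) hrel
  -- each column of coefficients lies in `J`
  have hJ : ∀ (j : Fin k) (d : expos c n), a (Sum.inl d) j ∈ Ideal.span (Set.range f) := by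
    intro j
    refine h n (fun d => a (Sum.inl d) j) ?_
    have hj := hcol j
    rw [Fintype.sum_sum_type] at hj
    simp only [F, Sum.elim_inl, Sum.elim_inr] at hj
    have e3 : monComb f n (fun d => a (Sum.inl d) j) =
        monComb f (n + 1) (fun e => a (Sum.inr e) j) := by
      rw [monComb_apply, monComb_apply]
      have : ∑ d : expos c n, a (Sum.inl d) j * mon f d =
          ∑ d : expos c n, mon f d * a (Sum.inl d) j :=
        Finset.sum_congr rfl fun d _ => mul_comm _ _
      rw [this]
      have h2 : ∑ e : expos c (n + 1), a (Sum.inr e) j * mon f e =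
          - ∑ e : expos c (n + 1), - mon f e * a (Sum.inr e) j := by
        rw [← Finset.sum_neg_distrib]
        exact Finset.sum_congr rfl fun e _ => by ring
      rw [h2]
      exact eq_neg_of_add_eq_zero_left hj
    rw [e3]
    exact monComb_mem_pow f (n + 1) _
  have hd : c' d₀ = ∑ j, a (Sum.inl d₀) j • y j := hx (Sum.inl d₀)
  rw [hd, span_range_map]
  refine Ideal.sum_mem _ fun j _ => ?_
  rw [Algebra.smul_def]
  exact Ideal.mul_mem_right _ _ (Ideal.mem_map_of_mem φ (hJ j d₀))

lemma get_map (rs : List B) :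
    (rs.map φ).get = fun i => φ (rs.get (Fin.cast (List.length_map φ) i)) := by
  funext i
  simp

lemma isH1Regular_cast {R : Type u} [CommRing R] {c c' : ℕ} (hc : c' = c) (f : Fin c → R)
    (h : CAlgX.IsH1Regular f) : CAlgX.IsH1Regular (fun i : Fin c' => f (Fin.cast hc i)) := by
  subst hc
  exact h

lemma isQuasiRegular_cast {R : Type u} [CommRing R] {c c' : ℕ} (hc : c' = c) (f : Fin c → R)
    (h : CAlgX.IsQuasiRegular f) : CAlgX.IsQuasiRegular (fun i : Fin c' => f (Fin.cast hc i)) := by
  subst hc
  exact h

/-- all four kinds of regular sequences are preserved by flat ring maps (for the kind `regular`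
one needs the extended ideal to be proper). -/
theorem kindSeq_map (k : RegImm.Kind) (hφ : φ.Flat) (rs : List B) (h : k.Seq B rs)
    (hne : Ideal.ofList (rs.map φ) ≠ ⊤) : k.Seq B' (rs.map φ) := by
  cases k with
  | regular =>
    algebraize [φ]
    have h' : RingTheory.Sequence.IsRegular B rs := h
    refine ⟨RingTheory.Sequence.IsWeaklyRegular.of_flat h'.toIsWeaklyRegular, ?_⟩
    rw [smul_eq_mul, Ideal.mul_top]
    exact fun h => hne h.symm
  | koszul => exact KoszulFlat.isKoszulRegularSeq_map φ hφ rs h
  | h1 =>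
    have h' : CAlgX.IsH1Regular rs.get := h
    show CAlgX.IsH1Regular (rs.map φ).get
    rw [get_map]
    exact isH1Regular_cast (List.length_map φ) (fun i => φ (rs.get i))
      (isH1Regular_map φ hφ rs.get h')
  | quasi =>
    have h' : CAlgX.IsQuasiRegular rs.get := h
    show CAlgX.IsQuasiRegular (rs.map φ).get
    rw [get_map]
    exact isQuasiRegular_cast (List.length_map φ) (fun i => φ (rs.get i))
      (isQuasiRegular_map φ hφ rs.get h')

end Groth.Agent.Lib.Helper10.RegSeqFlat
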