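import Mathlib
import Groth.Prelude.Def_RegImm

/-!
# Base change of immersions that are closed over an affine open: kernel of sections

For a pullback square `Z' = Z ×_X X'`, an affine open `U ⊆ X` over which `i : Z ⟶ X` is a closed
immersion and an affine open `U' ⊆ g⁻¹ U` of `X'`, the base change `i'` is a closed immersion over
`U'` and the kernel of `Γ(X', U') → Γ(Z', i'⁻¹ U')` is generated by the image of the kernel of
`Γ(X, U) → Γ(Z, i⁻¹ U)`.
-/

set_option autoImplicit false
universe u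

namespace Groth.Agent.Lib.Helper10.RegImmBaseChange

open AlgebraicGeometry CategoryTheory CategoryTheory.Limits

/-- a morphism whose restriction over an affine open is a closed immersion is surjective on
sections there, with affine preimage. -/
theorem app_surjective_of_restrict {Z P : Scheme.{u}} (i : Z ⟶ P) (W : P.Opens)
    (hW : IsAffineOpen W) (hcl : IsClosedImmersion (i ∣_ W)) :
    IsAffineOpen (i ⁻¹ᵁ W) ∧ Function.Surjective (i.app W).hom := by
  haveI : IsAffine (W : Scheme.{u}) := hW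
  obtain ⟨h1, h2⟩ := (HasAffineProperty.iff_of_isAffine (P := @IsClosedImmersion)).mp hcl
  refine ⟨h1, ?_⟩
  have h3 : Function.Surjective ((i ∣_ W).app ⊤).hom := h2
  rw [morphismRestrict_app] at h3
  have h4 : Function.Surjective (i.app (W.ι ''ᵁ ⊤)).hom := by
    intro s
    obtain ⟨r, hr⟩ := h3 ((Z.presheaf.map
      (eqToHom (image_morphismRestrict_preimage i W ⊤)).op).hom s)
    refine ⟨r, ?_⟩
    have hinj : Function.Injective (Z.presheaf.map
        (eqToHom (image_morphismRestrict_preimage i W ⊤)).op).hom :=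
      ((ConcreteCategory.isIso_iff_bijective _).1 inferInstance).1
    exact hinj hr
  have h5 : W.ι ''ᵁ ⊤ = W := by simp
  rw [h5] at h4
  exact h4

/-- ring-level: in a pushout square with surjective top map the kernel of the bottom map is the
extension of the kernel of the top map. -/
theorem ker_of_pushout {B C B' C' : Type u} [CommRing B] [CommRing C] [CommRing B'] [CommRing C']
    (π : B →+* C) (φ : B →+* B') (ψ : C →+* C') (π' : B' →+* C')
    (hπ : Function.Surjective π) (comm : π'.comp φ = ψ.comp π)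
    (hP : ∀ (Q : Type u) [CommRing Q] (h : C →+* Q) (k : B' →+* Q), h.comp π = k.comp φ →
      ∃ σ : C' →+* Q, σ.comp π' = k) :
    RingHom.ker π' = (RingHom.ker π).map φ := by
  apply le_antisymm
  · intro b' hb'
    let J : Ideal B' := (RingHom.ker π).map φ
    let q : B' →+* B' ⧸ J := Ideal.Quotient.mk J
    have hle : RingHom.ker π ≤ RingHom.ker (q.comp φ) := by
      intro b hb
      rw [RingHom.mem_ker, RingHom.comp_apply, Ideal.Quotient.eq_zero_iff_mem]
      exact Ideal.mem_map_of_mem φ hb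
    let τ : C →+* B' ⧸ J := RingHom.liftOfSurjective π hπ ⟨q.comp φ, hle⟩
    have hτ : τ.comp π = q.comp φ := RingHom.liftOfRightInverse_comp _ _ _ _
    obtain ⟨σ, hσ⟩ := hP (B' ⧸ J) τ q hτ
    have : q b' = 0 := by
      rw [← hσ, RingHom.comp_apply, (RingHom.mem_ker).mp hb', map_zero]
    exact Ideal.Quotient.eq_zero_iff_mem.mp this
  · rw [Ideal.map_le_iff_le_comap]
    intro b hb
    rw [Ideal.mem_comap, RingHom.mem_ker, ← RingHom.comp_apply, comm, RingHom.comp_apply,
      (RingHom.mem_ker).mp hb, map_zero]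

section Square

variable {Z X Z' X' : Scheme.{u}} {i : Z ⟶ X} {g : X' ⟶ X} {i' : Z' ⟶ X'} {g' : Z' ⟶ Z}

theorem preimage_le (H : IsPullback g' i' i g) {U : X.Opens} {U' : X'.Opens}
    (e : U' ≤ g ⁻¹ᵁ U) : i' ⁻¹ᵁ U' ≤ g' ⁻¹ᵁ (i ⁻¹ᵁ U) := by
  have h1 : i' ⁻¹ᵁ U' ≤ i' ⁻¹ᵁ (g ⁻¹ᵁ U) := i'.preimage_mono e
  rw [← Scheme.Hom.comp_preimage, ← H.w, Scheme.Hom.comp_preimage] at h1
  exact h1

theorem preimage_eq (H : IsPullback g' i' i g) {U : X.Opens} {U' : X'.Opens}
    (e : U' ≤ g ⁻¹ᵁ U) : i' ⁻¹ᵁ U' = g' ⁻¹ᵁ (i ⁻¹ᵁ U) ⊓ i' ⁻¹ᵁ U' :=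
  (inf_eq_right.mpr (preimage_le H e)).symm

/-- the square of restrictions is a pullback. -/
theorem isPullback_restrict (H : IsPullback g' i' i g) {U : X.Opens} {U' : X'.Opens}
    (e : U' ≤ g ⁻¹ᵁ U) :
    IsPullback (g'.resLE (i ⁻¹ᵁ U) (i' ⁻¹ᵁ U') (preimage_le H e)) (i' ∣_ U') (i ∣_ U)
      (g.resLE U U' e) := by
  have := Scheme.Hom.isPullback_resLE H e (le_refl (i ⁻¹ᵁ U)) (preimage_eq H e)
  simpa only [Scheme.Hom.resLE_eq_morphismRestrict] using this

theorem isClosedImmersion_restrict (H : IsPullback g' i' i g) {U : X.Opens} {U' : X'.Opens}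
    (e : U' ≤ g ⁻¹ᵁ U) (hcl : IsClosedImmersion (i ∣_ U)) : IsClosedImmersion (i' ∣_ U') :=
  MorphismProperty.of_isPullback (P := @IsClosedImmersion) (isPullback_restrict H e) hcl

/-- the kernel of sections of the base change is the extension of the kernel of sections. -/
theorem ker_app_eq_map (H : IsPullback g' i' i g) {U : X.Opens} {U' : X'.Opens}
    (hU : IsAffineOpen U) (hU' : IsAffineOpen U') (e : U' ≤ g ⁻¹ᵁ U)
    (hcl : IsClosedImmersion (i ∣_ U)) :
    RingHom.ker (i'.app U').hom = (RingHom.ker (i.app U).hom).map (g.appLE U U' e).hom := by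
  obtain ⟨hZU, hsurj⟩ := app_surjective_of_restrict i U hU hcl
  have hiso := isIso_pushoutSection_of_isAffineOpen H e (le_refl _) (preimage_eq H e) hU hU' hZU
  have hpo := (isIso_pushoutSection_iff H e (le_refl _) (preimage_eq H e)).mp hiso
  rw [Scheme.Hom.appLE_eq_app, Scheme.Hom.appLE_eq_app] at hpo
  refine ker_of_pushout (i.app U).hom (g.appLE U U' e).hom
    (g'.appLE (i ⁻¹ᵁ U) (i' ⁻¹ᵁ U') (preimage_le H e)).hom (i'.app U').hom hsurj ?_ ?_
  · have := hpo.w
    rw [← CommRingCat.hom_comp, ← CommRingCat.hom_comp, this]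
  · intro Q _ h k hk
    have w : i.app U ≫ CommRingCat.ofHom h = g.appLE U U' e ≫ CommRingCat.ofHom k := by
      ext x
      exact congrArg (fun m => m x) hk
    refine ⟨(hpo.desc (CommRingCat.ofHom h) (CommRingCat.ofHom k) w).hom, ?_⟩
    have := hpo.inr_desc (CommRingCat.ofHom h) (CommRingCat.ofHom k) w
    rw [← CommRingCat.hom_comp, this]
    rfl

end Square

section Main

variable {Z X Z' X' : Scheme.{u}} {i : Z ⟶ X} {g : X' ⟶ X} {i' : Z' ⟶ X'} {g' : Z' ⟶ Z}

/-- Flat base change of regular immersions of kind `k`, given the ring-level statement: the kind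
is preserved by flat ring maps (when the extended ideal is proper). -/
theorem isRegularImmersion_of_isPullback (k : RegImm.Kind) (H : IsPullback g' i' i g) [Flat g]
    (hk : ∀ {B B' : Type u} [CommRing B] [CommRing B'] (φ : B →+* B'), φ.Flat →
      ∀ rs : List B, k.Seq B rs → Ideal.ofList (rs.map φ) ≠ ⊤ → k.Seq B' (rs.map φ))
    (hi : RegImm.IsRegularImmersion k i) : RegImm.IsRegularImmersion k i' := by
  haveI := hi.1
  refine ⟨MorphismProperty.of_isPullback (P := @IsImmersion) H hi.1, fun z' => ?_⟩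
  obtain ⟨U, hU, hcl, rs, hrs, hker⟩ := hi.2 (g' z')
  have hpt : g (i' z') = i (g' z') := by
    rw [← Scheme.Hom.comp_apply, ← Scheme.Hom.comp_apply, H.w]
  have hmem : i' z' ∈ g ⁻¹ᵁ U.1 := by
    show g (i' z') ∈ U.1
    rw [hpt]; exact hU
  obtain ⟨_, ⟨U', hU', rfl⟩, hz', hle⟩ := X'.isBasis_affineOpens.exists_subset_of_mem_open
    hmem (g ⁻¹ᵁ U.1).2
  have e : U' ≤ g ⁻¹ᵁ U.1 := hle
  have hker' := ker_app_eq_map H U.2 hU' e hcl
  rw [hker, Ideal.map_ofList] at hker'
  refine ⟨⟨U', hU'⟩, hz', isClosedImmersion_restrict H e hcl, rs.map (g.appLE U.1 U' e).hom,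
    hk _ (Flat.flat_appLE g U.2 hU' e) rs hrs ?_, hker'⟩
  -- properness: the point `z'` lies in the preimage
  rw [← hker']
  intro htop
  have h1 : (1 : Γ(X', U')) ∈ RingHom.ker (i'.app U').hom := by rw [htop]; trivial
  rw [RingHom.mem_ker, map_one] at h1
  have hsub : Subsingleton Γ(Z', i' ⁻¹ᵁ U') := subsingleton_of_zero_eq_one h1.symm
  have hne : Nonempty ((i' ⁻¹ᵁ U' : Z'.Opens) : Scheme.{u}) := ⟨⟨z', hz'⟩⟩
  have : Nontrivial Γ(Z', i' ⁻¹ᵁ U') := by
    have := (Scheme.component_nontrivial Z' (i' ⁻¹ᵁ U'))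
    exact this
  exact not_subsingleton _ hsub

end Main

end Groth.Agent.Lib.Helper10.RegImmBaseChange
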