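import Mathlib
import Groth.Prelude.Def_RegImm
import Groth.Agent.Lib.Helper47.H1RegularBaseChange
import Groth.Agent.Lib.Helper47.QuasiRegularBaseChange
import Groth.Agent.Lib.Helper10.RegSeqFlat
import Groth.Agent.Lib.Helper10.RegImmBaseChange
import Groth.Agent.H8.QuasiRegFlat

/-!
# Arbitrary base change of relative `H_1`-regular / quasi-regular immersions
-/

set_option autoImplicit false
universe u

namespace Groth.Agent.Lib.Helper10.RelRegBaseChange

open CategoryTheory CategoryTheory.Limits AlgebraicGeometry TopologicalSpace TensorProduct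
open Groth.Agent.Lib.Helper10.RegSeqFlat Groth.Agent.Lib.Helper47
open Groth.Agent.Lib.Helper10.RegImmBaseChange

section Ring

variable {A B A' B' : Type u} [CommRing A] [CommRing B] [CommRing A'] [CommRing B']

set_option maxHeartbeats 400000 in
/-- the comparison iso. -/
theorem exists_equiv_of_isPushout (α : A →+* B) (β : A →+* A') (γ : B →+* B') (δ : A' →+* B')
    (H : IsPushout (CommRingCat.ofHom α) (CommRingCat.ofHom β) (CommRingCat.ofHom γ)
      (CommRingCat.ofHom δ)) :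
    letI := α.toAlgebra
    letI := β.toAlgebra
    ∃ ψ : (A' ⊗[A] B) →+* B', Function.Bijective ψ ∧ ∀ b : B, ψ ((1 : A') ⊗ₜ[A] b) = γ b := by
  letI := α.toAlgebra
  letI := β.toAlgebra
  have T := CommRingCat.isPushout_tensorProduct A A' B
  let e := T.isoIsPushout _ _ H.flip
  refine ⟨e.hom.hom, ConcreteCategory.bijective_of_isIso e.hom, fun b => ?_⟩
  have := IsPushout.inr_isoIsPushout_hom _ _ T H.flip
  exact congrArg (fun φ => φ.hom b) this

theorem kindSeq_of_isPushout (α : A →+* B) (β : A →+* A') (γ : B →+* B') (δ : A' →+* B')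
    (H : IsPushout (CommRingCat.ofHom α) (CommRingCat.ofHom β) (CommRingCat.ofHom γ)
      (CommRingCat.ofHom δ))
    (k : RegImm.Kind) (hk : k = RegImm.Kind.h1 ∨ k = RegImm.Kind.quasi) (rs : List B)
    (hrs : k.Seq B rs)
    (hflat : letI := α.toAlgebra; Module.Flat A (B ⧸ Ideal.ofList rs)) :
    k.Seq B' (rs.map γ) := by
  letI := α.toAlgebra
  letI := β.toAlgebra
  obtain ⟨ψ, hbij, he⟩ := exists_equiv_of_isPushout α β γ δ H
  have heflat : ψ.Flat := RingHom.Flat.of_bijective hbij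
  have hspan : Ideal.span (Set.range rs.get) = Ideal.ofList rs := by
    rw [Set.range_list_get, Ideal.ofList]
  have hflat' : Module.Flat A (B ⧸ Ideal.span (Set.range rs.get)) := by
    rw [hspan]; exact hflat
  let F : Fin rs.length → A' ⊗[A] B := fun i => (1 : A') ⊗ₜ[A] rs.get i
  have hF : (fun i => ψ (F i)) = fun i => γ (rs.get i) := funext fun i => he _
  rcases hk with rfl | rfl
  · have h1 : CAlgX.IsH1Regular rs.get := hrs
    have h2 : CAlgX.IsH1Regular F := isH1Regular_baseChange (A' := A') rs.get hflat' h1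
    have h3 := isH1Regular_map ψ heflat F h2
    rw [hF] at h3
    change CAlgX.IsH1Regular (rs.map γ).get
    rw [get_map]
    exact isH1Regular_cast (List.length_map γ) (fun i => γ (rs.get i)) h3
  · have h1 : CAlgX.IsQuasiRegular rs.get := hrs
    have h2 : CAlgX.IsQuasiRegular F := isQuasiRegular_baseChange (A' := A') rs.get hflat' h1
    have h3 : CAlgX.IsQuasiRegular (fun i => ψ (F i)) := isQuasiRegular_map ψ heflat F h2
    rw [hF] at h3
    change CAlgX.IsQuasiRegular (rs.map γ).get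
    rw [get_map]
    exact isQuasiRegular_cast (List.length_map γ) (fun i => γ (rs.get i)) h3

end Ring

section Shrink

/-- the data of a regular immersion at a point can be restricted to a smaller affine open. -/
theorem shrink {Z X : Scheme.{u}} (i : Z ⟶ X) (k : RegImm.Kind) (z : Z) (U : X.affineOpens)
    (hU : i z ∈ U.1) (hcl : IsClosedImmersion (i ∣_ U.1)) (rs : List Γ(X, U.1))
    (hrs : k.Seq Γ(X, U.1) rs) (hker : RingHom.ker (i.app U.1).hom = Ideal.ofList rs)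
    (W : X.Opens) (hW : i z ∈ W) :
    ∃ U₀ : X.affineOpens, i z ∈ U₀.1 ∧ U₀.1 ≤ U.1 ⊓ W ∧ IsClosedImmersion (i ∣_ U₀.1) ∧
      ∃ rs₀ : List Γ(X, U₀.1), rs₀.length = rs.length ∧ k.Seq Γ(X, U₀.1) rs₀ ∧
        RingHom.ker (i.app U₀.1).hom = Ideal.ofList rs₀ := by
  have hmem : i z ∈ U.1 ⊓ W := ⟨hU, hW⟩
  obtain ⟨_, ⟨U₀, hU₀, rfl⟩, hz₀, hle⟩ := X.isBasis_affineOpens.exists_subset_of_mem_open
    hmem (U.1 ⊓ W).2
  have e : U₀ ≤ (𝟙 X) ⁻¹ᵁ U.1 := fun x hx => (hle hx).1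
  have Hi : IsPullback (𝟙 Z) i i (𝟙 X) := IsPullback.of_horiz_isIso ⟨by simp⟩
  have hcl₀ : IsClosedImmersion (i ∣_ U₀) := isClosedImmersion_restrict Hi e hcl
  have hker₀ := ker_app_eq_map Hi U.2 hU₀ e hcl
  rw [hker, Ideal.map_ofList] at hker₀
  refine ⟨⟨U₀, hU₀⟩, hz₀, hle, hcl₀, rs.map (Scheme.Hom.appLE (𝟙 X) U.1 U₀ e).hom,
    List.length_map _, kindSeq_map _ k (Flat.flat_appLE (𝟙 X) U.2 hU₀ e) rs hrs ?_, hker₀⟩
  rw [← hker₀]
  intro htop
  have h1 : (1 : Γ(X, U₀)) ∈ RingHom.ker (i.app U₀).hom := by rw [htop]; trivial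
  rw [RingHom.mem_ker, map_one] at h1
  have hsub : Subsingleton Γ(Z, i ⁻¹ᵁ U₀) := subsingleton_of_zero_eq_one h1.symm
  have hne : Nonempty ((i ⁻¹ᵁ U₀ : Z.Opens) : Scheme.{u}) := ⟨⟨z, hz₀⟩⟩
  have : Nontrivial Γ(Z, i ⁻¹ᵁ U₀) := Scheme.component_nontrivial Z (i ⁻¹ᵁ U₀)
  exact not_subsingleton _ hsub

end Shrink

section Main

variable {Z X S S' : Scheme.{u}}

/-- base change of relative `H_1`-regular / quasi-regular immersions. -/
theorem relRegularImmersion_baseChange (f : X ⟶ S) (i : Z ⟶ X) (k : RegImm.Kind)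
    (hk : k = RegImm.Kind.h1 ∨ k = RegImm.Kind.quasi) (hi : RegImm.IsRelRegularImmersion k f i)
    (g : S' ⟶ S) :
    RegImm.IsRelRegularImmersion k (pullback.snd f g)
      (pullback.snd i (pullback.fst f g)) := by
  have H1 : IsPullback (pullback.fst i (pullback.fst f g)) (pullback.snd i (pullback.fst f g)) i
      (pullback.fst f g) := IsPullback.of_hasPullback _ _
  have H2 : IsPullback (pullback.fst f g) (pullback.snd f g) f g := IsPullback.of_hasPullback _ _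
  generalize pullback.fst i (pullback.fst f g) = r at H1
  generalize pullback.snd i (pullback.fst f g) = i' at H1 ⊢
  generalize pullback.fst f g = p at *
  generalize pullback.snd f g = q at *
  obtain ⟨⟨himm, hreg⟩, hflat⟩ := hi
  haveI := hflat
  refine ⟨⟨MorphismProperty.of_isPullback (P := @IsImmersion) H1 himm, fun z' => ?_⟩,
    MorphismProperty.of_isPullback (P := @Flat) (H1.paste_vert H2) hflat⟩
  obtain ⟨U, hU, hcl, rs, hrs, hker⟩ := hreg (r z')
  have hx : p (i' z') = i (r z') := by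
    rw [← Scheme.Hom.comp_apply, ← Scheme.Hom.comp_apply, H1.w]
  have hs : g (q (i' z')) = f (p (i' z')) := by
    have := congrArg (fun φ : pullback f g ⟶ S => φ (i' z')) H2.w
    simpa using this.symm
  obtain ⟨_, ⟨V, hV, rfl⟩, hsV, -⟩ := S.isBasis_affineOpens.exists_subset_of_mem_open
    (Set.mem_univ (f (i (r z')))) isOpen_univ
  have hmem' : q (i' z') ∈ g ⁻¹ᵁ V := by
    show g (q (i' z')) ∈ V
    rw [hs, hx]; exact hsV
  obtain ⟨_, ⟨V', hV', rfl⟩, hsV', hleV'⟩ := S'.isBasis_affineOpens.exists_subset_of_mem_open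
    hmem' (g ⁻¹ᵁ V).2
  obtain ⟨U₀, hzU₀, hleU₀, hcl₀, rs₀, -, hrs₀, hker₀⟩ :=
    shrink i k (r z') U hU hcl rs hrs hker (f ⁻¹ᵁ V) hsV
  have hUST : V' ≤ g ⁻¹ᵁ V := hleV'
  have hUSX : U₀.1 ≤ f ⁻¹ᵁ V := hleU₀.trans inf_le_right
  have hiso := isIso_pushoutSection_of_isAffineOpen H2 hUST hUSX
    (rfl : p ⁻¹ᵁ U₀.1 ⊓ q ⁻¹ᵁ V' = _) hV hV' U₀.2
  have hpo := (isIso_pushoutSection_iff H2 hUST hUSX rfl).mp hiso
  have hU'aff : IsAffineOpen (p ⁻¹ᵁ U₀.1 ⊓ q ⁻¹ᵁ V') := by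
    have : IsAffine V := hV
    have : IsAffine V' := hV'
    have : IsAffine U₀.1 := U₀.2
    exact .of_isIso (Scheme.Hom.isPullback_resLE H2 hUST hUSX rfl).isoPullback.hom
  have e : p ⁻¹ᵁ U₀.1 ⊓ q ⁻¹ᵁ V' ≤ p ⁻¹ᵁ U₀.1 := inf_le_left
  have hker' := ker_app_eq_map H1 U₀.2 hU'aff e hcl₀
  rw [hker₀, Ideal.map_ofList] at hker'
  obtain ⟨hZaff, hsurj⟩ := app_surjective_of_restrict i U₀.1 U₀.2 hcl₀
  refine ⟨⟨_, hU'aff⟩, ⟨by show p (i' z') ∈ U₀.1; rw [hx]; exact hzU₀, hsV'⟩,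
    isClosedImmersion_restrict H1 e hcl₀, rs₀.map (p.appLE U₀.1 _ e).hom, ?_, hker'⟩
  refine kindSeq_of_isPushout (f.appLE V U₀.1 hUSX).hom (g.appLE V V' hUST).hom
    (p.appLE U₀.1 _ e).hom (q.appLE V' _ inf_le_right).hom hpo k hk rs₀ hrs₀ ?_
  refine Groth.Agent.H8.QuasiRegFlat.flat_quotient_of_flat_comp _ (i.app U₀.1).hom hsurj _
    hker₀.symm ?_
  have hle : i ⁻¹ᵁ U₀.1 ≤ (i ≫ f) ⁻¹ᵁ V := fun y hy => hUSX hy
  have hfl := Flat.flat_appLE (i ≫ f) hV hZaff hle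
  have heq : f.appLE V U₀.1 hUSX ≫ i.app U₀.1 = (i ≫ f).appLE V (i ⁻¹ᵁ U₀.1) hle := by
    rw [Scheme.Hom.app_eq_appLE, Scheme.Hom.appLE_comp_appLE]
  rw [← heq] at hfl
  exact hfl

end Main

end Groth.Agent.Lib.Helper10.RelRegBaseChange
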