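import Mathlib
import Groth.Prelude.Def_LCI2
import Groth.Agent.Lib.Helper10.KoszulH1
import Groth.Agent.Lib.Helper10.KoszulFlat

/-!
# Permutation invariance of the (mapping-cone) Koszul complex
-/

set_option autoImplicit false
universe u

namespace Groth.Agent.Lib.Helper10.KoszulPerm

open CategoryTheory CategoryTheory.Limits CochainComplex HomComplex
open Groth.Agent.Lib.Helper10.KoszulH1

variable {A : Type u} [CommRing A]

section ConeAPI

variable (K : CochainComplex (ModuleCat.{u} A) ℤ) (f : A)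

/-- the element `(u, v)` of the cone in degree `n`. -/
noncomputable def mk (n : ℤ) (u : K.X (n + 1)) (v : K.X n) : (mappingCone (f • 𝟙 K)).X n :=
  Inl K f (n + 1) n (by omega) u + Inr K f n v

@[simp] lemma Fst_mk (n : ℤ) (u : K.X (n + 1)) (v : K.X n) :
    Fst K f n (n + 1) rfl (mk K f n u v) = u := by
  rw [mk, map_add, Fst_Inl, Fst_Inr, add_zero]

@[simp] lemma Snd_mk (n : ℤ) (u : K.X (n + 1)) (v : K.X n) :
    Snd K f n (mk K f n u v) = v := by
  rw [mk, map_add, Snd_Inl, Snd_Inr, zero_add]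

lemma mk_Fst_Snd (n : ℤ) (z : (mappingCone (f • 𝟙 K)).X n) :
    mk K f n (Fst K f n (n + 1) rfl z) (Snd K f n z) = z :=
  decomp K f n (n + 1) rfl z

lemma cone_ext (n : ℤ) (z z' : (mappingCone (f • 𝟙 K)).X n)
    (h1 : Fst K f n (n + 1) rfl z = Fst K f n (n + 1) rfl z') (h2 : Snd K f n z = Snd K f n z') :
    z = z' := by
  rw [← mk_Fst_Snd K f n z, ← mk_Fst_Snd K f n z', h1, h2]

/-- the differential of the cone in degree `n`, as a linear map. -/
noncomputable abbrev dC (n : ℤ) :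
    (mappingCone (f • 𝟙 K)).X n →ₗ[A] (mappingCone (f • 𝟙 K)).X (n + 1) :=
  ((mappingCone (f • 𝟙 K)).d n (n + 1)).hom

noncomputable abbrev dK (n : ℤ) : K.X n →ₗ[A] K.X (n + 1) := (K.d n (n + 1)).hom

@[simp] lemma Fst_dC (n : ℤ) (z : (mappingCone (f • 𝟙 K)).X n) :
    Fst K f (n + 1) (n + 1 + 1) rfl (dC K f n z) = - dK K (n + 1) (Fst K f n (n + 1) rfl z) :=
  Fst_d K f n (n + 1) (n + 1 + 1) rfl rfl z

@[simp] lemma Snd_dC (n : ℤ) (z : (mappingCone (f • 𝟙 K)).X n) :
    Snd K f (n + 1) (dC K f n z) = f • Fst K f n (n + 1) rfl z + dK K n (Snd K f n z) :=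
  Snd_d K f n (n + 1) rfl z

end ConeAPI

section Swap

variable (K : CochainComplex (ModuleCat.{u} A) ℤ) (a b : A)

/-- the swap `cone_a (cone_b K) → cone_b (cone_a K)` in degree `n`:
`(u₁, u₂, v₁, v₂) ↦ (-u₁, v₁, u₂, v₂)`. -/
noncomputable def swapL (n : ℤ) :
    (mappingCone (a • 𝟙 (mappingCone (b • 𝟙 K)))).X n →ₗ[A]
      (mappingCone (b • 𝟙 (mappingCone (a • 𝟙 K)))).X n :=
  (Inl (mappingCone (a • 𝟙 K)) b (n + 1) n (by omega)) ∘ₗ
      ((Inl K a (n + 1 + 1) (n + 1) (by omega)) ∘ₗ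
          (-(Fst K b (n + 1) (n + 1 + 1) rfl ∘ₗ Fst (mappingCone (b • 𝟙 K)) a n (n + 1) rfl)) +
        (Inr K a (n + 1)) ∘ₗ (Fst K b n (n + 1) rfl ∘ₗ Snd (mappingCone (b • 𝟙 K)) a n)) +
    (Inr (mappingCone (a • 𝟙 K)) b n) ∘ₗ
      ((Inl K a (n + 1) n (by omega)) ∘ₗ
          (Snd K b (n + 1) ∘ₗ Fst (mappingCone (b • 𝟙 K)) a n (n + 1) rfl) +
        (Inr K a n) ∘ₗ (Snd K b n ∘ₗ Snd (mappingCone (b • 𝟙 K)) a n))

lemma swapL_apply (n : ℤ) (z : (mappingCone (a • 𝟙 (mappingCone (b • 𝟙 K)))).X n) :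
    swapL K a b n z =
      mk (mappingCone (a • 𝟙 K)) b n
        (mk K a (n + 1)
          (-(Fst K b (n + 1) (n + 1 + 1) rfl (Fst (mappingCone (b • 𝟙 K)) a n (n + 1) rfl z)))
          (Fst K b n (n + 1) rfl (Snd (mappingCone (b • 𝟙 K)) a n z)))
        (mk K a n (Snd K b (n + 1) (Fst (mappingCone (b • 𝟙 K)) a n (n + 1) rfl z))
          (Snd K b n (Snd (mappingCone (b • 𝟙 K)) a n z))) := by
  simp only [swapL, mk, LinearMap.add_apply, LinearMap.comp_apply, LinearMap.neg_apply]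

@[simp] lemma FF_swapL (n : ℤ) (z : (mappingCone (a • 𝟙 (mappingCone (b • 𝟙 K)))).X n) :
    Fst K a (n + 1) (n + 1 + 1) rfl
        (Fst (mappingCone (a • 𝟙 K)) b n (n + 1) rfl (swapL K a b n z)) =
      -(Fst K b (n + 1) (n + 1 + 1) rfl (Fst (mappingCone (b • 𝟙 K)) a n (n + 1) rfl z)) := by
  rw [swapL_apply, Fst_mk, Fst_mk]

@[simp] lemma SF_swapL (n : ℤ) (z : (mappingCone (a • 𝟙 (mappingCone (b • 𝟙 K)))).X n) :
    Snd K a (n + 1) (Fst (mappingCone (a • 𝟙 K)) b n (n + 1) rfl (swapL K a b n z)) =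
      Fst K b n (n + 1) rfl (Snd (mappingCone (b • 𝟙 K)) a n z) := by
  rw [swapL_apply, Fst_mk, Snd_mk]

@[simp] lemma FS_swapL (n : ℤ) (z : (mappingCone (a • 𝟙 (mappingCone (b • 𝟙 K)))).X n) :
    Fst K a n (n + 1) rfl (Snd (mappingCone (a • 𝟙 K)) b n (swapL K a b n z)) =
      Snd K b (n + 1) (Fst (mappingCone (b • 𝟙 K)) a n (n + 1) rfl z) := by
  rw [swapL_apply, Snd_mk, Fst_mk]

@[simp] lemma SS_swapL (n : ℤ) (z : (mappingCone (a • 𝟙 (mappingCone (b • 𝟙 K)))).X n) :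
    Snd K a n (Snd (mappingCone (a • 𝟙 K)) b n (swapL K a b n z)) =
      Snd K b n (Snd (mappingCone (b • 𝟙 K)) a n z) := by
  rw [swapL_apply, Snd_mk, Snd_mk]

lemma swapL_d (n : ℤ) (z : (mappingCone (a • 𝟙 (mappingCone (b • 𝟙 K)))).X n) :
    swapL K a b (n + 1) (dC (mappingCone (b • 𝟙 K)) a n z) =
      dC (mappingCone (a • 𝟙 K)) b n (swapL K a b n z) := by
  apply cone_ext
  · apply cone_ext
    · simp only [FF_swapL, Fst_dC, map_neg, neg_neg]
    · simp only [SF_swapL, Fst_dC, Snd_dC, map_neg, map_add, map_smul, FF_swapL]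
      module
  · apply cone_ext
    · simp only [FS_swapL, SF_swapL, FF_swapL, Fst_dC, Snd_dC, map_neg, map_add, map_smul]
      module
    · simp only [SS_swapL, FS_swapL, SF_swapL, FF_swapL, Fst_dC, Snd_dC, map_neg, map_add, map_smul]
      module

lemma swapL_swapL (n : ℤ) (z : (mappingCone (a • 𝟙 (mappingCone (b • 𝟙 K)))).X n) :
    swapL K b a n (swapL K a b n z) = z := by
  apply cone_ext
  · apply cone_ext
    · rw [FF_swapL, FF_swapL, neg_neg]
    · rw [SF_swapL, FS_swapL]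
  · apply cone_ext
    · rw [FS_swapL, SF_swapL]
    · rw [SS_swapL, SS_swapL]

/-- the swap as a morphism of complexes. -/
noncomputable def swapHom :
    mappingCone (a • 𝟙 (mappingCone (b • 𝟙 K))) ⟶ mappingCone (b • 𝟙 (mappingCone (a • 𝟙 K))) where
  f n := ModuleCat.ofHom (swapL K a b n)
  comm' i j hij := by
    obtain rfl : i + 1 = j := hij
    ext z
    exact (swapL_d K a b i z).symm

/-- **the cones of two multiplications commute.** -/
noncomputable def swapIso :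
    mappingCone (a • 𝟙 (mappingCone (b • 𝟙 K))) ≅ mappingCone (b • 𝟙 (mappingCone (a • 𝟙 K))) where
  hom := swapHom K a b
  inv := swapHom K b a
  hom_inv_id := by
    apply HomologicalComplex.hom_ext
    intro n
    ext z
    exact swapL_swapL K a b n z
  inv_hom_id := by
    apply HomologicalComplex.hom_ext
    intro n
    ext z
    exact swapL_swapL K b a n z

end Swap

section Perm

open Groth.Agent.Lib.Helper10.KoszulFlat

/-- the Koszul complex is invariant under permutations of the sequence. -/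
theorem nonempty_iso_of_perm {l l' : List A} (h : l.Perm l') :
    Nonempty (Koszul.koszul A l ≅ Koszul.koszul A l') := by
  induction h with
  | nil => exact ⟨Iso.refl _⟩
  | cons x _ ih =>
    obtain ⟨e⟩ := ih
    exact ⟨coneIso x e⟩
  | swap x y l => exact ⟨swapIso (Koszul.koszul A l) y x⟩
  | trans _ _ ih₁ ih₂ =>
    obtain ⟨e₁⟩ := ih₁
    obtain ⟨e₂⟩ := ih₂
    exact ⟨e₁ ≪≫ e₂⟩

theorem isZero_homology_of_perm {l l' : List A} (h : l.Perm l') (n : ℤ)
    (hz : IsZero ((Koszul.koszul A l).homology n)) : IsZero ((Koszul.koszul A l').homology n) := by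
  obtain ⟨e⟩ := nonempty_iso_of_perm h
  exact hz.of_iso ((HomologicalComplex.homologyFunctor _ _ n).mapIso e).symm

theorem isKoszulRegularSeq_of_perm {l l' : List A} (h : l.Perm l')
    (hl : LCI.IsKoszulRegularSeq A l) : LCI.IsKoszulRegularSeq A l' :=
  fun i hi => isZero_homology_of_perm h i (hl i hi)

end Perm

end Groth.Agent.Lib.Helper10.KoszulPerm
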