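import Mathlib
import Groth.Prelude.Def_LCI2
import Groth.Agent.Lib.Helper10.KoszulPerm
import Groth.Agent.Lib.Helper12.KoszulLES
import Groth.Agent.Lib.Helper12.KoszulTop
import Groth.Agent.Lib.Helper94.KoszulBridge
import Groth.Agent.S14433

/-!
# Koszul-regularity depends only on the ideal and the number of generators

If `f` is a Koszul-regular sequence and `g` is a sequence of the same length generating the same
ideal, then `g` is Koszul-regular.
-/

set_option autoImplicit false
universe u

namespace Groth.Agent.Lib.Helper10.KoszulGen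

open CategoryTheory CategoryTheory.Limits CochainComplex HomComplex
open Groth.Agent.Lib.Helper12.KoszulLES Groth.Agent.Lib.Helper10.KoszulPerm

section Peel

variable {C : Type*} [Category C] [Abelian C]

/-- if `φ` induces zero on cohomology, the cohomology of its cone vanishes in degree `n` exactly when
`H^n` of the target and `H^{n+1}` of the source vanish. -/
lemma isZero_homology_cone_iff {K L : CochainComplex C ℤ} (φ : K ⟶ L)
    (hφ : ∀ n, HomologicalComplex.homologyMap φ n = 0) (n : ℤ) :
    IsZero ((mappingCone φ).homology n) ↔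
      IsZero (L.homology n) ∧ IsZero (K.homology (n + 1)) := by
  obtain ⟨δ, w₃, w₁, h3, h1⟩ := cone_exact₃₁ φ n
  have h2 := cone_exact₂ φ n
  constructor
  · intro hz
    refine ⟨h2.isZero_X₂ (hφ n) (hz.eq_of_tgt _ _), h1.isZero_X₂ (hz.eq_of_src _ _) (hφ (n + 1))⟩
  · rintro ⟨hL, hK⟩
    exact h3.isZero_X₂ (hL.eq_of_src _ _) (hK.eq_of_tgt _ _)

end Peel

variable {A : Type u} [CommRing A]

lemma homologyMap_smul_id_eq_zero (l : List A) (y : A) (hy : y ∈ Ideal.ofList l) (n : ℤ) :
    HomologicalComplex.homologyMap (y • 𝟙 (Koszul.koszul A l)) n = 0 := by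
  have h := Groth.Agent.S14433.result (R := A) A l y hy
  rw [← Groth.Agent.Lib.Helper94.koszul_eq] at h
  obtain ⟨H⟩ := h
  rw [H.homologyMap_eq n, HomologicalComplex.homologyMap_zero]

/-- peeling off an element of the ideal generated by the rest. -/
lemma isZero_homology_cons_iff (l : List A) (y : A) (hy : y ∈ Ideal.ofList l) (n : ℤ) :
    IsZero ((Koszul.koszul A (y :: l)).homology n) ↔
      IsZero ((Koszul.koszul A l).homology n) ∧ IsZero ((Koszul.koszul A l).homology (n + 1)) :=
  isZero_homology_cone_iff _ (homologyMap_smul_id_eq_zero l y hy) n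

/-- iterated peeling. -/
lemma isZero_homology_append_iff (xs : List A) :
    ∀ (ys : List A), (∀ y ∈ ys, y ∈ Ideal.ofList xs) → ∀ n : ℤ,
      (IsZero ((Koszul.koszul A (ys ++ xs)).homology n) ↔
        ∀ j : ℕ, j ≤ ys.length → IsZero ((Koszul.koszul A xs).homology (n + j)))
  | [], _, n => by
    simp only [List.nil_append, List.length_nil, Nat.le_zero]
    constructor
    · rintro h j rfl
      simpa using h
    · intro h
      simpa using h 0 rfl
  | y :: ys, hys, n => by
    have hy : y ∈ Ideal.ofList (ys ++ xs) := by
      rw [Ideal.ofList_append]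
      exact Ideal.mem_sup_right (hys y (List.mem_cons_self))
    have ih := isZero_homology_append_iff xs ys (fun z hz => hys z (List.mem_cons_of_mem _ hz))
    change IsZero ((Koszul.koszul A (y :: (ys ++ xs))).homology n) ↔ _
    rw [isZero_homology_cons_iff _ y hy n, ih n, ih (n + 1)]
    constructor
    · rintro ⟨h0, h1⟩ j hj
      rcases j with _ | j
      · simpa using h0 0 (Nat.zero_le _)
      · have := h1 j (by simpa using hj)
        have e : n + ((j + 1 : ℕ) : ℤ) = n + 1 + (j : ℤ) := by push_cast; ring
        rw [e]; exact this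
    · intro h
      refine ⟨fun j hj => h j (by simp only [List.length_cons]; omega), fun j hj => ?_⟩
      have := h (j + 1) (by simpa using hj)
      have e : n + ((j + 1 : ℕ) : ℤ) = n + 1 + (j : ℤ) := by push_cast; ring
      rw [e] at this; exact this

lemma mem_ofList_of_mem {l : List A} {y : A} (hy : y ∈ l) : y ∈ Ideal.ofList l :=
  Ideal.subset_span hy

/-- **Koszul-regularity depends only on the ideal and the number of generators.** -/
theorem isKoszulRegularSeq_of_ofList_eq (f g : List A) (hf : LCI.IsKoszulRegularSeq A f)
    (hI : Ideal.ofList g = Ideal.ofList f) (hlen : g.length = f.length) :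
    LCI.IsKoszulRegularSeq A g := by
  intro n hn
  rcases lt_or_gt_of_ne hn with hneg | hpos
  · have h1 : ∀ m : ℤ, m < -(f.length : ℤ) →
        IsZero ((Koszul.koszul A (g ++ f)).homology m) := by
      intro m hm
      rw [isZero_homology_append_iff f g (fun y hy => hI ▸ mem_ofList_of_mem hy) m]
      intro j hj
      refine hf (m + j) ?_
      have : (j : ℤ) ≤ f.length := by exact_mod_cast hlen ▸ hj
      omega
    have h2 : ∀ m : ℤ, m < -(f.length : ℤ) →
        IsZero ((Koszul.koszul A (f ++ g)).homology m) := fun m hm =>
      isZero_homology_of_perm List.perm_append_comm m (h1 m hm)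
    have h3 := (isZero_homology_append_iff g f (fun y hy => hI.symm ▸ mem_ofList_of_mem hy)
      (n - f.length)).mp (h2 (n - f.length) (by omega)) f.length le_rfl
    have e : n - (f.length : ℤ) + (f.length : ℤ) = n := by ring
    rw [e] at h3
    exact h3
  · exact ShortComplex.isZero_homology_of_isZero_X₂ _
      (Groth.Agent.Lib.Helper10.KoszulH1.isZero_X_of_pos g n hpos)

end Groth.Agent.Lib.Helper10.KoszulGen
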