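import Mathlib
import Groth.Prelude.Def_LCI2
import Groth.Agent.Lib.Helper10.KoszulGen
import Groth.Agent.Lib.Helper10.KoszulH1

/-!
# Koszul-regular sequences are minimal generating sequences
-/

set_option autoImplicit false
universe u

namespace Groth.Agent.Lib.Helper10.KoszulMinGen

open Groth.Agent.Lib.Helper10.KoszulH1

variable {R : Type u} [CommRing R]

lemma triv_entries_mem {c : ℕ} (f : Fin c → R) (t : Fin c → R) (ht : t ∈ Triv f) (i : Fin c) :
    t i ∈ Ideal.span (Set.range f) := by
  induction ht using Submodule.span_induction with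
  | mem v hv =>
    obtain ⟨j, k, rfl⟩ := hv
    simp only [Pi.sub_apply, Pi.single_apply]
    refine Ideal.sub_mem _ ?_ ?_
    · split_ifs
      · exact Ideal.subset_span ⟨k, rfl⟩
      · exact Ideal.zero_mem _
    · split_ifs
      · exact Ideal.subset_span ⟨j, rfl⟩
      · exact Ideal.zero_mem _
  | zero => exact Ideal.zero_mem _
  | add x y _ _ hx hy => exact Ideal.add_mem _ hx hy
  | smul r x _ hx => exact Ideal.mul_mem_left _ r hx

lemma span_range_get (l : List R) : Ideal.span (Set.range l.get) = Ideal.ofList l := by
  rw [Set.range_list_get, Ideal.ofList]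

/-- an `H_1`-regular sequence generating a proper ideal has minimal length among generating
sequences. -/
theorem length_le_of_isH1Regular (f h : List R) (hf : CAlgX.IsH1Regular f.get)
    (hne : Ideal.ofList f ≠ ⊤) (hI : Ideal.ofList h = Ideal.ofList f) : f.length ≤ h.length := by
  classical
  set I := Ideal.ofList f with hIdef
  have hfI : Ideal.span (Set.range f.get) = I := span_range_get f
  have hhI : Ideal.span (Set.range h.get) = I := (span_range_get h).trans hI
  have hm : ∀ i : Fin f.length, ∃ m : Fin h.length → R, ∑ j, m j * h.get j = f.get i := fun i =>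
    Ideal.mem_span_range_iff_exists_fun.mp (by rw [hhI, ← hfI]; exact Ideal.subset_span ⟨i, rfl⟩)
  have hn : ∀ j : Fin h.length, ∃ n : Fin f.length → R, ∑ k, n k * f.get k = h.get j := fun j =>
    Ideal.mem_span_range_iff_exists_fun.mp (by rw [hfI, ← hhI]; exact Ideal.subset_span ⟨j, rfl⟩)
  choose m hm using hm
  choose n hn using hn
  haveI : Nontrivial (R ⧸ I) := Ideal.Quotient.nontrivial_iff.mpr hne
  let M : Matrix (Fin f.length) (Fin h.length) (R ⧸ I) := fun i j => Ideal.Quotient.mk I (m i j)
  let N : Matrix (Fin h.length) (Fin f.length) (R ⧸ I) := fun j k => Ideal.Quotient.mk I (n j k)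
  have hMN : M * N = 1 := by
    ext i k
    rw [Matrix.mul_apply, Matrix.one_apply]
    have hrel : ∑ k', (∑ j, m i j * n j k' - if i = k' then 1 else 0) * f.get k' = 0 := by
      simp only [sub_mul, Finset.sum_sub_distrib, Finset.sum_mul]
      rw [Finset.sum_comm]
      have h1 : ∑ y, ∑ x, m i y * n y x * f.get x = ∑ y, m i y * h.get y := by
        refine Finset.sum_congr rfl fun y _ => ?_
        rw [← hn y, Finset.mul_sum]
        refine Finset.sum_congr rfl fun x _ => ?_
        ring
      rw [h1, hm i]
      simp
    have hmem := triv_entries_mem f.get _ (hf _ hrel) k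
    rw [hfI] at hmem
    have h2 := Ideal.Quotient.eq_zero_iff_mem.mpr hmem
    rw [map_sub, map_sum] at h2
    simp only [map_mul] at h2
    rw [sub_eq_zero] at h2
    simp only [M, N]
    rw [h2]
    split_ifs <;> simp
  have hinj : Function.Injective (Matrix.mulVecLin N) := by
    intro x y hxy
    have := congrArg (Matrix.mulVecLin M) hxy
    simpa [Matrix.mulVec_mulVec, hMN] using this
  exact le_of_fin_injective (R ⧸ I) (Matrix.mulVecLin N) hinj

/-- a Koszul-regular sequence generating a proper ideal has minimal length among generating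
sequences. -/
theorem length_le_of_isKoszulRegularSeq (f h : List R) (hf : LCI.IsKoszulRegularSeq R f)
    (hne : Ideal.ofList f ≠ ⊤) (hI : Ideal.ofList h = Ideal.ofList f) : f.length ≤ h.length :=
  length_le_of_isH1Regular f h (isH1Regular_of_isKoszulRegularSeq f hf) hne hI

end Groth.Agent.Lib.Helper10.KoszulMinGen
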