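import Mathlib
import Groth.Prelude.Def_Fitting
import Groth.Agent.Lib.Helper10.Fitting

/-!
# Flat-local tools (helper10)

* `exists_smul_eq_zero_of_tmul_eq_zero`: if `R'` is flat over `R`, `𝔮'` a prime of `R'` and
  `x ⊗ 1 = 0` in `M ⊗ R'`, then `x` is killed by an element outside the contraction of `𝔮'`.
* the localization square `R → R_g → R'_{θ g} ← R'`.
* Fitting ideals of an extended ideal under a flat map; spreading out generators.
* `nearGen_of_flat`: if `J` is finitely generated, `θ : R → R'` flat, `𝔮'` a prime of `R'` and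
  `J R'` is generated by `r` elements, then `J` is generated by `r` elements on a basic open
  neighbourhood of the contraction of `𝔮'`.
-/

set_option autoImplicit false

namespace Groth.Agent.Lib.Helper10.FlatLocal

open TensorProduct

section Vanishing

variable {R : Type*} [CommRing R] {M : Type*} [AddCommGroup M] [Module R M]
variable {R' : Type*} [CommRing R'] [Algebra R R'] [Module.Flat R R']

/-- flat-local vanishing. -/
theorem exists_smul_eq_zero_of_tmul_eq_zero (𝔮' : Ideal R') [𝔮'.IsPrime] (x : M)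
    (hx : x ⊗ₜ[R] (1 : R') = 0) :
    ∃ s : R, s ∉ 𝔮'.comap (algebraMap R R') ∧ s • x = 0 := by
  have hm : Function.Injective (LinearMap.rTensor R'
      (Submodule.span R (Set.range (fun _ : Fin 1 => x))).subtype) :=
    Module.Flat.rTensor_preserves_injective_linearMap _ (Submodule.injective_subtype _)
  have hmn : ∑ i : Fin 1, (fun _ : Fin 1 => x) i ⊗ₜ[R] (fun _ : Fin 1 => (1 : R')) i = 0 := by
    simpa using hx
  obtain ⟨k, a, y, h1, h2⟩ :=
    TensorProduct.vanishesTrivially_of_sum_tmul_eq_zero_of_rTensor_injective R hm hmn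
  by_contra hcon
  have hall : ∀ j, a 0 j ∈ 𝔮'.comap (algebraMap R R') := by
    intro j
    by_contra hj
    apply hcon
    refine ⟨a 0 j, hj, ?_⟩
    simpa using h2 j
  have h1' : (1 : R') = ∑ j, a 0 j • y j := h1 0
  have : (1 : R') ∈ 𝔮' := by
    rw [h1']
    apply Ideal.sum_mem
    intro j _
    rw [Algebra.smul_def]
    exact Ideal.mul_mem_right _ _ (hall j)
  exact (Ideal.IsPrime.ne_top ‹_›) ((Ideal.eq_top_iff_one _).mpr this)

end Vanishing

section Square

universe u

variable {R R' : Type u} [CommRing R] [CommRing R'] (θ : R →+* R') (g : R)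

lemma awayMap_comp :
    (Localization.awayMap θ g).comp (algebraMap R (Localization.Away g)) =
      (algebraMap R' (Localization.Away (θ g))).comp θ :=
  IsLocalization.map_comp _

lemma awayMap_flat (hθ : θ.Flat) : (Localization.awayMap θ g).Flat :=
  RingHom.Flat.propertyIsLocal.localizationAwayPreserves θ g (Localization.Away g)
    (Localization.Away (θ g)) hθ

lemma map_awayMap (J : Ideal R) :
    (J.map (algebraMap R (Localization.Away g))).map (Localization.awayMap θ g) =
      (J.map θ).map (algebraMap R' (Localization.Away (θ g))) := by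
  rw [Ideal.map_map, Ideal.map_map, awayMap_comp]

/-- a prime of `R'` not containing `g` extends to the localization. -/
lemma exists_prime_away' (g' : R') (𝔮' : PrimeSpectrum R') (hg : g' ∉ 𝔮'.asIdeal) :
    ∃ 𝔮'' : PrimeSpectrum (Localization.Away g'),
      𝔮''.comap (algebraMap R' (Localization.Away g')) = 𝔮' := by
  have hdisj : Disjoint (Submonoid.powers g' : Set R') (𝔮'.asIdeal : Set R') := by
    rw [Set.disjoint_left]
    rintro _ ⟨n, rfl⟩ hmem
    exact hg (𝔮'.isPrime.mem_of_pow_mem n hmem)
  refine ⟨⟨𝔮'.asIdeal.map (algebraMap R' (Localization.Away g')),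
    IsLocalization.isPrime_of_isPrime_disjoint (Submonoid.powers g') _ _ 𝔮'.isPrime hdisj⟩, ?_⟩
  ext1
  exact IsLocalization.comap_map_of_isPrime_disjoint (Submonoid.powers g') _ 𝔮'.isPrime hdisj

/-- a prime of `R'` not containing `θ g` extends to the localization. -/
lemma exists_prime_away (𝔮' : PrimeSpectrum R') (hg : θ g ∉ 𝔮'.asIdeal) :
    ∃ 𝔮'' : PrimeSpectrum (Localization.Away (θ g)),
      𝔮''.comap (algebraMap R' (Localization.Away (θ g))) = 𝔮' :=
  exists_prime_away' (θ g) 𝔮' hg

/-- primes of `R_g` are determined by their contractions to `R`. -/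
lemma prime_away_ext (𝔭₁ 𝔭₂ : PrimeSpectrum (Localization.Away g))
    (h : 𝔭₁.comap (algebraMap R (Localization.Away g)) =
      𝔭₂.comap (algebraMap R (Localization.Away g))) : 𝔭₁ = 𝔭₂ :=
  PrimeSpectrum.localization_comap_injective (Localization.Away g) (Submonoid.powers g) h

end Square

section IdealFitting

open Groth.Agent.Lib.Helper10.Fitting

variable {R : Type*} [CommRing R] {S : Type*} [CommRing S] [Algebra R S]

/-- For a flat algebra, `S ⊗ J ≃ J S`. -/
noncomputable def idealTensorEquiv [Module.Flat R S] (I : Ideal R) :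
    S ⊗[R] I ≃ₗ[S] I.map (algebraMap R S) := by
  let f : S ⊗[R] I →ₗ[S] S :=
    (AlgebraTensorModule.rid _ _ _).toLinearMap ∘ₗ AlgebraTensorModule.lTensor S S I.subtype
  have hf : Function.Injective f := by
    simp only [f, LinearMap.coe_comp, LinearEquiv.coe_coe, EmbeddingLike.comp_injective]
    exact Module.Flat.lTensor_preserves_injective_linearMap _ (Submodule.injective_subtype _)
  have : I.map (algebraMap R S) = LinearMap.range f := by
    refine le_antisymm ?_ ?_
    · rw [Ideal.map_le_iff_le_comap]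
      intro x hx
      use 1 ⊗ₜ ⟨x, hx⟩
      simp [f, Algebra.smul_def]
    · rintro - ⟨x, rfl⟩
      induction x with
      | zero => simp
      | add _ _ _ _ => simp_all [Ideal.add_mem]
      | tmul s x =>
        have : f (s ⊗ₜ[R] x) = s • f (1 ⊗ₜ x) := by simp [f]
        rw [this]
        apply Ideal.mul_mem_left
        simpa [f, Algebra.smul_def] using Ideal.mem_map_of_mem _ x.2
  exact .ofInjective _ hf ≪≫ₗ .ofEq _ _ this.symm

theorem fitt_map_of_flat [Module.Flat R S] (I : Ideal R) (hI : I.FG) (k : ℕ) :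
    Fitt.ideal S (I.map (algebraMap R S)) k = (Fitt.ideal R I k).map (algebraMap R S) := by
  haveI : Module.Finite R I := Module.Finite.iff_fg.mpr hI
  rw [← fitt_baseChange S k]
  exact (fitt_congr (idealTensorEquiv I) k).symm

/-- a generating tuple of an ideal spans the ideal as a module. -/
lemma span_subtype_eq_top {A : Type*} [CommRing A] (K : Ideal A) {n : ℕ} (x : Fin n → A)
    (hx : K = Ideal.span (Set.range x)) (hmem : ∀ i, x i ∈ K) :
    Submodule.span A (Set.range (fun i => (⟨x i, hmem i⟩ : K))) = ⊤ := by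
  apply Submodule.map_injective_of_injective (Submodule.injective_subtype K)
  rw [Submodule.map_span, Submodule.map_top, Submodule.range_subtype, ← Set.range_comp]
  exact hx.symm

theorem fitt_eq_top_of_gen {A : Type*} [CommRing A] (K : Ideal A) {n : ℕ} (x : Fin n → A)
    (hx : K = Ideal.span (Set.range x)) {k : ℕ} (h : n ≤ k) : Fitt.ideal A K k = ⊤ := by
  have hmem : ∀ i, x i ∈ K := fun i => by
    rw [hx]
    exact Ideal.subset_span ⟨i, rfl⟩
  exact fitt_eq_top_of_span _ (span_subtype_eq_top K x hx hmem) h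

/-- over a local ring, an f.g. ideal whose `k`-th Fitting ideal is the unit ideal is generated
by `k` elements. -/
theorem exists_gen_of_fitt_eq_top {A : Type*} [CommRing A] [IsLocalRing A] (K : Ideal A)
    (hK : K.FG) {k : ℕ} (h : Fitt.ideal A K k = ⊤) :
    ∃ x : Fin k → A, K = Ideal.span (Set.range x) := by
  haveI : Module.Finite A K := Module.Finite.iff_fg.mpr hK
  obtain ⟨g, hg⟩ := exists_span_eq_top_of_fitt_eq_top (A := A) (N := K) h
  refine ⟨fun i => (g i : A), ?_⟩
  have := congrArg (Submodule.map K.subtype) hg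
  rw [Submodule.map_span, Submodule.map_top, Submodule.range_subtype, ← Set.range_comp] at this
  exact this.symm

end IdealFitting

section Spread

variable {R : Type*} [CommRing R]

/-- spreading out generators of an f.g. ideal from the local ring at `𝔭` to a basic open. -/
theorem exists_gen_away (J : Ideal R) (hJ : J.FG) (𝔭 : Ideal R) [𝔭.IsPrime] {k : ℕ}
    (x : Fin k → Localization.AtPrime 𝔭)
    (hx : J.map (algebraMap R (Localization.AtPrime 𝔭)) = Ideal.span (Set.range x)) :
    ∃ f : R, f ∉ 𝔭 ∧ ∃ y : Fin k → Localization.Away f,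
      J.map (algebraMap R (Localization.Away f)) = Ideal.span (Set.range y) := by
  classical
  have hxmem : ∀ i, x i ∈ J.map (algebraMap R (Localization.AtPrime 𝔭)) := fun i => by
    rw [hx]
    exact Ideal.subset_span ⟨i, rfl⟩
  have hex : ∀ i, ∃ (a : J) (s : 𝔭.primeCompl),
      x i * algebraMap R (Localization.AtPrime 𝔭) s = algebraMap R (Localization.AtPrime 𝔭) a := by
    intro i
    obtain ⟨⟨a, s⟩, h⟩ := (IsLocalization.mem_map_algebraMap_iff 𝔭.primeCompl _).mp (hxmem i)
    exact ⟨a, s, h⟩
  choose a s has using hex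
  set J₀ : Ideal R := Ideal.span (Set.range (fun i => (a i : R))) with hJ₀
  have hJ₀J : J₀ ≤ J := by
    rw [hJ₀, Ideal.span_le]
    rintro _ ⟨i, rfl⟩
    exact (a i).2
  have hle : J.map (algebraMap R (Localization.AtPrime 𝔭)) ≤
      J₀.map (algebraMap R (Localization.AtPrime 𝔭)) := by
    rw [hx, Ideal.span_le]
    rintro _ ⟨i, rfl⟩
    have hu : IsUnit (algebraMap R (Localization.AtPrime 𝔭) (s i)) :=
      IsLocalization.map_units _ (s i)
    have h1 : algebraMap R (Localization.AtPrime 𝔭) (a i) ∈
        J₀.map (algebraMap R (Localization.AtPrime 𝔭)) :=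
      Ideal.mem_map_of_mem _ (Ideal.subset_span ⟨i, rfl⟩)
    rw [← has i] at h1
    exact (Ideal.mul_unit_mem_iff_mem _ hu).mp h1
  have key : ∀ b ∈ J, ∃ t : R, t ∉ 𝔭 ∧ t * b ∈ J₀ := by
    intro b hb
    have hb' : algebraMap R (Localization.AtPrime 𝔭) b ∈
        J₀.map (algebraMap R (Localization.AtPrime 𝔭)) := hle (Ideal.mem_map_of_mem _ hb)
    obtain ⟨⟨c, u⟩, h⟩ := (IsLocalization.mem_map_algebraMap_iff 𝔭.primeCompl _).mp hb'
    rw [← map_mul] at h
    obtain ⟨v, hv⟩ := (IsLocalization.eq_iff_exists 𝔭.primeCompl _).mp h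
    refine ⟨v * u, 𝔭.primeCompl.mul_mem v.2 u.2, ?_⟩
    have : (v : R) * (u : R) * b = v * c := by
      rw [← hv]
      ring
    rw [this]
    exact Ideal.mul_mem_left _ _ c.2
  obtain ⟨T, hT⟩ := hJ
  have hTJ : ∀ b ∈ T, b ∈ J := fun b hb => by
    rw [← hT]
    exact Ideal.subset_span hb
  choose! t ht1 ht2 using key
  refine ⟨∏ b ∈ T, t b, ?_, fun i => algebraMap R _ (a i), ?_⟩
  · intro hmem
    obtain ⟨b, hb, hbp⟩ := Ideal.IsPrime.prod_mem_iff.mp hmem
    exact ht1 b (hTJ b hb) hbp
  · set f := ∏ b ∈ T, t b with hf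
    have hrange : Ideal.span (Set.range (fun i => algebraMap R (Localization.Away f) (a i))) =
        J₀.map (algebraMap R (Localization.Away f)) := by
      rw [hJ₀, Ideal.map_span, ← Set.range_comp]
      rfl
    rw [hrange]
    apply le_antisymm
    · rw [← hT, Ideal.map_span, Ideal.span_le]
      rintro _ ⟨b, hb, rfl⟩
      have hdvd : t b ∣ f := Finset.dvd_prod_of_mem t hb
      have hu : IsUnit (algebraMap R (Localization.Away f) (t b)) := by
        have hfu : IsUnit (algebraMap R (Localization.Away f) f) :=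
          IsLocalization.Away.algebraMap_isUnit f
        exact isUnit_of_dvd_unit (map_dvd _ hdvd) hfu
      have h1 : algebraMap R (Localization.Away f) (t b * b) ∈
          J₀.map (algebraMap R (Localization.Away f)) :=
        Ideal.mem_map_of_mem _ (ht2 b (hTJ b hb))
      rw [map_mul] at h1
      exact (Ideal.unit_mul_mem_iff_mem _ hu).mp h1
    · exact Ideal.map_mono hJ₀J

end Spread

section NearGen

universe u

open Groth.Agent.Lib.Helper10.Fitting

lemma ofList_eq_span_range_get {A : Type*} [CommRing A] (l : List A) :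
    Ideal.ofList l = Ideal.span (Set.range l.get) := by
  rw [Set.range_list_get]

lemma ofList_ofFn {A : Type*} [CommRing A] {n : ℕ} (y : Fin n → A) :
    Ideal.ofList (List.ofFn y) = Ideal.span (Set.range y) := by
  unfold Ideal.ofList
  congr 1
  ext a
  simp [List.mem_ofFn]

/-- `J` is generated by `k` elements on a basic open neighbourhood of `𝔭`. -/
def NearGen {R : Type u} [CommRing R] (J : Ideal R) (𝔭 : PrimeSpectrum R) (k : ℕ) : Prop :=
  ∃ g : R, g ∉ 𝔭.asIdeal ∧ ∃ l : List (Localization.Away g), l.length = k ∧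
    J.map (algebraMap R (Localization.Away g)) = Ideal.ofList l

theorem nearGen_of_flat {R R' : Type u} [CommRing R] [CommRing R'] (J : Ideal R) (hJ : J.FG)
    (θ : R →+* R') (hθ : θ.Flat) (𝔮' : PrimeSpectrum R') (l : List R')
    (hl : J.map θ = Ideal.ofList l) : NearGen J (𝔮'.comap θ) l.length := by
  letI := θ.toAlgebra
  haveI : Module.Flat R R' := hθ
  have hθ' : algebraMap R R' = θ := rfl
  set 𝔭 : Ideal R := (𝔮'.comap θ).asIdeal with h𝔭
  have h1 : Fitt.ideal R' (J.map (algebraMap R R')) l.length = ⊤ :=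
    fitt_eq_top_of_gen _ l.get (by rw [← ofList_eq_span_range_get]; exact hl) le_rfl
  rw [fitt_map_of_flat J hJ] at h1
  have h2 : ¬ Fitt.ideal R J l.length ≤ 𝔭 := by
    intro hle
    have : (Fitt.ideal R J l.length).map (algebraMap R R') ≤ 𝔮'.asIdeal :=
      Ideal.map_le_iff_le_comap.mpr hle
    rw [h1] at this
    exact 𝔮'.isPrime.ne_top (top_le_iff.mp this)
  have h3 : Fitt.ideal (Localization.AtPrime 𝔭)
      (J.map (algebraMap R (Localization.AtPrime 𝔭))) l.length = ⊤ := by
    rw [fitt_map_of_flat J hJ]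
    obtain ⟨d, hd, hdp⟩ := Set.not_subset.mp h2
    exact Ideal.eq_top_of_isUnit_mem _ (Ideal.mem_map_of_mem _ hd)
      (IsLocalization.map_units (M := 𝔭.primeCompl) _ ⟨d, hdp⟩)
  obtain ⟨x, hx⟩ := exists_gen_of_fitt_eq_top _ (hJ.map _) h3
  obtain ⟨f, hf, y, hy⟩ := exists_gen_away J hJ 𝔭 x hx
  exact ⟨f, hf, List.ofFn y, List.length_ofFn, by rw [hy, ofList_ofFn]⟩

end NearGen

end Groth.Agent.Lib.Helper10.FlatLocal
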