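import Mathlib
import Groth.Agent.Lib.Helper10.FlatLocal

/-!
# Faithfully flat descent of "locally generated by a regular sequence" (helper10)

An abstract framework: a `Kind` is a property of finite lists of ring elements which is stable
under flat maps, depends only on the ideal and the length, forces minimality of the length,
can be checked flat-locally and holds for lists generating the unit ideal.  For such a kind,
the property "the ideal `I` is Zariski-locally generated by a list of that kind" descends along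
faithfully flat ring maps (Stacks 068N).
-/

set_option autoImplicit false

universe u

namespace Groth.Agent.Lib.Helper10.RegDescent

open Groth.Agent.Lib.Helper10.FlatLocal

/-- an abstract kind of regular sequence. -/
structure Kind where
  P : ∀ (R : Type u) [CommRing R], List R → Prop
  map_flat : ∀ {R R' : Type u} [CommRing R] [CommRing R'] (θ : R →+* R'), θ.Flat →
    ∀ l : List R, P R l → P R' (l.map θ)
  of_ofList_eq : ∀ {R : Type u} [CommRing R] (f g : List R), P R f →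
    Ideal.ofList g = Ideal.ofList f → g.length = f.length → P R g
  length_le : ∀ {R : Type u} [CommRing R] (f h : List R), P R f → Ideal.ofList f ≠ ⊤ →
    Ideal.ofList h = Ideal.ofList f → f.length ≤ h.length
  flat_local : ∀ {R : Type u} [CommRing R] (l : List R),
    (∀ 𝔮 : PrimeSpectrum R, ∃ (R' : Type u) (_ : CommRing R') (θ : R →+* R'), θ.Flat ∧
      (∃ 𝔮' : PrimeSpectrum R', 𝔮'.comap θ = 𝔮) ∧ P R' (l.map θ)) → P R l
  of_top : ∀ {R : Type u} [CommRing R] (l : List R), Ideal.ofList l = ⊤ → P R l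

variable (K : Kind.{u})

/-- `I` is Zariski-locally (around the primes containing it) generated by a list of kind `K`. -/
def IsLoc {A : Type u} [CommRing A] (I : Ideal A) : Prop :=
  ∀ 𝔭 : PrimeSpectrum A, I ≤ 𝔭.asIdeal → ∃ g : A, g ∉ 𝔭.asIdeal ∧
    ∃ l : List (Localization.Away g), K.P (Localization.Away g) l ∧
      I.map (algebraMap A (Localization.Away g)) = Ideal.ofList l

/-- `J` is, flat-locally at `𝔭`, generated by a list of kind `K` and length `r`. -/
def FlatGen {R : Type u} [CommRing R] (J : Ideal R) (𝔭 : PrimeSpectrum R) (r : ℕ) : Prop :=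
  ∃ (R' : Type u) (_ : CommRing R') (θ : R →+* R'), θ.Flat ∧
    (∃ 𝔮' : PrimeSpectrum R', 𝔮'.comap θ = 𝔭) ∧
    ∃ l : List R', l.length = r ∧ K.P R' l ∧ J.map θ = Ideal.ofList l

variable {K}

lemma algebraMap_away_flat {R : Type u} [CommRing R] (g : R) :
    (algebraMap R (Localization.Away g)).Flat :=
  RingHom.flat_algebraMap_iff.mpr (IsLocalization.flat _ (Submonoid.powers g))

/-- local data for `I B` gives flat-local data for `I`. -/
lemma flatGen_of_isLoc_map {A B : Type u} [CommRing A] [CommRing B] (ψ : A →+* B) (hψ : ψ.Flat)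
    (I : Ideal A) (h : IsLoc K (I.map ψ)) (𝔮 : PrimeSpectrum B) (hI𝔮 : I.map ψ ≤ 𝔮.asIdeal) :
    ∃ g : B, g ∉ 𝔮.asIdeal ∧ ∃ r : ℕ, ∀ 𝔮₂ : PrimeSpectrum B, g ∉ 𝔮₂.asIdeal →
      FlatGen K I (𝔮₂.comap ψ) r := by
  obtain ⟨g, hg, l, hl, hIl⟩ := h 𝔮 hI𝔮
  refine ⟨g, hg, l.length, fun 𝔮₂ hg₂ => ?_⟩
  obtain ⟨𝔮'', h𝔮''⟩ := exists_prime_away' g 𝔮₂ hg₂
  refine ⟨Localization.Away g, inferInstance, (algebraMap B (Localization.Away g)).comp ψ,
    hψ.comp (algebraMap_away_flat g), ⟨𝔮'', ?_⟩, l, rfl, hl, ?_⟩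
  · rw [← h𝔮'']
    rfl
  · rw [← Ideal.map_map, hIl]

lemma FlatGen.nearGen {R : Type u} [CommRing R] {J : Ideal R} (hJ : J.FG) {𝔭 : PrimeSpectrum R}
    {r : ℕ} (h : FlatGen K J 𝔭 r) : NearGen J 𝔭 r := by
  obtain ⟨R', _, θ, hθ, ⟨𝔮', h𝔮'⟩, l, hlen, -, hJl⟩ := h
  rw [← h𝔮', ← hlen]
  exact nearGen_of_flat J hJ θ hθ 𝔮' l hJl

lemma FlatGen.le_of_nearGen {R : Type u} [CommRing R] {J : Ideal R} {𝔭 : PrimeSpectrum R}
    {r k : ℕ} (h : FlatGen K J 𝔭 r) (hJ𝔭 : J ≤ 𝔭.asIdeal) (hk : NearGen J 𝔭 k) : r ≤ k := by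
  obtain ⟨R', _, θ, hθ, ⟨𝔮', h𝔮'⟩, l, hlen, hP, hJl⟩ := h
  obtain ⟨g, hg, f, hflen, hJf⟩ := hk
  have hθg : θ g ∉ 𝔮'.asIdeal := by
    intro hmem
    apply hg
    rw [← h𝔮']
    exact hmem
  obtain ⟨𝔮'', h𝔮''⟩ := exists_prime_away θ g 𝔮' hθg
  have hP'' : K.P _ (l.map (algebraMap R' (Localization.Away (θ g)))) :=
    K.map_flat _ (algebraMap_away_flat (θ g)) l hP
  have hEq : Ideal.ofList (f.map (Localization.awayMap θ g)) =
      Ideal.ofList (l.map (algebraMap R' (Localization.Away (θ g)))) := by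
    rw [← Ideal.map_ofList, ← Ideal.map_ofList, ← hJf, ← hJl, map_awayMap]
  have hne : Ideal.ofList (l.map (algebraMap R' (Localization.Away (θ g)))) ≠ ⊤ := by
    rw [← Ideal.map_ofList, ← hJl]
    intro htop
    have hle : (J.map θ).map (algebraMap R' (Localization.Away (θ g))) ≤ 𝔮''.asIdeal := by
      rw [Ideal.map_le_iff_le_comap, Ideal.map_le_iff_le_comap]
      intro x hx
      have h1 : x ∈ (𝔮'.comap θ).asIdeal := by
        rw [h𝔮']
        exact hJ𝔭 hx
      have h2 : θ x ∈ (𝔮''.comap (algebraMap R' (Localization.Away (θ g)))).asIdeal := by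
        rw [h𝔮'']
        exact h1
      exact h2
    rw [htop] at hle
    exact 𝔮''.isPrime.ne_top (top_le_iff.mp hle)
  have := K.length_le _ _ hP'' hne hEq
  simpa [hlen, hflen] using this

/-- generators on `D(g₀)` restrict to `D(g₀ g₁)`. -/
lemma gen_mono {R : Type u} [CommRing R] (J : Ideal R) (g₀ g₁ : R)
    (f : List (Localization.Away g₀))
    (hf : J.map (algebraMap R (Localization.Away g₀)) = Ideal.ofList f) :
    J.map (algebraMap R (Localization.Away (g₀ * g₁))) =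
      Ideal.ofList (f.map (IsLocalization.Away.awayToAwayRight (S := Localization.Away g₀)
        (P := Localization.Away (g₀ * g₁)) g₀ g₁)) := by
  have hcomp : (IsLocalization.Away.awayToAwayRight (S := Localization.Away g₀)
      (P := Localization.Away (g₀ * g₁)) g₀ g₁).comp (algebraMap R (Localization.Away g₀)) =
      algebraMap R (Localization.Away (g₀ * g₁)) :=
    RingHom.ext fun a => IsLocalization.Away.awayToAwayRight_eq g₀ g₁ a
  rw [← Ideal.map_ofList, ← hf, Ideal.map_map, hcomp]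

section Closed

variable {A B : Type u} [CommRing A] [CommRing B] [Algebra A B] [Module.FaithfullyFlat A B]

/-- the bad set: primes containing `I` near which `I` needs fewer than `r` generators. -/
def T (I : Ideal A) (r : ℕ) : Set (PrimeSpectrum A) :=
  {𝔭' | I ≤ 𝔭'.asIdeal ∧ ∃ k, k < r ∧ NearGen I 𝔭' k}

lemma isClosed_T (I : Ideal A) (hI : I.FG) (h : IsLoc K (I.map (algebraMap A B))) (r : ℕ) :
    IsClosed (T I r) := by
  have hflat : (algebraMap A B).Flat := RingHom.flat_algebraMap_iff.mpr inferInstance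
  have hq : Topology.IsQuotientMap (PrimeSpectrum.comap (algebraMap A B)) :=
    PrimeSpectrum.isQuotientMap_of_generalizingMap
      PrimeSpectrum.comap_surjective_of_faithfullyFlat hflat.generalizingMap_comap
  rw [← hq.isClosed_preimage, ← isOpen_compl_iff, isOpen_iff_forall_mem_open]
  intro 𝔮₁ h𝔮₁
  by_cases hIq : I.map (algebraMap A B) ≤ 𝔮₁.asIdeal
  · obtain ⟨g, hg, r', hFG⟩ := flatGen_of_isLoc_map (algebraMap A B) hflat I h 𝔮₁ hIq
    have hI₁ : I ≤ (𝔮₁.comap (algebraMap A B)).asIdeal := Ideal.map_le_iff_le_comap.mp hIq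
    have hrr' : r ≤ r' := by
      by_contra hlt
      rw [not_le] at hlt
      apply h𝔮₁
      exact ⟨hI₁, r', hlt, (hFG 𝔮₁ hg).nearGen hI⟩
    refine ⟨PrimeSpectrum.basicOpen g, ?_, (PrimeSpectrum.basicOpen g).2, hg⟩
    intro 𝔮₂ hg₂ hmem
    obtain ⟨hI₂, k, hk, hNG⟩ := hmem
    have := (hFG 𝔮₂ hg₂).le_of_nearGen hI₂ hNG
    omega
  · obtain ⟨j, hj, hj𝔮⟩ := Set.not_subset.mp hIq
    refine ⟨PrimeSpectrum.basicOpen j, ?_, (PrimeSpectrum.basicOpen j).2, hj𝔮⟩
    intro 𝔮₂ hj₂ hmem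
    apply hj₂
    have : I.map (algebraMap A B) ≤ 𝔮₂.asIdeal := Ideal.map_le_iff_le_comap.mpr hmem.1
    exact this hj

end Closed

lemma IsLoc.fg {R : Type u} [CommRing R] {J : Ideal R} (h : IsLoc K J) : J.FG := by
  apply Ideal.fg_of_localizationSpan {g : R | (J.map (algebraMap R (Localization.Away g))).FG}
  · by_contra hne
    obtain ⟨𝔪, h𝔪, hle⟩ := Ideal.exists_le_maximal _ hne
    by_cases hJ : J ≤ 𝔪
    · obtain ⟨g, hg, l, -, hl⟩ := h ⟨𝔪, h𝔪.isPrime⟩ hJ
      apply hg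
      apply hle
      apply Ideal.subset_span
      show (J.map _).FG
      rw [hl]
      exact Submodule.fg_span l.finite_toSet
    · obtain ⟨j, hj, hjm⟩ := Set.not_subset.mp hJ
      apply hjm
      apply hle
      apply Ideal.subset_span
      show (J.map (algebraMap R (Localization.Away j))).FG
      have : J.map (algebraMap R (Localization.Away j)) = ⊤ :=
        Ideal.eq_top_of_isUnit_mem _ (Ideal.mem_map_of_mem _ hj)
          (IsLocalization.Away.algebraMap_isUnit j)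
      rw [this]
      exact ⟨{1}, by simp⟩
  · rintro ⟨g, hg⟩
    exact hg

lemma map_map_ne_top {R R' : Type u} [CommRing R] [CommRing R'] (θ : R →+* R') (g : R)
    (J : Ideal R) (𝔮' : PrimeSpectrum R') (hJ : J ≤ (𝔮'.comap θ).asIdeal)
    (𝔮'' : PrimeSpectrum (Localization.Away (θ g)))
    (h𝔮'' : 𝔮''.comap (algebraMap R' (Localization.Away (θ g))) = 𝔮') :
    (J.map θ).map (algebraMap R' (Localization.Away (θ g))) ≠ ⊤ := by
  intro htop
  have hle : (J.map θ).map (algebraMap R' (Localization.Away (θ g))) ≤ 𝔮''.asIdeal := by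
    rw [Ideal.map_le_iff_le_comap, Ideal.map_le_iff_le_comap]
    intro x hx
    have h2 : θ x ∈ (𝔮''.comap (algebraMap R' (Localization.Away (θ g)))).asIdeal := by
      rw [h𝔮'']
      exact hJ hx
    exact h2
  rw [htop] at hle
  exact 𝔮''.isPrime.ne_top (top_le_iff.mp hle)

/-- **Faithfully flat descent** of "locally generated by a list of kind `K`". -/
theorem isLoc_of_faithfullyFlat {A B : Type u} [CommRing A] [CommRing B] [Algebra A B]
    [Module.FaithfullyFlat A B] (I : Ideal A) (h : IsLoc K (I.map (algebraMap A B))) :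
    IsLoc K I := by
  have hflat : (algebraMap A B).Flat := RingHom.flat_algebraMap_iff.mpr inferInstance
  have hI : I.FG := Ideal.FG.of_FG_map_of_faithfullyFlat (S := B) h.fg
  have hsurj := PrimeSpectrum.comap_surjective_of_faithfullyFlat (A := A) (B := B)
  have hdata : ∀ 𝔭' : PrimeSpectrum A, I ≤ 𝔭'.asIdeal → ∃ r', FlatGen K I 𝔭' r' := by
    intro 𝔭' hI'
    obtain ⟨𝔮, rfl⟩ := hsurj 𝔭'
    obtain ⟨g, hg, r', hFG⟩ := flatGen_of_isLoc_map (algebraMap A B) hflat I h 𝔮
      (Ideal.map_le_iff_le_comap.mpr hI')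
    exact ⟨r', hFG 𝔮 hg⟩
  intro 𝔭 hI𝔭
  obtain ⟨r, hFG⟩ := hdata 𝔭 hI𝔭
  obtain ⟨g₀, hg₀, f, hflen, hf⟩ := hFG.nearGen hI
  have hT := isClosed_T (K := K) (B := B) I hI h r
  have h𝔭T : 𝔭 ∈ (T I r)ᶜ := by
    rintro ⟨-, k, hk, hNG⟩
    have := hFG.le_of_nearGen hI𝔭 hNG
    omega
  obtain ⟨_, ⟨g₁, rfl⟩, hg₁, hsub⟩ :=
    PrimeSpectrum.isTopologicalBasis_basic_opens.exists_subset_of_mem_open h𝔭T hT.isOpen_compl
  obtain ⟨f', hf'⟩ : ∃ f' : List (Localization.Away (g₀ * g₁)),
      f' = f.map (IsLocalization.Away.awayToAwayRight (S := Localization.Away g₀)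
        (P := Localization.Away (g₀ * g₁)) g₀ g₁) := ⟨_, rfl⟩
  have hf'gen : I.map (algebraMap A (Localization.Away (g₀ * g₁))) = Ideal.ofList f' := by
    rw [hf']
    exact gen_mono I g₀ g₁ f hf
  have hf'len : f'.length = r := by rw [hf', List.length_map, hflen]
  refine ⟨g₀ * g₁, fun hmem => (𝔭.isPrime.mem_or_mem hmem).elim hg₀ hg₁, f', ?_, hf'gen⟩
  apply K.flat_local
  intro 𝔭''
  set 𝔭' := 𝔭''.comap (algebraMap A (Localization.Away (g₀ * g₁))) with h𝔭'
  have hg𝔭' : g₀ * g₁ ∉ 𝔭'.asIdeal := by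
    intro hmem
    exact 𝔭''.isPrime.ne_top (Ideal.eq_top_of_isUnit_mem _ hmem
      (IsLocalization.Away.algebraMap_isUnit _))
  by_cases hI' : I ≤ 𝔭'.asIdeal
  · have hg₁' : g₁ ∉ 𝔭'.asIdeal := fun hm => hg𝔭' (Ideal.mul_mem_left _ _ hm)
    have hnT : 𝔭' ∉ T I r := hsub hg₁'
    obtain ⟨r', hFG'⟩ := hdata 𝔭' hI'
    have hr1 : r ≤ r' := by
      by_contra hlt
      rw [not_le] at hlt
      exact hnT ⟨hI', r', hlt, hFG'.nearGen hI⟩
    obtain ⟨R', _, θ, hθ, ⟨𝔮', h𝔮'⟩, l, hlen, hP, hJl⟩ := hFG'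
    have hθg : θ (g₀ * g₁) ∉ 𝔮'.asIdeal := by
      intro hmem
      apply hg𝔭'
      rw [← h𝔮']
      exact hmem
    obtain ⟨𝔮'', h𝔮''⟩ := exists_prime_away θ (g₀ * g₁) 𝔮' hθg
    refine ⟨Localization.Away (θ (g₀ * g₁)), inferInstance, Localization.awayMap θ (g₀ * g₁),
      awayMap_flat θ (g₀ * g₁) hθ, ⟨𝔮'', ?_⟩, ?_⟩
    · apply prime_away_ext
      rw [← h𝔭', ← h𝔮', ← h𝔮'']
      ext1
      show Ideal.comap _ (Ideal.comap _ _) = Ideal.comap _ (Ideal.comap _ _)
      rw [Ideal.comap_comap, Ideal.comap_comap, awayMap_comp]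
    · have hP'' := K.map_flat _ (algebraMap_away_flat (θ (g₀ * g₁))) l hP
      have hEq : Ideal.ofList (f'.map (Localization.awayMap θ (g₀ * g₁))) =
          Ideal.ofList (l.map (algebraMap R' (Localization.Away (θ (g₀ * g₁))))) := by
        rw [← Ideal.map_ofList, ← Ideal.map_ofList, ← hf'gen, ← hJl, map_awayMap]
      have hne : Ideal.ofList (l.map (algebraMap R' (Localization.Away (θ (g₀ * g₁))))) ≠ ⊤ := by
        rw [← Ideal.map_ofList, ← hJl]
        exact map_map_ne_top θ (g₀ * g₁) I 𝔮' (by rw [h𝔮']; exact hI') 𝔮'' h𝔮''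
      have hr2 := K.length_le _ _ hP'' hne hEq
      simp only [List.length_map] at hr2
      refine K.of_ofList_eq _ _ hP'' hEq ?_
      simp only [List.length_map]
      omega
  · obtain ⟨j, hj, hj𝔭'⟩ := Set.not_subset.mp hI'
    obtain ⟨𝔮'', h𝔮''⟩ := exists_prime_away' (algebraMap A (Localization.Away (g₀ * g₁)) j) 𝔭'' hj𝔭'
    refine ⟨Localization.Away (algebraMap A (Localization.Away (g₀ * g₁)) j), inferInstance,
      algebraMap _ _, algebraMap_away_flat _, ⟨𝔮'', h𝔮''⟩, ?_⟩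
    apply K.of_top
    rw [← Ideal.map_ofList, ← hf'gen]
    exact Ideal.eq_top_of_isUnit_mem _
      (Ideal.mem_map_of_mem _ (Ideal.mem_map_of_mem _ hj))
      (IsLocalization.Away.algebraMap_isUnit _)

end Groth.Agent.Lib.Helper10.RegDescent
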