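import Mathlib
import Groth.Prelude.Def_LCI2
import Groth.Agent.Lib.Helper10.RegDescent
import Groth.Agent.Lib.Helper10.KoszulFlat
import Groth.Agent.Lib.Helper10.KoszulGen
import Groth.Agent.Lib.Helper10.KoszulMinGen

/-!
# The Koszul-regular kind (helper10)

Koszul-regular sequences form a `RegDescent.Kind`; hence Koszul-regular ideals descend along
faithfully flat ring maps.
-/

set_option autoImplicit false

universe u

attribute [local instance] HasDerivedCategory.standard

namespace Groth.Agent.Lib.Helper10.RegDescentKoszul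

open CategoryTheory CategoryTheory.Limits
open Groth.Agent.Lib.Helper10.RegDescent Groth.Agent.Lib.Helper10.FlatLocal
open Groth.Agent.Lib.Helper10.KoszulFlat

variable {R : Type u} [CommRing R]

/-- a module which vanishes after flat base changes hitting every prime is zero. -/
lemma isZero_of_flat_local (H : ModuleCat.{u} R)
    (h : ∀ 𝔮 : PrimeSpectrum R, ∃ (R' : Type u) (_ : CommRing R') (θ : R →+* R'), θ.Flat ∧
      (∃ 𝔮' : PrimeSpectrum R', 𝔮'.comap θ = 𝔮) ∧
        IsZero ((ModuleCat.extendScalars.{_, _, u} θ).obj H)) : IsZero H := by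
  rw [ModuleCat.isZero_iff_subsingleton]
  refine ⟨fun x y => ?_⟩
  suffices hz : ∀ z : H, z = 0 by rw [hz x, hz y]
  intro z
  by_contra hz
  have hne : LinearMap.ker (LinearMap.toSpanSingleton R H z) ≠ ⊤ := by
    intro htop
    apply hz
    have h1 : (1 : R) ∈ LinearMap.ker (LinearMap.toSpanSingleton R H z) := by
      rw [htop]
      trivial
    rw [LinearMap.mem_ker, LinearMap.toSpanSingleton_apply, one_smul] at h1
    exact h1
  obtain ⟨𝔪, h𝔪, hle⟩ := Ideal.exists_le_maximal _ hne
  obtain ⟨R', _, θ, hθ, ⟨𝔮', h𝔮'⟩, hzero⟩ := h ⟨𝔪, h𝔪.isPrime⟩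
  rw [ModuleCat.isZero_iff_subsingleton] at hzero
  algebraize [θ]
  have h' : Subsingleton (TensorProduct R R' H) := hzero
  have h1 : z ⊗ₜ[R] (1 : R') = 0 := by
    have : (1 : R') ⊗ₜ[R] z = 0 := Subsingleton.elim _ _
    have h2 := congrArg (TensorProduct.comm R R' H) this
    simpa using h2
  obtain ⟨s, hs, hsz⟩ := exists_smul_eq_zero_of_tmul_eq_zero 𝔮'.asIdeal z h1
  apply hs
  have h3 : s ∈ 𝔪 := hle (by
    rw [LinearMap.mem_ker, LinearMap.toSpanSingleton_apply]
    exact hsz)
  have h4 : (𝔮'.comap θ).asIdeal = 𝔪 := by rw [h𝔮']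
  rw [← h4] at h3
  exact h3

lemma isKoszulRegularSeq_of_flat_local (l : List R)
    (h : ∀ 𝔮 : PrimeSpectrum R, ∃ (R' : Type u) (_ : CommRing R') (θ : R →+* R'), θ.Flat ∧
      (∃ 𝔮' : PrimeSpectrum R', 𝔮'.comap θ = 𝔮) ∧ LCI.IsKoszulRegularSeq R' (l.map θ)) :
    LCI.IsKoszulRegularSeq R l := fun i hi => by
  apply isZero_of_flat_local
  intro 𝔮
  obtain ⟨R', _, θ, hθ, h𝔮', hreg⟩ := h 𝔮
  refine ⟨R', inferInstance, θ, hθ, h𝔮', ?_⟩
  have h1 : IsZero (((E θ).obj (Koszul.koszul R l)).homology i) :=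
    IsZero.of_iso (hreg i hi) ((HomologicalComplex.homologyFunctor _ _ i).mapIso (koszulIso θ l))
  exact IsZero.of_iso h1 (homologyIso θ hθ _ i).symm

lemma isKoszulRegularSeq_of_top (l : List R) (h : Ideal.ofList l = ⊤) :
    LCI.IsKoszulRegularSeq R l := fun i _ => by
  have h1 := Groth.Agent.Lib.Helper10.KoszulGen.homologyMap_smul_id_eq_zero l (1 : R)
    (by rw [h]; trivial) i
  rw [one_smul, HomologicalComplex.homologyMap_id] at h1
  exact (IsZero.iff_id_eq_zero _).mpr h1

/-- the Koszul-regular kind. -/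
def koszulKind : Kind.{u} where
  P R _ l := LCI.IsKoszulRegularSeq R l
  map_flat θ hθ l h := isKoszulRegularSeq_map θ hθ l h
  of_ofList_eq f g hf hI hlen :=
    Groth.Agent.Lib.Helper10.KoszulGen.isKoszulRegularSeq_of_ofList_eq f g hf hI hlen
  length_le f h hf hne hI :=
    Groth.Agent.Lib.Helper10.KoszulMinGen.length_le_of_isKoszulRegularSeq f h hf hne hI
  flat_local l h := isKoszulRegularSeq_of_flat_local l h
  of_top l h := isKoszulRegularSeq_of_top l h

lemma isLoc_koszulKind_iff {A : Type u} [CommRing A] (I : Ideal A) :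
    IsLoc koszulKind I ↔ LCI.IsKoszulRegularIdeal I := Iff.rfl

/-- Koszul-regular ideals descend along faithfully flat ring maps. -/
theorem isKoszulRegularIdeal_of_faithfullyFlat (A B : Type u) [CommRing A] [CommRing B]
    [Algebra A B] [Module.FaithfullyFlat A B] (I : Ideal A)
    (h : LCI.IsKoszulRegularIdeal (Ideal.map (algebraMap A B) I)) :
    LCI.IsKoszulRegularIdeal I :=
  isLoc_of_faithfullyFlat (K := koszulKind) I h

end Groth.Agent.Lib.Helper10.RegDescentKoszul
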