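import Mathlib

/-!
# Quotients of localizations as localizations of quotients (helper10)

For a surjection `f : R → R'` and a localization `S` of `R` at `M`, the ring
`S ⧸ (ker f) S` is, through `locQuotHom`, the localization of `R'` at `f(M)`.
-/

set_option autoImplicit false
universe u

namespace Groth.Agent.Lib.Helper10.AvrCore

section LocQuot

variable {R R' : Type u} (S : Type u) [CommRing R] [CommRing R'] [CommRing S] [Algebra R S]
  (f : R →+* R') (hf : Function.Surjective f)

/-- the ring map `R' → S ⧸ (ker f) S`. -/
noncomputable def locQuotHom : R' →+* S ⧸ (RingHom.ker f).map (algebraMap R S) :=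
  RingHom.liftOfSurjective f hf
    ⟨(Ideal.Quotient.mk ((RingHom.ker f).map (algebraMap R S))).comp (algebraMap R S), by
      intro x hx
      rw [RingHom.mem_ker, RingHom.comp_apply, Ideal.Quotient.eq_zero_iff_mem]
      exact Ideal.mem_map_of_mem _ hx⟩

theorem locQuotHom_apply (x : R) :
    locQuotHom S f hf (f x) =
      Ideal.Quotient.mk ((RingHom.ker f).map (algebraMap R S)) (algebraMap R S x) :=
  RingHom.liftOfSurjective_comp_apply f hf _ x

theorem isLocalization_locQuot (M : Submonoid R) [IsLocalization M S] :
    letI := (locQuotHom S f hf).toAlgebra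
    IsLocalization (M.map f) (S ⧸ (RingHom.ker f).map (algebraMap R S)) := by
  letI := (locQuotHom S f hf).toAlgebra
  refine IsLocalization.of_surjective M S f hf
    (Ideal.Quotient.mk ((RingHom.ker f).map (algebraMap R S))) Ideal.Quotient.mk_surjective
    (RingHom.ext fun x => (locQuotHom_apply S f hf x).symm) ?_
  rw [Ideal.mk_ker]

include hf in
/-- image of the complement of a pulled back prime. -/
theorem map_primeCompl_comap (q : Ideal R') [q.IsPrime] :
    Submonoid.map f (q.comap f).primeCompl = q.primeCompl := by
  ext b
  constructor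
  · rintro ⟨p, hp, rfl⟩
    exact hp
  · intro hb
    obtain ⟨p, rfl⟩ := hf b
    exact ⟨p, hb, rfl⟩

theorem isLocalization_locQuot_atPrime (q : Ideal R') [q.IsPrime]
    [IsLocalization.AtPrime S (q.comap f)] :
    letI := (locQuotHom S f hf).toAlgebra
    IsLocalization.AtPrime (S ⧸ (RingHom.ker f).map (algebraMap R S)) q := by
  letI := (locQuotHom S f hf).toAlgebra
  have h := isLocalization_locQuot S f hf (q.comap f).primeCompl
  rw [map_primeCompl_comap f hf q] at h
  exact h

end LocQuot

end Groth.Agent.Lib.Helper10.AvrCore
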