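import Mathlib
import Groth.Agent.Lib.Helper10.KoszulGen
import Groth.Agent.Lib.Helper10.KoszulMinGen
import Groth.Agent.Lib.Helper10.KoszulFlat
import Groth.Agent.Lib.Helper73.GorenLCI1
import Groth.Agent.Lib.Helper94.KoszulBridge
import Groth.Agent.Lib.Helper82.CICompl

/-!
# Ideals generated by a regular sequence: change of generators, flat local extensions (helper10)

* `GenReg R K`: the ideal `K` is generated by a regular sequence.
* `isRegular_of_length_le`: in a Noetherian local ring, if `K` is generated by a regular sequence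
  `rs`, any generating list of `K` of length `≤ rs.length` is a regular sequence.
* `genReg_map_iff`: for a flat local homomorphism `S → T` of Noetherian local rings, `K` is
  generated by a regular sequence iff `K T` is.
* `GenReg.map_ringEquiv`: transport along ring isomorphisms.
-/

set_option autoImplicit false
universe u

namespace Groth.Agent.Lib.Helper10.GoodFact

open RingTheory.Sequence IsLocalRing

/-- The ideal `K` is generated by a regular sequence. -/
def GenReg (R : Type u) [CommRing R] (K : Ideal R) : Prop :=
  ∃ rs : List R, Ideal.ofList rs = K ∧ IsRegular R rs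

section MinGen

variable {R : Type u} [CommRing R] [IsLocalRing R] [IsNoetherianRing R]

omit [IsLocalRing R] [IsNoetherianRing R] in
lemma ofList_ne_top_of_isRegular {rs : List R} (h : IsRegular R rs) : Ideal.ofList rs ≠ ⊤ := by
  intro htop
  apply h.top_ne_smul
  rw [htop, smul_eq_mul, Ideal.mul_top]

omit [IsNoetherianRing R] in
lemma isRegular_of_isWeaklyRegular {rs : List R} (h : IsWeaklyRegular R rs)
    (hne : Ideal.ofList rs ≠ ⊤) : IsRegular R rs := by
  refine ⟨h, ?_⟩
  rw [smul_eq_mul, Ideal.mul_top]
  exact hne.symm

/-- any generating list of minimal length of an ideal generated by a regular sequence is a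
regular sequence. -/
theorem isRegular_of_length_le (rs l : List R) (hreg : IsRegular R rs)
    (hI : Ideal.ofList l = Ideal.ofList rs) (hlen : l.length ≤ rs.length) : IsRegular R l := by
  have hne : Ideal.ofList rs ≠ ⊤ := ofList_ne_top_of_isRegular hreg
  have hK : LCI.IsKoszulRegularSeq R rs :=
    Groth.Agent.Lib.Helper94.isKoszulRegularSeq_of_isWeaklyRegular R rs hreg.toIsWeaklyRegular
  have hlen' : l.length = rs.length :=
    le_antisymm hlen
      (Groth.Agent.Lib.Helper10.KoszulMinGen.length_le_of_isKoszulRegularSeq rs l hK hne hI)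
  have hK' := Groth.Agent.Lib.Helper10.KoszulGen.isKoszulRegularSeq_of_ofList_eq rs l hK hI hlen'
  have hlm : Ideal.ofList l ≤ maximalIdeal R := IsLocalRing.le_maximalIdeal (hI ▸ hne)
  have hmem : ∀ r ∈ l, r ∈ maximalIdeal R := fun r hr => hlm (Ideal.subset_span hr)
  have hW := Groth.Agent.Lib.Helper73.GorenLCI.isWeaklyRegular_of_isKoszulRegularSeq l hmem hK'
  exact isRegular_of_isWeaklyRegular hW (hI ▸ hne)

end MinGen

section Flat

variable {S T : Type u} [CommRing S] [CommRing T] [IsLocalRing S] [IsLocalRing T]
  [IsNoetherianRing S] [IsNoetherianRing T] [Algebra S T] [IsLocalHom (algebraMap S T)]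
  [Module.Flat S T]

/-- For a flat local homomorphism of Noetherian local rings, an ideal is generated by a regular
sequence iff its extension is. -/
theorem genReg_map_iff (K : Ideal S) (hK : K ≠ ⊤) :
    GenReg S K ↔ GenReg T (K.map (algebraMap S T)) := by
  classical
  have hff : Module.FaithfullyFlat S T := Module.FaithfullyFlat.of_flat_of_isLocalHom
  constructor
  · rintro ⟨rs, hrs, hreg⟩
    refine ⟨rs.map (algebraMap S T), ?_, hreg.of_faithfullyFlat⟩
    rw [← hrs, Ideal.map_ofList]
  · rintro ⟨rs', hrs', hreg'⟩
    have hfg : K.FG := IsNoetherian.noetherian K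
    obtain ⟨x, hx⟩ := Groth.Agent.Lib.Helper85.exists_fin_span_range_eq K hfg rfl
    set l : List S := List.ofFn x with hl
    have hlK : Ideal.ofList l = K := by
      rw [hl, Groth.Agent.Lib.Helper82.CICrit.ofList_ofFn', hx]
    have hmapI : Ideal.ofList (l.map (algebraMap S T)) = Ideal.ofList rs' := by
      rw [← Ideal.map_ofList, hlK, hrs']
    have hlen : (l.map (algebraMap S T)).length ≤ rs'.length := by
      rw [List.length_map, hl, List.length_ofFn,
        ← Groth.Agent.Lib.Helper82.CICompl.spanFinrank_map_eq (S := T) K hfg, ← hrs']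
      have h1 : Ideal.ofList rs' = Submodule.span T (↑rs'.toFinset : Set T) := by
        rw [List.coe_toFinset]
      rw [h1]
      refine le_trans (Submodule.spanFinrank_span_le_ncard_of_finite (Finset.finite_toSet _)) ?_
      rw [Set.ncard_coe_finset]
      exact List.toFinset_card_le rs'
    have hregT : IsRegular T (l.map (algebraMap S T)) :=
      isRegular_of_length_le rs' _ hreg' hmapI hlen
    have hKT : LCI.IsKoszulRegularSeq T (l.map (algebraMap S T)) :=
      Groth.Agent.Lib.Helper94.isKoszulRegularSeq_of_isWeaklyRegular T _ hregT.toIsWeaklyRegular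
    have hφ : (algebraMap S T).FaithfullyFlat := RingHom.faithfullyFlat_algebraMap_iff.mpr hff
    have hKS : LCI.IsKoszulRegularSeq S l :=
      Groth.Agent.Lib.Helper10.KoszulFlat.isKoszulRegularSeq_of_map (algebraMap S T) hφ l hKT
    have hlm : Ideal.ofList l ≤ maximalIdeal S := IsLocalRing.le_maximalIdeal (hlK ▸ hK)
    have hmem : ∀ r ∈ l, r ∈ maximalIdeal S := fun r hr => hlm (Ideal.subset_span hr)
    have hW := Groth.Agent.Lib.Helper73.GorenLCI.isWeaklyRegular_of_isKoszulRegularSeq l hmem hKS
    exact ⟨l, hlK, isRegular_of_isWeaklyRegular hW (hlK ▸ hK)⟩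

end Flat

section Equiv

variable {R R' : Type u} [CommRing R] [CommRing R']

/-- transport along a ring isomorphism. -/
theorem GenReg.map_ringEquiv (e : R ≃+* R') {K : Ideal R} (h : GenReg R K) :
    GenReg R' (K.map (e : R →+* R')) := by
  obtain ⟨rs, hrs, hreg⟩ := h
  letI : Algebra R R' := (e : R →+* R').toAlgebra
  have hff : Module.FaithfullyFlat R R' :=
    RingHom.faithfullyFlat_algebraMap_iff.mp (RingHom.FaithfullyFlat.of_bijective e.bijective)
  refine ⟨rs.map (e : R →+* R'), ?_, ?_⟩
  · rw [← hrs, Ideal.map_ofList]
  · exact hreg.of_faithfullyFlat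

end Equiv

end Groth.Agent.Lib.Helper10.GoodFact
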