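import Mathlib
import Groth.Agent.Lib.Helper10.KoszulGen
import Groth.Agent.Lib.Helper10.KoszulMinGen
import Groth.Agent.Lib.Helper73.GorenLCI1
import Groth.Agent.Lib.Helper94.KoszulBridge

/-!
# Ideals `I ≤ J` of a Noetherian local ring with `I/𝔪I → J/𝔪J` injective and `J` generated by a
regular sequence (helper10)

If `I ∩ 𝔪J ⊆ 𝔪I` and `J` is generated by a regular sequence, then `I` is generated by a regular
sequence and so is `J/I` in `A/I` (Stacks 09PZ, given the conclusion of 09PY).
-/

set_option autoImplicit false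
universe u

namespace Groth.Agent.Lib.Helper10.RegSeqTorDim

open RingTheory.Sequence IsLocalRing TensorProduct

variable {A : Type u} [CommRing A] [IsLocalRing A]

local notation "𝔪" => maximalIdeal A
local notation "k" => ResidueField A

section Generators

/-- Nakayama: a finite module over a local ring is generated by `dim_k (k ⊗ M)` elements. -/
theorem exists_list_span_eq_top (M : Type u) [AddCommGroup M] [Module A M] [Module.Finite A M] :
    ∃ l : List M, l.length = Module.finrank k (k ⊗[A] M) ∧
      Submodule.span A {x | x ∈ l} = ⊤ := by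
  let b := Module.finBasis k (k ⊗[A] M)
  have hsurj : Function.Surjective (TensorProduct.mk A k M 1) :=
    TensorProduct.mk_surjective A M k Ideal.Quotient.mk_surjective
  choose f hf using fun i => hsurj (b i)
  refine ⟨List.ofFn f, List.length_ofFn, ?_⟩
  have h1 : {x | x ∈ List.ofFn f} = Set.range f := by
    ext x
    simp [List.mem_ofFn]
  rw [h1]
  exact span_eq_top_of_tmul_eq_basis f b hf

end Generators

section Count

variable (I J : Ideal A)

/-- `I/𝔪I → J/𝔪J` injective, in tensor form. -/
theorem baseChange_inclusion_injective (hIJ : I ≤ J)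
    (H : ∀ x ∈ I, x ∈ 𝔪 * J → x ∈ 𝔪 * I) :
    Function.Injective ((Submodule.inclusion hIJ).baseChange k) := by
  rw [injective_iff_map_eq_zero]
  intro x hx
  obtain ⟨i, rfl⟩ := TensorProduct.mk_surjective A I k Ideal.Quotient.mk_surjective x
  have h1 : (TensorProduct.mk A (A ⧸ 𝔪) J 1) (Submodule.inclusion hIJ i) = 0 := hx
  have h2 : Submodule.inclusion hIJ i ∈ LinearMap.ker (TensorProduct.mk A (A ⧸ 𝔪) J 1) := h1
  rw [LinearMap.ker_tensorProductMk, Submodule.mem_smul_top_iff] at h2
  have h3 : (i : A) ∈ 𝔪 * I := H i i.2 h2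
  have h4 : i ∈ LinearMap.ker (TensorProduct.mk A (A ⧸ 𝔪) I 1) := by
    rw [LinearMap.ker_tensorProductMk, Submodule.mem_smul_top_iff]
    exact h3
  exact h4

variable [IsNoetherianRing A]

omit [IsNoetherianRing A] in
lemma ofList_map_val (N : Ideal A) (l : List N) :
    Ideal.ofList (l.map Subtype.val) = Submodule.map N.subtype (Submodule.span A {x | x ∈ l}) := by
  rw [Submodule.map_span]
  unfold Ideal.ofList
  congr 1
  ext x
  simp only [List.mem_map, Set.mem_setOf_eq, Set.mem_image]
  rfl

/-- the number of generators of `J` bounds `dim_k (k ⊗ J)`. -/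
theorem finrank_le_length (rs : List A) (hrs : Ideal.ofList rs = J) :
    Module.finrank k (k ⊗[A] J) ≤ rs.length := by
  classical
  have hfg : J.FG := IsNoetherian.noetherian J
  rw [Module.finrank_eq_spanFinrank_of_free, TensorProduct.spanFinrank_top_eq_of_residueField J hfg]
  have h1 : J = Submodule.span A (↑rs.toFinset : Set A) := by
    rw [← hrs, List.coe_toFinset]
  rw [h1]
  refine le_trans (Submodule.spanFinrank_span_le_ncard_of_finite (Finset.finite_toSet _)) ?_
  rw [Set.ncard_coe_finset]
  exact List.toFinset_card_le rs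

/-- **Choice of generators.**  If `I/𝔪I → J/𝔪J` is injective, generators of `I` extend to
generators of `J`, of total number at most that of any generating list of `J`. -/
theorem exists_lists (hIJ : I ≤ J) (H : ∀ x ∈ I, x ∈ 𝔪 * J → x ∈ 𝔪 * I) (rs : List A)
    (hrs : Ideal.ofList rs = J) :
    ∃ fs gs : List A, Ideal.ofList fs = I ∧ Ideal.ofList (fs ++ gs) = J ∧
      (fs ++ gs).length ≤ rs.length := by
  classical
  haveI : Module.Finite A I := Module.Finite.iff_fg.mpr (IsNoetherian.noetherian I)
  haveI : Module.Finite A J := Module.Finite.iff_fg.mpr (IsNoetherian.noetherian J)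
  let I' : Submodule A J := Submodule.comap J.subtype I
  let ι : I →ₗ[A] J := Submodule.inclusion hIJ
  let π : J →ₗ[A] (J ⧸ I') := I'.mkQ
  have hπ : Function.Surjective π := Submodule.mkQ_surjective _
  have hex : Function.Exact ι π := by
    rw [LinearMap.exact_iff, Submodule.ker_mkQ, Submodule.range_inclusion]
  obtain ⟨lI, hlI, hspanI⟩ := exists_list_span_eq_top (A := A) I
  obtain ⟨lQ, hlQ, hspanQ⟩ := exists_list_span_eq_top (A := A) (J ⧸ I')
  let lJ : List J := lQ.map (Function.surjInv hπ)
  have hlJ : lJ.map π = lQ := by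
    simp only [lJ, List.map_map]
    conv_rhs => rw [← List.map_id lQ]
    apply List.map_congr_left
    intro q _
    exact Function.surjInv_eq hπ q
  -- dimension count
  have hφ := baseChange_inclusion_injective I J hIJ H
  have hψ : Function.Surjective (π.baseChange k) := by
    rw [LinearMap.baseChange_eq_ltensor]
    exact LinearMap.lTensor_surjective k hπ
  have hex' : Function.Exact (ι.baseChange k) (π.baseChange k) := by
    rw [LinearMap.baseChange_eq_ltensor, LinearMap.baseChange_eq_ltensor]
    exact lTensor_exact k hex hπ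
  have hdim : Module.finrank k (k ⊗[A] J) =
      Module.finrank k (k ⊗[A] I) + Module.finrank k (k ⊗[A] (J ⧸ I')) := by
    have h1 := LinearMap.finrank_range_add_finrank_ker (π.baseChange k)
    rw [LinearMap.range_eq_top.mpr hψ, finrank_top, (LinearMap.exact_iff.mp hex'),
      LinearMap.finrank_range_of_inj hφ] at h1
    omega
  have hle := finrank_le_length J rs hrs
  refine ⟨lI.map Subtype.val, lJ.map Subtype.val, ?_, ?_, ?_⟩
  · rw [ofList_map_val, hspanI, Submodule.map_top, Submodule.range_subtype]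
  · rw [Ideal.ofList_append, ofList_map_val, ofList_map_val, hspanI, Submodule.map_top,
      Submodule.range_subtype]
    apply le_antisymm
    · refine sup_le hIJ ?_
      intro x hx
      obtain ⟨y, -, rfl⟩ := Submodule.mem_map.mp hx
      exact y.2
    · intro x hx
      have h1 : π ⟨x, hx⟩ ∈ Submodule.map π (Submodule.span A {y | y ∈ lJ}) := by
        rw [Submodule.map_span]
        have h2 : π '' {y | y ∈ lJ} = {q | q ∈ lQ} := by
          ext q
          simp only [Set.mem_image, Set.mem_setOf_eq]
          rw [← hlJ, List.mem_map]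
        rw [h2, hspanQ]
        trivial
      obtain ⟨y, hy, hyx⟩ := Submodule.mem_map.mp h1
      have h3 : (⟨x, hx⟩ : J) - y ∈ I' := by
        rw [← Submodule.ker_mkQ I', LinearMap.mem_ker, map_sub]
        exact sub_eq_zero.mpr hyx.symm
      have h4 : x - (y : A) ∈ I := h3
      have h5 : x = (x - (y : A)) + (y : A) := by ring
      rw [h5]
      exact Submodule.add_mem_sup h4 (Submodule.mem_map_of_mem (f := J.subtype) hy)
  · rw [List.length_append, List.length_map, List.length_map, List.length_map, hlI, hlQ, ← hdim]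
    exact hle

end Count

section Main

variable [IsNoetherianRing A]

/-- **Stacks 09PZ, given the injectivity of `I/𝔪I → J/𝔪J`.** -/
theorem regular_of_mem_maximal_mul (I J : Ideal A) (hIJ : I ≤ J) (hJ : J ≠ ⊤)
    (H : ∀ x ∈ I, x ∈ 𝔪 * J → x ∈ 𝔪 * I)
    (hJreg : ∃ rs : List A, Ideal.ofList rs = J ∧ IsRegular A rs) :
    (∃ rs : List A, Ideal.ofList rs = I ∧ IsRegular A rs) ∧
      ∃ rs' : List (A ⧸ I), Ideal.ofList rs' = J.map (Ideal.Quotient.mk I) ∧
        IsRegular (A ⧸ I) rs' := by
  obtain ⟨rs, hrs, hreg⟩ := hJreg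
  obtain ⟨fs, gs, hfs, hfg, hlen⟩ := exists_lists I J hIJ H rs hrs
  have hK : LCI.IsKoszulRegularSeq A rs :=
    Groth.Agent.Lib.Helper94.isKoszulRegularSeq_of_isWeaklyRegular A rs hreg.toIsWeaklyRegular
  have hne : Ideal.ofList rs ≠ ⊤ := hrs ▸ hJ
  have hI : Ideal.ofList (fs ++ gs) = Ideal.ofList rs := hfg.trans hrs.symm
  have hlen' : (fs ++ gs).length = rs.length :=
    le_antisymm hlen
      (Groth.Agent.Lib.Helper10.KoszulMinGen.length_le_of_isKoszulRegularSeq rs (fs ++ gs) hK hne hI)
  have hK' := Groth.Agent.Lib.Helper10.KoszulGen.isKoszulRegularSeq_of_ofList_eq rs (fs ++ gs) hK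
    hI hlen'
  have hJm : J ≤ 𝔪 := IsLocalRing.le_maximalIdeal hJ
  have hmem : ∀ r ∈ fs ++ gs, r ∈ 𝔪 := fun r hr => hJm (hfg ▸ Ideal.subset_span hr)
  have hW := Groth.Agent.Lib.Helper73.GorenLCI.isWeaklyRegular_of_isKoszulRegularSeq (fs ++ gs) hmem hK'
  rw [isWeaklyRegular_append_iff] at hW
  obtain ⟨hWf, hWg⟩ := hW
  have hIne : I ≠ ⊤ := fun h => hJ (top_le_iff.mp (h ▸ hIJ))
  have hmapJ : Ideal.ofList (gs.map (Ideal.Quotient.mk I)) = J.map (Ideal.Quotient.mk I) := by
    rw [← hfg, Ideal.ofList_append, Ideal.map_sup, hfs, Ideal.map_quotient_self, bot_sup_eq,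
      Ideal.map_ofList]
  refine ⟨⟨fs, hfs, hWf, ?_⟩, gs.map (Ideal.Quotient.mk I), ?_, ?_, ?_⟩
  · rw [smul_eq_mul, Ideal.mul_top, hfs]
    exact hIne.symm
  · exact hmapJ
  · have hsm : (Ideal.ofList fs • ⊤ : Submodule A A) = I := by
      rw [smul_eq_mul, Ideal.mul_top, hfs]
    have h2 : IsWeaklyRegular (A ⧸ I) gs :=
      ((Submodule.quotEquivOfEq _ _ hsm).isWeaklyRegular_congr gs).mp hWg
    exact (isWeaklyRegular_map_algebraMap_iff (A ⧸ I) (A ⧸ I) gs).mpr h2
  · rw [smul_eq_mul, Ideal.mul_top]
    intro htop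
    rw [hmapJ] at htop
    have h2 := congrArg (Ideal.comap (Ideal.Quotient.mk I)) htop
    rw [Ideal.comap_map_of_surjective _ Ideal.Quotient.mk_surjective, Ideal.comap_top,
      ← RingHom.ker_eq_comap_bot, Ideal.mk_ker, sup_eq_left.mpr hIJ] at h2
    exact hJ h2.symm

end Main

end Groth.Agent.Lib.Helper10.RegSeqTorDim
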