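import Mathlib
import Groth.Agent.S2201
import Groth.Agent.Lib.Helper35.FTD
import Groth.Agent.Lib.Helper10.AvrLocQuot
import Groth.Agent.Lib.Helper10.GfMinGen

/-!
# Avramov's theorem for presentations: the local core (helper10)
-/

set_option autoImplicit false
universe u

namespace Groth.Agent.Lib.Helper10.AvrCore

open IsLocalRing Groth.Agent.Lib.Helper10.GoodFact

attribute [local instance] Localization.AtPrime.algebraOfLiesOver

section Core

variable {P₁ P₂ B B₂ C : Type u} [CommRing P₁] [CommRing P₂] [CommRing B] [CommRing B₂]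
  [CommRing C] [IsNoetherianRing P₁] [IsNoetherianRing P₂] [Algebra P₁ P₂] [Module.Flat P₁ P₂]
  (ψ₁ : P₁ →+* B) (θ : P₂ →+* B₂) (ψ₂ : B₂ →+* C) (φ₂ : B →+* C) (ι : B →+* B₂)
  (hψ₁ : Function.Surjective ψ₁) (hθ : Function.Surjective θ) (hψ₂ : Function.Surjective ψ₂)
  (hθι : θ.comp (algebraMap P₁ P₂) = ι.comp ψ₁) (hψ₂ι : ψ₂.comp ι = φ₂)
  (hkerθ : RingHom.ker θ = (RingHom.ker ψ₁).map (algebraMap P₁ P₂))
  (q : Ideal C) [q.IsPrime]

local notation "R₁" => Localization.AtPrime (Ideal.under P₁ (Ideal.comap (RingHom.comp ψ₂ θ) q))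
local notation "R₂" => Localization.AtPrime (Ideal.comap (RingHom.comp ψ₂ θ) q)

include hψ₁ hθ hψ₂ hθι hψ₂ι hkerθ in
theorem core
    (hfib : IsRegularLocalRing (R₂ ⧸ (maximalIdeal R₁).map (algebraMap R₁ R₂)))
    (hJ : GenReg R₂ ((RingHom.ker (ψ₂.comp θ)).map (algebraMap P₂ R₂)))
    (hftd : letI := φ₂.toAlgebra; DRing.HasFiniteTorDim B C) :
    GenReg R₁ ((RingHom.ker ψ₁).map (algebraMap P₁ R₁)) ∧
    GenReg (Localization.AtPrime (q.comap ψ₂))
      ((RingHom.ker ψ₂).map (algebraMap B₂ (Localization.AtPrime (q.comap ψ₂)))) := by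
  classical
  haveI : IsNoetherianRing R₁ :=
    IsLocalization.isNoetherianRing (Ideal.under P₁ (Ideal.comap (RingHom.comp ψ₂ θ) q)).primeCompl
      _ inferInstance
  haveI : IsNoetherianRing R₂ :=
    IsLocalization.isNoetherianRing (Ideal.comap (RingHom.comp ψ₂ θ) q).primeCompl _ inferInstance
  haveI : IsLocalHom (algebraMap R₁ R₂) := by
    rw [Localization.AtPrime.IsLiesOverAlgebra.algebraMap_eq]
    infer_instance
  set Q₂ : Ideal P₂ := Ideal.comap (RingHom.comp ψ₂ θ) q with hQ₂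
  set Q₁ : Ideal P₁ := Ideal.under P₁ Q₂ with hQ₁
  set I_R : Ideal R₁ := (RingHom.ker ψ₁).map (algebraMap P₁ R₁) with hI_R
  set J_S : Ideal R₂ := (RingHom.ker (ψ₂.comp θ)).map (algebraMap P₂ R₂) with hJ_S
  -- basic facts
  have hcomp : ∀ a : P₁, ψ₂ (θ (algebraMap P₁ P₂ a)) = φ₂ (ψ₁ a) := by
    intro a
    have h1 : θ (algebraMap P₁ P₂ a) = ι (ψ₁ a) := RingHom.congr_fun hθι a
    rw [h1, ← hψ₂ι]
    rfl
  have hker₁Q : RingHom.ker ψ₁ ≤ Q₁ := by
    intro a ha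
    rw [hQ₁, Ideal.under_def, Ideal.mem_comap, hQ₂, Ideal.mem_comap, RingHom.comp_apply, hcomp,
      (show ψ₁ a = 0 from ha), map_zero]
    exact q.zero_mem
  have hkerQ₂ : RingHom.ker (ψ₂.comp θ) ≤ Q₂ := by
    intro a ha
    rw [hQ₂, Ideal.mem_comap, (show (ψ₂.comp θ) a = 0 from ha)]
    exact q.zero_mem
  have hI : I_R ≠ ⊤ := by
    intro htop
    have h1 : I_R ≤ maximalIdeal R₁ := by
      rw [← Localization.AtPrime.map_eq_maximalIdeal]
      exact Ideal.map_mono hker₁Q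
    rw [htop] at h1
    exact (maximalIdeal.isMaximal R₁).ne_top (top_le_iff.mp h1)
  have hJne : J_S ≠ ⊤ := by
    intro htop
    have h1 : J_S ≤ maximalIdeal R₂ := by
      rw [← Localization.AtPrime.map_eq_maximalIdeal]
      exact Ideal.map_mono hkerQ₂
    rw [htop] at h1
    exact (maximalIdeal.isMaximal R₂).ne_top (top_le_iff.mp h1)
  have htower : (algebraMap R₁ R₂).comp (algebraMap P₁ R₁) =
      (algebraMap P₂ R₂).comp (algebraMap P₁ P₂) := by
    rw [← IsScalarTower.algebraMap_eq, ← IsScalarTower.algebraMap_eq]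
  have hmapI : I_R.map (algebraMap R₁ R₂) = (RingHom.ker θ).map (algebraMap P₂ R₂) := by
    rw [hI_R, Ideal.map_map, hkerθ, Ideal.map_map, htower]
  have hkerle : RingHom.ker θ ≤ RingHom.ker (ψ₂.comp θ) := by
    intro a ha
    rw [RingHom.mem_ker, RingHom.comp_apply, (show θ a = 0 from ha), map_zero]
  have hIJ : I_R.map (algebraMap R₁ R₂) ≤ J_S := by
    rw [hmapI]
    exact Ideal.map_mono hkerle
  have hIJ' : I_R ≤ J_S.comap (algebraMap R₁ R₂) := Ideal.map_le_iff_le_comap.mp hIJ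
  letI algQ : Algebra (R₁ ⧸ I_R) (R₂ ⧸ J_S) :=
    (Ideal.quotientMap J_S (algebraMap R₁ R₂) hIJ').toAlgebra
  haveI : IsScalarTower R₁ (R₁ ⧸ I_R) (R₂ ⧸ J_S) :=
    IsScalarTower.of_algebraMap_eq (R := R₁) (S := R₁ ⧸ I_R) (A := R₂ ⧸ J_S) (fun r => rfl)
  -- finite Tor dimension
  have hftd' : DRing.HasFiniteTorDim (R₁ ⧸ I_R) (R₂ ⧸ J_S) := by
    have hsurj₂ : Function.Surjective (ψ₂.comp θ) := hψ₂.comp hθ
    have hQ₁p : Q₁ = (q.comap φ₂).comap ψ₁ := by
      ext a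
      rw [hQ₁, Ideal.under_def, Ideal.mem_comap, hQ₂, Ideal.mem_comap, RingHom.comp_apply, hcomp,
        Ideal.mem_comap, Ideal.mem_comap]
    letI aCC' : Algebra C (R₂ ⧸ J_S) := (locQuotHom R₂ (ψ₂.comp θ) hsurj₂).toAlgebra
    haveI locC : IsLocalization.AtPrime (R₂ ⧸ J_S) q :=
      isLocalization_locQuot_atPrime R₂ (ψ₂.comp θ) hsurj₂ q
    haveI : Module.Flat C (R₂ ⧸ J_S) := IsLocalization.flat _ q.primeCompl
    letI aBC : Algebra B C := φ₂.toAlgebra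
    letI aBC' : Algebra B (R₂ ⧸ J_S) := ((algebraMap C (R₂ ⧸ J_S)).comp φ₂).toAlgebra
    haveI : IsScalarTower B C (R₂ ⧸ J_S) := IsScalarTower.of_algebraMap_eq (fun _ => rfl)
    have h1 : DRing.HasFiniteTorDim B (R₂ ⧸ J_S) :=
      Groth.Agent.Lib.Helper35.FTD.comp (A := B) (B := C) (R₂ ⧸ J_S) hftd
        (Groth.Agent.Lib.Helper35.FTD.of_flat _)
    letI aBB' : Algebra B (R₁ ⧸ I_R) := (locQuotHom R₁ ψ₁ hψ₁).toAlgebra
    haveI locB : IsLocalization (q.comap φ₂).primeCompl (R₁ ⧸ I_R) := by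
      have h := isLocalization_locQuot R₁ ψ₁ hψ₁ Q₁.primeCompl
      have h2 : Submonoid.map ψ₁ Q₁.primeCompl = (q.comap φ₂).primeCompl := by
        ext b
        constructor
        · rintro ⟨a, ha, rfl⟩
          intro hmem
          apply ha
          change a ∈ Q₁
          rw [hQ₁p]
          exact hmem
        · intro hb
          obtain ⟨a, rfl⟩ := hψ₁ b
          refine ⟨a, ?_, rfl⟩
          intro hmem
          apply hb
          change a ∈ Q₁ at hmem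
          rw [hQ₁p] at hmem
          exact hmem
      rw [h2] at h
      exact h
    haveI : Module.Flat B (R₁ ⧸ I_R) := IsLocalization.flat _ (q.comap φ₂).primeCompl
    haveI : IsScalarTower B (R₁ ⧸ I_R) (R₂ ⧸ J_S) := by
      refine IsScalarTower.of_algebraMap_eq (fun b => ?_)
      obtain ⟨a, rfl⟩ := hψ₁ b
      have hL : algebraMap B (R₂ ⧸ J_S) (ψ₁ a) =
          Ideal.Quotient.mk J_S (algebraMap P₂ R₂ (algebraMap P₁ P₂ a)) := by
        change locQuotHom R₂ (ψ₂.comp θ) hsurj₂ (φ₂ (ψ₁ a)) = _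
        rw [← hcomp, ← RingHom.comp_apply ψ₂ θ, locQuotHom_apply]
      have hR : algebraMap (R₁ ⧸ I_R) (R₂ ⧸ J_S) (algebraMap B (R₁ ⧸ I_R) (ψ₁ a)) =
          Ideal.Quotient.mk J_S (algebraMap R₁ R₂ (algebraMap P₁ R₁ a)) := by
        change Ideal.quotientMap J_S (algebraMap R₁ R₂) hIJ' (locQuotHom R₁ ψ₁ hψ₁ (ψ₁ a)) = _
        rw [locQuotHom_apply]
        rfl
      rw [hL, hR]
      exact congrArg _ (RingHom.congr_fun htower a).symm
    haveI : IsLocalization (Algebra.algebraMapSubmonoid (R₂ ⧸ J_S) (q.comap φ₂).primeCompl)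
        (R₂ ⧸ J_S) := by
      apply IsLocalization.of_le_isUnit
      rintro _ ⟨b, hb, rfl⟩
      change IsUnit (algebraMap C (R₂ ⧸ J_S) (φ₂ b))
      exact IsLocalization.map_units (R₂ ⧸ J_S) (⟨φ₂ b, hb⟩ : q.primeCompl)
    haveI hpo : Algebra.IsPushout B (R₂ ⧸ J_S) (R₁ ⧸ I_R) (R₂ ⧸ J_S) :=
      Algebra.isPushout_of_isLocalization (q.comap φ₂).primeCompl (R₁ ⧸ I_R) (R₂ ⧸ J_S) (R₂ ⧸ J_S)
    exact Groth.Agent.Lib.Helper35.FTD.baseChange (R := B) (S := R₂ ⧸ J_S) (R' := R₁ ⧸ I_R)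
      (S' := R₂ ⧸ J_S) h1
  have h2201 := (Groth.Agent.S2201.result I_R J_S hI hJne hIJ).1.mp ⟨hJ, hftd'⟩
  obtain ⟨hP3a, hP3b⟩ := h2201
  refine ⟨hP3a, ?_⟩
  -- the second regular sequence, transported to the local ring of `B₂`
  letI aL : Algebra B₂ (R₂ ⧸ (RingHom.ker θ).map (algebraMap P₂ R₂)) :=
    (locQuotHom R₂ θ hθ).toAlgebra
  haveI hR₂loc : IsLocalization.AtPrime R₂ ((q.comap ψ₂).comap θ) :=
    (inferInstance : IsLocalization.AtPrime R₂ Q₂)
  haveI locL : IsLocalization.AtPrime (R₂ ⧸ (RingHom.ker θ).map (algebraMap P₂ R₂)) (q.comap ψ₂) :=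
    isLocalization_locQuot_atPrime R₂ θ hθ (q.comap ψ₂)
  let e₁ : (R₂ ⧸ I_R.map (algebraMap R₁ R₂)) ≃+* (R₂ ⧸ (RingHom.ker θ).map (algebraMap P₂ R₂)) :=
    Ideal.quotEquivOfEq hmapI
  let e₂ : (R₂ ⧸ (RingHom.ker θ).map (algebraMap P₂ R₂)) ≃ₐ[B₂]
      Localization.AtPrime (q.comap ψ₂) :=
    IsLocalization.algEquiv (q.comap ψ₂).primeCompl _ _
  let e : (R₂ ⧸ I_R.map (algebraMap R₁ R₂)) ≃+* Localization.AtPrime (q.comap ψ₂) :=
    e₁.trans e₂.toRingEquiv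
  have hgen := GenReg.map_ringEquiv e hP3b
  have hhom : ((e : (R₂ ⧸ I_R.map (algebraMap R₁ R₂)) →+* Localization.AtPrime (q.comap ψ₂)).comp
      (Ideal.Quotient.mk (I_R.map (algebraMap R₁ R₂)))).comp (algebraMap P₂ R₂) =
      (algebraMap B₂ (Localization.AtPrime (q.comap ψ₂))).comp θ := by
    ext x
    change e₂ (e₁ (Ideal.Quotient.mk _ (algebraMap P₂ R₂ x))) = _
    have h1 : e₁ (Ideal.Quotient.mk _ (algebraMap P₂ R₂ x)) =
        algebraMap B₂ (R₂ ⧸ (RingHom.ker θ).map (algebraMap P₂ R₂)) (θ x) := by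
      change _ = locQuotHom R₂ θ hθ (θ x)
      rw [locQuotHom_apply]
      rfl
    rw [h1, AlgEquiv.commutes]
    rfl
  have hkerψ₂ : RingHom.ker ψ₂ = (RingHom.ker (ψ₂.comp θ)).map θ := by
    rw [← RingHom.comap_ker, Ideal.map_comap_of_surjective θ hθ]
  have hideal : (J_S.map (Ideal.Quotient.mk (I_R.map (algebraMap R₁ R₂)))).map
      (e : (R₂ ⧸ I_R.map (algebraMap R₁ R₂)) →+* Localization.AtPrime (q.comap ψ₂)) =
      (RingHom.ker ψ₂).map (algebraMap B₂ (Localization.AtPrime (q.comap ψ₂))) := by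
    rw [hJ_S, Ideal.map_map, Ideal.map_map, hhom, hkerψ₂, Ideal.map_map]
  rw [← hideal]
  exact hgen

end Core

end Groth.Agent.Lib.Helper10.AvrCore
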