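import Mathlib
import Groth.Prelude.Def_LCI2
import Groth.Prelude.Def_ega3
import Groth.Agent.Lib.Helper12.KoszulTop
import Groth.Agent.Lib.Helper94.KoszulBridge
import Groth.Agent.Lib.Helper10.KoszulFlat

/-!
# Composition of Koszul-regular sequences

If `fs` is Koszul-regular in `A`, `φ : A → B` is surjective with kernel `(fs)` and the image of `gs`
is Koszul-regular in `B`, then `gs ++ fs` is Koszul-regular in `A`.
-/

set_option autoImplicit false
universe u

namespace Groth.Agent.Lib.Helper10.KoszulComp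

open CategoryTheory CategoryTheory.Limits CochainComplex HomComplex
open Groth.Agent.Lib.Helper12.Koszul

section QI

variable {C : Type*} [Category C] [Abelian C]

attribute [local instance] HasDerivedCategory.standard in
/-- the map induced on cones by a commutative square of quasi-isomorphisms is a quasi-isomorphism. -/
lemma quasiIso_mappingCone_map {K₁ L₁ K₂ L₂ : CochainComplex C ℤ} (φ₁ : K₁ ⟶ L₁) (φ₂ : K₂ ⟶ L₂)
    (a : K₁ ⟶ K₂) (b : L₁ ⟶ L₂) (comm : φ₁ ≫ b = a ≫ φ₂) [QuasiIso a] [QuasiIso b] :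
    QuasiIso (mappingCone.map φ₁ φ₂ a b comm) := by
  rw [← DerivedCategory.isIso_Q_map_iff_quasiIso]
  have h1 := DerivedCategory.mappingCone_triangle_distinguished φ₁
  have h2 := DerivedCategory.mappingCone_triangle_distinguished φ₂
  let m := DerivedCategory.Q.mapTriangle.map (mappingCone.triangleMap φ₁ φ₂ a b comm)
  have i1 : IsIso m.hom₁ := (DerivedCategory.isIso_Q_map_iff_quasiIso (C := C) a).mpr inferInstance
  have i2 : IsIso m.hom₂ := (DerivedCategory.isIso_Q_map_iff_quasiIso (C := C) b).mpr inferInstance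
  exact Pretriangulated.isIso₃_of_isIso₁₂ m h1 h2 i1 i2

end QI

variable {A : Type u} [CommRing A]

lemma quasiIso_coneMap {K L : CochainComplex (ModuleCat.{u} A) ℤ} (f : A) (φ : K ⟶ L)
    [QuasiIso φ] : QuasiIso (coneMap f φ) :=
  quasiIso_mappingCone_map _ _ φ φ _

/-- iterated cones of multiplications. -/
noncomputable def CC : List A → CochainComplex (ModuleCat.{u} A) ℤ →
    CochainComplex (ModuleCat.{u} A) ℤ
  | [], K => K
  | g :: gs, K => mappingCone (g • 𝟙 (CC gs K))

lemma koszul_append (gs fs : List A) :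
    Koszul.koszul A (gs ++ fs) = CC gs (Koszul.koszul A fs) := by
  induction gs with
  | nil => rfl
  | cons g gs ih =>
    change mappingCone (g • 𝟙 (Koszul.koszul A (gs ++ fs))) = mappingCone (g • 𝟙 (CC gs _))
    rw [ih]

lemma koszulCx_eq_CC (M : ModuleCat.{u} A) (gs : List A) :
    CohIII.koszulCx M gs =
      CC gs ((HomologicalComplex.single (ModuleCat.{u} A) (ComplexShape.up ℤ) 0).obj M) := by
  induction gs with
  | nil => rfl
  | cons g gs ih =>
    change mappingCone (g • 𝟙 (CohIII.koszulCx M gs)) = mappingCone (g • 𝟙 (CC gs _))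
    rw [ih]

noncomputable def CCmap {K L : CochainComplex (ModuleCat.{u} A) ℤ} (φ : K ⟶ L) :
    ∀ gs : List A, CC gs K ⟶ CC gs L
  | [] => φ
  | g :: gs => coneMap g (CCmap φ gs)

lemma quasiIso_CCmap {K L : CochainComplex (ModuleCat.{u} A) ℤ} (φ : K ⟶ L) [QuasiIso φ] :
    ∀ gs : List A, QuasiIso (CCmap φ gs)
  | [] => ‹_›
  | g :: gs => by
    have := quasiIso_CCmap φ gs
    exact quasiIso_coneMap g (CCmap φ gs)

section Trunc

/-- a complex in degrees `≤ 0` with no cohomology in negative degrees is quasi-isomorphic to a module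
placed in degree `0`. -/
lemma exists_quasiIso_single (K : CochainComplex (ModuleCat.{u} A) ℤ) [K.IsStrictlyLE 0]
    [K.IsGE 0] :
    ∃ (M : ModuleCat.{u} A)
      (ε : K ⟶ (HomologicalComplex.single (ModuleCat.{u} A) (ComplexShape.up ℤ) 0).obj M),
      QuasiIso ε := by
  obtain ⟨M, ⟨e⟩⟩ := (K.truncGE 0).exists_iso_single 0
  exact ⟨M, K.πTruncGE 0 ≫ e.hom, inferInstance⟩

lemma isStrictlyLE_koszul (fs : List A) : (Koszul.koszul A fs).IsStrictlyLE 0 := by
  rw [Groth.Agent.Lib.Helper94.koszul_eq]
  infer_instance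

lemma isGE_koszul (fs : List A) (h : LCI.IsKoszulRegularSeq A fs) :
    (Koszul.koszul A fs).IsGE 0 := by
  rw [CochainComplex.isGE_iff]
  intro i hi
  rw [HomologicalComplex.exactAt_iff_isZero_homology]
  exact h i (by lia)

/-- the Koszul complex of a Koszul-regular sequence resolves `A ⧸ (fs)`. -/
lemma exists_quasiIso_koszul (fs : List A) (h : LCI.IsKoszulRegularSeq A fs) :
    ∃ (M : ModuleCat.{u} A)
      (ε : Koszul.koszul A fs ⟶
        (HomologicalComplex.single (ModuleCat.{u} A) (ComplexShape.up ℤ) 0).obj M),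
      QuasiIso ε ∧ Nonempty (M ≃ₗ[A] (A ⧸ Ideal.ofList fs)) := by
  have := isStrictlyLE_koszul fs
  have := isGE_koszul fs h
  obtain ⟨M, ε, hε⟩ := exists_quasiIso_single (Koszul.koszul A fs)
  refine ⟨M, ε, hε, ?_⟩
  obtain ⟨e⟩ := Groth.Agent.Lib.Helper12.KoszulTop.nonempty_top_equiv fs A
  have e1 : (Koszul.koszul A fs).homology 0 ≅ M :=
    asIso (HomologicalComplex.homologyMap ε 0) ≪≫
      HomologicalComplex.singleObjHomologySelfIso (ComplexShape.up ℤ) 0 M
  have e2 : ((Koszul.koszul A fs).homology 0) ≃ₗ[A]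
      (A ⧸ (Ideal.ofList fs • (⊤ : Submodule A A))) := by
    rw [Groth.Agent.Lib.Helper94.koszul_eq]
    exact e
  refine ⟨e1.symm.toLinearEquiv ≪≫ₗ e2 ≪≫ₗ Submodule.quotEquivOfEq _ _ ?_⟩
  simp

end Trunc

section Restrict

open Groth.Agent.Lib.Helper10.KoszulFlat

variable {B : Type u} [CommRing B] (φ : A →+* B)

/-- termwise restriction of scalars on complexes. -/
noncomputable abbrev Rc : CochainComplex (ModuleCat.{u} B) ℤ ⥤ CochainComplex (ModuleCat.{u} A) ℤ :=
  (ModuleCat.restrictScalars.{u} φ).mapHomologicalComplex (ComplexShape.up ℤ)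

lemma restrictScalars_map_smul {M N : ModuleCat.{u} B} (a : A) (g : M ⟶ N) :
    (ModuleCat.restrictScalars.{u} φ).map (φ a • g) =
      a • (ModuleCat.restrictScalars.{u} φ).map g := by
  ext m
  rfl

lemma Rc_map_smul_id (K : CochainComplex (ModuleCat.{u} B) ℤ) (a : A) :
    (Rc φ).map (φ a • 𝟙 K) = a • 𝟙 ((Rc φ).obj K) := by
  apply HomologicalComplex.hom_ext
  intro n
  change (ModuleCat.restrictScalars.{u} φ).map ((φ a • 𝟙 K : K ⟶ K).f n) = _
  rw [HomologicalComplex.smul_f_apply, restrictScalars_map_smul]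
  simp
  rfl

/-- restriction of scalars of the Koszul complex of the image sequence is the Koszul complex of the
sequence on the restricted module. -/
noncomputable def koszulRestrictIso : ∀ l : List A,
    ((Rc φ).obj (Koszul.koszul B (l.map φ)) ≅
      CohIII.koszulCx ((ModuleCat.restrictScalars.{u} φ).obj (ModuleCat.of B B)) l)
  | [] => (HomologicalComplex.singleMapHomologicalComplex (ModuleCat.restrictScalars.{u} φ)
    (ComplexShape.up ℤ) 0).app (ModuleCat.of B B)
  | f :: l =>
      mappingCone.mapHomologicalComplexIso (φ f • 𝟙 (Koszul.koszul B (l.map φ)))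
        (ModuleCat.restrictScalars.{u} φ) ≪≫
      coneCongr (Rc_map_smul_id φ (Koszul.koszul B (l.map φ)) f) ≪≫
      coneIso f (koszulRestrictIso l)

/-- restriction of scalars commutes with homology. -/
noncomputable def homologyRestrictIso (K : CochainComplex (ModuleCat.{u} B) ℤ) (i : ℤ) :
    ((Rc φ).obj K).homology i ≅ (ModuleCat.restrictScalars.{u} φ).obj (K.homology i) :=
  ShortComplex.mapHomologyIso (K.sc i) (ModuleCat.restrictScalars.{u} φ)

lemma isZero_homology_koszulCx_restrict (l : List A) (i : ℤ)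
    (h : IsZero ((Koszul.koszul B (l.map φ)).homology i)) :
    IsZero ((CohIII.koszulCx ((ModuleCat.restrictScalars.{u} φ).obj (ModuleCat.of B B))
      l).homology i) := by
  have h1 : IsZero (((Rc φ).obj (Koszul.koszul B (l.map φ))).homology i) :=
    IsZero.of_iso ((ModuleCat.restrictScalars.{u} φ).map_isZero h) (homologyRestrictIso φ _ i)
  exact IsZero.of_iso h1
    ((HomologicalComplex.homologyFunctor _ _ i).mapIso (koszulRestrictIso φ l)).symm

end Restrict

section Main

variable {B : Type u} [CommRing B] (φ : A →+* B)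

/-- `φ` as an `A`-linear map to `B` with restricted scalars. -/
noncomputable def linφ :
    A →ₗ[A] ((ModuleCat.restrictScalars.{u} φ).obj (ModuleCat.of B B)) where
  toFun a := (φ a : B)
  map_add' := map_add φ
  map_smul' a x := map_mul φ a x

/-- isomorphic modules have isomorphic Koszul complexes. -/
noncomputable def kIso' {M N : ModuleCat.{u} A} (e : M ≅ N) (gs : List A) :
    CohIII.koszulCx M gs ≅ CohIII.koszulCx N gs where
  hom := kMap e.hom gs
  inv := kMap e.inv gs
  hom_inv_id := by rw [← kMap_comp, e.hom_inv_id, kMap_id]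
  inv_hom_id := by rw [← kMap_comp, e.inv_hom_id, kMap_id]

lemma isZero_homology_of_eq {K K' : CochainComplex (ModuleCat.{u} A) ℤ} (h : K = K') (i : ℤ)
    (hz : IsZero (K'.homology i)) : IsZero (K.homology i) := by
  subst h
  exact hz

/-- **Composition of Koszul-regular sequences.**  If `fs` is Koszul-regular in `A`, `φ : A → B` is
surjective with kernel `(fs)` and `gs.map φ` is Koszul-regular in `B`, then `gs ++ fs` is
Koszul-regular in `A`. -/
theorem isKoszulRegularSeq_append (hφ : Function.Surjective φ) (fs gs : List A)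
    (hker : RingHom.ker φ = Ideal.ofList fs) (hf : LCI.IsKoszulRegularSeq A fs)
    (hg : LCI.IsKoszulRegularSeq B (gs.map φ)) : LCI.IsKoszulRegularSeq A (gs ++ fs) := by
  intro i hi
  obtain ⟨M, ε, hε, ⟨e⟩⟩ := exists_quasiIso_koszul fs hf
  apply isZero_homology_of_eq (koszul_append gs fs)
  have := quasiIso_CCmap ε gs
  have hk : Ideal.ofList fs = LinearMap.ker (linφ φ) := by
    rw [← hker]
    ext x
    rfl
  let e' : M ≃ₗ[A] ((ModuleCat.restrictScalars.{u} φ).obj (ModuleCat.of B B)) :=
    e ≪≫ₗ Submodule.quotEquivOfEq _ _ hk ≪≫ₗ LinearMap.quotKerEquivOfSurjective (linφ φ) hφ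
  have h0 := isZero_homology_koszulCx_restrict φ gs i (hg i hi)
  have h1 : IsZero ((CohIII.koszulCx M gs).homology i) :=
    h0.of_iso ((HomologicalComplex.homologyFunctor _ _ i).mapIso (kIso' e'.toModuleIso gs))
  have h2 := isZero_homology_of_eq (koszulCx_eq_CC M gs).symm i h1
  exact h2.of_iso (asIso (HomologicalComplex.homologyMap (CCmap ε gs) i))

end Main

end Groth.Agent.Lib.Helper10.KoszulComp
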