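import Mathlib
import Groth.Agent.Lib.Helper10.RegDescent

/-!
# Descent of "locally generated by a list of kind `K`" along finite flat covering families
(helper10)
-/

set_option autoImplicit false

universe u

namespace Groth.Agent.Lib.Helper10.RegDescent

open Groth.Agent.Lib.Helper10.FlatLocal

variable {K : Kind.{u}}

lemma Kind.map_ringEquiv {R R' : Type u} [CommRing R] [CommRing R'] (e : R ≃+* R') (l : List R)
    (h : K.P R l) : K.P R' (l.map e) :=
  K.map_flat (e : R →+* R') (RingHom.Flat.of_bijective e.bijective) l h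

/-- transfer of local data between two models of the localization away from `g`. -/
lemma exists_list_of_isLocalization {A : Type u} [CommRing A] (I : Ideal A) (g : A)
    (S S' : Type u) [CommRing S] [Algebra A S] [IsLocalization.Away g S]
    [CommRing S'] [Algebra A S'] [IsLocalization.Away g S']
    (l : List S) (hl : K.P S l) (hI : I.map (algebraMap A S) = Ideal.ofList l) :
    ∃ l' : List S', l'.length = l.length ∧ K.P S' l' ∧
      I.map (algebraMap A S') = Ideal.ofList l' := by
  let e : S ≃ₐ[A] S' := IsLocalization.algEquiv (Submonoid.powers g) S S'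
  refine ⟨l.map e, List.length_map _, K.map_ringEquiv e.toRingEquiv l hl, ?_⟩
  have hcomp : (e : S →+* S').comp (algebraMap A S) = algebraMap A S' :=
    RingHom.ext fun a => e.commutes a
  have h1 : Ideal.ofList (l.map e) = (Ideal.ofList l).map (e : S →+* S') :=
    (Ideal.map_ofList (e : S →+* S') l).symm
  rw [h1, ← hI, Ideal.map_map, hcomp]

/-- `IsLoc` with arbitrary models of the localizations. -/
lemma isLoc_iff_exists_isLocalization {A : Type u} [CommRing A] (I : Ideal A) :
    IsLoc K I ↔ ∀ 𝔭 : PrimeSpectrum A, I ≤ 𝔭.asIdeal → ∃ g : A, g ∉ 𝔭.asIdeal ∧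
      ∃ (S : Type u) (_ : CommRing S) (_ : Algebra A S) (_ : IsLocalization.Away g S)
        (l : List S), K.P S l ∧ I.map (algebraMap A S) = Ideal.ofList l := by
  constructor
  · intro h 𝔭 h𝔭
    obtain ⟨g, hg, l, hl, hI⟩ := h 𝔭 h𝔭
    exact ⟨g, hg, Localization.Away g, inferInstance, inferInstance, inferInstance, l, hl, hI⟩
  · intro h 𝔭 h𝔭
    obtain ⟨g, hg, S, _, _, _, l, hl, hI⟩ := h 𝔭 h𝔭
    obtain ⟨l', -, hl', hI'⟩ := exists_list_of_isLocalization (K := K) I g S
      (Localization.Away g) l hl hI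
    exact ⟨g, hg, l', hl', hI'⟩

section Pi

variable {ι : Type u} [Finite ι] (B : ι → Type u) [∀ i, CommRing (B i)]

/-- the localization of a finite product away from an element supported on one factor. -/
lemma isLocalization_away_single [DecidableEq ι] (i : ι) (g : B i) :
    letI : Algebra (Π j, B j) (Localization.Away g) :=
      ((algebraMap (B i) (Localization.Away g)).comp (Pi.evalRingHom B i)).toAlgebra
    IsLocalization.Away (Pi.single i g : Π j, B j) (Localization.Away g) := by
  letI : Algebra (Π j, B j) (Localization.Away g) :=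
    ((algebraMap (B i) (Localization.Away g)).comp (Pi.evalRingHom B i)).toAlgebra
  have halg : ∀ x : Π j, B j, algebraMap (Π j, B j) (Localization.Away g) x =
      algebraMap (B i) (Localization.Away g) (x i) := fun x => rfl
  refine IsLocalization.Away.mk _ ?_ ?_ ?_
  · rw [halg, Pi.single_eq_same]
    exact IsLocalization.Away.algebraMap_isUnit g
  · intro s
    obtain ⟨n, b, hb⟩ := IsLocalization.Away.surj g s
    refine ⟨n, Pi.single i b, ?_⟩
    rw [halg, halg, Pi.single_eq_same, Pi.single_eq_same]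
    exact hb
  · intro a b hab
    rw [halg, halg] at hab
    obtain ⟨n, hn⟩ := IsLocalization.Away.exists_of_eq g hab
    refine ⟨n + 1, ?_⟩
    funext j
    by_cases hj : j = i
    · subst hj
      simp only [Pi.mul_apply, Pi.pow_apply, Pi.single_eq_same]
      rw [pow_succ', mul_assoc, hn, ← mul_assoc]
    · simp only [Pi.mul_apply, Pi.pow_apply, Pi.single_eq_of_ne hj]
      rw [zero_pow (Nat.succ_ne_zero n), zero_mul, zero_mul]

lemma isLoc_pi {A : Type u} [CommRing A] (I : Ideal A) (ψ : ∀ i, A →+* B i)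
    (h : ∀ i, IsLoc K (I.map (ψ i))) : IsLoc K (I.map (Pi.ringHom ψ)) := by
  classical
  rw [isLoc_iff_exists_isLocalization]
  intro 𝔓 h𝔓
  obtain ⟨i, 𝔮, rfl⟩ := PrimeSpectrum.exists_comap_evalRingHom_eq 𝔓
  have h𝔮 : I.map (ψ i) ≤ 𝔮.asIdeal := by
    rw [Ideal.map_le_iff_le_comap]
    intro x hx
    exact h𝔓 (Ideal.mem_map_of_mem (Pi.ringHom ψ) hx)
  obtain ⟨g, hg, l, hl, hI⟩ := h i 𝔮 h𝔮
  refine ⟨Pi.single i g, ?_, Localization.Away g, inferInstance,
    ((algebraMap (B i) (Localization.Away g)).comp (Pi.evalRingHom B i)).toAlgebra,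
    isLocalization_away_single B i g, l, hl, ?_⟩
  · intro hmem
    have : (Pi.single i g : Π j, B j) i ∈ 𝔮.asIdeal := hmem
    rw [Pi.single_eq_same] at this
    exact hg this
  · rw [RingHom.algebraMap_toAlgebra, Ideal.map_map, ← hI, Ideal.map_map]
    congr 1

/-- descent along a finite, jointly surjective family of flat ring maps. -/
theorem isLoc_of_flat_family {A : Type u} [CommRing A] (I : Ideal A) (ψ : ∀ i, A →+* B i)
    (hflat : ∀ i, (ψ i).Flat)
    (hsurj : ∀ 𝔭 : PrimeSpectrum A, ∃ i, ∃ 𝔮 : PrimeSpectrum (B i), 𝔮.comap (ψ i) = 𝔭)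
    (h : ∀ i, IsLoc K (I.map (ψ i))) : IsLoc K I := by
  classical
  cases nonempty_fintype ι
  letI : ∀ i, Algebra A (B i) := fun i => (ψ i).toAlgebra
  haveI : ∀ i, Module.Flat A (B i) := fun i => hflat i
  haveI : Module.Flat A (Π i, B i) :=
    Module.Flat.of_linearEquiv (DFinsupp.linearEquivFunOnFintype (R := A) (M := B)).symm
  have halg : algebraMap A (Π i, B i) = Pi.ringHom ψ := rfl
  haveI : Module.FaithfullyFlat A (Π i, B i) := by
    apply Module.FaithfullyFlat.of_comap_surjective
    intro 𝔭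
    obtain ⟨i, 𝔮, h𝔮⟩ := hsurj 𝔭
    refine ⟨𝔮.comap (Pi.evalRingHom B i), ?_⟩
    rw [← h𝔮]
    rfl
  apply isLoc_of_faithfullyFlat (B := Π i, B i)
  rw [halg]
  exact isLoc_pi B I ψ h

end Pi

end Groth.Agent.Lib.Helper10.RegDescent
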