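import Mathlib
import Groth.Agent.Lib.Helper10.KoszulComp
import Groth.Agent.Lib.Helper10.KoszulGen
import Groth.Agent.Lib.Helper10.KoszulMinGen
import Groth.Agent.Lib.Helper10.RegDescentKoszul
import Groth.Agent.Lib.Helper10.RegDescentFamily

/-!
# Transitivity and removal of generators for locally Koszul-regular ideals (helper10)

* `isKoszulRegularSeq_of_append`: converse of the composition lemma for Koszul-regular sequences.
* `LocSq`: localizing a surjection of rings.
* `isLoc_comap_of_surjective`: preimages of locally Koszul-regular ideals under surjections with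
  locally Koszul-regular kernel.
* `isLoc_of_comap`: removal of a Koszul-regular kernel sequence (under an independence condition).
-/

set_option autoImplicit false
universe u

namespace Groth.Agent.Lib.Helper10.LciTrans

open CategoryTheory CategoryTheory.Limits CochainComplex HomComplex
open Groth.Agent.Lib.Helper10.KoszulComp Groth.Agent.Lib.Helper10.KoszulFlat
open Groth.Agent.Lib.Helper12.Koszul

section ConverseAppend

variable {A B : Type u} [CommRing A] [CommRing B] (φ : A →+* B)

lemma isZero_homology_koszul_of_restrict (l : List A) (i : ℤ)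
    (h : IsZero ((CohIII.koszulCx ((ModuleCat.restrictScalars.{u} φ).obj (ModuleCat.of B B))
      l).homology i)) :
    IsZero ((Koszul.koszul B (l.map φ)).homology i) := by
  have h1 : IsZero (((Rc φ).obj (Koszul.koszul B (l.map φ))).homology i) :=
    IsZero.of_iso h ((HomologicalComplex.homologyFunctor _ _ i).mapIso (koszulRestrictIso φ l))
  have h2 : IsZero ((ModuleCat.restrictScalars.{u} φ).obj
      ((Koszul.koszul B (l.map φ)).homology i)) :=
    IsZero.of_iso h1 (homologyRestrictIso φ _ i).symm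
  rw [ModuleCat.isZero_iff_subsingleton] at h2 ⊢
  exact h2

/-- **Converse composition.** If `fs` is Koszul-regular in `A`, `φ : A → B` is surjective with kernel
`(fs)` and `gs ++ fs` is Koszul-regular in `A`, then `gs.map φ` is Koszul-regular in `B`. -/
theorem isKoszulRegularSeq_of_append (hφ : Function.Surjective φ) (fs gs : List A)
    (hker : RingHom.ker φ = Ideal.ofList fs) (hf : LCI.IsKoszulRegularSeq A fs)
    (hgf : LCI.IsKoszulRegularSeq A (gs ++ fs)) : LCI.IsKoszulRegularSeq B (gs.map φ) := by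
  intro i hi
  obtain ⟨M, ε, hε, ⟨e⟩⟩ := exists_quasiIso_koszul fs hf
  have h0 : IsZero ((CC gs (Koszul.koszul A fs)).homology i) :=
    isZero_homology_of_eq (koszul_append gs fs).symm i (hgf i hi)
  have := quasiIso_CCmap ε gs
  have h1 : IsZero ((CC gs ((HomologicalComplex.single (ModuleCat.{u} A) (ComplexShape.up ℤ)
      0).obj M)).homology i) :=
    h0.of_iso (asIso (HomologicalComplex.homologyMap (CCmap ε gs) i)).symm
  have h2 : IsZero ((CohIII.koszulCx M gs).homology i) :=
    isZero_homology_of_eq (koszulCx_eq_CC M gs) i h1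
  have hk : Ideal.ofList fs = LinearMap.ker (linφ φ) := by
    rw [← hker]
    ext x
    rfl
  let e' : M ≃ₗ[A] ((ModuleCat.restrictScalars.{u} φ).obj (ModuleCat.of B B)) :=
    e ≪≫ₗ Submodule.quotEquivOfEq _ _ hk ≪≫ₗ LinearMap.quotKerEquivOfSurjective (linφ φ) hφ
  have h3 : IsZero ((CohIII.koszulCx ((ModuleCat.restrictScalars.{u} φ).obj
      (ModuleCat.of B B)) gs).homology i) :=
    h2.of_iso ((HomologicalComplex.homologyFunctor _ _ i).mapIso
      (kIso' e'.toModuleIso gs)).symm
  exact isZero_homology_koszul_of_restrict φ gs i h3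

end ConverseAppend

section LocSq

variable {S₀ R₁ S' R' : Type*} [CommRing S₀] [CommRing R₁] [CommRing S'] [CommRing R']
  [Algebra S₀ S'] [Algebra R₁ R'] (ε : S₀ →+* R₁) (G : S₀) (g : R₁) (hg : ε G = g)
  [IsLocalization.Away G S'] [IsLocalization.Away g R'] (φ : S' →+* R')
  (hsq : φ.comp (algebraMap S₀ S') = (algebraMap R₁ R').comp ε)

include hg hsq

lemma locSq_eq_map :
    φ = IsLocalization.map (M := Submonoid.powers G) (T := Submonoid.powers g) R' ε
      (by
        rintro _ ⟨n, rfl⟩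
        exact ⟨n, by simp [← hg]⟩) := by
  apply IsLocalization.ringHom_ext (Submonoid.powers G)
  rw [hsq, IsLocalization.map_comp]

lemma locSq_surjective (hε : Function.Surjective ε) : Function.Surjective φ := by
  have hT : Submonoid.map ε (Submonoid.powers G) = Submonoid.powers g := by
    rw [Submonoid.map_powers, hg]
  haveI : IsLocalization (Submonoid.map ε (Submonoid.powers G)) R' := by
    rw [hT]
    infer_instance
  have h1 := IsLocalization.map_surjective_of_surjective (S := S') (M := Submonoid.powers G)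
    (Q := R') (g := ε) hε
  have h2 : φ = IsLocalization.map R' ε (Submonoid.powers G).le_comap_map := by
    apply IsLocalization.ringHom_ext (Submonoid.powers G)
    rw [hsq, IsLocalization.map_comp]
  rw [h2]
  exact h1

lemma locSq_ker : RingHom.ker φ = (RingHom.ker ε).map (algebraMap S₀ S') := by
  have hT : Submonoid.map ε (Submonoid.powers G) = Submonoid.powers g := by
    rw [Submonoid.map_powers, hg]
  rw [locSq_eq_map ε G g hg φ hsq]
  exact IsLocalization.ker_map (S := S') R' ε hT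

lemma locSq_comap (hε : Function.Surjective ε) (J : Ideal R₁) :
    (J.comap ε).map (algebraMap S₀ S') = (J.map (algebraMap R₁ R')).comap φ := by
  have hφ := locSq_surjective ε G g hg φ hsq hε
  have hker := locSq_ker ε G g hg φ hsq
  have h1 : ((J.comap ε).map (algebraMap S₀ S')).map φ = J.map (algebraMap R₁ R') := by
    rw [Ideal.map_map, hsq, ← Ideal.map_map, Ideal.map_comap_of_surjective ε hε]
  have h2 : RingHom.ker φ ≤ (J.comap ε).map (algebraMap S₀ S') := by
    rw [hker]
    apply Ideal.map_mono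
    intro x hx
    rw [Ideal.mem_comap, RingHom.mem_ker.mp hx]
    exact J.zero_mem
  rw [← h1, Ideal.comap_map_of_surjective φ hφ]
  exact (sup_eq_left.mpr (by rw [← RingHom.ker_eq_comap_bot]; exact h2)).symm

end LocSq

section TR

open Groth.Agent.Lib.Helper10.RegDescent Groth.Agent.Lib.Helper10.RegDescentKoszul
open Groth.Agent.Lib.Helper10.FlatLocal

lemma comap_ofList_map {S' R' : Type*} [CommRing S'] [CommRing R'] (φ : S' →+* R')
    (hφ : Function.Surjective φ) (fs gs : List S') (hker : RingHom.ker φ = Ideal.ofList fs) :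
    (Ideal.ofList (gs.map φ)).comap φ = Ideal.ofList (gs ++ fs) := by
  rw [← Ideal.map_ofList, Ideal.comap_map_of_surjective φ hφ, ← RingHom.ker_eq_comap_bot, hker,
    Ideal.ofList_append]

lemma exists_map_eq {X Y : Type*} (f : X → Y) (hf : Function.Surjective f) (l : List Y) :
    ∃ l' : List X, l'.map f = l := by
  induction l with
  | nil => exact ⟨[], rfl⟩
  | cons a l ih =>
    obtain ⟨l', hl'⟩ := ih
    obtain ⟨x, hx⟩ := hf a
    exact ⟨x :: l', by rw [List.map_cons, hx, hl']⟩

variable {S₀ R₁ : Type u} [CommRing S₀] [CommRing R₁]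

/-- a prime containing the kernel of a surjection is the preimage of its image. -/
lemma mem_of_map_mem (ε : S₀ →+* R₁) (hε : Function.Surjective ε) (𝔓 : Ideal S₀)
    (hker : RingHom.ker ε ≤ 𝔓) (x : S₀) (hx : ε x ∈ 𝔓.map ε) : x ∈ 𝔓 := by
  have h1 : x ∈ (𝔓.map ε).comap ε := hx
  rw [Ideal.comap_map_of_surjective ε hε, ← RingHom.ker_eq_comap_bot, sup_eq_left.mpr hker] at h1
  exact h1

/-- **Transitivity.** The preimage of a locally Koszul-regular ideal under a surjection with locally
Koszul-regular kernel is locally Koszul-regular. -/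
theorem isLoc_comap_of_surjective (ε : S₀ →+* R₁) (hε : Function.Surjective ε)
    (hker : IsLoc koszulKind (RingHom.ker ε)) (J : Ideal R₁) (hJ : IsLoc koszulKind J) :
    IsLoc koszulKind (J.comap ε) := by
  rw [isLoc_iff_exists_isLocalization]
  intro 𝔓 h𝔓
  have hker𝔓 : RingHom.ker ε ≤ 𝔓.asIdeal := fun x hx => h𝔓 (by
    rw [Ideal.mem_comap, RingHom.mem_ker.mp hx]
    exact J.zero_mem)
  have h𝔮prime : (𝔓.asIdeal.map ε).IsPrime := Ideal.map_isPrime_of_surjective hε hker𝔓
  have hJ𝔮 : J ≤ 𝔓.asIdeal.map ε := by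
    have := Ideal.map_mono (f := ε) h𝔓
    rwa [Ideal.map_comap_of_surjective ε hε] at this
  obtain ⟨G₀, hG₀, fs₀, hfs₀, hkerfs⟩ := hker 𝔓 hker𝔓
  obtain ⟨g₁, hg₁, l₁, hl₁, hJl⟩ := hJ ⟨𝔓.asIdeal.map ε, h𝔮prime⟩ hJ𝔮
  obtain ⟨G₁, rfl⟩ := hε g₁
  have hG₁ : G₁ ∉ 𝔓.asIdeal := fun h => hg₁ (Ideal.mem_map_of_mem ε h)
  haveI : IsLocalization.Away (ε (G₀ * G₁))
      (Localization.Away (algebraMap R₁ (Localization.Away (ε G₁)) (ε G₀))) := by
    rw [map_mul]
    infer_instance
  obtain ⟨φ₂, hφ₂⟩ : ∃ φ₂ : Localization.Away (algebraMap S₀ (Localization.Away G₀) G₁) →+*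
      Localization.Away (algebraMap R₁ (Localization.Away (ε G₁)) (ε G₀)),
      φ₂ = IsLocalization.Away.map _ _ ε (G₀ * G₁) := ⟨_, rfl⟩
  have hsq : φ₂.comp (algebraMap S₀ _) = (algebraMap R₁ _).comp ε := by
    rw [hφ₂]
    exact IsLocalization.map_comp _
  have hφsurj := locSq_surjective ε (G₀ * G₁) _ rfl φ₂ hsq hε
  have hφker := locSq_ker ε (G₀ * G₁) _ rfl φ₂ hsq
  have hφcomap := locSq_comap ε (G₀ * G₁) _ rfl φ₂ hsq hε J
  -- the kernel sequence
  obtain ⟨fs₂, hfs₂⟩ : ∃ fs₂ : List (Localization.Away (algebraMap S₀ (Localization.Away G₀) G₁)),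
      fs₂ = fs₀.map (algebraMap (Localization.Away G₀) _) := ⟨_, rfl⟩
  have hfs₂reg : LCI.IsKoszulRegularSeq _ fs₂ := by
    rw [hfs₂]
    exact isKoszulRegularSeq_map _ (algebraMap_away_flat _) fs₀ hfs₀
  have hker₂ : RingHom.ker φ₂ = Ideal.ofList fs₂ := by
    rw [hφker, hfs₂, ← Ideal.map_ofList, ← hkerfs, Ideal.map_map,
      ← IsScalarTower.algebraMap_eq]
  -- the sequence for `J`
  obtain ⟨l₂, hl₂⟩ : ∃ l₂ : List (Localization.Away (algebraMap R₁ (Localization.Away (ε G₁))
      (ε G₀))), l₂ = l₁.map (algebraMap (Localization.Away (ε G₁)) _) := ⟨_, rfl⟩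
  have hl₂reg : LCI.IsKoszulRegularSeq _ l₂ := by
    rw [hl₂]
    exact isKoszulRegularSeq_map _ (algebraMap_away_flat _) l₁ hl₁
  have hJ₂ : J.map (algebraMap R₁ _) = Ideal.ofList l₂ := by
    rw [hl₂, ← Ideal.map_ofList, ← hJl, Ideal.map_map, ← IsScalarTower.algebraMap_eq]
  obtain ⟨gs, hgs⟩ := exists_map_eq φ₂ hφsurj l₂
  refine ⟨G₀ * G₁, fun hmem => (𝔓.isPrime.mem_or_mem hmem).elim hG₀ hG₁,
    Localization.Away (algebraMap S₀ (Localization.Away G₀) G₁), inferInstance, inferInstance,
    inferInstance, gs ++ fs₂, ?_, ?_⟩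
  · exact isKoszulRegularSeq_append φ₂ hφsurj fs₂ gs hker₂ hfs₂reg (by rw [hgs]; exact hl₂reg)
  · rw [hφcomap, hJ₂, ← hgs]
    exact comap_ofList_map φ₂ hφsurj fs₂ gs hker₂

end TR

section Count

open Groth.Agent.Lib.Helper10.FlatLocal

lemma NearGen.mono {R : Type u} [CommRing R] {J : Ideal R} {𝔭 : PrimeSpectrum R} {k k' : ℕ}
    (h : NearGen J 𝔭 k) (hk : k ≤ k') : NearGen J 𝔭 k' := by
  obtain ⟨g, hg, l, hlen, hJ⟩ := h
  refine ⟨g, hg, l ++ List.replicate (k' - k) 0, ?_, ?_⟩
  · rw [List.length_append, List.length_replicate, hlen]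
    omega
  · have h0 : Ideal.ofList (List.replicate (k' - k) (0 : Localization.Away g)) = ⊥ := by
      rw [Ideal.ofList, Ideal.span_eq_bot]
      intro x hx
      exact List.eq_of_mem_replicate hx
    rw [Ideal.ofList_append, ← hJ, h0, sup_bot_eq]

/-- independence passes to the local ring. -/
lemma ind_local {S₀ : Type*} [CommRing S₀] (𝔓 : Ideal S₀) [𝔓.IsPrime] (K : Ideal S₀) {m : ℕ}
    (f : Fin m → S₀)
    (hind : ∀ c : Fin m → S₀, ∑ i, c i * f i ∈ 𝔓 * K → ∀ i, c i ∈ 𝔓)
    (c : Fin m → Localization.AtPrime 𝔓)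
    (hc : ∑ i, c i * algebraMap S₀ (Localization.AtPrime 𝔓) (f i) ∈
      IsLocalRing.maximalIdeal (Localization.AtPrime 𝔓) *
        K.map (algebraMap S₀ (Localization.AtPrime 𝔓))) :
    ∀ i, c i ∈ IsLocalRing.maximalIdeal (Localization.AtPrime 𝔓) := by
  obtain ⟨b, hb⟩ := IsLocalization.exist_integer_multiples_of_finite 𝔓.primeCompl c
  choose c' hc' using hb
  have hbu : IsUnit (algebraMap S₀ (Localization.AtPrime 𝔓) (b : S₀)) :=
    IsLocalization.map_units _ b
  have h1 : algebraMap S₀ (Localization.AtPrime 𝔓) (∑ i, c' i * f i) ∈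
      (𝔓 * K).map (algebraMap S₀ (Localization.AtPrime 𝔓)) := by
    rw [Ideal.map_mul, Localization.AtPrime.map_eq_maximalIdeal]
    have : algebraMap S₀ (Localization.AtPrime 𝔓) (∑ i, c' i * f i) =
        algebraMap S₀ (Localization.AtPrime 𝔓) (b : S₀) *
          ∑ i, c i * algebraMap S₀ (Localization.AtPrime 𝔓) (f i) := by
      rw [map_sum, Finset.mul_sum]
      refine Finset.sum_congr rfl fun i _ => ?_
      rw [map_mul, hc' i, Algebra.smul_def, mul_assoc]
    rw [this]
    exact Ideal.mul_mem_left _ _ hc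
  obtain ⟨⟨y, v⟩, hyv⟩ := (IsLocalization.mem_map_algebraMap_iff 𝔓.primeCompl _).mp h1
  rw [← map_mul] at hyv
  obtain ⟨w, hw⟩ := (IsLocalization.eq_iff_exists 𝔓.primeCompl _).mp hyv
  have h2 : ∑ i, ((w : S₀) * (v : S₀) * c' i) * f i ∈ 𝔓 * K := by
    have : ∑ i, ((w : S₀) * (v : S₀) * c' i) * f i = (w : S₀) * ((∑ i, c' i * f i) * (v : S₀)) := by
      rw [Finset.sum_mul, Finset.mul_sum]
      refine Finset.sum_congr rfl fun i _ => ?_
      ring
    rw [this, hw]
    exact Ideal.mul_mem_left _ _ y.2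
  have h3 := hind _ h2
  intro i
  have h4 : c' i ∈ 𝔓 := by
    rcases (Ideal.IsPrime.mem_or_mem inferInstance (h3 i)) with h | h
    · rcases (Ideal.IsPrime.mem_or_mem inferInstance h) with h | h
      · exact absurd h w.2
      · exact absurd h v.2
    · exact h
  have h5 : algebraMap S₀ (Localization.AtPrime 𝔓) (c' i) ∈
      IsLocalRing.maximalIdeal (Localization.AtPrime 𝔓) :=
    (IsLocalization.AtPrime.to_map_mem_maximal_iff _ 𝔓 _).mpr h4
  rw [hc' i, Algebra.smul_def] at h5
  exact (Ideal.unit_mul_mem_iff_mem _ hbu).mp h5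

lemma exists_coeff_of_mem_span_image {L : Type*} [CommRing L] {m : ℕ} (y : Fin m → L) (j : ℕ)
    (n : L) (hn : n ∈ Ideal.span (y '' {i | i.val < j})) :
    ∃ c : Fin m → L, (∀ i : Fin m, j ≤ i.val → c i = 0) ∧ ∑ i, c i * y i = n := by
  classical
  induction hn using Submodule.span_induction with
  | mem x hx =>
    obtain ⟨i₀, hi₀, rfl⟩ := hx
    refine ⟨Pi.single i₀ 1, fun i hi => ?_, ?_⟩
    · have hne : i ≠ i₀ := by
        rintro rfl
        exact absurd hi₀ (not_lt.mpr hi)
      simp [Pi.single_apply, hne]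
    · simp [Pi.single_apply]
  | zero => exact ⟨0, fun _ _ => rfl, by simp⟩
  | add a b _ _ ha hb =>
    obtain ⟨ca, hca, hsa⟩ := ha
    obtain ⟨cb, hcb, hsb⟩ := hb
    refine ⟨ca + cb, fun i hi => by simp [hca i hi, hcb i hi], ?_⟩
    simp only [Pi.add_apply, add_mul, Finset.sum_add_distrib, hsa, hsb]
  | smul r a _ ha =>
    obtain ⟨ca, hca, hsa⟩ := ha
    refine ⟨r • ca, fun i hi => by simp [hca i hi], ?_⟩
    simp only [Pi.smul_apply, smul_eq_mul, mul_assoc, ← Finset.mul_sum, hsa]

/-- **Exchange.** In a local ring, independent elements of an ideal can be exchanged into a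
generating set. -/
lemma exchange {L : Type*} [CommRing L] [IsLocalRing L] (M : Ideal L) {m : ℕ} (y : Fin m → L)
    (hy : ∀ i, y i ∈ M)
    (hind : ∀ c : Fin m → L, ∑ i, c i * y i ∈ IsLocalRing.maximalIdeal L * M →
      ∀ i, c i ∈ IsLocalRing.maximalIdeal L)
    (T₀ : Finset L) (hT₀ : M = Ideal.span (T₀ : Set L)) :
    ∃ T : Finset L, T.card + m ≤ T₀.card ∧
      M = Ideal.span (Set.range y) ⊔ Ideal.span (T : Set L) := by
  classical
  have key : ∀ j : ℕ, j ≤ m → ∃ T : Finset L, T.card + j ≤ T₀.card ∧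
      M = Ideal.span (y '' {i | i.val < j}) ⊔ Ideal.span (T : Set L) := by
    intro j
    induction j with
    | zero =>
      intro _
      refine ⟨T₀, le_rfl, ?_⟩
      have : (y '' {i : Fin m | i.val < 0}) = ∅ := by
        ext x
        simp
      rw [this, Ideal.span_empty, bot_sup_eq]
      exact hT₀
    | succ j ih =>
      intro hj
      obtain ⟨T, hcard, hM⟩ := ih (by omega)
      have hjm : j < m := hj
      set jj : Fin m := ⟨j, hjm⟩ with hjj
      have hTM : Ideal.span (T : Set L) ≤ M := by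
        rw [hM]
        exact le_sup_right
      have hyjj : y jj ∈ Ideal.span (y '' {i | i.val < j}) ⊔ Ideal.span (T : Set L) := by
        rw [← hM]
        exact hy jj
      obtain ⟨n, hn, t, ht, hnt⟩ := Submodule.mem_sup.mp hyjj
      obtain ⟨a, -, hat⟩ := Submodule.mem_span_finset.mp ht
      obtain ⟨c, hc0, hcn⟩ := exists_coeff_of_mem_span_image y j n hn
      have hex : ∃ x₀ ∈ T, a x₀ ∉ IsLocalRing.maximalIdeal L := by
        by_contra hne
        have hall : ∀ x ∈ T, a x ∈ IsLocalRing.maximalIdeal L := by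
          intro x hx
          by_contra h
          exact hne ⟨x, hx, h⟩
        have htm : t ∈ IsLocalRing.maximalIdeal L * M := by
          rw [← hat]
          refine Ideal.sum_mem _ fun x hx => ?_
          rw [smul_eq_mul]
          exact Ideal.mul_mem_mul (hall x hx) (hTM (Ideal.subset_span hx))
        have hsum : ∑ i, (Pi.single jj 1 - c : Fin m → L) i * y i = t := by
          simp only [Pi.sub_apply, sub_mul, Finset.sum_sub_distrib, hcn]
          simp only [Pi.single_apply, ite_mul, one_mul, zero_mul, Finset.sum_ite_eq',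
            Finset.mem_univ, if_true]
          rw [← hnt]
          ring
        have h1 := hind _ (hsum ▸ htm) jj
        simp only [Pi.sub_apply, Pi.single_eq_same, hc0 jj le_rfl, sub_zero] at h1
        exact (IsLocalRing.maximalIdeal L).ne_top_iff_one.mp
          (IsLocalRing.maximalIdeal.isMaximal L).ne_top h1
      obtain ⟨x₀, hx₀T, hx₀⟩ := hex
      have hu : IsUnit (a x₀) := IsLocalRing.notMem_maximalIdeal.mp hx₀
      refine ⟨T.erase x₀, ?_, ?_⟩
      · rw [Finset.card_erase_of_mem hx₀T]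
        have : 0 < T.card := Finset.card_pos.mpr ⟨x₀, hx₀T⟩
        omega
      · have hNle : Ideal.span (y '' {i : Fin m | i.val < j}) ≤
            Ideal.span (y '' {i : Fin m | i.val < j + 1}) := by
          apply Ideal.span_mono
          apply Set.image_mono
          intro i hi
          exact Nat.lt_succ_of_lt hi
        have hyN : y jj ∈ Ideal.span (y '' {i : Fin m | i.val < j + 1}) :=
          Ideal.subset_span ⟨jj, Nat.lt_succ_self j, rfl⟩
        apply le_antisymm
        · rw [hM]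
          apply sup_le
          · exact hNle.trans le_sup_left
          · rw [Ideal.span_le]
            intro x hx
            by_cases hxx : x = x₀
            · subst hxx
              have h1 : a x * x = y jj - n - ∑ z ∈ T.erase x, a z * z := by
                have h2 := Finset.add_sum_erase T (fun z => a z * z) hx₀T
                have hat' : ∑ z ∈ T, a z * z = t := by
                  rw [← hat]
                  exact Finset.sum_congr rfl fun z _ => (smul_eq_mul _ _).symm
                rw [hat'] at h2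
                rw [← hnt, ← h2]
                ring
              have h3 : a x * x ∈ Ideal.span (y '' {i : Fin m | i.val < j + 1}) ⊔
                  Ideal.span ((T.erase x : Finset L) : Set L) := by
                rw [h1]
                refine Ideal.sub_mem _ (Ideal.sub_mem _ (Ideal.mem_sup_left hyN)
                  (Ideal.mem_sup_left (hNle hn))) ?_
                refine Ideal.sum_mem _ fun z hz => ?_
                exact Ideal.mul_mem_left _ _ (Ideal.mem_sup_right (Ideal.subset_span hz))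
              exact (Ideal.unit_mul_mem_iff_mem _ hu).mp h3
            · exact Ideal.mem_sup_right
                (Ideal.subset_span (Finset.mem_erase.mpr ⟨hxx, hx⟩))
        · apply sup_le
          · rw [Ideal.span_le]
            rintro _ ⟨i, -, rfl⟩
            exact hy i
          · refine (Ideal.span_mono ?_).trans hTM
            exact Finset.coe_subset.mpr (Finset.erase_subset _ _)
  obtain ⟨T, hcard, hM⟩ := key m le_rfl
  refine ⟨T, hcard, ?_⟩
  have : (y '' {i : Fin m | i.val < m}) = Set.range y := by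
    ext x
    simp
  rw [← this]
  exact hM

end Count

section CountMain

open Groth.Agent.Lib.Helper10.FlatLocal

variable {S₀ R₁ : Type u} [CommRing S₀] [CommRing R₁]

/-- **Counting generators.**  Let `ε : S₀ → R₁` be a ring map, `K` an f.g. ideal of `S₀`
contained in the preimage `𝔓` of a prime `𝔮`, and `f` a family of `m` elements of `K ∩ ker ε` which is
independent modulo `𝔓 K`.  If `K` is generated by `s` elements near `𝔓`, then `m ≤ s` and `ε(K)` is
generated by `s - m` elements near `𝔮`. -/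
theorem count (ε : S₀ →+* R₁) (K : Ideal S₀) (hK : K.FG) (𝔮 : PrimeSpectrum R₁)
    (hK𝔓 : K ≤ 𝔮.asIdeal.comap ε) {m : ℕ} (f : Fin m → S₀) (hfK : ∀ i, f i ∈ K)
    (hfε : ∀ i, ε (f i) = 0)
    (hind : ∀ c : Fin m → S₀, ∑ i, c i * f i ∈ (𝔮.asIdeal.comap ε) * K →
      ∀ i, c i ∈ 𝔮.asIdeal.comap ε)
    {s : ℕ} (hs : NearGen K (𝔮.comap ε) s) : m ≤ s ∧ NearGen (K.map ε) 𝔮 (s - m) := by
  classical
  set 𝔓 : Ideal S₀ := 𝔮.asIdeal.comap ε with h𝔓
  haveI : 𝔓.IsPrime := Ideal.comap_isPrime ε 𝔮.asIdeal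
  obtain ⟨G, hG, l, hlen, hKl⟩ := hs
  have hG' : G ∉ 𝔓 := hG
  -- generation in the local ring
  have hGu : IsUnit (algebraMap S₀ (Localization.AtPrime 𝔓) G) :=
    IsLocalization.map_units (M := 𝔓.primeCompl) _ ⟨G, hG'⟩
  set ρ : Localization.Away G →+* Localization.AtPrime 𝔓 :=
    IsLocalization.Away.lift G hGu with hρ
  have hρcomp : ρ.comp (algebraMap S₀ (Localization.Away G)) =
      algebraMap S₀ (Localization.AtPrime 𝔓) := IsLocalization.Away.lift_comp G hGu
  have hM : K.map (algebraMap S₀ (Localization.AtPrime 𝔓)) =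
      Ideal.span (((l.map ρ).toFinset : Finset _) : Set (Localization.AtPrime 𝔓)) := by
    rw [← hρcomp, ← Ideal.map_map, hKl, Ideal.map_ofList, List.coe_toFinset]
  have hcard0 : (l.map ρ).toFinset.card ≤ s := by
    refine (List.toFinset_card_le _).trans ?_
    rw [List.length_map, hlen]
  obtain ⟨T, hTcard, hMT⟩ := exchange (K.map (algebraMap S₀ (Localization.AtPrime 𝔓)))
    (fun i => algebraMap S₀ (Localization.AtPrime 𝔓) (f i))
    (fun i => Ideal.mem_map_of_mem _ (hfK i)) (ind_local 𝔓 K f hind) _ hM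
  have hms : m ≤ s := by omega
  refine ⟨hms, ?_⟩
  -- push to the local ring of `𝔮`
  set εL : Localization.AtPrime 𝔓 →+* Localization.AtPrime 𝔮.asIdeal :=
    Localization.localRingHom 𝔓 𝔮.asIdeal ε rfl with hεL
  have hεLcomp : εL.comp (algebraMap S₀ (Localization.AtPrime 𝔓)) =
      (algebraMap R₁ (Localization.AtPrime 𝔮.asIdeal)).comp ε :=
    RingHom.ext fun x => Localization.localRingHom_to_map 𝔓 𝔮.asIdeal ε rfl x
  have hJ : (K.map ε).map (algebraMap R₁ (Localization.AtPrime 𝔮.asIdeal)) =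
      Ideal.ofList (T.image εL).toList := by
    rw [Ideal.map_map, ← hεLcomp, ← Ideal.map_map, hMT, Ideal.map_sup, Ideal.map_span,
      Ideal.map_span]
    have h0 : Ideal.span (εL '' Set.range fun i => algebraMap S₀ (Localization.AtPrime 𝔓) (f i))
        = ⊥ := by
      rw [Ideal.span_eq_bot]
      rintro _ ⟨_, ⟨i, rfl⟩, rfl⟩
      have := RingHom.congr_fun hεLcomp (f i)
      simp only [RingHom.comp_apply] at this
      rw [this, hfε i, map_zero]
    rw [h0, bot_sup_eq, Ideal.ofList]
    congr 1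
    ext x
    simp
  have hflat : (algebraMap R₁ (Localization.AtPrime 𝔮.asIdeal)).Flat :=
    RingHom.flat_algebraMap_iff.mpr (IsLocalization.flat _ 𝔮.asIdeal.primeCompl)
  have hNG := nearGen_of_flat (K.map ε) (hK.map ε) (algebraMap R₁ (Localization.AtPrime 𝔮.asIdeal))
    hflat (IsLocalRing.closedPoint _) _ hJ
  have hcl : (IsLocalRing.closedPoint (Localization.AtPrime 𝔮.asIdeal)).comap
      (algebraMap R₁ (Localization.AtPrime 𝔮.asIdeal)) = 𝔮 := by
    ext1
    exact IsLocalization.AtPrime.comap_maximalIdeal (Localization.AtPrime 𝔮.asIdeal) 𝔮.asIdeal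
  rw [hcl] at hNG
  refine NearGen.mono hNG ?_
  rw [Finset.length_toList]
  have := Finset.card_image_le (s := T) (f := εL)
  omega

end CountMain

section RM

open Groth.Agent.Lib.Helper10.RegDescent Groth.Agent.Lib.Helper10.RegDescentKoszul
open Groth.Agent.Lib.Helper10.FlatLocal

variable {S₀ R₁ : Type u} [CommRing S₀] [CommRing R₁]

/-- **Removing a Koszul-regular kernel.**  Let `ε : S₀ → R₁` be a surjection whose kernel is generated
by a Koszul-regular sequence `fs` which is independent modulo `𝔓 · ε⁻¹(J)` for all primes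
`𝔓 = ε⁻¹(𝔮)`, `𝔮 ⊇ J`.  If `ε⁻¹(J)` is locally Koszul-regular, then so is `J`. -/
theorem isLoc_of_comap (ε : S₀ →+* R₁) (hε : Function.Surjective ε) (fs : List S₀)
    (hker : RingHom.ker ε = Ideal.ofList fs) (hfs : LCI.IsKoszulRegularSeq S₀ fs) (J : Ideal R₁)
    (hind : ∀ 𝔮 : PrimeSpectrum R₁, J ≤ 𝔮.asIdeal → ∀ c : Fin fs.length → S₀,
      ∑ i, c i * fs.get i ∈ (𝔮.asIdeal.comap ε) * (J.comap ε) → ∀ i, c i ∈ 𝔮.asIdeal.comap ε)
    (h : IsLoc koszulKind (J.comap ε)) : IsLoc koszulKind J := by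
  rw [isLoc_iff_exists_isLocalization]
  intro 𝔮 hJ𝔮
  have hKJ : (J.comap ε).map ε = J := Ideal.map_comap_of_surjective ε hε J
  have hK𝔓 : J.comap ε ≤ 𝔮.asIdeal.comap ε := Ideal.comap_mono hJ𝔮
  have hKfg : (J.comap ε).FG := h.fg
  have hfsker : ∀ i, fs.get i ∈ RingHom.ker ε := fun i => by
    rw [hker]
    exact Ideal.subset_span (List.get_mem fs i)
  have hkerK : RingHom.ker ε ≤ J.comap ε := fun x hx => by
    rw [Ideal.mem_comap, RingHom.mem_ker.mp hx]
    exact J.zero_mem
  obtain ⟨G, hG, l', hl'reg, hKl'⟩ := h (𝔮.comap ε) hK𝔓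
  have hNG : NearGen (J.comap ε) (𝔮.comap ε) l'.length := ⟨G, hG, l', rfl, hKl'⟩
  obtain ⟨hms, hNGJ⟩ := count ε (J.comap ε) hKfg 𝔮 hK𝔓 fs.get (fun i => hkerK (hfsker i))
    (fun i => RingHom.mem_ker.mp (hfsker i)) (hind 𝔮 hJ𝔮) hNG
  rw [hKJ] at hNGJ
  obtain ⟨g₁, hg₁, hh, hhlen, hJh⟩ := hNGJ
  obtain ⟨G₁, rfl⟩ := hε g₁
  have hGq : ε G ∉ 𝔮.asIdeal := hG
  haveI : IsLocalization.Away (ε (G * G₁))
      (Localization.Away (algebraMap R₁ (Localization.Away (ε G₁)) (ε G))) := by
    rw [map_mul]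
    infer_instance
  obtain ⟨φ₂, hφ₂⟩ : ∃ φ₂ : Localization.Away (algebraMap S₀ (Localization.Away G) G₁) →+*
      Localization.Away (algebraMap R₁ (Localization.Away (ε G₁)) (ε G)),
      φ₂ = IsLocalization.Away.map _ _ ε (G * G₁) := ⟨_, rfl⟩
  have hsq : φ₂.comp (algebraMap S₀ _) = (algebraMap R₁ _).comp ε := by
    rw [hφ₂]
    exact IsLocalization.map_comp _
  have hφsurj := locSq_surjective ε (G * G₁) _ rfl φ₂ hsq hε
  have hφker := locSq_ker ε (G * G₁) _ rfl φ₂ hsq
  have hφcomap := locSq_comap ε (G * G₁) _ rfl φ₂ hsq hε J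
  -- the kernel sequence
  obtain ⟨fs₂, hfs₂⟩ : ∃ fs₂ : List (Localization.Away (algebraMap S₀ (Localization.Away G) G₁)),
      fs₂ = fs.map (algebraMap S₀ _) := ⟨_, rfl⟩
  have hflat₂ : (algebraMap S₀ (Localization.Away (algebraMap S₀ (Localization.Away G) G₁))).Flat :=
    RingHom.flat_algebraMap_iff.mpr (IsLocalization.flat _ (Submonoid.powers (G * G₁)))
  have hfs₂reg : LCI.IsKoszulRegularSeq _ fs₂ := by
    rw [hfs₂]
    exact isKoszulRegularSeq_map _ hflat₂ fs hfs
  have hker₂ : RingHom.ker φ₂ = Ideal.ofList fs₂ := by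
    rw [hφker, hfs₂, ← Ideal.map_ofList, ← hker]
  -- the given Koszul-regular sequence for `K`
  obtain ⟨l₂, hl₂⟩ : ∃ l₂ : List (Localization.Away (algebraMap S₀ (Localization.Away G) G₁)),
      l₂ = l'.map (algebraMap (Localization.Away G) _) := ⟨_, rfl⟩
  have hl₂reg : LCI.IsKoszulRegularSeq _ l₂ := by
    rw [hl₂]
    exact isKoszulRegularSeq_map _ (algebraMap_away_flat _) l' hl'reg
  have hK₂ : (J.comap ε).map (algebraMap S₀ _) = Ideal.ofList l₂ := by
    rw [hl₂, ← Ideal.map_ofList, ← hKl', Ideal.map_map, ← IsScalarTower.algebraMap_eq]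
  -- the generators of `J`
  obtain ⟨h₂, hh₂⟩ : ∃ h₂ : List (Localization.Away (algebraMap R₁ (Localization.Away (ε G₁))
      (ε G))), h₂ = hh.map (algebraMap (Localization.Away (ε G₁)) _) := ⟨_, rfl⟩
  have hJ₂ : J.map (algebraMap R₁ _) = Ideal.ofList h₂ := by
    rw [hh₂, ← Ideal.map_ofList, ← hJh, Ideal.map_map, ← IsScalarTower.algebraMap_eq]
  obtain ⟨gs, hgs⟩ := exists_map_eq φ₂ hφsurj h₂
  have hEq : Ideal.ofList (gs ++ fs₂) = Ideal.ofList l₂ := by
    rw [← hK₂, hφcomap, hJ₂, ← hgs]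
    exact (comap_ofList_map φ₂ hφsurj fs₂ gs hker₂).symm
  have hlen : (gs ++ fs₂).length = l₂.length := by
    have h1 : gs.length = h₂.length := by rw [← hgs, List.length_map]
    rw [List.length_append, h1, hh₂, hfs₂, hl₂, List.length_map, List.length_map,
      List.length_map, hhlen]
    omega
  have hreg : LCI.IsKoszulRegularSeq _ (gs ++ fs₂) :=
    Groth.Agent.Lib.Helper10.KoszulGen.isKoszulRegularSeq_of_ofList_eq l₂ (gs ++ fs₂) hl₂reg hEq hlen
  have hreg' := isKoszulRegularSeq_of_append φ₂ hφsurj fs₂ gs hker₂ hfs₂reg hreg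
  rw [hgs] at hreg'
  refine ⟨ε (G * G₁), ?_, Localization.Away (algebraMap R₁ (Localization.Away (ε G₁)) (ε G)),
    inferInstance, inferInstance, inferInstance, h₂, hreg', hJ₂⟩
  rw [map_mul]
  exact fun hmem => (𝔮.isPrime.mem_or_mem hmem).elim hGq hg₁

end RM

section Der

variable {S₀ R₁ : Type*} [CommRing S₀] [CommRing R₁]

/-- independence from `ε`-derivations dual to the family. -/
lemma ind_of_derivation (ε : S₀ →+* R₁) {m : ℕ} (D : Fin m → S₀ →+ R₁)
    (hD : ∀ i a b, D i (a * b) = ε a * D i b + D i a * ε b)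
    (f : Fin m → S₀) (hfε : ∀ i, ε (f i) = 0) (u : Fin m → R₁)
    (hDf : ∀ i k, D i (f k) = if k = i then u i else 0)
    (𝔮 : Ideal R₁) [𝔮.IsPrime] (hu : ∀ i, u i ∉ 𝔮) (K : Ideal S₀) (hK : K ≤ 𝔮.comap ε)
    (c : Fin m → S₀) (hc : ∑ i, c i * f i ∈ (𝔮.comap ε) * K) : ∀ i, c i ∈ 𝔮.comap ε := by
  intro i
  have h1 : ∀ x ∈ (𝔮.comap ε) * K, D i x ∈ 𝔮 := by
    intro x hx
    induction hx using Submodule.mul_induction_on' with
    | mem_mul_mem p hp k hk =>
      rw [hD]
      exact 𝔮.add_mem (Ideal.mul_mem_right _ _ hp) (Ideal.mul_mem_left _ _ (hK hk))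
    | add x _ y _ hx hy =>
      rw [map_add]
      exact 𝔮.add_mem hx hy
  have h2 := h1 _ hc
  rw [map_sum] at h2
  have h3 : ∑ k, D i (c k * f k) = ε (c i) * u i := by
    have : ∀ k, D i (c k * f k) = if k = i then ε (c i) * u i else 0 := by
      intro k
      rw [hD, hDf, hfε, mul_zero, add_zero]
      split_ifs with hk
      · rw [hk]
      · rw [mul_zero]
    simp only [this, Finset.sum_ite_eq', Finset.mem_univ, if_true]
  rw [h3] at h2
  rcases Ideal.IsPrime.mem_or_mem inferInstance h2 with h | h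
  · exact h
  · exact absurd h (hu i)

end Der

end Groth.Agent.Lib.Helper10.LciTrans
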