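import Mathlib
import Groth.Agent.Lib.Helper10.LciTrans
import Groth.Agent.Lib.Helper94.KoszulBridge

/-!
# Locally Koszul-regular ideals and polynomial variables (helper10)

* `isLoc_comap_ringEquiv_iff`: invariance under ring isomorphisms.
* `isLoc_comap_evalRingHom_iff`: `I ⊆ T` is locally Koszul-regular iff its preimage under an
  evaluation `T[X] → T` is.
* `isLoc_comap_eval_iff`: the same for `MvPolynomial (Fin m) R → R`.
-/

set_option autoImplicit false
universe u

namespace Groth.Agent.Lib.Helper10.LciPoly

open Groth.Agent.Lib.Helper10.RegDescent Groth.Agent.Lib.Helper10.RegDescentKoszul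
open Groth.Agent.Lib.Helper10.LciTrans Groth.Agent.Lib.Helper10.KoszulFlat

section Basic

variable {A : Type u} [CommRing A]

/-- an ideal generated by a Koszul-regular sequence is locally Koszul-regular. -/
lemma isLoc_of_ofList (I : Ideal A) (l : List A) (hl : LCI.IsKoszulRegularSeq A l)
    (hI : I = Ideal.ofList l) : IsLoc koszulKind I := by
  intro 𝔭 _
  refine ⟨1, fun h => 𝔭.isPrime.ne_top ((Ideal.eq_top_iff_one _).mpr h),
    l.map (algebraMap A (Localization.Away (1 : A))),
    isKoszulRegularSeq_map _ (algebraMap_away_flat _) l hl, ?_⟩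
  rw [hI, Ideal.map_ofList]

lemma isLoc_bot : IsLoc koszulKind (⊥ : Ideal A) :=
  isLoc_of_ofList ⊥ []
    (Groth.Agent.Lib.Helper94.isKoszulRegularSeq_of_isWeaklyRegular A []
      (RingTheory.Sequence.IsWeaklyRegular.nil A A))
    (by rw [Ideal.ofList_nil])

variable {B : Type u} [CommRing B]

lemma isLoc_comap_ringEquiv (e : A ≃+* B) (I : Ideal B) (h : IsLoc koszulKind I) :
    IsLoc koszulKind (I.comap (e : A →+* B)) := by
  apply isLoc_comap_of_surjective (e : A →+* B) e.surjective _ I h
  have : RingHom.ker (e : A →+* B) = ⊥ := (RingHom.injective_iff_ker_eq_bot _).mp e.injective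
  rw [this]
  exact isLoc_bot

lemma isLoc_comap_ringEquiv_iff (e : A ≃+* B) (I : Ideal B) :
    IsLoc koszulKind (I.comap (e : A →+* B)) ↔ IsLoc koszulKind I := by
  refine ⟨fun h => ?_, isLoc_comap_ringEquiv e I⟩
  have h1 := isLoc_comap_ringEquiv e.symm _ h
  rw [Ideal.comap_comap] at h1
  have : (e : A →+* B).comp (e.symm : B →+* A) = RingHom.id B := by
    ext x
    simp
  rw [this, Ideal.comap_id] at h1
  exact h1

end Basic

section OneVar

open Polynomial

variable {T : Type u} [CommRing T]

lemma isKoszulRegularSeq_X_sub_C (q : T) :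
    LCI.IsKoszulRegularSeq (Polynomial T) [(X - C q : Polynomial T)] := by
  apply Groth.Agent.Lib.Helper94.isKoszulRegularSeq_of_isWeaklyRegular
  rw [RingTheory.Sequence.isWeaklyRegular_singleton_iff]
  exact (Polynomial.monic_X_sub_C q).isRegular.left.isSMulRegular

lemma evalRingHom_surjective (q : T) : Function.Surjective (Polynomial.evalRingHom q) :=
  fun t => ⟨C t, by simp⟩

lemma ker_evalRingHom_ofList (q : T) :
    RingHom.ker (Polynomial.evalRingHom q) = Ideal.ofList [(X - C q : Polynomial T)] := by
  rw [Polynomial.ker_evalRingHom, Ideal.ofList_singleton]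

/-- the `ε`-derivation `f ↦ f'(q)`. -/
noncomputable def derivEval (q : T) : Polynomial T →+ T :=
  ((Polynomial.evalRingHom q : Polynomial T →+* T) : Polynomial T →+ T).comp
    (Polynomial.derivative (R := T)).toAddMonoidHom

lemma derivEval_apply (q : T) (f : Polynomial T) : derivEval q f = (derivative f).eval q := rfl

theorem isLoc_comap_evalRingHom_iff (q : T) (I : Ideal T) :
    IsLoc koszulKind (I.comap (Polynomial.evalRingHom q)) ↔ IsLoc koszulKind I := by
  constructor
  · intro h
    refine isLoc_of_comap (Polynomial.evalRingHom q) (evalRingHom_surjective q) [X - C q]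
      (ker_evalRingHom_ofList q) (isKoszulRegularSeq_X_sub_C q) I ?_ h
    intro 𝔮 hJ𝔮 c hc
    refine ind_of_derivation (Polynomial.evalRingHom q) (fun _ => derivEval q) ?_
      (fun i => [(X - C q : Polynomial T)].get i) ?_ (fun _ => 1) ?_ 𝔮.asIdeal ?_
      (I.comap (Polynomial.evalRingHom q)) (Ideal.comap_mono hJ𝔮) c hc
    · intro _ a b
      simp only [derivEval_apply, derivative_mul, eval_add, eval_mul, coe_evalRingHom]
      ring
    · intro i
      have : [(X - C q : Polynomial T)].get i = X - C q := by
        fin_cases i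
        rfl
      rw [this]
      simp
    · intro i k
      have hk : [(X - C q : Polynomial T)].get k = X - C q := by
        fin_cases k
        rfl
      have hki : k = i := by
        fin_cases i
        fin_cases k
        rfl
      rw [hk, if_pos hki, derivEval_apply]
      simp
    · intro _ h1
      exact 𝔮.isPrime.ne_top ((Ideal.eq_top_iff_one _).mpr h1)
  · intro h
    refine isLoc_comap_of_surjective (Polynomial.evalRingHom q) (evalRingHom_surjective q) ?_ I h
    exact isLoc_of_ofList _ [X - C q] (isKoszulRegularSeq_X_sub_C q) (ker_evalRingHom_ofList q)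

end OneVar

section MultiVar

open MvPolynomial

/-- **Polynomial variables.**  `I ⊆ R` is locally Koszul-regular iff its preimage under an
evaluation map `R[y₁, …, yₘ] → R` is. -/
theorem isLoc_comap_eval_iff : ∀ (m : ℕ) {R : Type u} [CommRing R] (p : Fin m → R) (I : Ideal R),
    IsLoc koszulKind (I.comap (MvPolynomial.eval p)) ↔ IsLoc koszulKind I
  | 0, R, _, p, I => by
    have h : (MvPolynomial.eval p : MvPolynomial (Fin 0) R →+* R) =
        ((MvPolynomial.isEmptyRingEquiv R (Fin 0) : MvPolynomial (Fin 0) R ≃+* R) :
          MvPolynomial (Fin 0) R →+* R) := by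
      apply MvPolynomial.ringHom_ext
      · intro r
        simp only [MvPolynomial.eval_C, RingEquiv.coe_toRingHom,
          MvPolynomial.isEmptyRingEquiv_eq_coeff_zero]
        exact (MvPolynomial.coeff_zero_C r).symm
      · intro i
        exact i.elim0
    rw [h]
    exact isLoc_comap_ringEquiv_iff _ I
  | m + 1, R, _, p, I => by
    have hcomp : (MvPolynomial.eval p : MvPolynomial (Fin (m + 1)) R →+* R) =
        ((MvPolynomial.eval (fun i : Fin m => p i.succ)).comp
          (Polynomial.evalRingHom (C (p 0) : MvPolynomial (Fin m) R))).comp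
          ((MvPolynomial.finSuccEquiv R m).toRingEquiv :
            MvPolynomial (Fin (m + 1)) R →+* Polynomial (MvPolynomial (Fin m) R)) := by
      apply MvPolynomial.ringHom_ext
      · intro r
        simp [MvPolynomial.finSuccEquiv_apply]
      · intro i
        refine Fin.cases ?_ (fun j => ?_) i
        · simp [MvPolynomial.finSuccEquiv_X_zero]
        · simp [MvPolynomial.finSuccEquiv_X_succ]
    have h1 : I.comap (MvPolynomial.eval p : MvPolynomial (Fin (m + 1)) R →+* R) =
        ((I.comap (MvPolynomial.eval (fun i : Fin m => p i.succ))).comap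
          (Polynomial.evalRingHom (C (p 0) : MvPolynomial (Fin m) R))).comap
          ((MvPolynomial.finSuccEquiv R m).toRingEquiv :
            MvPolynomial (Fin (m + 1)) R →+* Polynomial (MvPolynomial (Fin m) R)) := by
      rw [Ideal.comap_comap, Ideal.comap_comap, ← RingHom.comp_assoc, ← hcomp]
    rw [h1, isLoc_comap_ringEquiv_iff, isLoc_comap_evalRingHom_iff, isLoc_comap_eval_iff m]

end MultiVar

end Groth.Agent.Lib.Helper10.LciPoly
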