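import Mathlib
import Groth.Agent.Lib.Helper10.LciPoly

/-!
# Locally Koszul-regular ideals and localization away from an element (helper10)

`P[T] → P[1/G]`, `T ↦ 1/G`, has kernel generated by the non-zero-divisor `G T - 1`; if the preimage
of `I P[1/G]` is locally Koszul-regular then so is `I P[1/G]`.  Also: `IsLoc` is Zariski local.
-/

set_option autoImplicit false
universe u

namespace Groth.Agent.Lib.Helper10.LciLocal

open Groth.Agent.Lib.Helper10.RegDescent Groth.Agent.Lib.Helper10.RegDescentKoszul
open Groth.Agent.Lib.Helper10.LciTrans Groth.Agent.Lib.Helper10.LciPoly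
open Groth.Agent.Lib.Helper10.FlatLocal

section Away

open Polynomial

variable {P : Type u} [CommRing P] (G : P)

/-- `G T - 1` is a non-zero-divisor of `P[T]`. -/
theorem isSMulRegular_C_mul_X_sub_one :
    IsSMulRegular (Polynomial P) (C G * X - 1 : Polynomial P) := by
  intro p q hpq
  simp only [smul_eq_mul] at hpq
  have hu : IsUnit ((C G * X - 1 : Polynomial P) : PowerSeries P) := by
    rw [PowerSeries.isUnit_iff_constantCoeff]
    simp
  have h1 : ((C G * X - 1 : Polynomial P) : PowerSeries P) * (p : PowerSeries P) =
      ((C G * X - 1 : Polynomial P) : PowerSeries P) * (q : PowerSeries P) := by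
    rw [← Polynomial.coe_mul, ← Polynomial.coe_mul, hpq]
  exact Polynomial.coe_injective P (hu.mul_left_cancel h1)

/-- The surjection `P[T] → P[1/G]`, `T ↦ 1/G`. -/
noncomputable def toAway : Polynomial P →+* Localization.Away G :=
  ((Localization.awayEquivAdjoin G).symm : AdjoinRoot (C G * X - 1) →+* Localization.Away G).comp
    (AdjoinRoot.mk (C G * X - 1))

theorem toAway_surjective : Function.Surjective (toAway G) :=
  (Localization.awayEquivAdjoin G).symm.surjective.comp AdjoinRoot.mk_surjective

theorem toAway_C (r : P) : toAway G (C r) = algebraMap P (Localization.Away G) r := by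
  simp only [toAway, RingHom.comp_apply]
  have : AdjoinRoot.mk (C G * X - 1) (C r) = algebraMap P (AdjoinRoot (C G * X - 1)) r := rfl
  rw [this]
  exact (Localization.awayEquivAdjoin G).symm.commutes r

theorem ker_toAway : RingHom.ker (toAway G) = Ideal.ofList [(C G * X - 1 : Polynomial P)] := by
  rw [Ideal.ofList_singleton]
  ext p
  simp only [toAway, RingHom.mem_ker, RingHom.comp_apply]
  rw [show ((Localization.awayEquivAdjoin G).symm : AdjoinRoot (C G * X - 1) →+*
      Localization.Away G) (AdjoinRoot.mk (C G * X - 1) p) =
      (Localization.awayEquivAdjoin G).symm (AdjoinRoot.mk (C G * X - 1) p) from rfl,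
    EmbeddingLike.map_eq_zero_iff, AdjoinRoot.mk_eq_zero, Ideal.mem_span_singleton]

lemma isKoszulRegularSeq_C_mul_X_sub_one :
    LCI.IsKoszulRegularSeq (Polynomial P) [(C G * X - 1 : Polynomial P)] := by
  apply Groth.Agent.Lib.Helper94.isKoszulRegularSeq_of_isWeaklyRegular
  rw [RingTheory.Sequence.isWeaklyRegular_singleton_iff]
  exact isSMulRegular_C_mul_X_sub_one G

/-- the `toAway`-derivation `f ↦ f'(1/G)`. -/
noncomputable def derivAway : Polynomial P →+ Localization.Away G :=
  ((toAway G : Polynomial P →+* Localization.Away G) : Polynomial P →+ Localization.Away G).comp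
    (Polynomial.derivative (R := P)).toAddMonoidHom

lemma derivAway_apply (f : Polynomial P) : derivAway G f = toAway G (derivative f) := rfl

/-- removing the generator `G T - 1`. -/
theorem isLoc_of_comap_toAway (J : Ideal (Localization.Away G))
    (h : IsLoc koszulKind (J.comap (toAway G))) : IsLoc koszulKind J := by
  refine isLoc_of_comap (toAway G) (toAway_surjective G) [C G * X - 1]
    (ker_toAway G) (isKoszulRegularSeq_C_mul_X_sub_one G) J ?_ h
  intro 𝔮 hJ𝔮 c hc
  have hf : ∀ i, [(C G * X - 1 : Polynomial P)].get i = C G * X - 1 := by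
    intro i
    fin_cases i
    rfl
  refine ind_of_derivation (toAway G) (fun _ => derivAway G) ?_
    (fun i => [(C G * X - 1 : Polynomial P)].get i) ?_
    (fun _ => algebraMap P (Localization.Away G) G) ?_ 𝔮.asIdeal ?_
    (J.comap (toAway G)) (Ideal.comap_mono hJ𝔮) c hc
  · intro _ a b
    simp only [derivAway_apply, derivative_mul, map_add, map_mul]
    ring
  · intro i
    rw [hf i]
    have : (C G * X - 1 : Polynomial P) ∈ RingHom.ker (toAway G) := by
      rw [ker_toAway, Ideal.ofList_singleton]
      exact Ideal.mem_span_singleton_self _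
    exact RingHom.mem_ker.mp this
  · intro i k
    have hki : k = i := by
      fin_cases i
      fin_cases k
      rfl
    rw [hf k, if_pos hki, derivAway_apply]
    simp [toAway_C]
  · intro _ h1
    exact 𝔮.isPrime.ne_top (Ideal.eq_top_of_isUnit_mem _ h1
      (IsLocalization.Away.algebraMap_isUnit G))

end Away

end Groth.Agent.Lib.Helper10.LciLocal
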