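import Mathlib
import Groth.Agent.Lib.Helper10.LciLocal

/-!
# Local complete intersection ring maps: flat base change of ideals, composition (helper10)
-/

set_option autoImplicit false
universe u

namespace Groth.Agent.Lib.Helper10.LciComp

open Groth.Agent.Lib.Helper10.RegDescent Groth.Agent.Lib.Helper10.RegDescentKoszul
open Groth.Agent.Lib.Helper10.LciTrans Groth.Agent.Lib.Helper10.LciPoly
open Groth.Agent.Lib.Helper10.FlatLocal

/-- **Flat base change** of "locally generated by a list of kind `K`". -/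
theorem isLoc_map_of_flat {K : Kind.{u}} {R R' : Type u} [CommRing R] [CommRing R'] (θ : R →+* R')
    (hθ : θ.Flat) (I : Ideal R) (h : IsLoc K I) : IsLoc K (I.map θ) := by
  intro 𝔮' h𝔮'
  have h𝔭 : I ≤ (𝔮'.comap θ).asIdeal := Ideal.map_le_iff_le_comap.mp h𝔮'
  obtain ⟨g, hg, l, hl, hIl⟩ := h (𝔮'.comap θ) h𝔭
  refine ⟨θ g, hg, l.map (Localization.awayMap θ g),
    K.map_flat _ (awayMap_flat θ g hθ) l hl, ?_⟩
  rw [← map_awayMap, hIl, Ideal.map_ofList]

/-- a ring map is a local complete intersection map. -/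
def IsLCIHom {A B : Type u} [CommRing A] [CommRing B] (φ : A →+* B) : Prop :=
  letI := φ.toAlgebra
  LCI.IsLCI A B

lemma isLCIHom_algebraMap {A B : Type u} [CommRing A] [CommRing B] [Algebra A B] :
    IsLCIHom (algebraMap A B) ↔ LCI.IsLCI A B := by
  unfold IsLCIHom
  rw [toAlgebra_algebraMap]

lemma isLCIHom_iff_of_eq {A B : Type u} [CommRing A] [CommRing B] [Algebra A B] (φ : A →+* B)
    (h : algebraMap A B = φ) : IsLCIHom φ ↔ LCI.IsLCI A B := by
  subst h
  exact isLCIHom_algebraMap

section Comp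

variable {A B C : Type u} [CommRing A] [CommRing B] [CommRing C]

/-- **Composition** of local complete intersection ring maps. -/
theorem isLCI_trans [Algebra A B] [Algebra B C] [Algebra A C] [IsScalarTower A B C]
    (hφ : LCI.IsLCI A B) (hψ : LCI.IsLCI B C) : LCI.IsLCI A C := by
  obtain ⟨hft1, n, α, hα, hIα⟩ := hφ
  obtain ⟨hft2, m, β, hβ, hIβ⟩ := hψ
  -- the intermediate maps
  obtain ⟨μ, hμ⟩ : ∃ μ : MvPolynomial (Fin m) (MvPolynomial (Fin n) A) →+* MvPolynomial (Fin m) B,
      μ = MvPolynomial.map α.toRingHom := ⟨_, rfl⟩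
  have hμsurj : Function.Surjective μ := by
    rw [hμ]
    exact MvPolynomial.map_surjective _ hα
  have hμker : IsLoc koszulKind (RingHom.ker μ) := by
    rw [hμ, MvPolynomial.ker_map]
    refine isLoc_map_of_flat (MvPolynomial.C : MvPolynomial (Fin n) A →+*
      MvPolynomial (Fin m) (MvPolynomial (Fin n) A)) ?_ _ hIα
    have : (MvPolynomial.C : MvPolynomial (Fin n) A →+*
        MvPolynomial (Fin m) (MvPolynomial (Fin n) A)) =
        algebraMap (MvPolynomial (Fin n) A) (MvPolynomial (Fin m) (MvPolynomial (Fin n) A)) :=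
      rfl
    rw [this, RingHom.flat_algebraMap_iff]
    infer_instance
  have hδ : IsLoc koszulKind ((RingHom.ker β.toRingHom).comap μ) :=
    isLoc_comap_of_surjective μ hμsurj hμker _ hIβ
  rw [RingHom.comap_ker] at hδ
  let Ψ : MvPolynomial (Fin (m + n)) A ≃ₐ[A] MvPolynomial (Fin m) (MvPolynomial (Fin n) A) :=
    (MvPolynomial.renameEquiv A finSumFinEquiv.symm).trans (MvPolynomial.sumAlgEquiv A (Fin m) (Fin n))
  obtain ⟨γr, hγr⟩ : ∃ γr : MvPolynomial (Fin (m + n)) A →+* C,
      γr = (β.toRingHom.comp μ).comp (Ψ.toRingEquiv : MvPolynomial (Fin (m + n)) A →+*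
        MvPolynomial (Fin m) (MvPolynomial (Fin n) A)) := ⟨_, rfl⟩
  have hcomm : ∀ a : A, γr (algebraMap A _ a) = algebraMap A C a := by
    intro a
    rw [hγr]
    simp only [RingHom.comp_apply]
    have h1 : (Ψ.toRingEquiv : MvPolynomial (Fin (m + n)) A →+*
        MvPolynomial (Fin m) (MvPolynomial (Fin n) A)) (algebraMap A _ a) =
        MvPolynomial.C (MvPolynomial.C a) := by
      change Ψ (algebraMap A _ a) = _
      rw [Ψ.commutes a]
      rfl
    rw [h1, hμ, MvPolynomial.map_C]
    have h2 : α.toRingHom (MvPolynomial.C a) = algebraMap A B a := α.commutes a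
    rw [h2]
    have h3 : β.toRingHom (MvPolynomial.C (algebraMap A B a)) =
        algebraMap B C (algebraMap A B a) := β.commutes _
    rw [h3, ← IsScalarTower.algebraMap_apply]
  obtain ⟨γ, hγ⟩ : ∃ γ : MvPolynomial (Fin (m + n)) A →ₐ[A] C,
      γ.toRingHom = γr := ⟨{ γr with commutes' := hcomm }, rfl⟩
  have hγsurj : Function.Surjective γ := by
    have : (γ : MvPolynomial (Fin (m + n)) A → C) = γr := by
      rw [← hγ]
      rfl
    rw [this, hγr]
    exact (hβ.comp hμsurj).comp Ψ.surjective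
  refine ⟨Algebra.FiniteType.trans hft1 hft2, m + n, γ, hγsurj, ?_⟩
  show IsLoc koszulKind (RingHom.ker γ.toRingHom)
  rw [hγ, hγr, ← RingHom.comap_ker]
  exact isLoc_comap_ringEquiv _ _ hδ

theorem isLCIHom_comp (φ : A →+* B) (ψ : B →+* C) (hφ : IsLCIHom φ) (hψ : IsLCIHom ψ) :
    IsLCIHom (ψ.comp φ) := by
  letI := φ.toAlgebra
  letI := ψ.toAlgebra
  letI := (ψ.comp φ).toAlgebra
  haveI : IsScalarTower A B C := IsScalarTower.of_algebraMap_eq (fun _ => rfl)
  exact isLCI_trans (A := A) (B := B) (C := C) hφ hψ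

end Comp

section Iso

variable {B B' : Type u} [CommRing B] [CommRing B']

/-- ring isomorphisms are local complete intersection maps. -/
theorem isLCIHom_ringEquiv (e : B ≃+* B') : IsLCIHom (e : B →+* B') := by
  letI := (e : B →+* B').toAlgebra
  have hsurj : Function.Surjective (Algebra.ofId B B') := e.surjective
  refine ⟨Algebra.FiniteType.of_surjective (Algebra.ofId B B') hsurj, 0,
    (Algebra.ofId B B').comp (MvPolynomial.isEmptyAlgEquiv B (Fin 0)).toAlgHom, ?_, ?_⟩
  · exact hsurj.comp (MvPolynomial.isEmptyAlgEquiv B (Fin 0)).surjective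
  · show IsLoc koszulKind _
    have : RingHom.ker ((Algebra.ofId B B').comp
        (MvPolynomial.isEmptyAlgEquiv B (Fin 0)).toAlgHom).toRingHom = ⊥ := by
      rw [← RingHom.injective_iff_ker_eq_bot]
      exact e.injective.comp (MvPolynomial.isEmptyAlgEquiv B (Fin 0)).injective
    rw [this]
    exact isLoc_bot

end Iso

section Span

variable {A B : Type u} [CommRing A] [CommRing B]

/-- **Local on the source.** -/
theorem isLCIHom_of_span (S9253 : ∀ (R S : Type u) [CommRing R] [CommRing S] [Algebra R S]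
      (m : ℕ) (g : Fin m → S), Ideal.span (Set.range g) = ⊤ →
      (∀ j, LCI.IsLCI R (Localization.Away (g j))) → LCI.IsLCI R S)
    (φ : A →+* B) (s : Set B) (hs : Ideal.span s = ⊤)
    (h : ∀ b ∈ s, IsLCIHom ((algebraMap B (Localization.Away b)).comp φ)) : IsLCIHom φ := by
  classical
  obtain ⟨s', hs's, hs'⟩ := (Ideal.span_eq_top_iff_finite s).mp hs
  letI := φ.toAlgebra
  refine S9253 A B s'.card (fun j => ((s'.equivFin.symm j : s') : B)) ?_ ?_
  · have : Set.range (fun j => ((s'.equivFin.symm j : s') : B)) = (s' : Set B) := by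
      ext x
      constructor
      · rintro ⟨j, rfl⟩
        exact (s'.equivFin.symm j).2
      · intro hx
        exact ⟨s'.equivFin ⟨x, hx⟩, by simp⟩
    rw [this]
    exact hs'
  · intro j
    have hb : ((s'.equivFin.symm j : s') : B) ∈ s := hs's (s'.equivFin.symm j).2
    exact (isLCIHom_iff_of_eq _ rfl).mp (h _ hb)

end Span

end Groth.Agent.Lib.Helper10.LciComp
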