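import Mathlib
import Groth.Agent.Lib.Helper10.LciComp
import Groth.Agent.Lib.Helper10.KoszulComp
import Groth.Agent.S9269
import Groth.Agent.S9253

/-!
# Smooth ring maps are local complete intersection maps (helper10)

* `IsPolyHom α`: `α : A → T` exhibits `T` as a polynomial ring in finitely many variables.
* `isLoc_ker_of_isLCIHom_comp`, `isLCIHom_comp_of_isPolyHom`: kernels of surjections from
  polynomial rings onto local complete intersection algebras.
* `isKoszulRegularSeq_relList`: the relations `f, Y g - 1` of a standard etale algebra.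
* `isLCI_of_smooth`: smooth algebras are local complete intersection algebras.
* `isLoc_ker_of_smooth`: a surjection from a smooth `A`-algebra onto a local complete intersection
  `A`-algebra has a locally Koszul-regular kernel.
-/

set_option autoImplicit false
universe u

namespace Groth.Agent.Lib.Helper10.LciSmooth

open Groth.Agent.Lib.Helper10.RegDescent Groth.Agent.Lib.Helper10.RegDescentKoszul
open Groth.Agent.Lib.Helper10.LciTrans Groth.Agent.Lib.Helper10.LciPoly
open Groth.Agent.Lib.Helper10.LciComp Groth.Agent.Lib.Helper10.LciLocal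
open Groth.Agent.Lib.Helper10.KoszulComp

section PolyHom

variable {A T C : Type u} [CommRing A] [CommRing T] [CommRing C]

/-- `α : A → T` exhibits `T` as a polynomial ring in finitely many variables over `A`. -/
def IsPolyHom (α : A →+* T) : Prop :=
  ∃ (n : ℕ) (e : MvPolynomial (Fin n) A ≃+* T),
    (e : MvPolynomial (Fin n) A →+* T).comp MvPolynomial.C = α

lemma isPolyHom_C (n : ℕ) : IsPolyHom (MvPolynomial.C : A →+* MvPolynomial (Fin n) A) :=
  ⟨n, RingEquiv.refl _, by ext; rfl⟩

lemma IsPolyHom.polynomial {α : A →+* T} (h : IsPolyHom α) :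
    IsPolyHom ((Polynomial.C : T →+* Polynomial T).comp α) := by
  obtain ⟨n, e, rfl⟩ := h
  refine ⟨n + 1, (MvPolynomial.finSuccEquiv A n).toRingEquiv.trans (Polynomial.mapEquiv e), ?_⟩
  ext a
  simp only [RingHom.comp_apply, RingEquiv.coe_toRingHom, RingEquiv.trans_apply]
  have : (MvPolynomial.finSuccEquiv A n).toRingEquiv (MvPolynomial.C a) =
      Polynomial.C (MvPolynomial.C a) := by
    show MvPolynomial.finSuccEquiv A n (MvPolynomial.C a) = _
    rw [MvPolynomial.finSuccEquiv_apply]
    simp
  rw [this]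
  simp [Polynomial.mapEquiv_apply]

/-- a surjection with locally Koszul-regular kernel from a polynomial ring gives a local complete
intersection map. -/
theorem isLCIHom_comp_of_isPolyHom {α : A →+* T} (hα : IsPolyHom α) (φ : T →+* C)
    (hφ : Function.Surjective φ) (h : IsLoc koszulKind (RingHom.ker φ)) :
    IsLCIHom (φ.comp α) := by
  obtain ⟨n, e, rfl⟩ := hα
  letI := (φ.comp ((e : MvPolynomial (Fin n) A →+* T).comp MvPolynomial.C)).toAlgebra
  let γ : MvPolynomial (Fin n) A →ₐ[A] C :=
    { toRingHom := φ.comp (e : MvPolynomial (Fin n) A →+* T)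
      commutes' := fun a => rfl }
  have hγ : Function.Surjective γ := hφ.comp e.surjective
  refine ⟨Algebra.FiniteType.of_surjective γ hγ, n, γ, hγ, ?_⟩
  show IsLoc koszulKind (RingHom.ker (φ.comp (e : MvPolynomial (Fin n) A →+* T)))
  rw [← RingHom.comap_ker]
  exact isLoc_comap_ringEquiv e _ h

/-- **Independence of the presentation**, for polynomial rings in the loose sense. -/
theorem isLoc_ker_of_isLCIHom_comp {α : A →+* T} (hα : IsPolyHom α) (φ : T →+* C)
    (hφ : Function.Surjective φ) (h : IsLCIHom (φ.comp α)) :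
    IsLoc koszulKind (RingHom.ker φ) := by
  obtain ⟨n, e, rfl⟩ := hα
  letI := (φ.comp ((e : MvPolynomial (Fin n) A →+* T).comp MvPolynomial.C)).toAlgebra
  obtain ⟨-, m, β, hβ, hreg⟩ := h
  let γ : MvPolynomial (Fin n) A →ₐ[A] C :=
    { toRingHom := φ.comp (e : MvPolynomial (Fin n) A →+* T)
      commutes' := fun a => rfl }
  have hγ : Function.Surjective γ := hφ.comp e.surjective
  have h1 : IsLoc koszulKind (RingHom.ker γ.toRingHom) :=
    Groth.Agent.S9269.result A C m n β hβ γ hγ hreg
  have h2 : RingHom.ker γ.toRingHom = (RingHom.ker φ).comap (e : MvPolynomial (Fin n) A →+* T) := by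
    show RingHom.ker (φ.comp (e : MvPolynomial (Fin n) A →+* T)) = _
    rw [← RingHom.comap_ker]
  rw [h2] at h1
  exact (isLoc_comap_ringEquiv_iff e _).mp h1

/-- polynomial rings are local complete intersection algebras. -/
theorem IsPolyHom.isLCIHom {α : A →+* T} (hα : IsPolyHom α) : IsLCIHom α := by
  have h := isLCIHom_comp_of_isPolyHom hα (RingHom.id T) Function.surjective_id (by
    have : RingHom.ker (RingHom.id T) = ⊥ :=
      (RingHom.injective_iff_ker_eq_bot _).mp Function.injective_id
    rw [this]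
    exact isLoc_bot)
  rwa [RingHom.id_comp] at h

/-- a surjection with locally Koszul-regular kernel is a local complete intersection map. -/
theorem isLCIHom_of_surjective (φ : T →+* C) (hφ : Function.Surjective φ)
    (h : IsLoc koszulKind (RingHom.ker φ)) : IsLCIHom φ := by
  have hα : IsPolyHom (RingHom.id T) :=
    ⟨0, (MvPolynomial.isEmptyAlgEquiv T (Fin 0)).toRingEquiv, by
      ext x
      show MvPolynomial.isEmptyAlgEquiv T (Fin 0) (MvPolynomial.C x) = x
      exact (MvPolynomial.isEmptyAlgEquiv T (Fin 0)).commutes x⟩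
  have := isLCIHom_comp_of_isPolyHom hα φ hφ h
  rwa [RingHom.comp_id] at this

end PolyHom

section Ind

variable {T S : Type*} [CommRing T] [CommRing S]

/-- triangular independence for two relations, from two `ε`-derivations. -/
lemma ind_two (ε : T →+* S) (D₀ D₁ : T →+ S)
    (hD₀ : ∀ a b, D₀ (a * b) = ε a * D₀ b + D₀ a * ε b)
    (hD₁ : ∀ a b, D₁ (a * b) = ε a * D₁ b + D₁ a * ε b)
    (f₀ f₁ : T) (hf₀ : ε f₀ = 0) (hf₁ : ε f₁ = 0) (h01 : D₀ f₁ = 0)
    (𝔮 : Ideal S) [𝔮.IsPrime] (hu₀ : D₀ f₀ ∉ 𝔮) (hu₁ : D₁ f₁ ∉ 𝔮) (K : Ideal T)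
    (hK : K ≤ 𝔮.comap ε) (c₀ c₁ : T) (hc : c₀ * f₀ + c₁ * f₁ ∈ (𝔮.comap ε) * K) :
    c₀ ∈ 𝔮.comap ε ∧ c₁ ∈ 𝔮.comap ε := by
  have h1 : ∀ D : T →+ S, (∀ a b, D (a * b) = ε a * D b + D a * ε b) →
      ∀ x ∈ (𝔮.comap ε) * K, D x ∈ 𝔮 := by
    intro D hD x hx
    induction hx using Submodule.mul_induction_on' with
    | mem_mul_mem p hp k hk =>
      rw [hD]
      exact 𝔮.add_mem (Ideal.mul_mem_right _ _ hp) (Ideal.mul_mem_left _ _ (hK hk))
    | add x _ y _ hx hy =>
      rw [map_add]
      exact 𝔮.add_mem hx hy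
  have h0 : c₀ ∈ 𝔮.comap ε := by
    have h2 := h1 D₀ hD₀ _ hc
    rw [map_add, hD₀, hD₀, hf₀, hf₁, h01, mul_zero, mul_zero, mul_zero, add_zero, add_zero,
      add_zero] at h2
    rcases Ideal.IsPrime.mem_or_mem inferInstance h2 with h | h
    · exact h
    · exact absurd h hu₀
  refine ⟨h0, ?_⟩
  have h2 := h1 D₁ hD₁ _ hc
  rw [map_add, hD₁, hD₁, hf₀, hf₁, mul_zero, mul_zero, add_zero, add_zero] at h2
  have h3 : ε c₁ * D₁ f₁ ∈ 𝔮 := by
    have := 𝔮.sub_mem h2 (Ideal.mul_mem_right (D₁ f₀) _ h0)
    simpa using this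
  rcases Ideal.IsPrime.mem_or_mem inferInstance h3 with h | h
  · exact h
  · exact absurd h hu₁

end Ind

section StdEtale

open Polynomial
open scoped Polynomial.Bivariate

variable {R : Type u} [CommRing R] (P : StandardEtalePair R)

/-- the relations of the standard etale algebra `R[X][Y]/(f, Y g - 1)`. -/
noncomputable def relList : List R[X][Y] := [Y * C P.g - 1, C P.f]

lemma ofList_relList : Ideal.ofList (relList P) = Ideal.span {C P.f, Y * C P.g - 1} := by
  rw [relList, Ideal.ofList]
  congr 1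
  ext x
  simp [or_comm]

/-- the reduction `R[X][Y] → (R[X]/f)[Y]`. -/
noncomputable def quotMap : R[X][Y] →+* (AdjoinRoot P.f)[X] :=
  Polynomial.mapRingHom (AdjoinRoot.mk P.f)

lemma quotMap_surjective : Function.Surjective (quotMap P) :=
  Polynomial.map_surjective _ AdjoinRoot.mk_surjective

lemma ker_quotMap : RingHom.ker (quotMap P) = Ideal.ofList [C P.f] := by
  have h1 : RingHom.ker (AdjoinRoot.mk P.f) = Ideal.span {P.f} := by
    ext x
    rw [RingHom.mem_ker, AdjoinRoot.mk_eq_zero, Ideal.mem_span_singleton]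
  rw [quotMap, Polynomial.ker_mapRingHom, h1, Ideal.map_span, Set.image_singleton,
    Ideal.ofList_singleton]

lemma isKoszulRegularSeq_C_f : LCI.IsKoszulRegularSeq R[X][Y] [C P.f] := by
  apply Groth.Agent.Lib.Helper94.isKoszulRegularSeq_of_isWeaklyRegular
  rw [RingTheory.Sequence.isWeaklyRegular_singleton_iff]
  intro p q hpq
  simp only [smul_eq_mul] at hpq
  ext1 n
  have := congrArg (fun r => Polynomial.coeff r n) hpq
  simp only [Polynomial.coeff_C_mul] at this
  exact P.monic_f.isRegular.left this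

theorem isKoszulRegularSeq_relList : LCI.IsKoszulRegularSeq R[X][Y] (relList P) := by
  have := isKoszulRegularSeq_append (quotMap P) (quotMap_surjective P) [C P.f] [Y * C P.g - 1]
    (ker_quotMap P) (isKoszulRegularSeq_C_f P) (by
      have h1 : [Y * C P.g - 1].map (quotMap P) =
          [(C (AdjoinRoot.mk P.f P.g) * X - 1 : (AdjoinRoot P.f)[X])] := by
        simp only [List.map_cons, List.map_nil, quotMap, Polynomial.coe_mapRingHom]
        rw [mul_comm, Polynomial.map_sub, Polynomial.map_mul, Polynomial.map_one,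
          Polynomial.map_X, Polynomial.map_C]
      rw [h1]
      exact isKoszulRegularSeq_C_mul_X_sub_one _)
  exact this

variable {S : Type u} [CommRing S] [Algebra R S] (Q : StandardEtalePresentation R S)

/-- the surjection `R[X][Y] → S` of a standard etale presentation. -/
noncomputable def eps : R[X][Y] →+* S :=
  (Q.equivRing.symm : Q.P.Ring →+* S).comp
    ((Q.P.equivPolynomialQuotient.symm : _ →+* Q.P.Ring).comp
      (Ideal.Quotient.mk (Ideal.span {C Q.f, Y * C Q.g - 1})))

lemma eps_apply (p : R[X][Y]) :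
    eps Q p = aevalAeval Q.x (↑(Q.hasMap.2.unit⁻¹) : S) p := rfl

lemma eps_C_C (r : R) : eps Q (C (C r)) = algebraMap R S r := by
  rw [eps_apply]
  simp

lemma eps_surjective : Function.Surjective (eps Q) :=
  Q.equivRing.symm.surjective.comp
    (Q.P.equivPolynomialQuotient.symm.surjective.comp Ideal.Quotient.mk_surjective)

lemma ker_eps : RingHom.ker (eps Q) = Ideal.ofList (relList Q.P) := by
  rw [ofList_relList]
  ext p
  rw [RingHom.mem_ker]
  show Q.equivRing.symm (Q.P.equivPolynomialQuotient.symm (Ideal.Quotient.mk _ p)) = 0 ↔ _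
  rw [EmbeddingLike.map_eq_zero_iff, EmbeddingLike.map_eq_zero_iff,
    Ideal.Quotient.eq_zero_iff_mem]

lemma eps_rel₀ : eps Q (Y * C Q.g - 1) = 0 := by
  rw [← RingHom.mem_ker, ker_eps, ofList_relList]
  exact Ideal.subset_span (by simp)

lemma eps_rel₁ : eps Q (C Q.f) = 0 := by
  rw [← RingHom.mem_ker, ker_eps, ofList_relList]
  exact Ideal.subset_span (by simp)

lemma isUnit_eps_C_g : IsUnit (eps Q (C Q.g)) := by
  have h := eps_rel₀ Q
  rw [map_sub, map_one, map_mul, sub_eq_zero] at h
  exact IsUnit.of_mul_eq_one _ (by rw [mul_comm]; exact h)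

lemma isUnit_eps_C_derivative_f : IsUnit (eps Q (C (derivative Q.f))) := by
  obtain ⟨p₁, p₂, n, hcond⟩ := Q.cond
  have h := congrArg (fun r => eps Q (C r)) hcond
  simp only [map_add, map_mul, map_pow, eps_rel₁, zero_mul, add_zero] at h
  exact isUnit_of_mul_isUnit_left (h ▸ (isUnit_eps_C_g Q).pow n)

/-- the `eps`-derivation `∂/∂Y`. -/
noncomputable def derivY : R[X][Y] →+ S :=
  ((eps Q : R[X][Y] →+* S) : R[X][Y] →+ S).comp (derivative (R := R[X])).toAddMonoidHom

lemma derivY_apply (p : R[X][Y]) : derivY Q p = eps Q (derivative p) := rfl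

/-- the `eps`-derivation `∂/∂X`. -/
noncomputable def derivX : R[X][Y] →+ S :=
  ((eps Q : R[X][Y] →+* S) : R[X][Y] →+ S).comp
    (((Bivariate.swap (R := R)).toRingEquiv.toRingHom : R[X][Y] →+ R[X][Y]).comp
      ((derivative (R := R[X])).toAddMonoidHom.comp
        ((Bivariate.swap (R := R)).toRingEquiv.toRingHom : R[X][Y] →+ R[X][Y])))

lemma derivX_apply (p : R[X][Y]) :
    derivX Q p = eps Q (Bivariate.swap (derivative (Bivariate.swap p))) := rfl

lemma derivY_mul (a b : R[X][Y]) :
    derivY Q (a * b) = eps Q a * derivY Q b + derivY Q a * eps Q b := by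
  simp only [derivY_apply, derivative_mul, map_add, map_mul]
  ring

lemma derivX_mul (a b : R[X][Y]) :
    derivX Q (a * b) = eps Q a * derivX Q b + derivX Q a * eps Q b := by
  simp only [derivX_apply, derivative_mul, map_add, map_mul, Bivariate.swap_swap_apply]
  ring

lemma derivY_rel₀ : derivY Q (Y * C Q.g - 1) = eps Q (C Q.g) := by
  rw [derivY_apply]
  simp

lemma derivY_rel₁ : derivY Q (C Q.f) = 0 := by
  rw [derivY_apply]
  simp

lemma derivX_rel₁ : derivX Q (C Q.f) = eps Q (C (derivative Q.f)) := by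
  rw [derivX_apply, Bivariate.swap_C, Polynomial.derivative_map, Bivariate.swap_map_C]

/-- **Removing the relations of a standard etale algebra.** -/
theorem isLoc_of_comap_eps (J : Ideal S) (h : IsLoc koszulKind (J.comap (eps Q))) :
    IsLoc koszulKind J := by
  refine isLoc_of_comap (eps Q) (eps_surjective Q) (relList Q.P) (ker_eps Q)
    (isKoszulRegularSeq_relList Q.P) J ?_ h
  intro 𝔮 hJ𝔮
  show ∀ c : Fin 2 → R[X][Y], ∑ i : Fin 2, c i * (relList Q.P).get i ∈ _ → ∀ i, c i ∈ _
  intro c hc
  rw [Fin.sum_univ_two] at hc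
  have hc' : c 0 * (Y * C Q.g - 1) + c 1 * C Q.f ∈
      (𝔮.asIdeal.comap (eps Q)) * (J.comap (eps Q)) := hc
  obtain ⟨h0, h1⟩ := ind_two (eps Q) (derivY Q) (derivX Q) (derivY_mul Q) (derivX_mul Q)
    (Y * C Q.g - 1) (C Q.f) (eps_rel₀ Q) (eps_rel₁ Q) (derivY_rel₁ Q) 𝔮.asIdeal
    (by
      rw [derivY_rel₀]
      exact fun hmem => 𝔮.isPrime.ne_top (Ideal.eq_top_of_isUnit_mem _ hmem (isUnit_eps_C_g Q)))
    (by
      rw [derivX_rel₁]
      exact fun hmem => 𝔮.isPrime.ne_top
        (Ideal.eq_top_of_isUnit_mem _ hmem (isUnit_eps_C_derivative_f Q)))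
    (J.comap (eps Q)) (Ideal.comap_mono hJ𝔮) (c 0) (c 1) hc'
  intro i
  fin_cases i
  · exact h0
  · exact h1

end StdEtale

section StdEtaleLCI

open Polynomial
open scoped Polynomial.Bivariate

variable {A R S : Type u} [CommRing A] [CommRing R] [CommRing S] [Algebra R S]

/-- a standard etale algebra over a polynomial ring over `A` is a local complete intersection
algebra over `A`. -/
theorem isLCIHom_of_standardEtalePresentation (Q : StandardEtalePresentation R S) (α : A →+* R)
    (hα : IsPolyHom α) : IsLCIHom ((algebraMap R S).comp α) := by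
  have hα' : IsPolyHom ((C : R[X] →+* R[X][Y]).comp ((C : R →+* R[X]).comp α)) :=
    hα.polynomial.polynomial
  have h := isLCIHom_comp_of_isPolyHom hα' (eps Q) (eps_surjective Q)
    (isLoc_of_ofList _ _ (isKoszulRegularSeq_relList Q.P) (ker_eps Q))
  have heq : (eps Q).comp ((C : R[X] →+* R[X][Y]).comp ((C : R →+* R[X]).comp α)) =
      (algebraMap R S).comp α := by
    ext a
    simp only [RingHom.comp_apply]
    exact eps_C_C Q (α a)
  rwa [heq] at h

/-- a surjection from a standard etale algebra over a polynomial ring over `A` onto a local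
complete intersection `A`-algebra has locally Koszul-regular kernel. -/
theorem isLoc_ker_of_standardEtalePresentation (Q : StandardEtalePresentation R S) (α : A →+* R)
    (hα : IsPolyHom α) {C' : Type u} [CommRing C'] (ψ : S →+* C') (hψ : Function.Surjective ψ)
    (h : IsLCIHom ((ψ.comp (algebraMap R S)).comp α)) : IsLoc koszulKind (RingHom.ker ψ) := by
  have hα' : IsPolyHom ((C : R[X] →+* R[X][Y]).comp ((C : R →+* R[X]).comp α)) :=
    hα.polynomial.polynomial
  apply isLoc_of_comap_eps Q
  rw [RingHom.comap_ker]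
  apply isLoc_ker_of_isLCIHom_comp hα' (ψ.comp (eps Q)) (hψ.comp (eps_surjective Q))
  have heq : (ψ.comp (eps Q)).comp ((C : R[X] →+* R[X][Y]).comp ((C : R →+* R[X]).comp α)) =
      (ψ.comp (algebraMap R S)).comp α := by
    ext a
    simp only [RingHom.comp_apply]
    rw [eps_C_C Q (α a)]
  rw [heq]
  exact h

end StdEtaleLCI

section LocalGlobal

open Groth.Agent.Lib.Helper10.FlatLocal

variable {K : Kind.{u}} {B : Type u} [CommRing B]

/-- `IsLoc` may be checked on a cover by basic opens. -/
theorem isLoc_of_forall_exists_away (I : Ideal B)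
    (h : ∀ 𝔮 : PrimeSpectrum B, I ≤ 𝔮.asIdeal → ∃ f, f ∉ 𝔮.asIdeal ∧
      IsLoc K (I.map (algebraMap B (Localization.Away f)))) : IsLoc K I := by
  classical
  set s : Set B := {f | IsLoc K (I.map (algebraMap B (Localization.Away f)))} with hs_def
  have hs : Ideal.span s = ⊤ := by
    by_contra hne
    obtain ⟨𝔪, h𝔪, hle⟩ := Ideal.exists_le_maximal _ hne
    by_cases hI : I ≤ 𝔪
    · obtain ⟨f, hf, hloc⟩ := h ⟨𝔪, h𝔪.isPrime⟩ hI
      exact hf (hle (Ideal.subset_span hloc))
    · obtain ⟨f, hfI, hf𝔪⟩ := SetLike.not_le_iff_exists.mp hI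
      apply hf𝔪
      apply hle
      apply Ideal.subset_span
      show IsLoc K _
      intro 𝔭 h𝔭
      exfalso
      apply 𝔭.isPrime.ne_top
      rw [eq_top_iff]
      refine le_trans ?_ h𝔭
      rw [top_le_iff]
      exact Ideal.eq_top_of_isUnit_mem _ (Ideal.mem_map_of_mem _ hfI)
        (IsLocalization.Away.algebraMap_isUnit f)
  obtain ⟨s', hs's, hs'⟩ := (Ideal.span_eq_top_iff_finite s).mp hs
  refine isLoc_of_flat_family (ι := s') (fun i => Localization.Away (i : B)) I
    (fun i => algebraMap B (Localization.Away (i : B)))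
    (fun i => algebraMap_away_flat _) ?_ (fun i => hs's i.2)
  intro 𝔭
  have hex : ∃ i : s', (i : B) ∉ 𝔭.asIdeal := by
    by_contra hne
    apply 𝔭.isPrime.ne_top
    rw [eq_top_iff, ← hs', Ideal.span_le]
    intro x hx
    by_contra hx𝔭
    exact hne ⟨⟨x, hx⟩, hx𝔭⟩
  obtain ⟨i, hi⟩ := hex
  obtain ⟨𝔮, h𝔮⟩ := exists_prime_away' (i : B) 𝔭 hi
  exact ⟨i, 𝔮, h𝔮⟩

end LocalGlobal

section Smooth

open Polynomial

variable {A B C : Type u} [CommRing A] [CommRing B] [CommRing C]

lemma isPolyHom_polynomial_C : IsPolyHom (Polynomial.C : A →+* A[X]) := by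
  have h : IsPolyHom (RingHom.id A) :=
    ⟨0, (MvPolynomial.isEmptyAlgEquiv A (Fin 0)).toRingEquiv, by
      ext x
      show MvPolynomial.isEmptyAlgEquiv A (Fin 0) (MvPolynomial.C x) = x
      exact (MvPolynomial.isEmptyAlgEquiv A (Fin 0)).commutes x⟩
  have := h.polynomial
  rwa [RingHom.comp_id] at this

/-- localization away from an element is a local complete intersection map. -/
theorem isLCIHom_away (c : C) : IsLCIHom (algebraMap C (Localization.Away c)) := by
  have h := isLCIHom_comp_of_isPolyHom isPolyHom_polynomial_C (toAway c) (toAway_surjective c)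
    (isLoc_of_ofList _ _ (isKoszulRegularSeq_C_mul_X_sub_one c) (ker_toAway c))
  have heq : (toAway c).comp (Polynomial.C : C →+* C[X]) = algebraMap C (Localization.Away c) := by
    ext r
    exact toAway_C c r
  rwa [heq] at h

variable [Algebra A B]

/-- local structure of smooth algebras, in the form used here. -/
lemma exists_standardEtalePresentation [Algebra.Smooth A B] (𝔮 : PrimeSpectrum B) :
    ∃ f, f ∉ 𝔮.asIdeal ∧ ∃ (n : ℕ) (_ : Algebra (MvPolynomial (Fin n) A) (Localization.Away f)),
      (algebraMap (MvPolynomial (Fin n) A) (Localization.Away f)).comp MvPolynomial.C =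
        (algebraMap B (Localization.Away f)).comp (algebraMap A B) ∧
      Nonempty (StandardEtalePresentation (MvPolynomial (Fin n) A) (Localization.Away f)) := by
  haveI := 𝔮.isPrime
  haveI : Algebra.FinitePresentation A B := Algebra.Smooth.finitePresentation
  haveI : Algebra.FormallySmooth A B := Algebra.Smooth.formallySmooth
  haveI : Algebra.IsSmoothAt A 𝔮.asIdeal :=
    Algebra.FormallySmooth.comp A B (Localization.AtPrime 𝔮.asIdeal)
  obtain ⟨f, hf, n, alg, htower, hstd⟩ :=
    Algebra.IsSmoothAt.exists_isStandardEtale_mvPolynomial (R := A) (S := B) (p := 𝔮.asIdeal)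
  refine ⟨f, hf, n, alg, ?_, hstd.nonempty_standardEtalePresentation⟩
  ext a
  simp only [RingHom.comp_apply]
  rw [← MvPolynomial.algebraMap_eq, ← IsScalarTower.algebraMap_apply,
    ← IsScalarTower.algebraMap_apply]

/-- **Smooth algebras are local complete intersection algebras.** -/
theorem isLCI_of_smooth [Algebra.Smooth A B] : LCI.IsLCI A B := by
  rw [← isLCIHom_algebraMap]
  apply isLCIHom_of_span Groth.Agent.S9253.result (algebraMap A B)
    {f | IsLCIHom ((algebraMap B (Localization.Away f)).comp (algebraMap A B))}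
  · by_contra hne
    obtain ⟨𝔪, h𝔪, hle⟩ := Ideal.exists_le_maximal _ hne
    obtain ⟨f, hf, n, alg, hcomp, ⟨Q⟩⟩ :=
      exists_standardEtalePresentation (A := A) ⟨𝔪, h𝔪.isPrime⟩
    apply hf
    apply hle
    apply Ideal.subset_span
    show IsLCIHom _
    rw [← hcomp]
    exact isLCIHom_of_standardEtalePresentation Q _ (isPolyHom_C n)
  · intro f hf
    exact hf

/-- **Key lemma.**  A surjection from a smooth `A`-algebra `B` onto a local complete intersection
`A`-algebra has a locally Koszul-regular kernel. -/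
theorem isLoc_ker_of_smooth [Algebra.Smooth A B] (ψ : B →+* C) (hψ : Function.Surjective ψ)
    (h : IsLCIHom (ψ.comp (algebraMap A B))) : IsLoc koszulKind (RingHom.ker ψ) := by
  apply isLoc_of_forall_exists_away
  intro 𝔮 _
  obtain ⟨f, hf, n, alg, hcomp, ⟨Q⟩⟩ := exists_standardEtalePresentation (A := A) 𝔮
  refine ⟨f, hf, ?_⟩
  have hsq : (Localization.awayMap ψ f).comp (algebraMap B (Localization.Away f)) =
      (algebraMap C (Localization.Away (ψ f))).comp ψ := IsLocalization.map_comp _
  rw [← locSq_ker ψ f (ψ f) rfl (Localization.awayMap ψ f) hsq]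
  apply isLoc_ker_of_standardEtalePresentation Q MvPolynomial.C (isPolyHom_C n)
    (Localization.awayMap ψ f) (locSq_surjective ψ f (ψ f) rfl (Localization.awayMap ψ f) hsq hψ)
  rw [RingHom.comp_assoc, hcomp, ← RingHom.comp_assoc, hsq, RingHom.comp_assoc]
  exact isLCIHom_comp _ _ h (isLCIHom_away (ψ f))

omit [Algebra A B] in
/-- if `A → B` is smooth and `A → B → C` is a local complete intersection map, then so is
`B → C`. -/
theorem isLCIHom_of_comp_smooth (φ : A →+* B) (hφ : φ.Smooth) (ψ : B →+* C)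
    (h : IsLCIHom (ψ.comp φ)) : IsLCIHom ψ := by
  letI := φ.toAlgebra
  letI := ψ.toAlgebra
  letI := (ψ.comp φ).toAlgebra
  haveI : IsScalarTower A B C := IsScalarTower.of_algebraMap_eq (fun _ => rfl)
  haveI : Algebra.Smooth A B := hφ
  have hft : Algebra.FiniteType A C := h.1
  have hftB : Algebra.FiniteType B C := Algebra.FiniteType.of_restrictScalars_finiteType A B C
  obtain ⟨m, β, hβ⟩ := Algebra.FiniteType.iff_quotient_mvPolynomial''.mp hftB
  haveI : Algebra.Smooth B (MvPolynomial (Fin m) B) := ⟨inferInstance, inferInstance⟩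
  haveI : Algebra.Smooth A (MvPolynomial (Fin m) B) :=
    Algebra.Smooth.comp A B (MvPolynomial (Fin m) B)
  have hcomp : β.toRingHom.comp (algebraMap A (MvPolynomial (Fin m) B)) = ψ.comp φ := by
    ext a
    simp only [RingHom.comp_apply]
    rw [IsScalarTower.algebraMap_apply A B (MvPolynomial (Fin m) B)]
    exact β.commutes (φ a)
  have hloc : IsLoc koszulKind (RingHom.ker β.toRingHom) :=
    isLoc_ker_of_smooth (A := A) β.toRingHom hβ (by rw [hcomp]; exact h)
  have h2 := isLCIHom_comp_of_isPolyHom (isPolyHom_C m) β.toRingHom hβ hloc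
  have heq : β.toRingHom.comp (MvPolynomial.C : B →+* MvPolynomial (Fin m) B) = ψ := by
    ext b
    exact β.commutes b
  rwa [heq] at h2

end Smooth

end Groth.Agent.Lib.Helper10.LciSmooth
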