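import Mathlib
import Groth.Agent.Lib.Helper10.LciSmooth

/-!
# Pointwise Koszul-regularity of ideals and pointwise local complete intersection maps (helper10)

* `KosAt I Q`: the ideal `I` is Koszul-regular on some basic open neighbourhood of the prime `Q`.
* `IsLCIAt φ q`: `φ : A → C` becomes a local complete intersection map after inverting some
  element outside the prime `q` of `C`.
* `isLCIAt_iff_kosAt`: for a surjection `ψ : P → C` from a smooth `A`-algebra, `A → C` is lci at
  `q` iff `ker ψ` is Koszul at `ψ⁻¹ q`.
* `KosAt.exists_local`: a Koszul ideal at `Q` is generated by a Koszul-regular sequence in `P_Q`.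
-/

set_option autoImplicit false
universe u

namespace Groth.Agent.Lib.Helper10.KosAt

open Groth.Agent.Lib.Helper10.RegDescent Groth.Agent.Lib.Helper10.RegDescentKoszul
open Groth.Agent.Lib.Helper10.LciTrans Groth.Agent.Lib.Helper10.LciPoly
open Groth.Agent.Lib.Helper10.LciComp Groth.Agent.Lib.Helper10.LciSmooth

variable {P : Type u} [CommRing P]

/-- `I` is Koszul-regular near the prime `Q`. -/
def KosAt (I Q : Ideal P) : Prop :=
  ∃ g : P, g ∉ Q ∧ IsLoc koszulKind (I.map (algebraMap P (Localization.Away g)))

theorem kosAt_of_away (I Q : Ideal P) (g : P) (hg : g ∉ Q) (l : List (Localization.Away g))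
    (hl : LCI.IsKoszulRegularSeq (Localization.Away g) l)
    (hI : I.map (algebraMap P (Localization.Away g)) = Ideal.ofList l) : KosAt I Q :=
  ⟨g, hg, isLoc_of_ofList _ l hl hI⟩

/-- a Koszul ideal at `Q` is generated by a Koszul-regular sequence in the local ring at `Q`. -/
theorem KosAt.exists_local {I Q : Ideal P} [hQ : Q.IsPrime] (hIQ : I ≤ Q) (h : KosAt I Q) :
    ∃ l : List (Localization.AtPrime Q), LCI.IsKoszulRegularSeq (Localization.AtPrime Q) l ∧
      I.map (algebraMap P (Localization.AtPrime Q)) = Ideal.ofList l := by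
  obtain ⟨g, hg, hloc⟩ := h
  have hdisj : Disjoint (Submonoid.powers g : Set P) (Q : Set P) := by
    rw [Set.disjoint_left]
    rintro _ ⟨n, rfl⟩ hn
    exact hg (hQ.mem_of_pow_mem n hn)
  have hQg : (Q.map (algebraMap P (Localization.Away g))).IsPrime :=
    IsLocalization.isPrime_of_isPrime_disjoint (Submonoid.powers g) _ Q hQ hdisj
  have hQgc : (Q.map (algebraMap P (Localization.Away g))).comap
      (algebraMap P (Localization.Away g)) = Q :=
    IsLocalization.comap_map_of_isPrime_disjoint (Submonoid.powers g) _ hQ hdisj
  obtain ⟨g', hg', l, hl, hIl⟩ := hloc ⟨_, hQg⟩ (Ideal.map_mono hIQ)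
  -- the maps to the local ring
  have hu : IsUnit (algebraMap P (Localization.AtPrime Q) g) :=
    IsLocalization.map_units (Localization.AtPrime Q) (⟨g, hg⟩ : Q.primeCompl)
  let ψ₀ : Localization.Away g →+* Localization.AtPrime Q := IsLocalization.Away.lift g hu
  have hψ₀ : ψ₀.comp (algebraMap P (Localization.Away g)) =
      algebraMap P (Localization.AtPrime Q) := IsLocalization.Away.lift_comp g hu
  have hu' : IsUnit (ψ₀ g') := by
    obtain ⟨a, s, rfl⟩ := IsLocalization.exists_mk'_eq (Submonoid.powers g) g'
    have ha : a ∉ Q := by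
      intro ha
      apply hg'
      rw [IsLocalization.mk'_eq_mul_mk'_one]
      exact Ideal.mul_mem_right _ _ (Ideal.mem_map_of_mem _ ha)
    have h1 : ψ₀ (IsLocalization.mk' (Localization.Away g) a s) *
        algebraMap P (Localization.AtPrime Q) s = algebraMap P (Localization.AtPrime Q) a := by
      rw [← hψ₀, RingHom.comp_apply, RingHom.comp_apply, ← map_mul, IsLocalization.mk'_spec]
    have h2 : IsUnit (algebraMap P (Localization.AtPrime Q) a) :=
      IsLocalization.map_units (Localization.AtPrime Q) (⟨a, ha⟩ : Q.primeCompl)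
    rw [← h1] at h2
    exact isUnit_of_mul_isUnit_left h2
  let ψ : Localization.Away g' →+* Localization.AtPrime Q := IsLocalization.Away.lift g' hu'
  have hψ : ψ.comp (algebraMap (Localization.Away g) (Localization.Away g')) = ψ₀ :=
    IsLocalization.Away.lift_comp g' hu'
  -- flatness
  have hflat : ψ.Flat := by
    letI a1 : Algebra (Localization.Away g) (Localization.AtPrime Q) := ψ₀.toAlgebra
    letI a2 : Algebra (Localization.Away g') (Localization.AtPrime Q) := ψ.toAlgebra
    haveI t1 : IsScalarTower P (Localization.Away g) (Localization.AtPrime Q) :=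
      IsScalarTower.of_algebraMap_eq' hψ₀.symm
    haveI t2 : IsScalarTower (Localization.Away g) (Localization.Away g')
        (Localization.AtPrime Q) := IsScalarTower.of_algebraMap_eq' hψ.symm
    haveI f0 : Module.Flat P (Localization.AtPrime Q) := IsLocalization.flat _ Q.primeCompl
    haveI f1 : Module.Flat (Localization.Away g) (Localization.AtPrime Q) :=
      (Module.flat_iff_of_isLocalization (R := P) (Localization.Away g) (Submonoid.powers g)
        (M := Localization.AtPrime Q)).mpr f0
    exact (Module.flat_iff_of_isLocalization (R := Localization.Away g) (Localization.Away g')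
        (Submonoid.powers g') (M := Localization.AtPrime Q)).mpr f1
  refine ⟨l.map ψ, koszulKind.map_flat ψ hflat l hl, ?_⟩
  rw [← Ideal.map_ofList, ← hIl, Ideal.map_map, Ideal.map_map, hψ, hψ₀]

/-- `φ` is a local complete intersection map near the prime `q` of its target. -/
def IsLCIAt {A C : Type u} [CommRing A] [CommRing C] (φ : A →+* C) (q : Ideal C) : Prop :=
  ∃ c : C, c ∉ q ∧ IsLCIHom ((algebraMap C (Localization.Away c)).comp φ)

/-- **Presentation independence, pointwise.** -/
theorem isLCIAt_iff_kosAt {A C : Type u} [CommRing A] [CommRing C] [Algebra A P]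
    [Algebra.Smooth A P] (ψ : P →+* C) (hψ : Function.Surjective ψ) (q : Ideal C) :
    IsLCIAt (ψ.comp (algebraMap A P)) q ↔ KosAt (RingHom.ker ψ) (q.comap ψ) := by
  constructor
  · rintro ⟨c, hc, hlci⟩
    obtain ⟨g, rfl⟩ := hψ c
    refine ⟨g, hc, ?_⟩
    have hsq : (Localization.awayMap ψ g).comp (algebraMap P (Localization.Away g)) =
        (algebraMap C (Localization.Away (ψ g))).comp ψ := IsLocalization.map_comp _
    rw [← locSq_ker ψ g (ψ g) rfl (Localization.awayMap ψ g) hsq]
    haveI : Algebra.Smooth P (Localization.Away g) := Algebra.Smooth.of_isLocalization_Away g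
    haveI : Algebra.Smooth A (Localization.Away g) := Algebra.Smooth.comp A P _
    apply isLoc_ker_of_smooth (A := A) (Localization.awayMap ψ g)
      (locSq_surjective ψ g (ψ g) rfl (Localization.awayMap ψ g) hsq hψ)
    rw [IsScalarTower.algebraMap_eq A P (Localization.Away g), ← RingHom.comp_assoc, hsq,
      RingHom.comp_assoc]
    exact hlci
  · rintro ⟨g, hg, hloc⟩
    refine ⟨ψ g, hg, ?_⟩
    have hsq : (Localization.awayMap ψ g).comp (algebraMap P (Localization.Away g)) =
        (algebraMap C (Localization.Away (ψ g))).comp ψ := IsLocalization.map_comp _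
    rw [← locSq_ker ψ g (ψ g) rfl (Localization.awayMap ψ g) hsq] at hloc
    haveI : Algebra.Smooth P (Localization.Away g) := Algebra.Smooth.of_isLocalization_Away g
    haveI : Algebra.Smooth A (Localization.Away g) := Algebra.Smooth.comp A P _
    have h1 : IsLCIHom (Localization.awayMap ψ g) :=
      isLCIHom_of_surjective _
        (locSq_surjective ψ g (ψ g) rfl (Localization.awayMap ψ g) hsq hψ) hloc
    have h2 : IsLCIHom (algebraMap A (Localization.Away g)) :=
      isLCIHom_algebraMap.mpr isLCI_of_smooth
    have h3 := isLCIHom_comp _ _ h2 h1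
    rw [IsScalarTower.algebraMap_eq A P (Localization.Away g), ← RingHom.comp_assoc, hsq,
      RingHom.comp_assoc] at h3
    exact h3

end Groth.Agent.Lib.Helper10.KosAt
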