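import Mathlib
import Groth.Agent.Lib.Helper10.AvrCore
import Groth.Agent.Lib.Helper10.KosAt
import Groth.Agent.Lib.Helper94.LciMain
import Groth.Agent.Lib.Helper94.KoszulBridge
import Groth.Agent.Lib.Helper73.GorenLCI1
import Groth.Agent.Lib.Helper85.Vasc.Spread

/-!
# Avramov's theorem for ring maps (helper10)

`avramov_ring`: `A` Noetherian, `A → B` of finite type, `B → C` of finite Tor dimension with
`A → C` a local complete intersection.  Then for every prime `q` of `C` the map `B → C` is a local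
complete intersection near `q` and `A → B` is one near `q ∩ B` (Stacks 09RL, ring form).
-/

set_option autoImplicit false
universe u

namespace Groth.Agent.Lib.Helper10.AvrCore

open IsLocalRing RingTheory.Sequence Groth.Agent.Lib.Helper10.GoodFact
open Groth.Agent.Lib.Helper10.KosAt Groth.Agent.Lib.Helper10.LciComp
open Groth.Agent.Lib.Helper10.LciSmooth
open Groth.Agent.Lib.Helper10.RegDescent Groth.Agent.Lib.Helper10.RegDescentKoszul

attribute [local instance] Localization.AtPrime.algebraOfLiesOver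

section Spread

variable {P : Type u} [CommRing P] [IsNoetherianRing P]

/-- spreading out a regular sequence generating `I` in the local ring at `Q`. -/
theorem kosAt_of_genReg (I Q : Ideal P) [Q.IsPrime] (hIQ : I ≤ Q)
    (h : GenReg (Localization.AtPrime Q) (I.map (algebraMap P (Localization.AtPrime Q)))) :
    KosAt I Q := by
  obtain ⟨rs', hrs', hreg⟩ := h
  obtain ⟨g, hg, rs, hrs, hrsI⟩ :=
    Groth.Agent.Lib.Helper85.Vasc.exists_regular_away I Q hIQ rs' hreg.toIsWeaklyRegular hrs'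
  exact kosAt_of_away I Q g hg rs
    (Groth.Agent.Lib.Helper94.isKoszulRegularSeq_of_isRegular _ rs hrs) hrsI.symm

/-- a locally Koszul-regular ideal is generated by a regular sequence in the local rings of the
primes containing it. -/
theorem genReg_of_isLoc (J Q : Ideal P) [Q.IsPrime] (hJQ : J ≤ Q) (h : IsLoc koszulKind J) :
    GenReg (Localization.AtPrime Q) (J.map (algebraMap P (Localization.AtPrime Q))) := by
  obtain ⟨g, hg, l₀, hl₀, hJl₀⟩ := h ⟨Q, inferInstance⟩ hJQ
  obtain ⟨l, hl, hJl⟩ := KosAt.exists_local hJQ (kosAt_of_away J Q g hg l₀ hl₀ hJl₀)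
  haveI : IsNoetherianRing (Localization.AtPrime Q) :=
    IsLocalization.isNoetherianRing Q.primeCompl _ inferInstance
  have hle : J.map (algebraMap P (Localization.AtPrime Q)) ≤
      maximalIdeal (Localization.AtPrime Q) := by
    rw [← Localization.AtPrime.map_eq_maximalIdeal]
    exact Ideal.map_mono hJQ
  have hmem : ∀ r ∈ l, r ∈ maximalIdeal (Localization.AtPrime Q) := by
    intro r hr
    apply hle
    rw [hJl]
    exact Ideal.subset_span hr
  have hw := Groth.Agent.Lib.Helper73.GorenLCI.isWeaklyRegular_of_isKoszulRegularSeq l hmem hl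
  refine ⟨l, hJl.symm, ⟨hw, ?_⟩⟩
  rw [smul_eq_mul, Ideal.mul_top, ← hJl]
  intro htop
  rw [← htop] at hle
  exact (maximalIdeal.isMaximal (Localization.AtPrime Q)).ne_top (top_le_iff.mp hle)

end Spread

section Main

variable {A B C : Type u} [CommRing A] [CommRing B] [CommRing C]

/-- auxiliary form with an abstract smooth Noetherian presentation ring `P₁` of `B`. -/
theorem avramov_ring_aux {P₁ : Type u} [CommRing P₁] [IsNoetherianRing P₁] [IsNoetherianRing B]
    [Algebra A P₁] [Algebra.Smooth A P₁]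
    (φ₁ : A →+* B) (φ₂ : B →+* C) (ψ₁ : P₁ →+* B) (hψ₁ : Function.Surjective ψ₁)
    (hψ₁A : ψ₁.comp (algebraMap A P₁) = φ₁) (m : ℕ) (ψ₂ : MvPolynomial (Fin m) B →+* C)
    (hψ₂ : Function.Surjective ψ₂)
    (hψ₂ι : ψ₂.comp (MvPolynomial.C : B →+* MvPolynomial (Fin m) B) = φ₂)
    (hlci : IsLCIHom (φ₂.comp φ₁)) (hftd : letI := φ₂.toAlgebra; DRing.HasFiniteTorDim B C)
    (q : Ideal C) [q.IsPrime] : IsLCIAt φ₁ (q.comap φ₂) ∧ IsLCIAt φ₂ q := by
  classical
  obtain ⟨θ, hθdef⟩ : ∃ θ : MvPolynomial (Fin m) P₁ →+*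
      MvPolynomial (Fin m) B, θ = MvPolynomial.map ψ₁ := ⟨_, rfl⟩
  have hθ : Function.Surjective θ := by rw [hθdef]; exact MvPolynomial.map_surjective ψ₁ hψ₁
  have hθι : θ.comp (algebraMap P₁ (MvPolynomial (Fin m) P₁)) =
      (MvPolynomial.C : B →+* MvPolynomial (Fin m) B).comp ψ₁ :=
    RingHom.ext fun a => by rw [hθdef]; exact MvPolynomial.map_C ψ₁ a
  have hkerθ : RingHom.ker θ = (RingHom.ker ψ₁).map (algebraMap P₁ (MvPolynomial (Fin m) P₁)) := by
    rw [hθdef]
    exact MvPolynomial.ker_map ψ₁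
  have hsurj₂ : Function.Surjective (ψ₂.comp θ) := hψ₂.comp hθ
  have hcomp : ∀ a : P₁, ψ₂ (θ (algebraMap P₁ (MvPolynomial (Fin m) P₁) a)) = φ₂ (ψ₁ a) := by
    intro a
    have h1 : θ (algebraMap P₁ (MvPolynomial (Fin m) P₁) a) = MvPolynomial.C (ψ₁ a) :=
      RingHom.congr_fun hθι a
    rw [h1, ← hψ₂ι]
    rfl
  have hker₁Q : RingHom.ker ψ₁ ≤ Ideal.under P₁ (Ideal.comap (RingHom.comp ψ₂ θ) q) := by
    intro a ha
    rw [Ideal.under_def, Ideal.mem_comap, Ideal.mem_comap, RingHom.comp_apply, hcomp,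
      (show ψ₁ a = 0 from ha), map_zero]
    exact q.zero_mem
  have hkerQ₂ : RingHom.ker (ψ₂.comp θ) ≤ Ideal.comap (RingHom.comp ψ₂ θ) q := by
    intro a ha
    rw [Ideal.mem_comap, (show (ψ₂.comp θ) a = 0 from ha)]
    exact q.zero_mem
  have hQ₁p : Ideal.under P₁ (Ideal.comap (RingHom.comp ψ₂ θ) q) = (q.comap φ₂).comap ψ₁ := by
    ext a
    rw [Ideal.under_def, Ideal.mem_comap, Ideal.mem_comap, RingHom.comp_apply, hcomp,
      Ideal.mem_comap, Ideal.mem_comap]
  -- the regular fibre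
  have hfib : IsRegularLocalRing
      (Localization.AtPrime (Ideal.comap (RingHom.comp ψ₂ θ) q) ⧸
        (maximalIdeal (Localization.AtPrime (Ideal.under P₁
          (Ideal.comap (RingHom.comp ψ₂ θ) q)))).map
          (algebraMap (Localization.AtPrime (Ideal.under P₁ (Ideal.comap (RingHom.comp ψ₂ θ) q)))
            (Localization.AtPrime (Ideal.comap (RingHom.comp ψ₂ θ) q)))) := by
    have h0 := Groth.Agent.Lib.Helper94.LciMain.isRegularLocalRing_fibLocRing
      P₁ m (Ideal.comap (RingHom.comp ψ₂ θ) q)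
    have hid : ((Ideal.comap (RingHom.comp ψ₂ θ) q).comap
        (algebraMap P₁ (MvPolynomial (Fin m) P₁))).map
        (algebraMap P₁ (Localization.AtPrime (Ideal.comap (RingHom.comp ψ₂ θ) q))) =
        (maximalIdeal (Localization.AtPrime (Ideal.under P₁
          (Ideal.comap (RingHom.comp ψ₂ θ) q)))).map
          (algebraMap (Localization.AtPrime (Ideal.under P₁ (Ideal.comap (RingHom.comp ψ₂ θ) q)))
            (Localization.AtPrime (Ideal.comap (RingHom.comp ψ₂ θ) q))) := by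
      rw [← Localization.AtPrime.map_eq_maximalIdeal, Ideal.map_map,
        ← IsScalarTower.algebraMap_eq]
    let e : (Localization.AtPrime (Ideal.comap (RingHom.comp ψ₂ θ) q) ⧸
        ((Ideal.comap (RingHom.comp ψ₂ θ) q).comap
          (algebraMap P₁ (MvPolynomial (Fin m) P₁))).map
          (algebraMap P₁ (Localization.AtPrime (Ideal.comap (RingHom.comp ψ₂ θ) q)))) ≃+*
        (Localization.AtPrime (Ideal.comap (RingHom.comp ψ₂ θ) q) ⧸
        (maximalIdeal (Localization.AtPrime (Ideal.under P₁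
          (Ideal.comap (RingHom.comp ψ₂ θ) q)))).map
          (algebraMap (Localization.AtPrime (Ideal.under P₁ (Ideal.comap (RingHom.comp ψ₂ θ) q)))
            (Localization.AtPrime (Ideal.comap (RingHom.comp ψ₂ θ) q)))) :=
      Ideal.quotEquivOfEq hid
    exact IsRegularLocalRing.of_ringEquiv
      (R := EGA4.FibLocRing P₁ (MvPolynomial (Fin m) P₁) (Ideal.comap (RingHom.comp ψ₂ θ) q)) e
  -- the kernel of the big presentation
  haveI : Algebra.Smooth P₁ (MvPolynomial (Fin m) P₁) := ⟨inferInstance, inferInstance⟩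
  haveI : Algebra.Smooth B (MvPolynomial (Fin m) B) := ⟨inferInstance, inferInstance⟩
  haveI : Algebra.Smooth A (MvPolynomial (Fin m) P₁) := Algebra.Smooth.comp A P₁ _
  have hcompA : (ψ₂.comp θ).comp (algebraMap A (MvPolynomial (Fin m) P₁)) = φ₂.comp φ₁ := by
    refine RingHom.ext fun a => ?_
    change ψ₂ (θ (algebraMap A (MvPolynomial (Fin m) P₁) a)) = φ₂ (φ₁ a)
    rw [IsScalarTower.algebraMap_apply A P₁ (MvPolynomial (Fin m) P₁), hcomp,
      ← RingHom.comp_apply ψ₁, hψ₁A]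
  have hlocJ : IsLoc koszulKind (RingHom.ker (ψ₂.comp θ)) :=
    isLoc_ker_of_smooth (A := A) (ψ₂.comp θ) hsurj₂ (by rw [hcompA]; exact hlci)
  have hJ := genReg_of_isLoc (RingHom.ker (ψ₂.comp θ)) (Ideal.comap (RingHom.comp ψ₂ θ) q)
    hkerQ₂ hlocJ
  obtain ⟨h1, h2⟩ := core ψ₁ θ ψ₂ φ₂ MvPolynomial.C hψ₁ hθ hψ₂ hθι hψ₂ι hkerθ q hfib hJ hftd
  constructor
  · have hk : KosAt (RingHom.ker ψ₁) (Ideal.under P₁ (Ideal.comap (RingHom.comp ψ₂ θ) q)) :=
      kosAt_of_genReg _ _ hker₁Q h1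
    rw [hQ₁p] at hk
    have h3 := (isLCIAt_iff_kosAt (A := A) ψ₁ hψ₁ (q.comap φ₂)).mpr hk
    rwa [hψ₁A] at h3
  · have hle : RingHom.ker ψ₂ ≤ q.comap ψ₂ := by
      intro a ha
      rw [Ideal.mem_comap, (show ψ₂ a = 0 from ha)]
      exact q.zero_mem
    have hk : KosAt (RingHom.ker ψ₂) (q.comap ψ₂) := kosAt_of_genReg _ _ hle h2
    have h3 := (isLCIAt_iff_kosAt (A := B) ψ₂ hψ₂ q).mpr hk
    have h4 : ψ₂.comp (algebraMap B (MvPolynomial (Fin m) B)) = φ₂ := hψ₂ι
    rwa [h4] at h3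

/-- **Avramov's theorem, ring form** (Stacks 09RL). -/
theorem avramov_ring [IsNoetherianRing A] (φ₁ : A →+* B) (φ₂ : B →+* C) (hft : φ₁.FiniteType)
    (hlci : IsLCIHom (φ₂.comp φ₁)) (hftd : letI := φ₂.toAlgebra; DRing.HasFiniteTorDim B C)
    (q : Ideal C) [q.IsPrime] : IsLCIAt φ₁ (q.comap φ₂) ∧ IsLCIAt φ₂ q := by
  classical
  letI aAB : Algebra A B := φ₁.toAlgebra
  letI aBC : Algebra B C := φ₂.toAlgebra
  letI aAC : Algebra A C := (φ₂.comp φ₁).toAlgebra
  haveI : IsScalarTower A B C := IsScalarTower.of_algebraMap_eq (fun _ => rfl)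
  haveI hftAB : Algebra.FiniteType A B := hft
  have hlci' : LCI.IsLCI A C := hlci
  haveI hftAC : Algebra.FiniteType A C := hlci'.1
  haveI hftBC : Algebra.FiniteType B C := Algebra.FiniteType.of_restrictScalars_finiteType A B C
  haveI : IsNoetherianRing B := Algebra.FiniteType.isNoetherianRing A B
  obtain ⟨n, ψ₁', hψ₁'⟩ := Algebra.FiniteType.iff_quotient_mvPolynomial''.1 hftAB
  obtain ⟨m, ψ₂', hψ₂'⟩ := Algebra.FiniteType.iff_quotient_mvPolynomial''.1 hftBC
  haveI : Algebra.Smooth A (MvPolynomial (Fin n) A) := ⟨inferInstance, inferInstance⟩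
  exact avramov_ring_aux (P₁ := MvPolynomial (Fin n) A) φ₁ φ₂ ψ₁'.toRingHom hψ₁'
    (RingHom.ext fun a => ψ₁'.commutes a) m ψ₂'.toRingHom hψ₂'
    (RingHom.ext fun b => ψ₂'.commutes b) hlci hftd q

end Main

end Groth.Agent.Lib.Helper10.AvrCore
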