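import Mathlib

/-!
# The local ring of a fibre, two models (helper10)

For a prime `q` of the fibre ring `κ(p) ⊗[R] S` lying over the prime `r` of `S`, Mathlib's
`Ideal.Fiber.localizationAlgEquivQuotient` identifies `(κ(p) ⊗ S)_q` with `S_r / p S_r`, but only
as `R_p`-algebras.  We record the same isomorphism together with its compatibility with the maps
from `S`.
-/

set_option autoImplicit false

open TensorProduct Algebra Algebra.TensorProduct

namespace Groth.Agent.Lib.Helper10.FibBridge

variable {R S : Type*} [CommRing R] [CommRing S] [Algebra R S] (p : Ideal R) [p.IsPrime]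

attribute [local instance] Algebra.TensorProduct.rightAlgebra in
/-- `S`-linear version of Mathlib's `Ideal.Fiber.algEquivAux₂`. -/
noncomputable def algEquivAux₂S (q : Ideal (p.Fiber S)) [q.IsPrime] :
    letI r := q.comap includeRight
    letI Sr := Localization.AtPrime r
    letI pS := p.map (algebraMap R S)
    Localization.AtPrime q ≃ₐ[S] Sr ⧸ pS.map (algebraMap S Sr) :=
  letI : Algebra S (p.Fiber S) := rightAlgebra
  letI Sp := Localization (algebraMapSubmonoid S p.primeCompl)
  letI pS := p.map (algebraMap R S)
  letI SpS := S ⧸ pS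
  letI r := q.comap includeRight
  letI Sr := Localization.AtPrime r
  letI e₁ : p.Fiber S ≃ₐ[S] Sp ⧸ pS.map (algebraMap S Sp) := Ideal.Fiber.algEquivAux₁ p
  letI q' : Ideal (Sp ⧸ pS.map (algebraMap S Sp)) := q.comap e₁.symm
  haveI : (q'.under SpS).LiesOver r := Ideal.under_liesOver_of_liesOver SpS q' (q.under S)
  haveI : algebraMapSubmonoid SpS r.primeCompl = (q'.under SpS).primeCompl :=
    Ideal.algebraMapSubmonoid_primeCompl_of_liesOver_surjective (q'.under SpS) r
      Ideal.Quotient.mk_surjective
  haveI : IsLocalization (algebraMapSubmonoid SpS r.primeCompl) (Localization.AtPrime q') := by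
    convert IsLocalization.isLocalization_isLocalization_atPrime_isLocalization
      (algebraMapSubmonoid SpS (algebraMapSubmonoid S p.primeCompl)) (Localization.AtPrime q') q'
  ((Localization.localAlgEquiv q' q e₁.symm rfl).symm).trans
    ((IsLocalization.algEquiv (algebraMapSubmonoid SpS r.primeCompl) (Localization.AtPrime q')
      (Sr ⧸ pS.map (algebraMap S Sr))).restrictScalars S)

attribute [local instance] Algebra.TensorProduct.rightAlgebra in
/-- The local ring of the fibre at `q` is `S_r / p S_r`, compatibly with the maps from `S`. -/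
theorem exists_ringEquiv (q : Ideal (p.Fiber S)) [q.IsPrime] :
    ∃ e : Localization.AtPrime q ≃+*
        (Localization.AtPrime (q.comap (includeRight : S →ₐ[R] p.Fiber S)) ⧸
          p.map (algebraMap R (Localization.AtPrime
            (q.comap (includeRight : S →ₐ[R] p.Fiber S))))),
      ∀ x : S, e (algebraMap (p.Fiber S) (Localization.AtPrime q) (1 ⊗ₜ[R] x)) =
        Ideal.Quotient.mk _ (algebraMap S (Localization.AtPrime
          (q.comap (includeRight : S →ₐ[R] p.Fiber S))) x) := by
  have hmm : (p.map (algebraMap R S)).map (algebraMap S (Localization.AtPrime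
      (q.comap (includeRight : S →ₐ[R] p.Fiber S)))) =
      p.map (algebraMap R (Localization.AtPrime (q.comap (includeRight : S →ₐ[R] p.Fiber S)))) := by
    rw [Ideal.map_map, ← IsScalarTower.algebraMap_eq]
  refine ⟨(algEquivAux₂S p q).toRingEquiv.trans (Ideal.quotEquivOfEq hmm), fun x => ?_⟩
  have h1 : algebraMap (p.Fiber S) (Localization.AtPrime q) (1 ⊗ₜ[R] x) =
      algebraMap S (Localization.AtPrime q) x := by
    rw [IsScalarTower.algebraMap_apply S (p.Fiber S) (Localization.AtPrime q)]
    rfl
  rw [h1]
  show Ideal.quotEquivOfEq hmm ((algEquivAux₂S p q) (algebraMap S (Localization.AtPrime q) x)) = _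
  rw [AlgEquiv.commutes]
  rfl

end Groth.Agent.Lib.Helper10.FibBridge
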