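import Mathlib
import Groth.Prelude.Def_CAlgX
import Groth.Agent.Lib.Helper10.KoszulH1

/-!
# Base change of `H_1`-regular sequences with flat quotient (helper10)

If `l` is an `H_1`-regular sequence in an `R`-algebra `A` and `A ⧸ (l)` is flat over `R`, then for every
`R`-algebra `R'` the sequence `1 ⊗ l` is `H_1`-regular in `R' ⊗[R] A`.
-/

set_option autoImplicit false
universe u

namespace Groth.Agent.Lib.Helper10.SyntH1

open TensorProduct Groth.Agent.Lib.Helper10.KoszulH1

section Step1

variable {R A : Type u} [CommRing R] [CommRing A] [Algebra R A] {c : ℕ} (l : Fin c → A)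
variable (R' : Type u) [CommRing R'] [Algebra R R']

/-- the relation map `a ↦ ∑ a_i l_i`, `R`-linear. -/
noncomputable def dR : (Fin c → A) →ₗ[R] A where
  toFun a := ∑ i, a i * l i
  map_add' a b := by simp [add_mul, Finset.sum_add_distrib]
  map_smul' r a := by simp [Finset.smul_sum, smul_mul_assoc]

/-- componentwise description of elements of `R' ⊗ A^c`. -/
noncomputable def Θ (z : R' ⊗[R] (Fin c → A)) : Fin c → R' ⊗[R] A :=
  fun i => (LinearMap.lTensor R' (LinearMap.proj i : (Fin c → A) →ₗ[R] A)) z

lemma Θ_tmul (r' : R') (a : Fin c → A) (i : Fin c) : Θ (R := R) R' (r' ⊗ₜ[R] a) i = r' ⊗ₜ[R] a i := by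
  simp [Θ]

lemma Θ_add (z w : R' ⊗[R] (Fin c → A)) : Θ R' (z + w) = Θ R' z + Θ R' w := by
  funext i; simp [Θ]

lemma Θ_zero : Θ R' (0 : R' ⊗[R] (Fin c → A)) = 0 := by
  funext i; simp [Θ]

lemma Θ_surjective (a : Fin c → R' ⊗[R] A) : ∃ z : R' ⊗[R] (Fin c → A), Θ R' z = a := by
  classical
  refine ⟨∑ i, (LinearMap.lTensor R' (LinearMap.single R (fun _ : Fin c => A) i)) (a i), ?_⟩
  funext j
  simp only [Θ, map_sum]
  have : ∀ i, (LinearMap.lTensor R' (LinearMap.proj j : (Fin c → A) →ₗ[R] A))
      ((LinearMap.lTensor R' (LinearMap.single R (fun _ : Fin c => A) i)) (a i)) =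
      if i = j then a i else 0 := by
    intro i
    rw [← LinearMap.comp_apply, ← LinearMap.lTensor_comp]
    by_cases h : i = j
    · subst h
      rw [if_pos rfl, LinearMap.proj_comp_single_same, LinearMap.lTensor_id, LinearMap.id_apply]
    · rw [if_neg h, LinearMap.proj_comp_single_ne _ _ _ _ (Ne.symm h), LinearMap.lTensor_zero,
        LinearMap.zero_apply]
  simp [this]

lemma lTensor_dR (z : R' ⊗[R] (Fin c → A)) :
    (LinearMap.lTensor R' (dR (R := R) l)) z = ∑ i, Θ R' z i * ((1 : R') ⊗ₜ[R] l i) := by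
  induction z using TensorProduct.induction_on with
  | zero => simp [Θ_zero]
  | tmul r' a =>
    simp only [LinearMap.lTensor_tmul, Θ_tmul, Algebra.TensorProduct.tmul_mul_tmul, mul_one]
    rw [← TensorProduct.tmul_sum]
    rfl
  | add z w hz hw =>
    rw [map_add, hz, hw, Θ_add]
    simp [add_mul, Finset.sum_add_distrib]

/-- **`H_1`-regular sequences with `R`-flat quotient stay `H_1`-regular after any base change.** -/
theorem isH1Regular_tmul (hl : CAlgX.IsH1Regular l)
    [hflat : Module.Flat R (A ⧸ Ideal.span (Set.range l))] :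
    CAlgX.IsH1Regular (fun i => (1 : R') ⊗ₜ[R] l i) := by
  classical
  intro a ha
  change a ∈ Triv (fun i => (1 : R') ⊗ₜ[R] l i)
  obtain ⟨z, rfl⟩ := Θ_surjective R' a
  rw [← lTensor_dR] at ha
  -- factor `dR` through its range
  set I : Submodule R A := LinearMap.range (dR (R := R) l) with hI
  let d' : (Fin c → A) →ₗ[R] I := (dR (R := R) l).rangeRestrict
  have hd' : Function.Surjective d' := LinearMap.surjective_rangeRestrict _
  have hcomp : I.subtype.comp d' = dR (R := R) l := LinearMap.ext fun x => rfl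
  -- injectivity of `R' ⊗ I → R' ⊗ A`
  have hIJ : ∀ x : A, x ∈ I ↔ x ∈ Ideal.span (Set.range l) := by
    intro x
    rw [Ideal.mem_span_range_iff_exists_fun, hI, LinearMap.mem_range]
    rfl
  have hex : Function.Exact I.subtype (Ideal.Quotient.mkₐ R (Ideal.span (Set.range l))).toLinearMap := by
    intro x
    rw [AlgHom.toLinearMap_apply, Ideal.Quotient.mkₐ_eq_mk, Ideal.Quotient.eq_zero_iff_mem, ← hIJ]
    simp
  have hinj : Function.Injective (LinearMap.lTensor R' I.subtype) :=
    LinearMap.lTensor_injective_of_exact_of_flat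
      (Ideal.Quotient.mkₐ R (Ideal.span (Set.range l))).toLinearMap
      (Ideal.Quotient.mkₐ_surjective R _) I.subtype (Submodule.injective_subtype I) hex R'
  have hz0 : (LinearMap.lTensor R' d') z = 0 := by
    apply hinj
    rw [map_zero, ← LinearMap.comp_apply, ← LinearMap.lTensor_comp, hcomp, ha]
  -- right exactness
  have hex2 : Function.Exact (LinearMap.lTensor R' (LinearMap.ker d').subtype)
      (LinearMap.lTensor R' d') :=
    lTensor_exact R' (LinearMap.exact_subtype_ker_map d') hd'
  obtain ⟨w, rfl⟩ := (hex2 z).mp hz0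
  -- every element of the image lies in the trivial relations
  have key : ∀ t : Fin c → A, t ∈ Triv l → ∀ r' : R',
      (fun i => r' ⊗ₜ[R] t i) ∈ Triv (fun i => (1 : R') ⊗ₜ[R] l i) := by
    intro t ht
    refine Submodule.span_induction (p := fun t _ => ∀ r' : R',
      (fun i => r' ⊗ₜ[R] t i) ∈ Triv (fun i => (1 : R') ⊗ₜ[R] l i)) ?_ ?_ ?_ ?_ ht
    · rintro v ⟨i, j, rfl⟩ r'
      have : (fun k => r' ⊗ₜ[R] (Pi.single i (l j) - Pi.single j (l i) : Fin c → A) k) =
          (r' ⊗ₜ[R] (1 : A)) • (Pi.single i ((1 : R') ⊗ₜ[R] l j) - Pi.single j ((1 : R') ⊗ₜ[R] l i) :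
            Fin c → R' ⊗[R] A) := by
        funext k
        have e : ∀ (m : Fin c) (x : A), r' ⊗ₜ[R] (Pi.single m x : Fin c → A) k =
            (r' ⊗ₜ[R] (1 : A)) * (Pi.single m ((1 : R') ⊗ₜ[R] x) : Fin c → R' ⊗[R] A) k := by
          intro m x
          by_cases h : k = m
          · subst h
            simp [Algebra.TensorProduct.tmul_mul_tmul]
          · simp [Pi.single_apply, h]
        simp only [Pi.sub_apply, Pi.smul_apply, smul_eq_mul, TensorProduct.tmul_sub, mul_sub, e]
      rw [this]
      exact Submodule.smul_mem _ _ (Submodule.subset_span ⟨i, j, rfl⟩)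
    · intro r'
      simp only [Pi.zero_apply, TensorProduct.tmul_zero]
      exact Submodule.zero_mem _
    · intro x y _ _ hx hy r'
      have : (fun i => r' ⊗ₜ[R] (x + y) i) = (fun i => r' ⊗ₜ[R] x i) + (fun i => r' ⊗ₜ[R] y i) := by
        funext i
        simp [TensorProduct.tmul_add]
      rw [this]
      exact Submodule.add_mem _ (hx r') (hy r')
    · intro a x _ hx r'
      have : (fun i => r' ⊗ₜ[R] (a • x) i) = ((1 : R') ⊗ₜ[R] a) • (fun i => r' ⊗ₜ[R] x i) := by
        funext i
        simp only [Pi.smul_apply, smul_eq_mul, Algebra.TensorProduct.tmul_mul_tmul, one_mul]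
      rw [this]
      exact Submodule.smul_mem _ _ (hx r')
  clear ha hz0
  induction w using TensorProduct.induction_on with
  | zero =>
    rw [map_zero, Θ_zero]
    exact Submodule.zero_mem _
  | tmul r' t =>
    rw [LinearMap.lTensor_tmul]
    have ht : (t : Fin c → A) ∈ Triv l := by
      apply hl
      have := t.2
      rw [LinearMap.mem_ker] at this
      have h2 := congrArg I.subtype this
      rw [← LinearMap.comp_apply, hcomp, map_zero] at h2
      exact h2
    have := key _ ht r'
    convert this using 1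
    funext i
    rw [Θ_tmul]
    rfl
  | add x y hx hy =>
    rw [map_add, Θ_add]
    exact Submodule.add_mem _ hx hy

end Step1

end Groth.Agent.Lib.Helper10.SyntH1
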