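import Mathlib
import Groth.Prelude.Def_EGA4b
import Groth.Agent.Lib.Helper10.KosAt
import Groth.Agent.Lib.Helper10.SyntH1
import Groth.Agent.Lib.Helper10.RegSeqFlat
import Groth.Agent.Lib.Helper22.FibSliceReg
import Groth.Agent.Lib.Helper82.SyntLocal
import Groth.Agent.Lib.Helper90.QuasiRegReg
import Groth.Agent.Lib.Helper94.KoszulBridge
import Groth.Agent.Lib.Helper29.FlatAscent

/-!
# Fibre criterion for Koszul-regularity of an ideal (helper10)

`P` a flat finitely presented `R`-algebra, `I` a finitely generated ideal with `P ⧸ I` flat over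
`R`, `Q ⊇ I` a prime of `P`.  Then `I` is Koszul-regular near `Q` iff the image of `I` in the
local ring `P_Q / p P_Q` of the fibre is generated by a regular sequence
(EGA IV 19.2.4 / Stacks 063K-type statement, without Noetherian hypotheses).
-/

set_option autoImplicit false
universe u

namespace Groth.Agent.Lib.Helper10.KosFibreA

open RingTheory.Sequence TensorProduct
open Groth.Agent.Lib.Helper10.KosAt Groth.Agent.Lib.Helper10.RegDescent
open Groth.Agent.Lib.Helper10.RegDescentKoszul

variable (R : Type u) {P : Type u} [CommRing R] [CommRing P] [Algebra R P]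

/-- the image of `I` in the local ring of the fibre at `Q` is generated by a regular sequence. -/
def RegGenFib (I Q : Ideal P) [Q.IsPrime] : Prop :=
  ∃ rs : List (EGA4.FibLocRing R P Q), IsRegular (EGA4.FibLocRing R P Q) rs ∧
    Ideal.ofList rs = I.map (algebraMap P (EGA4.FibLocRing R P Q))

theorem isNoetherianRing_fibLocRing [Algebra.FiniteType R P] (Q : Ideal P) [Q.IsPrime] :
    IsNoetherianRing (EGA4.FibLocRing R P Q) := by
  have hlies : Q.LiesOver (Q.under R) := ⟨rfl⟩
  obtain ⟨Qb, hQbp, hQb⟩ := Groth.Agent.Lib.Helper29.exists_fiber_prime (Q.under R) Q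
  obtain ⟨e⟩ := Groth.Agent.Lib.Helper82.FibReg.nonempty_ringEquiv_fibLocRing R P (Q.under R)
    Qb Q hQb rfl
  haveI : IsNoetherianRing ((Q.under R).Fiber P) :=
    Algebra.FiniteType.isNoetherianRing (Q.under R).ResidueField _
  haveI : IsNoetherianRing (Localization.AtPrime Qb) :=
    IsLocalization.isNoetherianRing Qb.primeCompl _ inferInstance
  exact isNoetherianRing_of_ringEquiv _ e

theorem flat_quotient_localization (I Q : Ideal P) [hQ : Q.IsPrime] (hIQ : I ≤ Q)
    [Module.Flat R (P ⧸ I)] :
    Module.Flat R (Localization.AtPrime Q ⧸ I.map (algebraMap P (Localization.AtPrime Q))) := by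
  have hker : RingHom.ker (Ideal.Quotient.mk I) ≤ Q := by rw [Ideal.mk_ker]; exact hIQ
  haveI hq₀ : (Q.map (Ideal.Quotient.mk I)).IsPrime :=
    Ideal.map_isPrime_of_surjective Ideal.Quotient.mk_surjective hker
  have hcomap : (Q.map (Ideal.Quotient.mk I)).comap (Ideal.Quotient.mk I) = Q := by
    rw [Ideal.comap_map_of_surjective _ Ideal.Quotient.mk_surjective, ← RingHom.ker_eq_comap_bot,
      Ideal.mk_ker]
    exact sup_eq_left.mpr hIQ
  have hflat : Module.Flat R (Localization.AtPrime (Q.map (Ideal.Quotient.mk I))) := inferInstance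
  have key := Groth.Agent.Lib.Helper82.SyntLocal.flat_quotient_of_flat_localization R I
    (Q.map (Ideal.Quotient.mk I)) hflat
  have aux : ∀ (Q' : Ideal P) (hQ' : Q'.IsPrime), Q' = Q →
      Module.Flat R (Localization.AtPrime Q' ⧸ I.map (algebraMap P (Localization.AtPrime Q'))) →
      Module.Flat R (Localization.AtPrime Q ⧸ I.map (algebraMap P (Localization.AtPrime Q))) := by
    rintro Q' hQ' rfl h
    exact h
  exact aux _ inferInstance hcomap key

theorem map_ne_top (I Q : Ideal P) [hQ : Q.IsPrime] (hIQ : I ≤ Q) :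
    I.map (algebraMap P (EGA4.FibLocRing R P Q)) ≠ ⊤ := by
  intro htop
  haveI : IsLocalRing (EGA4.FibLocRing R P Q) :=
    Groth.Agent.Lib.Helper82.SyntLocal.isLocalRing_fibLocRing R P Q
  have h1 : (1 : EGA4.FibLocRing R P Q) ∈ I.map (algebraMap P (EGA4.FibLocRing R P Q)) := by
    rw [htop]; trivial
  have h2 : I.map (algebraMap P (EGA4.FibLocRing R P Q)) ≤
      IsLocalRing.maximalIdeal (EGA4.FibLocRing R P Q) := by
    rw [Ideal.map_le_iff_le_comap]
    intro x hx
    rw [Ideal.mem_comap]
    have h3 : algebraMap P (EGA4.FibLocRing R P Q) x =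
        Ideal.Quotient.mk _ (algebraMap P (Localization.AtPrime Q) x) := rfl
    rw [h3, IsLocalRing.mem_maximalIdeal, mem_nonunits_iff]
    intro hu
    have h4 : IsUnit (algebraMap P (Localization.AtPrime Q) x) := by
      have hloc : IsLocalHom (Ideal.Quotient.mk ((Q.comap (algebraMap R P)).map
          (algebraMap R (Localization.AtPrime Q)))) :=
        IsLocalHom.of_surjective _ Ideal.Quotient.mk_surjective
      exact hloc.map_nonunit _ hu
    have h5 := (IsLocalization.AtPrime.isUnit_to_map_iff (Localization.AtPrime Q) Q x).mp h4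
    exact h5 (hIQ hx)
  exact (IsLocalRing.maximalIdeal.isMaximal _).ne_top
    ((Ideal.eq_top_iff_one _).mpr (h2 h1))

/-- **Fibre criterion, first half.** -/
theorem regGenFib_of_kosAt [Algebra.FiniteType R P] (I Q : Ideal P) [Q.IsPrime] (hIQ : I ≤ Q)
    [Module.Flat R (P ⧸ I)] (h : KosAt I Q) : RegGenFib R I Q := by
  classical
  obtain ⟨l, hl, hIl⟩ := h.exists_local hIQ
  haveI : IsLocalRing (EGA4.FibLocRing R P Q) :=
    Groth.Agent.Lib.Helper82.SyntLocal.isLocalRing_fibLocRing R P Q
  haveI : IsNoetherianRing (EGA4.FibLocRing R P Q) := isNoetherianRing_fibLocRing R Q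
  have hH1 : CAlgX.IsH1Regular l.get :=
    Groth.Agent.Lib.Helper10.KoszulH1.isH1Regular_of_isKoszulRegularSeq l hl
  have hspan : Ideal.span (Set.range l.get) =
      I.map (algebraMap P (Localization.AtPrime Q)) := by
    rw [Set.range_list_get]
    exact hIl.symm
  haveI hflat : Module.Flat R (Localization.AtPrime Q ⧸ Ideal.span (Set.range l.get)) := by
    rw [hspan]
    exact flat_quotient_localization R I Q hIQ
  have h1 := Groth.Agent.Lib.Helper10.SyntH1.isH1Regular_tmul (R := R) l.get
    (R ⧸ Q.comap (algebraMap R P)) hH1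
  let e : (R ⧸ Q.comap (algebraMap R P)) ⊗[R] Localization.AtPrime Q ≃+*
      EGA4.FibLocRing R P Q :=
    (Algebra.TensorProduct.quotIdealMapEquivQuotTensor (Localization.AtPrime Q)
      (Q.comap (algebraMap R P))).symm.toRingEquiv
  have he : ∀ b : Localization.AtPrime Q, e (1 ⊗ₜ[R] b) = Ideal.Quotient.mk _ b := by
    intro b
    show (Algebra.TensorProduct.quotIdealMapEquivQuotTensor (Localization.AtPrime Q)
      (Q.comap (algebraMap R P))).symm (1 ⊗ₜ[R] b) = _
    rw [AlgEquiv.symm_apply_eq]
    rfl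
  have h2 : CAlgX.IsH1Regular (fun i => Ideal.Quotient.mk ((Q.comap (algebraMap R P)).map
      (algebraMap R (Localization.AtPrime Q))) (l.get i)) := by
    have h3 := Groth.Agent.Lib.Helper10.RegSeqFlat.isH1Regular_map e.toRingHom
      (RingHom.Flat.of_bijective e.bijective) _ h1
    have h4 : (fun i => e.toRingHom ((1 : R ⧸ Q.comap (algebraMap R P)) ⊗ₜ[R] l.get i)) =
        (fun i => Ideal.Quotient.mk ((Q.comap (algebraMap R P)).map
          (algebraMap R (Localization.AtPrime Q))) (l.get i)) := by
      funext i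
      exact he _
    rw [h4] at h3
    exact h3
  have hofl : Ideal.ofList (l.map (Ideal.Quotient.mk ((Q.comap (algebraMap R P)).map
      (algebraMap R (Localization.AtPrime Q))))) = I.map (algebraMap P (EGA4.FibLocRing R P Q)) := by
    rw [← Ideal.map_ofList, ← hIl, Ideal.map_map]
    rfl
  have hne := map_ne_top R I Q hIQ
  have hq := Groth.Agent.Lib.Helper47.isQuasiRegular_of_isH1Regular _ h2
  have hjac : ∀ i, (fun i => Ideal.Quotient.mk ((Q.comap (algebraMap R P)).map
      (algebraMap R (Localization.AtPrime Q))) (l.get i)) i ∈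
      Ring.jacobson (EGA4.FibLocRing R P Q) := by
    intro i
    rw [IsLocalRing.ringJacobson_eq_maximalIdeal]
    apply IsLocalRing.le_maximalIdeal hne
    rw [← hofl]
    exact Ideal.subset_span (List.mem_map_of_mem (List.get_mem _ _))
  have hw := Groth.Agent.Lib.Helper90.QuasiRegReg.isWeaklyRegular_of_isQuasiRegular _
    (EGA4.FibLocRing R P Q) _ hjac hq
  have hlist : List.ofFn (fun i => Ideal.Quotient.mk ((Q.comap (algebraMap R P)).map
      (algebraMap R (Localization.AtPrime Q))) (l.get i)) =
      l.map (Ideal.Quotient.mk ((Q.comap (algebraMap R P)).map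
        (algebraMap R (Localization.AtPrime Q)))) := by
    have h5 := List.map_ofFn (f := l.get) (g := Ideal.Quotient.mk ((Q.comap (algebraMap R P)).map
      (algebraMap R (Localization.AtPrime Q))))
    rw [List.ofFn_get] at h5
    exact h5.symm
  rw [hlist] at hw
  refine ⟨_, ⟨hw, ?_⟩, hofl⟩
  rw [smul_eq_mul, Ideal.mul_top, hofl]
  exact fun h => hne h.symm

open Groth.Agent.Lib.Helper22.FibSliceMod in
/-- **Fibre criterion, second half.** -/
theorem kosAt_of_regGenFib [Algebra.FinitePresentation R P] [Module.Flat R P] (I Q : Ideal P)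
    [hQ : Q.IsPrime] (hI : I.FG) (hIQ : I ≤ Q) [Module.Flat R (P ⧸ I)]
    (h : RegGenFib R I Q) : KosAt I Q := by
  classical
  obtain ⟨rs, hreg, hrs⟩ := h
  haveI : IsLocalRing (EGA4.FibLocRing R P Q) :=
    Groth.Agent.Lib.Helper82.SyntLocal.isLocalRing_fibLocRing R P Q
  haveI : IsNoetherianRing (EGA4.FibLocRing R P Q) := isNoetherianRing_fibLocRing R Q
  set IA : Ideal (EGA4.FibLocRing R P Q) := I.map (algebraMap P (EGA4.FibLocRing R P Q)) with hIA
  have hIAne : IA ≠ ⊤ := map_ne_top R I Q hIQ
  have halg : ∀ x : P, algebraMap P (EGA4.FibLocRing R P Q) x =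
      Ideal.Quotient.mk _ (algebraMap P (Localization.AtPrime Q) x) := fun x => rfl
  -- elements of `rs` are unit multiples of images of elements of `I`
  have hmem : ∀ r ∈ rs, ∃ a ∈ I, ∃ u : EGA4.FibLocRing R P Q, IsUnit u ∧
      r * u = algebraMap P (EGA4.FibLocRing R P Q) a := by
    intro r hr
    have h1 : r ∈ IA := by
      rw [← hrs]
      exact Ideal.subset_span hr
    have h2 : IA = (I.map (algebraMap P (Localization.AtPrime Q))).map (Ideal.Quotient.mk _) := by
      rw [hIA, Ideal.map_map]
      rfl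
    rw [h2] at h1
    obtain ⟨y, hy, rfl⟩ := (Ideal.mem_map_iff_of_surjective _ Ideal.Quotient.mk_surjective).mp h1
    obtain ⟨⟨a, s⟩, hys⟩ := (IsLocalization.mem_map_algebraMap_iff Q.primeCompl
      (Localization.AtPrime Q)).mp hy
    refine ⟨a.1, a.2, Ideal.Quotient.mk _ (algebraMap P (Localization.AtPrime Q) s), ?_, ?_⟩
    · exact (IsLocalization.map_units (Localization.AtPrime Q) s).map _
    · rw [halg, ← map_mul]
      exact congrArg _ hys
  choose! a ha u hu hau using hmem
  let Fn : Fin rs.length → P := fun i => a (rs.get i)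
  have hF : ∀ i, Fn i ∈ I := fun i => ha _ (List.get_mem _ _)
  have hspan : Ideal.span (Set.range fun i => algebraMap P (EGA4.FibLocRing R P Q) (Fn i)) =
      IA := by
    apply le_antisymm
    · rw [Ideal.span_le]
      rintro _ ⟨i, rfl⟩
      exact Ideal.mem_map_of_mem _ (hF i)
    · rw [← hrs, Ideal.ofList, Ideal.span_le]
      intro r hr
      obtain ⟨i, rfl⟩ := List.mem_iff_get.mp hr
      have h1 := hau (rs.get i) (List.get_mem _ _)
      obtain ⟨v, hv⟩ := hu (rs.get i) (List.get_mem _ _)
      have h2 : rs.get i = algebraMap P (EGA4.FibLocRing R P Q) (Fn i) * ((v⁻¹ : _ˣ) : _) := by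
        rw [← h1, ← hv, mul_assoc, Units.mul_inv, mul_one]
      rw [SetLike.mem_coe, h2]
      exact Ideal.mul_mem_right _ _ (Ideal.subset_span ⟨i, rfl⟩)
  set hs : List P := List.ofFn Fn with hhs
  have hofList : Ideal.ofList (hs.map (algebraMap P (EGA4.FibLocRing R P Q))) = IA := by
    rw [← hspan, hhs, List.map_ofFn, Ideal.ofList]
    congr 1
    ext x
    simp [List.mem_ofFn]
  have hsI : Ideal.ofList hs ≤ I := by
    rw [Ideal.ofList, Ideal.span_le]
    intro x hx
    rw [hhs] at hx
    obtain ⟨i, rfl⟩ := (List.mem_ofFn' _ _).mp hx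
    exact hF i
  -- Koszul-regular, hence regular
  have hK : LCI.IsKoszulRegularSeq (EGA4.FibLocRing R P Q) rs :=
    Groth.Agent.Lib.Helper94.isKoszulRegularSeq_of_isRegular _ rs hreg
  have hK' : LCI.IsKoszulRegularSeq (EGA4.FibLocRing R P Q)
      (hs.map (algebraMap P (EGA4.FibLocRing R P Q))) :=
    koszulKind.of_ofList_eq rs _ hK (by rw [hofList, hrs]) (by simp [hhs])
  have hH1 := Groth.Agent.Lib.Helper10.KoszulH1.isH1Regular_of_isKoszulRegularSeq _ hK'
  have hq := Groth.Agent.Lib.Helper47.isQuasiRegular_of_isH1Regular _ hH1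
  have hjac : ∀ i, (hs.map (algebraMap P (EGA4.FibLocRing R P Q))).get i ∈
      Ring.jacobson (EGA4.FibLocRing R P Q) := by
    intro i
    rw [IsLocalRing.ringJacobson_eq_maximalIdeal]
    apply IsLocalRing.le_maximalIdeal hIAne
    rw [← hofList]
    exact Ideal.subset_span (List.get_mem _ _)
  have hw := Groth.Agent.Lib.Helper90.QuasiRegReg.isWeaklyRegular_of_isQuasiRegular _
    (EGA4.FibLocRing R P Q) _ hjac hq
  rw [List.ofFn_get] at hw
  -- helper22: good locus
  have hw' : IsWeaklyRegular (Localization.AtPrime Q ⧸ (Q.comap (algebraMap R P)).map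
      (algebraMap R (Localization.AtPrime Q)))
      ((hs.map (algebraMap P (Localization.AtPrime Q))).map
        (Ideal.Quotient.mk ((Q.comap (algebraMap R P)).map
          (algebraMap R (Localization.AtPrime Q))))) := by
    rw [List.map_map]
    exact hw
  have h1 := Groth.Agent.Lib.Helper22.FibSliceReg.algebra_data_reg (A := R) (B := P)
    (L := Localization.AtPrime Q) (Q.comap (algebraMap R P))
    ((Q.comap (algebraMap R P)).map (algebraMap R (Localization.AtPrime Q))) rfl hs hw'
  have hgood : Good R Q hs P :=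
    good_of_fibre Q hs P (Localization.AtPrime Q)
      (Algebra.linearMap P (Localization.AtPrime Q)) h1
  obtain ⟨g, hgQ, hgoodU⟩ := good_open hs P Q hgood
  -- Nakayama
  have hpmax : (Q.comap (algebraMap R P)).map (algebraMap R (Localization.AtPrime Q)) ≤
      IsLocalRing.maximalIdeal (Localization.AtPrime Q) := by
    rw [Ideal.map_le_iff_le_comap]
    intro r hr
    rw [Ideal.mem_comap, IsScalarTower.algebraMap_apply R P (Localization.AtPrime Q),
      IsLocalization.AtPrime.to_map_mem_maximal_iff _ Q]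
    exact hr
  have hJI : (Ideal.ofList hs).map (algebraMap P (Localization.AtPrime Q)) ≤
      I.map (algebraMap P (Localization.AtPrime Q)) := Ideal.map_mono hsI
  haveI := flat_quotient_localization R I Q hIQ
  have hle := Groth.Agent.Lib.Helper82.SyntLocal.le_of_map_le_of_flat (Q.comap (algebraMap R P))
    hpmax (I.map (algebraMap P (Localization.AtPrime Q)))
    ((Ideal.ofList hs).map (algebraMap P (Localization.AtPrime Q)))
    (hI.map _) hJI (by
      rw [Ideal.map_map, Ideal.map_map]
      change IA ≤ (Ideal.ofList hs).map (algebraMap P (EGA4.FibLocRing R P Q))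
      rw [Ideal.map_ofList, hofList])
  obtain ⟨g₁, hg₁, hg₁I⟩ := Groth.Agent.Lib.Helper82.CISpreadA.exists_notMem_forall_mul_mem Q I
    (Ideal.ofList hs) hI hle
  -- conclusion on `D(g g₁)`
  have hgg : g * g₁ ∉ Q := fun hmem => (hQ.mem_or_mem hmem).elim hgQ hg₁
  have hgood' : ∀ (r : Ideal P) [r.IsPrime], g * g₁ ∉ r → Good R r hs P := fun r _ hr =>
    hgoodU r (fun hg => hr (Ideal.mul_mem_right _ _ hg))
  obtain ⟨hwr, -⟩ := ring_exit (g * g₁) hs hgood' (Localization.Away (g * g₁))
  refine kosAt_of_away I Q (g * g₁) hgg (hs.map (algebraMap P (Localization.Away (g * g₁))))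
    (Groth.Agent.Lib.Helper94.isKoszulRegularSeq_of_isWeaklyRegular _ _ hwr) ?_
  rw [← Ideal.map_ofList]
  apply le_antisymm
  · rw [Ideal.map_le_iff_le_comap]
    intro x hx
    rw [Ideal.mem_comap]
    have h2 : algebraMap P (Localization.Away (g * g₁)) (g₁ * x) ∈
        (Ideal.ofList hs).map (algebraMap P (Localization.Away (g * g₁))) :=
      Ideal.mem_map_of_mem _ (hg₁I x hx)
    rw [map_mul] at h2
    have hu1 : IsUnit (algebraMap P (Localization.Away (g * g₁)) g₁) := by
      have := IsLocalization.Away.algebraMap_isUnit (S := Localization.Away (g * g₁)) (g * g₁)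
      rw [map_mul] at this
      exact isUnit_of_mul_isUnit_right this
    obtain ⟨v, hv⟩ := hu1
    have h3 : algebraMap P (Localization.Away (g * g₁)) x =
        ((v⁻¹ : _ˣ) : Localization.Away (g * g₁)) *
          (algebraMap P (Localization.Away (g * g₁)) g₁ *
            algebraMap P (Localization.Away (g * g₁)) x) := by
      rw [← hv, ← mul_assoc, Units.inv_mul, one_mul]
    rw [h3]
    exact Ideal.mul_mem_left _ _ h2
  · exact Ideal.map_mono hsI

end Groth.Agent.Lib.Helper10.KosFibreA
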