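import Mathlib
import Groth.Agent.Lib.Helper10.KosFibreA
import Groth.Agent.Lib.Helper10.FibBridge
import Groth.Agent.Lib.Helper10.CIFieldExt

/-!
# Base change of the Koszul locus (helper10)

`P` flat of finite presentation over `R`, `I` a finitely generated ideal with `P ⧸ I` flat over `R`.
For an arbitrary base change `R → R'`, `P' = P ⊗_R R'`, `I' = I P'`, and a prime `Q'` of `P'` over
`Q`: `I` is Koszul-regular near `Q` iff `I'` is Koszul-regular near `Q'`.
-/

set_option autoImplicit false
set_option linter.style.haveILetI false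
universe u

namespace Groth.Agent.Lib.Helper10.KosFibreB

open RingTheory.Sequence TensorProduct
open Groth.Agent.Lib.Helper10.KosAt Groth.Agent.Lib.Helper10.KosFibreA

section FlatMap

variable {R R' P P' : Type u} [CommRing R] [CommRing R'] [CommRing P] [CommRing P']
  [Algebra R R'] [Algebra R P] [Algebra R' P'] [Algebra P P'] [Algebra R P']
  [IsScalarTower R R' P'] [IsScalarTower R P P']

attribute [local instance] Algebra.TensorProduct.rightAlgebra in
/-- the fibre of a base change is a flat extension of the fibre. -/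
theorem exists_flat_fiber_map [Algebra.IsPushout R P R' P']
    (p : Ideal R) [p.IsPrime] (p' : Ideal R') [p'.IsPrime]
    (hp : p = p'.comap (algebraMap R R')) :
    ∃ θ : p.Fiber P →+* p'.Fiber P', θ.Flat ∧
      ∀ x : P, θ (1 ⊗ₜ[R] x) = 1 ⊗ₜ[R'] (algebraMap P P' x) := by
  -- the residue field extension
  let κmap : p.ResidueField →+* p'.ResidueField :=
    Ideal.ResidueField.map p p' (algebraMap R R') hp
  letI aκ : Algebra p.ResidueField p'.ResidueField := κmap.toAlgebra
  have hκR : ∀ r : R, κmap (algebraMap R p.ResidueField r) = algebraMap R p'.ResidueField r := by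
    intro r
    rw [Ideal.ResidueField.map_algebraMap]
    rfl
  haveI t1 : IsScalarTower R p.ResidueField p'.ResidueField :=
    IsScalarTower.of_algebraMap_eq (fun r => (hκR r).symm)
  haveI t2 : IsScalarTower R R' p'.ResidueField :=
    IsScalarTower.of_algebraMap_eq (fun r => rfl)
  haveI t3 : IsScalarTower R p'.ResidueField (p'.Fiber P') :=
    IsScalarTower.of_algebraMap_eq (fun r => rfl)
  have h4 : ∀ r : R, algebraMap R (p'.Fiber P') r =
      algebraMap P' (p'.Fiber P') (algebraMap R P' r) := by
    intro r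
    show (algebraMap R p'.ResidueField r) ⊗ₜ[R'] (1 : P') = 1 ⊗ₜ[R'] (algebraMap R P' r)
    rw [IsScalarTower.algebraMap_apply R R' P',
      IsScalarTower.algebraMap_apply R R' p'.ResidueField,
      Algebra.algebraMap_eq_smul_one (algebraMap R R' r),
      Algebra.algebraMap_eq_smul_one (algebraMap R R' r), TensorProduct.smul_tmul]
  haveI t4 : IsScalarTower R P' (p'.Fiber P') := IsScalarTower.of_algebraMap_eq h4
  -- algebra structures on the big fibre
  letI aP : Algebra P (p'.Fiber P') :=
    ((algebraMap P' (p'.Fiber P')).comp (algebraMap P P')).toAlgebra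
  haveI scc : SMulCommClass R' p.ResidueField p'.ResidueField :=
    ⟨fun a b c => by simp only [Algebra.smul_def]; ring⟩
  haveI t5 : IsScalarTower P P' (p'.Fiber P') := IsScalarTower.of_algebraMap_eq (fun r => rfl)
  haveI t6 : IsScalarTower p.ResidueField p'.ResidueField (p'.Fiber P') :=
    IsScalarTower.of_algebraMap_eq (fun r => rfl)
  haveI t7 : IsScalarTower R P (p'.Fiber P') := IsScalarTower.of_algebraMap_eq (fun r => by
    rw [h4, IsScalarTower.algebraMap_apply R P P']
    rfl)
  haveI t8 : IsScalarTower R p.ResidueField (p'.Fiber P') :=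
    IsScalarTower.of_algebraMap_eq (fun r => by
      rw [IsScalarTower.algebraMap_apply R p'.ResidueField (p'.Fiber P'), ← hκR r]
      rfl)
  -- the map
  let θₐ : p.Fiber P →ₐ[R] p'.Fiber P' :=
    Algebra.TensorProduct.lift (IsScalarTower.toAlgHom R p.ResidueField (p'.Fiber P'))
      (IsScalarTower.toAlgHom R P (p'.Fiber P')) (fun _ _ => Commute.all _ _)
  letI aT : Algebra (p.Fiber P) (p'.Fiber P') := θₐ.toRingHom.toAlgebra
  have hθ1 : ∀ a : p.ResidueField, θₐ (a ⊗ₜ[R] 1) = algebraMap p.ResidueField (p'.Fiber P') a := by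
    intro a
    simp [θₐ]
  have hθ2 : ∀ x : P, θₐ (1 ⊗ₜ[R] x) = algebraMap P (p'.Fiber P') x := by
    intro x
    simp only [θₐ, Algebra.TensorProduct.lift_tmul, map_one, one_mul]
    rfl
  haveI t9 : IsScalarTower p.ResidueField (p.Fiber P) (p'.Fiber P') :=
    IsScalarTower.of_algebraMap_eq (fun a => (hθ1 a).symm)
  haveI t10 : IsScalarTower P (p.Fiber P) (p'.Fiber P') :=
    IsScalarTower.of_algebraMap_eq (fun x => (hθ2 x).symm)
  haveI t11 : IsScalarTower R (p.Fiber P) (p'.Fiber P') :=
    IsScalarTower.of_algebraMap_eq (fun r => (θₐ.commutes r).symm)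
  -- pushouts
  haveI hP1 : Algebra.IsPushout R R' P P' := Algebra.IsPushout.symm ‹_›
  have h1 : Algebra.IsPushout R p'.ResidueField P (p'.Fiber P') :=
    (Algebra.IsPushout.comp_iff R R' P (S' := P') (T := p'.ResidueField)
      (T' := p'.Fiber P')).mpr inferInstance
  have h2 : Algebra.IsPushout p.ResidueField p'.ResidueField (p.Fiber P) (p'.Fiber P') :=
    (Algebra.IsPushout.comp_iff R p.ResidueField P (S' := p.Fiber P) (T := p'.ResidueField)
      (T' := p'.Fiber P')).mp h1
  have hflat : Module.Flat (p.Fiber P) (p'.Fiber P') :=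
    Module.Flat.isBaseChange p.ResidueField (p.Fiber P) p'.ResidueField (p'.Fiber P') h2.symm.out
  refine ⟨θₐ.toRingHom, hflat, fun x => ?_⟩
  exact hθ2 x

end FlatMap

section Transfer

/-- generation by a regular sequence is invariant under ring isomorphisms. -/
theorem regGen_of_ringEquiv {A B : Type u} [CommRing A] [CommRing B] (e : A →+* B)
    (he : Function.Bijective e) (J : Ideal A)
    (h : ∃ rs : List A, IsRegular A rs ∧ Ideal.ofList rs = J) :
    ∃ rs' : List B, IsRegular B rs' ∧ Ideal.ofList rs' = J.map e := by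
  obtain ⟨rs, hreg, hrs⟩ := h
  have hofl : Ideal.ofList (rs.map e) = J.map e := by
    rw [← Ideal.map_ofList, hrs]
  refine ⟨rs.map e, ?_, hofl⟩
  refine Groth.Agent.Lib.Helper10.RegSeqFlat.kindSeq_map e RegImm.Kind.regular
    (RingHom.Flat.of_bijective he) rs hreg ?_
  rw [hofl]
  intro htop
  have h1 : J = ⊤ := by
    have h3 := Ideal.comap_map_of_bijective e he (I := J)
    rw [htop, Ideal.comap_top] at h3
    exact h3.symm
  have h2 := hreg.top_ne_smul
  rw [smul_eq_mul, Ideal.mul_top, hrs, h1] at h2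
  exact h2 rfl

/-- generation by a regular sequence in a localization, along a flat map of rings. -/
theorem exists_isRegular_localization_iff_of_flat (B B' : Type u) [CommRing B] [CommRing B']
    [IsNoetherianRing B] (φ : B →+* B') (hφ : φ.Flat) (I : Ideal B)
    (𝔓 : Ideal B') [𝔓.IsPrime] (𝔭 : Ideal B) [𝔭.IsPrime] (h𝔭𝔓 : 𝔭 = 𝔓.comap φ) (hI𝔭 : I ≤ 𝔭) :
    (∃ rs : List (Localization.AtPrime 𝔭), IsRegular (Localization.AtPrime 𝔭) rs ∧
      Ideal.ofList rs = I.map (algebraMap B (Localization.AtPrime 𝔭))) ↔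
    (∃ rs' : List (Localization.AtPrime 𝔓), IsRegular (Localization.AtPrime 𝔓) rs' ∧
      Ideal.ofList rs' = (I.map φ).map (algebraMap B' (Localization.AtPrime 𝔓))) := by
  have hI𝔓 : I.map φ ≤ 𝔓 := by
    rw [Ideal.map_le_iff_le_comap, ← h𝔭𝔓]
    exact hI𝔭
  letI algBB' : Algebra B B' := φ.toAlgebra
  haveI : Module.Flat B B' := hφ
  letI algLoc : Algebra (Localization.AtPrime 𝔭) (Localization.AtPrime 𝔓) :=
    (Localization.localRingHom _ _ (algebraMap B B') h𝔭𝔓).toAlgebra
  haveI hff : Module.FaithfullyFlat (Localization.AtPrime 𝔭) (Localization.AtPrime 𝔓) :=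
    Groth.Agent.Lib.Helper24.faithfullyFlat_localRingHom B B' _ _ h𝔭𝔓
  haveI : IsNoetherianRing (Localization.AtPrime 𝔭) :=
    IsLocalization.isNoetherianRing 𝔭.primeCompl _ inferInstance
  have hmap : (I.map (algebraMap B (Localization.AtPrime 𝔭))).map
      (algebraMap (Localization.AtPrime 𝔭) (Localization.AtPrime 𝔓)) =
      (I.map φ).map (algebraMap B' (Localization.AtPrime 𝔓)) := by
    rw [Ideal.map_map, Ideal.map_map]
    congr 1
    ext a
    simp only [RingHom.comp_apply, RingHom.algebraMap_toAlgebra]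
    exact Localization.localRingHom_to_map _ _ _ h𝔭𝔓 a
  have hne' : (I.map φ).map (algebraMap B' (Localization.AtPrime 𝔓)) ≠ ⊤ := by
    intro htop
    have h1 := Ideal.map_mono (f := algebraMap B' (Localization.AtPrime 𝔓)) hI𝔓
    rw [htop, Localization.AtPrime.map_eq_maximalIdeal] at h1
    exact (IsLocalRing.maximalIdeal.isMaximal _).ne_top (top_le_iff.mp h1)
  have hne : I.map (algebraMap B (Localization.AtPrime 𝔭)) ≠ ⊤ := by
    intro htop
    have h1 := Ideal.map_mono (f := algebraMap B (Localization.AtPrime 𝔭)) hI𝔭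
    rw [htop, Localization.AtPrime.map_eq_maximalIdeal] at h1
    exact (IsLocalRing.maximalIdeal.isMaximal _).ne_top (top_le_iff.mp h1)
  constructor
  · rintro ⟨rs, hreg, hrs⟩
    have hofl : Ideal.ofList (rs.map (algebraMap (Localization.AtPrime 𝔭)
        (Localization.AtPrime 𝔓))) =
        (I.map φ).map (algebraMap B' (Localization.AtPrime 𝔓)) := by
      rw [← hmap, ← hrs, Ideal.map_ofList]
    refine ⟨_, Groth.Agent.Lib.Helper10.RegSeqFlat.kindSeq_map _ RegImm.Kind.regular
      (RingHom.flat_algebraMap_iff.mpr inferInstance) rs hreg ?_, hofl⟩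
    rw [hofl]
    exact hne'
  · rintro ⟨rs', hreg', hrs'⟩
    exact Groth.Agent.Lib.Helper10.CIFieldExt.exists_isRegular_of_map_faithfullyFlat
      (R := Localization.AtPrime 𝔭) (R' := Localization.AtPrime 𝔓)
      (I.map (algebraMap B (Localization.AtPrime 𝔭))) hne ⟨rs', hreg', by rw [hrs', hmap]⟩

end Transfer

section Main

variable {R R' P P' : Type u} [CommRing R] [CommRing R'] [CommRing P] [CommRing P']
  [Algebra R R'] [Algebra R P] [Algebra R' P'] [Algebra P P'] [Algebra R P']
  [IsScalarTower R R' P'] [IsScalarTower R P P']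

/-- the two models of the local ring of a fibre, compatibly with the maps from `P`. -/
theorem exists_ringEquiv_fibLocRing (p : Ideal R) [p.IsPrime] (Qb : Ideal (p.Fiber P))
    [Qb.IsPrime] (Q : Ideal P) [Q.IsPrime]
    (hr : Qb.comap (Algebra.TensorProduct.includeRight : P →ₐ[R] p.Fiber P) = Q)
    (hp : Q.comap (algebraMap R P) = p) :
    ∃ e : Localization.AtPrime Qb ≃+* EGA4.FibLocRing R P Q,
      ∀ x : P, e (algebraMap (p.Fiber P) (Localization.AtPrime Qb) (1 ⊗ₜ[R] x)) =
        algebraMap P (EGA4.FibLocRing R P Q) x := by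
  subst hr
  obtain ⟨e, he⟩ := Groth.Agent.Lib.Helper10.FibBridge.exists_ringEquiv p Qb
  have hI : p.map (algebraMap R (Localization.AtPrime
      (Qb.comap (Algebra.TensorProduct.includeRight : P →ₐ[R] p.Fiber P)))) =
      ((Qb.comap (Algebra.TensorProduct.includeRight : P →ₐ[R] p.Fiber P)).comap
        (algebraMap R P)).map (algebraMap R _) := by rw [hp]
  refine ⟨e.trans (Ideal.quotEquivOfEq hI), fun x => ?_⟩
  rw [RingEquiv.trans_apply, he]
  rfl

theorem regGenFib_iff_fiber (p : Ideal R) [p.IsPrime] (Qb : Ideal (p.Fiber P))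
    [Qb.IsPrime] (Q : Ideal P) [Q.IsPrime]
    (hr : Qb.comap (Algebra.TensorProduct.includeRight : P →ₐ[R] p.Fiber P) = Q)
    (hp : Q.comap (algebraMap R P) = p) (I : Ideal P) :
    RegGenFib R I Q ↔ ∃ rs : List (Localization.AtPrime Qb),
      IsRegular (Localization.AtPrime Qb) rs ∧ Ideal.ofList rs =
        (I.map (Algebra.TensorProduct.includeRight : P →ₐ[R] p.Fiber P).toRingHom).map
          (algebraMap (p.Fiber P) (Localization.AtPrime Qb)) := by
  obtain ⟨e, he⟩ := exists_ringEquiv_fibLocRing p Qb Q hr hp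
  have hcomp : ((e : Localization.AtPrime Qb →+* EGA4.FibLocRing R P Q).comp
      (algebraMap (p.Fiber P) (Localization.AtPrime Qb))).comp
      (Algebra.TensorProduct.includeRight : P →ₐ[R] p.Fiber P).toRingHom =
      algebraMap P (EGA4.FibLocRing R P Q) := by
    ext x
    exact he x
  have hkey : ((I.map (Algebra.TensorProduct.includeRight : P →ₐ[R] p.Fiber P).toRingHom).map
      (algebraMap (p.Fiber P) (Localization.AtPrime Qb))).map
      (e : Localization.AtPrime Qb →+* EGA4.FibLocRing R P Q) =
      I.map (algebraMap P (EGA4.FibLocRing R P Q)) := by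
    rw [Ideal.map_map, Ideal.map_map, hcomp]
  constructor
  · intro h
    let es : EGA4.FibLocRing R P Q →+* Localization.AtPrime Qb := e.symm.toRingHom
    have hes : Function.Bijective es := e.symm.bijective
    obtain ⟨rs', hreg', hrs'⟩ := regGen_of_ringEquiv (A := EGA4.FibLocRing R P Q) (B := Localization.AtPrime Qb) es hes _ h
    refine ⟨rs', hreg', ?_⟩
    rw [hrs', ← hkey, Ideal.map_map]
    have : es.comp
        (e : Localization.AtPrime Qb →+* EGA4.FibLocRing R P Q) = RingHom.id _ := by
      ext x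
      exact e.symm_apply_apply x
    rw [this, Ideal.map_id]
  · intro h
    let ef : Localization.AtPrime Qb →+* EGA4.FibLocRing R P Q := e.toRingHom
    have hef : Function.Bijective ef := e.bijective
    obtain ⟨rs', hreg', hrs'⟩ := regGen_of_ringEquiv (B := EGA4.FibLocRing R P Q) (A := Localization.AtPrime Qb) ef hef _ h
    exact ⟨rs', hreg', by rw [hrs']; exact hkey⟩

/-- **The Koszul locus of a relatively flat ideal commutes with arbitrary base change.** -/
theorem kosAt_iff_of_isPushout [Algebra.IsPushout R P R' P']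
    [Algebra.FinitePresentation R P] [Module.Flat R P] [Algebra.FinitePresentation R' P']
    [Module.Flat R' P'] (I : Ideal P) (hI : I.FG) [Module.Flat R (P ⧸ I)]
    [Module.Flat R' (P' ⧸ I.map (algebraMap P P'))]
    (Q' : Ideal P') [Q'.IsPrime] (hIQ' : I.map (algebraMap P P') ≤ Q') :
    KosAt I (Q'.comap (algebraMap P P')) ↔ KosAt (I.map (algebraMap P P')) Q' := by
  have hIQ : I ≤ Q'.comap (algebraMap P P') := Ideal.map_le_iff_le_comap.mp hIQ'
  haveI hp'prime : (Q'.comap (algebraMap R' P')).IsPrime := inferInstance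
  haveI hpprime : ((Q'.comap (algebraMap R' P')).comap (algebraMap R R')).IsPrime := inferInstance
  have hpQ : (Q'.comap (algebraMap P P')).comap (algebraMap R P) =
      (Q'.comap (algebraMap R' P')).comap (algebraMap R R') := by
    rw [Ideal.comap_comap, Ideal.comap_comap, ← IsScalarTower.algebraMap_eq,
      ← IsScalarTower.algebraMap_eq]
  obtain ⟨θ, hθflat, hθ⟩ := exists_flat_fiber_map (P := P) (P' := P')
    ((Q'.comap (algebraMap R' P')).comap (algebraMap R R')) (Q'.comap (algebraMap R' P')) rfl
  haveI hlies : Q'.LiesOver (Q'.comap (algebraMap R' P')) := ⟨rfl⟩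
  obtain ⟨Qb', hQb'p, hQb'⟩ := Groth.Agent.Lib.Helper29.exists_fiber_prime
    (Q'.comap (algebraMap R' P')) Q'
  haveI := hQb'p
  haveI hQbp : (Qb'.comap θ).IsPrime := inferInstance
  have hθcomp : θ.comp (Algebra.TensorProduct.includeRight :
      P →ₐ[R] ((Q'.comap (algebraMap R' P')).comap (algebraMap R R')).Fiber P).toRingHom =
      ((Algebra.TensorProduct.includeRight :
        P' →ₐ[R'] (Q'.comap (algebraMap R' P')).Fiber P').toRingHom).comp (algebraMap P P') := by
    ext x
    exact hθ x
  have hQb : (Qb'.comap θ).comap (Algebra.TensorProduct.includeRight :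
      P →ₐ[R] ((Q'.comap (algebraMap R' P')).comap (algebraMap R R')).Fiber P) =
      Q'.comap (algebraMap P P') := by
    ext x
    rw [Ideal.mem_comap, Ideal.mem_comap, Ideal.mem_comap]
    have h1 : θ ((Algebra.TensorProduct.includeRight :
        P →ₐ[R] ((Q'.comap (algebraMap R' P')).comap (algebraMap R R')).Fiber P) x) =
        (Algebra.TensorProduct.includeRight :
          P' →ₐ[R'] (Q'.comap (algebraMap R' P')).Fiber P') (algebraMap P P' x) := hθ x
    rw [h1]
    exact Ideal.ext_iff.mp hQb' (algebraMap P P' x)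
  haveI : IsNoetherianRing (((Q'.comap (algebraMap R' P')).comap (algebraMap R R')).Fiber P) :=
    Algebra.FiniteType.isNoetherianRing
      ((Q'.comap (algebraMap R' P')).comap (algebraMap R R')).ResidueField _
  have hA : KosAt I (Q'.comap (algebraMap P P')) ↔ RegGenFib R I (Q'.comap (algebraMap P P')) :=
    ⟨regGenFib_of_kosAt R I _ hIQ, kosAt_of_regGenFib R I _ hI hIQ⟩
  have hA' : KosAt (I.map (algebraMap P P')) Q' ↔ RegGenFib R' (I.map (algebraMap P P')) Q' :=
    ⟨regGenFib_of_kosAt R' _ Q' hIQ', kosAt_of_regGenFib R' _ Q' (hI.map _) hIQ'⟩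
  rw [hA, hA', regGenFib_iff_fiber _ (Qb'.comap θ) _ hQb hpQ I,
    regGenFib_iff_fiber (Q'.comap (algebraMap R' P')) Qb' Q' hQb' rfl (I.map (algebraMap P P'))]
  have hIQb : I.map (Algebra.TensorProduct.includeRight :
      P →ₐ[R] ((Q'.comap (algebraMap R' P')).comap (algebraMap R R')).Fiber P).toRingHom ≤
      Qb'.comap θ := by
    rw [Ideal.map_le_iff_le_comap]
    intro x hx
    have := hIQ hx
    rw [← hQb] at this
    exact this
  have hmapI : (I.map (Algebra.TensorProduct.includeRight :
      P →ₐ[R] ((Q'.comap (algebraMap R' P')).comap (algebraMap R R')).Fiber P).toRingHom).map θ =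
      (I.map (algebraMap P P')).map (Algebra.TensorProduct.includeRight :
        P' →ₐ[R'] (Q'.comap (algebraMap R' P')).Fiber P').toRingHom := by
    rw [Ideal.map_map, hθcomp, ← Ideal.map_map]
  rw [exists_isRegular_localization_iff_of_flat _ _ θ hθflat _ Qb' (Qb'.comap θ) rfl hIQb, hmapI]

end Main

end Groth.Agent.Lib.Helper10.KosFibreB
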