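import Mathlib
import Groth.Agent.Lib.Helper10.KosFibreB

/-!
# Base change of the pointwise lci locus of a map of flat finitely presented algebras (helper10)
-/

set_option autoImplicit false
set_option linter.style.haveILetI false
universe u

namespace Groth.Agent.Lib.Helper10.KosBC

open TensorProduct
open Groth.Agent.Lib.Helper10.KosAt Groth.Agent.Lib.Helper10.KosFibreB
open Groth.Agent.Lib.Helper10.LciComp

section Core

variable {R R' B B' C C' P P' : Type u} [CommRing R] [CommRing R'] [CommRing B] [CommRing B']
  [CommRing C] [CommRing C'] [CommRing P] [CommRing P']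
  [Algebra R R'] [Algebra R B] [Algebra R C] [Algebra B C] [IsScalarTower R B C]
  [Algebra R' B'] [Algebra R' C'] [Algebra B' C'] [IsScalarTower R' B' C']
  [Algebra C C'] [Algebra R C'] [IsScalarTower R R' C'] [IsScalarTower R C C']
  [Algebra B P] [Algebra R P] [IsScalarTower R B P]
  [Algebra B' P'] [Algebra R' P'] [IsScalarTower R' B' P']
  [Algebra P P'] [Algebra R P'] [IsScalarTower R R' P'] [IsScalarTower R P P']

/-- core statement, for given compatible smooth presentations. -/
theorem isLCIAt_iff_core [Algebra.Smooth B P] [Algebra.Smooth B' P']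
    [Algebra.IsPushout R P R' P'] [Algebra.IsPushout R C R' C']
    [Algebra.FinitePresentation R P] [Module.Flat R P] [Algebra.FinitePresentation R' P']
    [Module.Flat R' P'] [Algebra.FinitePresentation R C] [Module.Flat R C]
    (α : P →ₐ[B] C) (hα : Function.Surjective α) (α' : P' →ₐ[B'] C')
    (hα' : Function.Surjective α')
    (hker : RingHom.ker α'.toRingHom = (RingHom.ker α.toRingHom).map (algebraMap P P'))
    (hcomm : ∀ x : P, α' (algebraMap P P' x) = algebraMap C C' (α x))
    (q' : Ideal C') [q'.IsPrime] :
    IsLCIAt (algebraMap B C) (q'.comap (algebraMap C C')) ↔ IsLCIAt (algebraMap B' C') q' := by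
  have h1 : algebraMap B C = α.toRingHom.comp (algebraMap B P) := by
    ext b
    exact (α.commutes b).symm
  have h1' : algebraMap B' C' = α'.toRingHom.comp (algebraMap B' P') := by
    ext b
    exact (α'.commutes b).symm
  rw [h1, h1', isLCIAt_iff_kosAt (A := B) α.toRingHom hα, isLCIAt_iff_kosAt (A := B') α'.toRingHom hα',
    hker]
  have hQ : (q'.comap (algebraMap C C')).comap α.toRingHom =
      (q'.comap α'.toRingHom).comap (algebraMap P P') := by
    rw [Ideal.comap_comap, Ideal.comap_comap]
    congr 1
    ext x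
    exact (hcomm x).symm
  rw [hQ]
  -- flatness of the quotients
  have hfg : (RingHom.ker α.toRingHom).FG :=
    Algebra.FinitePresentation.ker_fG_of_surjective (α.restrictScalars R) hα
  haveI : Module.Flat R (P ⧸ RingHom.ker α.toRingHom) :=
    Module.Flat.of_linearEquiv
      ((Ideal.quotientKerAlgEquivOfSurjective (f := α.restrictScalars R) hα).toLinearEquiv)
  haveI : Module.Flat R' C' :=
    Module.Flat.isBaseChange R R' C C'
      (Algebra.IsPushout.symm (inferInstance : Algebra.IsPushout R C R' C')).out
  haveI : Module.Flat R' (P' ⧸ (RingHom.ker α.toRingHom).map (algebraMap P P')) := by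
    rw [← hker]
    exact Module.Flat.of_linearEquiv
      ((Ideal.quotientKerAlgEquivOfSurjective (f := α'.restrictScalars R') hα').toLinearEquiv)
  have hle : (RingHom.ker α.toRingHom).map (algebraMap P P') ≤ q'.comap α'.toRingHom := by
    rw [← hker]
    intro x hx
    rw [Ideal.mem_comap, RingHom.mem_ker.mp hx]
    exact q'.zero_mem
  exact kosAt_iff_of_isPushout (R := R) (R' := R') (RingHom.ker α.toRingHom) hfg
    (q'.comap α'.toRingHom) hle

end Core

section Ker

variable {R R' P P' C C' : Type u} [CommRing R] [CommRing R'] [CommRing P] [CommRing P']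
  [CommRing C] [CommRing C']
  [Algebra R R'] [Algebra R P] [Algebra R' P'] [Algebra P P'] [Algebra R P']
  [IsScalarTower R R' P'] [IsScalarTower R P P']
  [Algebra R C] [Algebra R' C'] [Algebra C C'] [Algebra R C'] [IsScalarTower R R' C']
  [IsScalarTower R C C']

/-- the base change of a surjection of algebras: surjectivity and kernel, in terms of pushouts. -/
theorem surjective_and_ker_of_isPushout [Algebra.IsPushout R P R' P']
    [Algebra.IsPushout R C R' C'] (α : P →ₐ[R] C) (hα : Function.Surjective α)
    (α' : P' →ₐ[R'] C') (hcomm : ∀ x : P, α' (algebraMap P P' x) = algebraMap C C' (α x)) :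
    Function.Surjective α' ∧
      RingHom.ker α'.toRingHom = (RingHom.ker α.toRingHom).map (algebraMap P P') := by
  let eP := Algebra.IsPushout.equiv R P R' P'
  let eC := Algebra.IsPushout.equiv R C R' C'
  let m : P ⊗[R] R' →ₐ[R] C ⊗[R] R' := Algebra.TensorProduct.map α (AlgHom.id R R')
  have hm : Function.Surjective m :=
    Algebra.TensorProduct.map_surjective α (AlgHom.id R R') hα Function.surjective_id
  have hsq : ∀ t : P ⊗[R] R', α' (eP t) = eC (m t) := by
    intro t
    induction t using TensorProduct.induction_on with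
    | zero => simp
    | tmul x r =>
      rw [Algebra.IsPushout.equiv_tmul, map_mul, hcomm, AlgHom.commutes]
      show _ = eC (α x ⊗ₜ[R] r)
      rw [Algebra.IsPushout.equiv_tmul]
    | add a b ha hb => rw [map_add, map_add, ha, hb, map_add, map_add]
  refine ⟨?_, ?_⟩
  · intro y
    obtain ⟨t, rfl⟩ := eC.surjective y
    obtain ⟨s, rfl⟩ := hm t
    exact ⟨eP s, hsq s⟩
  · have h1 : (RingHom.ker α'.toRingHom).comap (eP : P ⊗[R] R' →+* P') =
        RingHom.ker (m : P ⊗[R] R' →+* C ⊗[R] R') := by
      ext t
      rw [Ideal.mem_comap, RingHom.mem_ker, RingHom.mem_ker]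
      show α' (eP t) = 0 ↔ m t = 0
      rw [hsq t]
      exact map_eq_zero_iff eC eC.injective
    have h2 : RingHom.ker (m : P ⊗[R] R' →+* C ⊗[R] R') =
        (RingHom.ker α).map (Algebra.TensorProduct.includeLeft : P →ₐ[R] P ⊗[R] R') :=
      Algebra.TensorProduct.rTensor_ker (R := R) (S := R) (C := R') α hα
    have h3 : (RingHom.ker α'.toRingHom) =
        ((RingHom.ker α'.toRingHom).comap (eP : P ⊗[R] R' →+* P')).map
          (eP : P ⊗[R] R' →+* P') :=
      (Ideal.map_comap_of_surjective _ eP.surjective _).symm
    rw [h3, h1, h2]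
    show Ideal.map (eP : P ⊗[R] R' →+* P') (Ideal.map
      (Algebra.TensorProduct.includeLeft : P →ₐ[R] P ⊗[R] R').toRingHom (RingHom.ker α.toRingHom)) = _
    rw [Ideal.map_map]
    congr 1
    ext x
    show eP (x ⊗ₜ[R] (1 : R')) = algebraMap P P' x
    rw [Algebra.IsPushout.equiv_tmul, map_one, mul_one]

end Ker

section Main

variable {R R' B B' C C' : Type u} [CommRing R] [CommRing R'] [CommRing B] [CommRing B']
  [CommRing C] [CommRing C']
  [Algebra R R'] [Algebra R B] [Algebra R C] [Algebra B C] [IsScalarTower R B C]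
  [Algebra R' B'] [Algebra R' C'] [Algebra B' C'] [IsScalarTower R' B' C']
  [Algebra B B'] [Algebra R B'] [IsScalarTower R R' B'] [IsScalarTower R B B']
  [Algebra C C'] [Algebra R C'] [IsScalarTower R R' C'] [IsScalarTower R C C']
  [Algebra B C'] [IsScalarTower B B' C'] [IsScalarTower B C C']

attribute [local instance] MvPolynomial.algebraMvPolynomial in
/-- **Base change of the pointwise lci locus.**  For `B → C` a map of flat finitely presented
`R`-algebras and an arbitrary base change `R → R'`, `B' = B ⊗_R R'`, `C' = C ⊗_R R'`: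
`B → C` is lci at `q' ∩ C` iff `B' → C'` is lci at `q'`. -/
theorem isLCIAt_iff_of_isPushout [Algebra.IsPushout R B R' B'] [Algebra.IsPushout R C R' C']
    [Algebra.FinitePresentation R B] [Module.Flat R B] [Algebra.FinitePresentation R C]
    [Module.Flat R C] (q' : Ideal C') [q'.IsPrime] :
    IsLCIAt (algebraMap B C) (q'.comap (algebraMap C C')) ↔ IsLCIAt (algebraMap B' C') q' := by
  have hft : Algebra.FiniteType B C := Algebra.FiniteType.of_restrictScalars_finiteType R B C
  obtain ⟨n, α, hα⟩ := Algebra.FiniteType.iff_quotient_mvPolynomial''.mp hft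
  -- the base change of `B`
  haveI hB'flat : Module.Flat R' B' :=
    Module.Flat.isBaseChange R R' B B'
      (Algebra.IsPushout.symm (inferInstance : Algebra.IsPushout R B R' B')).out
  haveI hB'fp : Algebra.FinitePresentation R' B' := by
    haveI : Algebra.IsPushout R R' B B' :=
      Algebra.IsPushout.symm (inferInstance : Algebra.IsPushout R B R' B')
    exact Algebra.FinitePresentation.equiv (Algebra.IsPushout.equiv R R' B B')
  -- the polynomial rings
  haveI : Algebra.Smooth B (MvPolynomial (Fin n) B) := ⟨inferInstance, inferInstance⟩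
  haveI : Algebra.Smooth B' (MvPolynomial (Fin n) B') := ⟨inferInstance, inferInstance⟩
  haveI : Algebra.FinitePresentation R (MvPolynomial (Fin n) B) :=
    Algebra.FinitePresentation.trans R B _
  haveI : Module.Flat R (MvPolynomial (Fin n) B) := Module.Flat.trans R B _
  haveI : Algebra.FinitePresentation R' (MvPolynomial (Fin n) B') :=
    Algebra.FinitePresentation.trans R' B' _
  haveI : Module.Flat R' (MvPolynomial (Fin n) B') := Module.Flat.trans R' B' _
  haveI tRPP' : IsScalarTower R (MvPolynomial (Fin n) B) (MvPolynomial (Fin n) B') :=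
    IsScalarTower.of_algebraMap_eq (fun r => by
      rw [MvPolynomial.algebraMap_def, MvPolynomial.algebraMap_apply,
        MvPolynomial.algebraMap_apply, MvPolynomial.map_C,
        ← IsScalarTower.algebraMap_apply R B B'])
  haveI hPpush : Algebra.IsPushout R (MvPolynomial (Fin n) B) R' (MvPolynomial (Fin n) B') :=
    (Algebra.IsPushout.comp_iff R B R' (S' := B') (T := MvPolynomial (Fin n) B)
      (T' := MvPolynomial (Fin n) B')).mpr inferInstance
  -- the base-changed presentation
  let α' : MvPolynomial (Fin n) B' →ₐ[B'] C' :=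
    MvPolynomial.aeval (fun i => algebraMap C C' (α (MvPolynomial.X i)))
  have hcomm : ∀ x : MvPolynomial (Fin n) B,
      α' (algebraMap (MvPolynomial (Fin n) B) (MvPolynomial (Fin n) B') x) =
        algebraMap C C' (α x) := by
    intro x
    have : (α'.toRingHom.comp (algebraMap (MvPolynomial (Fin n) B) (MvPolynomial (Fin n) B'))) =
        (algebraMap C C').comp α.toRingHom := by
      apply MvPolynomial.ringHom_ext
      · intro b
        simp only [RingHom.comp_apply, MvPolynomial.algebraMap_def, MvPolynomial.map_C]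
        show α' (MvPolynomial.C (algebraMap B B' b)) = algebraMap C C' (α (MvPolynomial.C b))
        rw [← MvPolynomial.algebraMap_eq, ← MvPolynomial.algebraMap_eq, AlgHom.commutes,
          AlgHom.commutes, ← IsScalarTower.algebraMap_apply, ← IsScalarTower.algebraMap_apply]
      · intro i
        simp only [RingHom.comp_apply, MvPolynomial.algebraMap_def, MvPolynomial.map_X]
        show α' (MvPolynomial.X i) = algebraMap C C' (α (MvPolynomial.X i))
        exact MvPolynomial.aeval_X _ i
    exact congrArg (fun f => f x) this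
  obtain ⟨hα', hker⟩ := surjective_and_ker_of_isPushout (R := R) (R' := R')
    (α.restrictScalars R) hα (α'.restrictScalars R') hcomm
  exact isLCIAt_iff_core (R := R) (R' := R') α hα α' hα' hker hcomm q'

end Main

section Hom

open CategoryTheory CategoryTheory.Limits

/-- `isLCIAt_iff_of_isPushout`, in terms of ring homomorphisms and pushout squares of
commutative rings. -/
theorem isLCIAt_iff_of_isPushout' {R R' B B' C C' : Type u} [CommRing R] [CommRing R']
    [CommRing B] [CommRing B'] [CommRing C] [CommRing C']
    (ρ : R →+* R') (β : R →+* B) (φ : B →+* C) (β' : R' →+* B') (φ' : B' →+* C')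
    (b : B →+* B') (c : C →+* C')
    (hb : b.comp β = β'.comp ρ) (hc : c.comp φ = φ'.comp b)
    (hB : IsPushout (CommRingCat.ofHom β) (CommRingCat.ofHom ρ) (CommRingCat.ofHom b)
      (CommRingCat.ofHom β'))
    (hC : IsPushout (CommRingCat.ofHom (φ.comp β)) (CommRingCat.ofHom ρ) (CommRingCat.ofHom c)
      (CommRingCat.ofHom (φ'.comp β')))
    (hBf : β.Flat) (hBp : β.FinitePresentation) (hCf : (φ.comp β).Flat)
    (hCp : (φ.comp β).FinitePresentation) (q' : Ideal C') [q'.IsPrime] :
    IsLCIAt φ (q'.comap c) ↔ IsLCIAt φ' q' := by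
  letI a1 : Algebra R R' := ρ.toAlgebra
  letI a2 : Algebra R B := β.toAlgebra
  letI a3 : Algebra B C := φ.toAlgebra
  letI a4 : Algebra R C := (φ.comp β).toAlgebra
  letI a5 : Algebra R' B' := β'.toAlgebra
  letI a6 : Algebra B' C' := φ'.toAlgebra
  letI a7 : Algebra R' C' := (φ'.comp β').toAlgebra
  letI a8 : Algebra B B' := b.toAlgebra
  letI a9 : Algebra C C' := c.toAlgebra
  letI a10 : Algebra R B' := (b.comp β).toAlgebra
  letI a11 : Algebra R C' := (c.comp (φ.comp β)).toAlgebra
  letI a12 : Algebra B C' := (c.comp φ).toAlgebra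
  haveI t1 : IsScalarTower R B C := IsScalarTower.of_algebraMap_eq' rfl
  haveI t2 : IsScalarTower R' B' C' := IsScalarTower.of_algebraMap_eq' rfl
  haveI t3 : IsScalarTower R R' B' := IsScalarTower.of_algebraMap_eq' hb
  haveI t4 : IsScalarTower R B B' := IsScalarTower.of_algebraMap_eq' rfl
  haveI t5 : IsScalarTower R R' C' := IsScalarTower.of_algebraMap_eq' (by
    show c.comp (φ.comp β) = (φ'.comp β').comp ρ
    rw [← RingHom.comp_assoc, hc, RingHom.comp_assoc, hb, RingHom.comp_assoc])
  haveI t6 : IsScalarTower R C C' := IsScalarTower.of_algebraMap_eq' rfl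
  haveI t7 : IsScalarTower B B' C' := IsScalarTower.of_algebraMap_eq' hc
  haveI t8 : IsScalarTower B C C' := IsScalarTower.of_algebraMap_eq' rfl
  haveI p1 : Algebra.IsPushout R B R' B' :=
    (CommRingCat.isPushout_iff_isPushout (R := R) (R' := B) (S := R') (S' := B')).mp hB
  haveI p2 : Algebra.IsPushout R C R' C' :=
    (CommRingCat.isPushout_iff_isPushout (R := R) (R' := C) (S := R') (S' := C')).mp hC
  haveI f1 : Module.Flat R B := hBf
  haveI f2 : Algebra.FinitePresentation R B := hBp
  haveI f3 : Module.Flat R C := hCf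
  haveI f4 : Algebra.FinitePresentation R C := hCp
  exact isLCIAt_iff_of_isPushout (R := R) (R' := R') (B := B) (B' := B') (C := C) (C' := C') q'

/-- variant with named structure maps of `C` and `C'`. -/
theorem isLCIAt_iff_of_isPushout'' {R R' B B' C C' : Type u} [CommRing R] [CommRing R']
    [CommRing B] [CommRing B'] [CommRing C] [CommRing C']
    (ρ : R →+* R') (β : R →+* B) (φ : B →+* C) (γ : R →+* C) (β' : R' →+* B') (φ' : B' →+* C')
    (γ' : R' →+* C') (b : B →+* B') (c : C →+* C') (hγ : γ = φ.comp β) (hγ' : γ' = φ'.comp β')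
    (hb : b.comp β = β'.comp ρ) (hc : c.comp φ = φ'.comp b)
    (hB : IsPushout (CommRingCat.ofHom β) (CommRingCat.ofHom ρ) (CommRingCat.ofHom b)
      (CommRingCat.ofHom β'))
    (hC : IsPushout (CommRingCat.ofHom γ) (CommRingCat.ofHom ρ) (CommRingCat.ofHom c)
      (CommRingCat.ofHom γ'))
    (hBf : β.Flat) (hBp : β.FinitePresentation) (hCf : γ.Flat)
    (hCp : γ.FinitePresentation) (q' : Ideal C') [q'.IsPrime] :
    IsLCIAt φ (q'.comap c) ↔ IsLCIAt φ' q' := by
  subst hγ hγ'
  exact isLCIAt_iff_of_isPushout' ρ β φ β' φ' b c hb hc hB hC hBf hBp hCf hCp q'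

end Hom

end Groth.Agent.Lib.Helper10.KosBC
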