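import Mathlib
import Groth.Agent.Lib.Helper10.LciSmooth

/-!
# "Local complete intersection" is a local property of ring maps (helper10)

* `isLCIHom_propertyIsLocal : RingHom.PropertyIsLocal @IsLCIHom`.
* `lciMor := affineLocally @IsLCIHom` with its `HasRingHomProperty` instance.
-/

set_option autoImplicit false
universe u

namespace Groth.Agent.Lib.Helper10.LciLocalProp

open Groth.Agent.Lib.Helper10.RegDescent Groth.Agent.Lib.Helper10.RegDescentKoszul
open Groth.Agent.Lib.Helper10.LciTrans Groth.Agent.Lib.Helper10.LciPoly
open Groth.Agent.Lib.Helper10.LciComp Groth.Agent.Lib.Helper10.LciLocal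
open Groth.Agent.Lib.Helper10.LciSmooth

theorem isLCIHom_stableUnderComposition : RingHom.StableUnderComposition @IsLCIHom := by
  intro R S T _ _ _ f g hf hg
  exact isLCIHom_comp f g hf hg

theorem isLCIHom_respectsIso : RingHom.RespectsIso @IsLCIHom := by
  apply isLCIHom_stableUnderComposition.respectsIso
  intro R S _ _ e
  exact isLCIHom_ringEquiv e

theorem isLCIHom_holdsForLocalizationAway : RingHom.HoldsForLocalizationAway @IsLCIHom := by
  intro R S _ _ _ r _
  let e : Localization.Away r ≃ₐ[R] S := IsLocalization.algEquiv (Submonoid.powers r) _ _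
  have h1 := isLCIHom_comp _ _ (isLCIHom_away r) (isLCIHom_ringEquiv e.toRingEquiv)
  have h2 : ((e.toRingEquiv : Localization.Away r →+* S)).comp
      (algebraMap R (Localization.Away r)) = algebraMap R S := by
    ext x
    exact e.commutes x
  rwa [h2] at h1

theorem isLCIHom_ofLocalizationSpanTarget : RingHom.OfLocalizationSpanTarget @IsLCIHom := by
  intro R S _ _ f s hs h
  exact isLCIHom_of_span Groth.Agent.S9253.result f s hs (fun b hb => h ⟨b, hb⟩)

attribute [local instance] MvPolynomial.algebraMvPolynomial in
theorem isLCIHom_localizationAwayPreserves : RingHom.LocalizationAwayPreserves @IsLCIHom := by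
  intro R S _ _ f r R' S' _ _ _ _ _ _ hf
  letI := f.toAlgebra
  obtain ⟨-, n, α, hα, hI⟩ := hf
  set f' : R' →+* S' := IsLocalization.Away.map R' S' f r with hf'
  have hf'comp : f'.comp (algebraMap R R') = (algebraMap S S').comp f :=
    IsLocalization.map_comp _
  let φ : MvPolynomial (Fin n) R' →+* S' :=
    MvPolynomial.eval₂Hom f' (fun i => algebraMap S S' (α (MvPolynomial.X i)))
  have hsq : φ.comp (algebraMap (MvPolynomial (Fin n) R) (MvPolynomial (Fin n) R')) =
      (algebraMap S S').comp α.toRingHom := by
    apply MvPolynomial.ringHom_ext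
    · intro a
      simp only [RingHom.comp_apply, MvPolynomial.algebraMap_def, MvPolynomial.map_C, φ,
        MvPolynomial.coe_eval₂Hom, MvPolynomial.eval₂_C]
      have h1 : f' (algebraMap R R' a) = algebraMap S S' (f a) := RingHom.congr_fun hf'comp a
      rw [h1]
      congr 1
      exact (α.commutes a).symm
    · intro i
      simp only [RingHom.comp_apply, MvPolynomial.algebraMap_def, MvPolynomial.map_X, φ,
        MvPolynomial.coe_eval₂Hom, MvPolynomial.eval₂_X]
      rfl
  haveI : IsLocalization.Away (MvPolynomial.C r : MvPolynomial (Fin n) R)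
      (MvPolynomial (Fin n) R') := by
    have := MvPolynomial.isLocalization (σ := Fin n) (Submonoid.powers r) R'
    rwa [Submonoid.map_powers] at this
  have hg : α.toRingHom (MvPolynomial.C r) = f r := α.commutes r
  haveI : IsLocalization.Away (α.toRingHom (MvPolynomial.C r)) S' := by rw [hg]; infer_instance
  have hφsurj : Function.Surjective φ :=
    locSq_surjective α.toRingHom (MvPolynomial.C r) _ rfl φ hsq hα
  have hφker : RingHom.ker φ = (RingHom.ker α.toRingHom).map
      (algebraMap (MvPolynomial (Fin n) R) (MvPolynomial (Fin n) R')) :=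
    locSq_ker α.toRingHom (MvPolynomial.C r) _ rfl φ hsq
  have hflat : (algebraMap (MvPolynomial (Fin n) R) (MvPolynomial (Fin n) R')).Flat :=
    RingHom.flat_algebraMap_iff.mpr
      (IsLocalization.flat _ (Submonoid.powers (MvPolynomial.C r : MvPolynomial (Fin n) R)))
  have hloc : IsLoc koszulKind (RingHom.ker φ) := by
    rw [hφker]
    exact isLoc_map_of_flat _ hflat _ hI
  have h := isLCIHom_comp_of_isPolyHom (isPolyHom_C n) φ hφsurj hloc
  have heq : φ.comp (MvPolynomial.C : R' →+* MvPolynomial (Fin n) R') = f' := by
    ext a
    simp [φ]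
  rwa [heq] at h

theorem isLCIHom_propertyIsLocal : RingHom.PropertyIsLocal @IsLCIHom where
  localizationAwayPreserves := isLCIHom_localizationAwayPreserves
  ofLocalizationSpanTarget := isLCIHom_ofLocalizationSpanTarget
  ofLocalizationSpan := isLCIHom_ofLocalizationSpanTarget.ofLocalizationSpan
    (isLCIHom_stableUnderComposition.stableUnderCompositionWithLocalizationAway
      isLCIHom_holdsForLocalizationAway).1
  StableUnderCompositionWithLocalizationAwayTarget :=
    (isLCIHom_stableUnderComposition.stableUnderCompositionWithLocalizationAway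
      isLCIHom_holdsForLocalizationAway).2

end Groth.Agent.Lib.Helper10.LciLocalProp
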