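import Mathlib
import Groth.Agent.Lib.Helper10.KosBC
import Groth.Agent.Lib.Helper10.LciLocalProp
import Groth.Agent.Lib.Helper22.FibSliceMain

/-!
# The lci locus of a morphism of schemes in an affine chart (helper10)
-/

set_option autoImplicit false
set_option linter.style.haveILetI false
universe u

open AlgebraicGeometry CategoryTheory Limits

namespace Groth.Agent.Lib.Helper10.KosLocus

open Groth.Agent.Lib.Helper10.KosAt Groth.Agent.Lib.Helper10.LciComp
open Groth.Agent.Lib.Helper10.LciLocalProp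

/-- `IsLCIAt` may be tested on any model of the localization. -/
theorem isLCIAt_iff_exists_away {A C : Type u} [CommRing A] [CommRing C] (φ : A →+* C)
    (q : Ideal C) :
    IsLCIAt φ q ↔ ∃ c : C, c ∉ q ∧ ∃ (T : Type u) (_ : CommRing T) (_ : Algebra C T)
      (_ : IsLocalization.Away c T), IsLCIHom ((algebraMap C T).comp φ) := by
  constructor
  · rintro ⟨c, hc, h⟩
    exact ⟨c, hc, Localization.Away c, inferInstance, inferInstance, inferInstance, h⟩
  · rintro ⟨c, hc, T, _, _, _, h⟩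
    refine ⟨c, hc, ?_⟩
    let e : T ≃ₐ[C] Localization.Away c := IsLocalization.algEquiv (Submonoid.powers c) _ _
    have h1 := isLCIHom_respectsIso.1 _ e.toRingEquiv h
    have h2 : (e.toRingEquiv.toRingHom.comp ((algebraMap C T).comp φ)) =
        (algebraMap C (Localization.Away c)).comp φ := by
      ext a
      exact e.commutes (φ a)
    rwa [h2] at h1

variable {X Y : Scheme.{u}}

/-- the prime of a point in an affine chart avoids `c` iff the point lies in `D(c)`. -/
theorem notMem_primeIdealOf_iff {U : X.Opens} (hU : IsAffineOpen U) (x : X) (hx : x ∈ U)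
    (c : Γ(X, U)) : c ∉ (hU.primeIdealOf ⟨x, hx⟩).asIdeal ↔ x ∈ X.basicOpen c := by
  rw [Groth.Agent.Lib.Helper22.FibSliceMain.mem_primeIdealOf_iff hU x hx c,
    Scheme.mem_basicOpen X c x hx, IsLocalRing.mem_maximalIdeal, mem_nonunits_iff, not_not]

/-- **The lci locus in a chart.** -/
theorem mem_locus_iff (f : X ⟶ Y) (x : X) (U : X.Opens) (V : Y.Opens) (hU : IsAffineOpen U)
    (hV : IsAffineOpen V) (e : U ≤ f ⁻¹ᵁ V) (hx : x ∈ U) :
    (∃ (U' : X.Opens) (V' : Y.Opens) (_ : IsAffineOpen U') (_ : IsAffineOpen V')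
      (hUV : U' ≤ f ⁻¹ᵁ V'), x ∈ U' ∧ IsLCIHom (f.appLE V' U' hUV).hom) ↔
      IsLCIAt (f.appLE V U e).hom (hU.primeIdealOf ⟨x, hx⟩).asIdeal := by
  rw [isLCIAt_iff_exists_away]
  constructor
  · rintro ⟨U₀, V₀, hU₀, hV₀, e₀, hx₀, h₀⟩
    obtain ⟨r, s, hxs, e', hQ⟩ := exists_basicOpen_le_appLE_of_appLE_of_isAffine
      (P := @IsLCIHom) (f := f)
      (isLCIHom_stableUnderComposition.stableUnderCompositionWithLocalizationAway
        isLCIHom_holdsForLocalizationAway).2 isLCIHom_localizationAwayPreserves x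
      ⟨V, hV⟩ ⟨V₀, hV₀⟩ ⟨U, hU⟩ ⟨U₀, hU₀⟩ hx hx₀ e₀ h₀ (e hx)
    refine ⟨s, (notMem_primeIdealOf_iff hU x hx s).mpr hxs, Γ(X, X.basicOpen s), inferInstance,
      inferInstance, hU.isLocalization_basicOpen s, ?_⟩
    have hloc := hV.isLocalization_basicOpen r
    have h1 : IsLCIHom (algebraMap Γ(Y, V) Γ(Y, Y.basicOpen r)) :=
      isLCIHom_holdsForLocalizationAway _ r
    have h2 := isLCIHom_comp _ _ h1 hQ
    have h3 : (f.appLE (Y.basicOpen r) (X.basicOpen s) e').hom.comp
        (algebraMap Γ(Y, V) Γ(Y, Y.basicOpen r)) =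
        (algebraMap Γ(X, U) Γ(X, X.basicOpen s)).comp (f.appLE V U e).hom := by
      have h4 : Y.presheaf.map (homOfLE (Y.basicOpen_le r)).op ≫
          f.appLE (Y.basicOpen r) (X.basicOpen s) e' =
          f.appLE V U e ≫ X.presheaf.map (homOfLE (X.basicOpen_le s)).op := by
        rw [Scheme.Hom.map_appLE, Scheme.Hom.appLE_map]
      exact congrArg CommRingCat.Hom.hom h4
    rwa [h3] at h2
  · rintro ⟨c, hc, T, _, _, _, h⟩
    have hxc : x ∈ X.basicOpen c := (notMem_primeIdealOf_iff hU x hx c).mp hc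
    refine ⟨X.basicOpen c, V, hU.basicOpen c, hV, (X.basicOpen_le c).trans e, hxc, ?_⟩
    have hloc := hU.isLocalization_basicOpen c
    let ε : T ≃ₐ[Γ(X, U)] Γ(X, X.basicOpen c) :=
      IsLocalization.algEquiv (Submonoid.powers c) _ _
    have h1 := isLCIHom_respectsIso.1 _ ε.toRingEquiv h
    have h2 : (ε.toRingEquiv.toRingHom.comp ((algebraMap Γ(X, U) T).comp (f.appLE V U e).hom)) =
        (f.appLE V (X.basicOpen c) ((X.basicOpen_le c).trans e)).hom := by
      have h4 : f.appLE V U e ≫ X.presheaf.map (homOfLE (X.basicOpen_le c)).op =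
          f.appLE V (X.basicOpen c) ((X.basicOpen_le c).trans e) := by
        rw [Scheme.Hom.appLE_map]
      rw [← h4]
      ext a
      exact ε.commutes ((f.appLE V U e).hom a)
    rwa [h2] at h1

end Groth.Agent.Lib.Helper10.KosLocus
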