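import Mathlib
import Groth.Prelude.Def_RegImm
import Groth.Agent.Lib.Helper10.RegDescentFamily
import Groth.Agent.Lib.Helper10.RegImmBaseChange

/-!
# fpqc descent of regular immersions (helper10)
-/

set_option autoImplicit false

universe u

namespace Groth.Agent.Lib.Helper10.RegImmDescent

open AlgebraicGeometry CategoryTheory CategoryTheory.Limits
open Groth.Agent.Lib.Helper10.RegDescent Groth.Agent.Lib.Helper10.RegImmBaseChange
open scoped Set.Notation

section Coborder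

variable {Z X : Scheme.{u}}

/-- an immersion restricts to a closed immersion over any open inside the coborder of its range. -/
theorem isClosedImmersion_restrict_of_le_coborder (i : Z ⟶ X) [IsImmersion i] (U : X.Opens)
    (hU : (U : Set X) ⊆ coborder (Set.range i)) : IsClosedImmersion (i ∣_ U) := by
  apply IsClosedImmersion.of_isPreimmersion
  have hrange : Set.range (i ∣_ U) = (Subtype.val : ((U : X.Opens) : Set X) → X) ⁻¹' Set.range i := by
    ext u
    constructor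
    · rintro ⟨w, rfl⟩
      exact ⟨w.1, (morphismRestrict_base_coe i _ w).symm⟩
    · rintro ⟨w, hw⟩
      refine ⟨⟨w, by
        change i w ∈ U
        rw [hw]; exact u.2⟩, ?_⟩
      apply Subtype.ext
      rw [morphismRestrict_base_coe]
      exact hw
  rw [hrange]
  have hcl : IsClosed (coborder (Set.range i) ↓∩ Set.range i) := isClosed_preimage_val_coborder
  have : (Subtype.val : ((U : X.Opens) : Set X) → X) ⁻¹' Set.range i =
      (Set.inclusion hU) ⁻¹' (coborder (Set.range i) ↓∩ Set.range i) := by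
    ext u
    rfl
  rw [this]
  exact hcl.preimage (continuous_inclusion hU)

/-- around every point of the source of an immersion there is an affine open of the target over
which the immersion is closed. -/
theorem exists_affine_isClosedImmersion_restrict (i : Z ⟶ X) [IsImmersion i] (z : Z) :
    ∃ U : X.affineOpens, i z ∈ U.1 ∧ IsClosedImmersion (i ∣_ U.1) := by
  have hmem : i z ∈ i.coborderRange := subset_coborder ⟨z, rfl⟩
  obtain ⟨_, ⟨U, hU, rfl⟩, hz, hle⟩ := X.isBasis_affineOpens.exists_subset_of_mem_open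
    hmem i.coborderRange.2
  exact ⟨⟨U, hU⟩, hz, isClosedImmersion_restrict_of_le_coborder i U hle⟩

end Coborder

section Restrict

variable {Z X : Scheme.{u}} {K : Kind.{u}}

/-- restriction of local generating data to a smaller affine open. -/
theorem restrictData (i : Z ⟶ X) {U U₀ : X.Opens} (hU : IsAffineOpen U) (hU₀ : IsAffineOpen U₀)
    (hle : U₀ ≤ U) (hcl : IsClosedImmersion (i ∣_ U)) :
    IsClosedImmersion (i ∣_ U₀) ∧
      RingHom.ker (i.app U₀).hom =
        (RingHom.ker (i.app U).hom).map (X.presheaf.map (homOfLE hle).op).hom ∧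
      (X.presheaf.map (homOfLE hle).op).hom.Flat := by
  have e : U₀ ≤ (𝟙 X) ⁻¹ᵁ U := hle
  have Hi : IsPullback (𝟙 Z) i i (𝟙 X) := IsPullback.of_horiz_isIso ⟨by simp⟩
  have hres : (𝟙 X : X ⟶ X).appLE U U₀ e = X.presheaf.map (homOfLE hle).op := by
    rw [Scheme.Hom.appLE, Scheme.Hom.id_app]
    exact Category.id_comp _
  refine ⟨isClosedImmersion_restrict Hi e hcl, ?_, ?_⟩
  · rw [← hres]
    exact ker_app_eq_map Hi hU hU₀ e hcl
  · rw [← hres]
    exact Flat.flat_appLE (𝟙 X) hU hU₀ e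

lemma primeIdealOf_fromSpec {U : X.Opens} (hU : IsAffineOpen U) (𝔭 : PrimeSpectrum Γ(X, U))
    (h : hU.fromSpec 𝔭 ∈ U) : hU.primeIdealOf ⟨hU.fromSpec 𝔭, h⟩ = 𝔭 := by
  apply hU.fromSpec.isOpenEmbedding.injective
  exact hU.fromSpec_primeIdealOf ⟨hU.fromSpec 𝔭, h⟩

lemma fromSpec_mem {U : X.Opens} (hU : IsAffineOpen U) (𝔭 : PrimeSpectrum Γ(X, U)) :
    hU.fromSpec 𝔭 ∈ U := by
  have : hU.fromSpec 𝔭 ∈ Set.range hU.fromSpec := ⟨𝔭, rfl⟩
  rw [hU.range_fromSpec] at this
  exact this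

lemma mem_basicOpen_iff_notMem_primeIdealOf {U : X.Opens} (hU : IsAffineOpen U) (x : X)
    (hx : x ∈ U) (f : Γ(X, U)) :
    x ∈ X.basicOpen f ↔ f ∉ (hU.primeIdealOf ⟨x, hx⟩).asIdeal := by
  have h1 : hU.fromSpec (hU.primeIdealOf ⟨x, hx⟩) = x := hU.fromSpec_primeIdealOf ⟨x, hx⟩
  have h2 : hU.fromSpec ⁻¹ᵁ X.basicOpen f = PrimeSpectrum.basicOpen f :=
    hU.fromSpec_preimage_basicOpen f
  constructor
  · intro hmem
    have : hU.primeIdealOf ⟨x, hx⟩ ∈ hU.fromSpec ⁻¹ᵁ X.basicOpen f := by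
      show hU.fromSpec (hU.primeIdealOf ⟨x, hx⟩) ∈ X.basicOpen f
      rw [h1]; exact hmem
    rw [h2] at this
    exact this
  · intro hnot
    have : hU.primeIdealOf ⟨x, hx⟩ ∈ hU.fromSpec ⁻¹ᵁ X.basicOpen f := by
      rw [h2]
      exact hnot
    have h3 : hU.fromSpec (hU.primeIdealOf ⟨x, hx⟩) ∈ X.basicOpen f := this
    rw [h1] at h3
    exact h3

end Restrict

section Local

variable {Z X : Scheme.{u}} (K : Kind.{u})

/-- local generating data of kind `K` for `i` at `z`. -/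
def HasDataAt (i : Z ⟶ X) (z : Z) : Prop :=
  ∃ U : X.affineOpens, i z ∈ U.1 ∧ IsClosedImmersion (i ∣_ U.1) ∧
    ∃ rs : List Γ(X, U.1), K.P Γ(X, U.1) rs ∧ RingHom.ker (i.app U.1).hom = Ideal.ofList rs

variable {K}

/-- if `i` has local data of kind `K` at every point, the kernel of sections over any affine
open over which `i` is closed is locally generated by a list of kind `K`. -/
theorem isLoc_ker (i : Z ⟶ X) (h : ∀ z, HasDataAt K i z) {U : X.Opens} (hU : IsAffineOpen U)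
    (hcl : IsClosedImmersion (i ∣_ U)) : IsLoc K (RingHom.ker (i.app U).hom) := by
  rw [isLoc_iff_exists_isLocalization]
  intro 𝔮 h𝔮
  obtain ⟨hV, hsurj⟩ := app_surjective_of_restrict i U hU hcl
  have hmem : 𝔮 ∈ Set.range (PrimeSpectrum.comap (i.app U).hom) := by
    rw [range_comap_of_surjective _ _ hsurj]
    exact h𝔮
  obtain ⟨𝔮', h𝔮'⟩ := hmem
  have hz : hV.fromSpec 𝔮' ∈ i ⁻¹ᵁ U := fromSpec_mem hV 𝔮'
  have hx : i (hV.fromSpec 𝔮') ∈ U := hz
  have hprime : hU.primeIdealOf ⟨i (hV.fromSpec 𝔮'), hx⟩ = 𝔮 := by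
    have h1 := IsAffineOpen.comap_primeIdealOf_appLE (f := i) U hU (i ⁻¹ᵁ U) hV le_rfl hz
    rw [primeIdealOf_fromSpec hV 𝔮' hz] at h1
    rw [← h1, ← h𝔮', Scheme.Hom.app_eq_appLE]
  obtain ⟨W, hW, hclW, rs, hrs, hker⟩ := h (hV.fromSpec 𝔮')
  obtain ⟨f, hfle, hfmem⟩ := hU.exists_basicOpen_le (V := W.1) ⟨i (hV.fromSpec 𝔮'), hW⟩ hx
  have hD : IsAffineOpen (X.basicOpen f) := hU.basicOpen f
  obtain ⟨hclD, hkerD, hflatD⟩ := restrictData i W.2 hD hfle hclW
  obtain ⟨-, hkerD', -⟩ := restrictData i hU hD (X.basicOpen_le f) hcl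
  refine ⟨f, ?_, Γ(X, X.basicOpen f), inferInstance, inferInstance,
    hU.isLocalization_basicOpen f, rs.map (X.presheaf.map (homOfLE hfle).op).hom,
    K.map_flat _ hflatD rs hrs, ?_⟩
  · rw [← hprime]
    exact (mem_basicOpen_iff_notMem_primeIdealOf hU _ hx f).mp hfmem
  · rw [← Ideal.map_ofList, ← hker, ← hkerD]
    exact hkerD'.symm

/-- conversely, local data at a point from `IsLoc` of the kernel over an affine open. -/
theorem hasDataAt_of_isLoc (i : Z ⟶ X) {U : X.Opens} (hU : IsAffineOpen U)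
    (hcl : IsClosedImmersion (i ∣_ U)) (h : IsLoc K (RingHom.ker (i.app U).hom)) (z : Z)
    (hz : i z ∈ U) : HasDataAt K i z := by
  have hle : RingHom.ker (i.app U).hom ≤ (hU.primeIdealOf ⟨i z, hz⟩).asIdeal := by
    intro a ha
    by_contra hnot
    have h1 : i z ∈ X.basicOpen a :=
      (mem_basicOpen_iff_notMem_primeIdealOf hU _ hz a).mpr hnot
    have h2 : z ∈ i ⁻¹ᵁ X.basicOpen a := h1
    rw [Scheme.Hom.preimage_basicOpen, (RingHom.mem_ker).mp ha] at h2
    simp at h2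
  obtain ⟨g, hg, l, hl, hI⟩ := h _ hle
  have hD : IsAffineOpen (X.basicOpen g) := hU.basicOpen g
  obtain ⟨hclD, hkerD, -⟩ := restrictData i hU hD (X.basicOpen_le g) hcl
  haveI := hU.isLocalization_basicOpen g
  obtain ⟨l', -, hl', hI'⟩ := exists_list_of_isLocalization (K := K)
    (RingHom.ker (i.app U).hom) g (Localization.Away g) Γ(X, X.basicOpen g) l hl hI
  refine ⟨⟨X.basicOpen g, hD⟩, ?_, hclD, l', hl', ?_⟩
  · exact (mem_basicOpen_iff_notMem_primeIdealOf hU _ hz g).mpr hg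
  · rw [hkerD]
    exact hI'

end Local

section Main

variable {X Y X' Y' : Scheme.{u}} {K : Kind.{u}}

/-- fpqc descent of local generating data of kind `K` for immersions. -/
theorem hasDataAt_descent (i : Y ⟶ X) [IsImmersion i] (g : X' ⟶ X) [Flat g] [Surjective g]
    [QuasiCompact g] (i' : Y' ⟶ X') (g' : Y' ⟶ Y) (hsq : IsPullback g' i' i g)
    (hi' : ∀ y', HasDataAt K i' y') (z : Y) : HasDataAt K i z := by
  obtain ⟨U₀, hzU₀, hcl₀⟩ := exists_affine_isClosedImmersion_restrict i z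
  have hcomp : IsCompact ((g ⁻¹ᵁ U₀.1 : X'.Opens) : Set X') :=
    QuasiCompact.isCompact_preimage (f := g) _ U₀.1.2 U₀.2.isCompact
  obtain ⟨s, hs, hcover⟩ := isCompact_iff_finite_and_eq_biUnion_affineOpens.mp hcomp
  haveI : Finite s := hs
  have hle : ∀ U' : s, U'.1.1 ≤ g ⁻¹ᵁ U₀.1 := by
    intro U'
    rw [hcover]
    exact le_iSup₂ (f := fun (i : X'.affineOpens) (_ : i ∈ s) => (i : X'.Opens)) U'.1 U'.2
  apply hasDataAt_of_isLoc i U₀.2 hcl₀ _ z hzU₀
  apply isLoc_of_flat_family (ι := s) (fun U' : s => Γ(X', U'.1.1)) _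
    (fun U' : s => (g.appLE U₀.1 U'.1.1 (hle U')).hom)
  · intro U'
    exact Flat.flat_appLE g U₀.2 U'.1.2 (hle U')
  · intro 𝔭
    obtain ⟨x', hx'⟩ := ‹Surjective g›.surj (U₀.2.fromSpec 𝔭)
    have hx'mem : x' ∈ g ⁻¹ᵁ U₀.1 := by
      show g x' ∈ U₀.1
      rw [hx']
      exact fromSpec_mem U₀.2 𝔭
    rw [hcover] at hx'mem
    simp only [TopologicalSpace.Opens.mem_iSup] at hx'mem
    obtain ⟨U', hU's, hx'U'⟩ := hx'mem
    refine ⟨⟨U', hU's⟩, U'.2.primeIdealOf ⟨x', hx'U'⟩, ?_⟩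
    have h1 := IsAffineOpen.comap_primeIdealOf_appLE (f := g) U₀.1 U₀.2 U'.1 U'.2
      (hle ⟨U', hU's⟩) hx'U'
    refine h1.trans ?_
    have h2 : (⟨g x', (hle ⟨U', hU's⟩) hx'U'⟩ : U₀.1) =
        ⟨U₀.2.fromSpec 𝔭, fromSpec_mem U₀.2 𝔭⟩ := Subtype.ext hx'
    rw [h2]
    exact primeIdealOf_fromSpec U₀.2 𝔭 _
  · intro U'
    have hcl' : IsClosedImmersion (i' ∣_ U'.1.1) := isClosedImmersion_restrict hsq (hle U') hcl₀
    rw [← ker_app_eq_map hsq U₀.2 U'.1.2 (hle U') hcl₀]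
    exact isLoc_ker i' hi' U'.1.2 hcl'

end Main

end Groth.Agent.Lib.Helper10.RegImmDescent
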