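import Mathlib
import Groth.Prelude.Def_RegImm
import Groth.Agent.Lib.Helper10.KoszulH1
import Groth.Agent.Lib.Helper94.KoszulBridge
import Groth.Agent.Lib.Helper47.H1RegularQuasiRegular

/-!
# regular ⇒ Koszul-regular ⇒ `H_1`-regular ⇒ quasi-regular, for sequences and immersions
-/

set_option autoImplicit false
universe u

namespace Groth.Agent.Lib.Helper10.RegImmKinds

open CategoryTheory AlgebraicGeometry

theorem seq_regular_koszul (R : Type u) [CommRing R] (rs : List R)
    (h : RegImm.Kind.regular.Seq R rs) : RegImm.Kind.koszul.Seq R rs :=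
  Groth.Agent.Lib.Helper94.isKoszulRegularSeq_of_isRegular R rs h

theorem seq_koszul_h1 (R : Type u) [CommRing R] (rs : List R)
    (h : RegImm.Kind.koszul.Seq R rs) : RegImm.Kind.h1.Seq R rs :=
  Groth.Agent.Lib.Helper10.KoszulH1.isH1Regular_of_isKoszulRegularSeq rs h

theorem seq_h1_quasi (R : Type u) [CommRing R] (rs : List R)
    (h : RegImm.Kind.h1.Seq R rs) : RegImm.Kind.quasi.Seq R rs :=
  Groth.Agent.Lib.Helper47.isQuasiRegular_of_isH1Regular rs.get h

theorem isRegularImmersionAt_mono {k k' : RegImm.Kind}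
    (h : ∀ (R : Type u) [CommRing R] (rs : List R), k.Seq R rs → k'.Seq R rs)
    {Z X : Scheme.{u}} (i : Z ⟶ X) (z : Z) (hi : RegImm.IsRegularImmersionAt k i z) :
    RegImm.IsRegularImmersionAt k' i z := by
  obtain ⟨U, hU, hcl, rs, hrs, hker⟩ := hi
  exact ⟨U, hU, hcl, rs, h _ rs hrs, hker⟩

theorem isRegularImmersion_mono {k k' : RegImm.Kind}
    (h : ∀ (R : Type u) [CommRing R] (rs : List R), k.Seq R rs → k'.Seq R rs)
    {Z X : Scheme.{u}} (i : Z ⟶ X) (hi : RegImm.IsRegularImmersion k i) :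
    RegImm.IsRegularImmersion k' i :=
  ⟨hi.1, fun z => isRegularImmersionAt_mono h i z (hi.2 z)⟩

theorem isRegularImmersionOfCodim_mono {k k' : RegImm.Kind}
    (h : ∀ (R : Type u) [CommRing R] (rs : List R), k.Seq R rs → k'.Seq R rs)
    {Z X : Scheme.{u}} (d : ℕ) (i : Z ⟶ X) (hi : RegImm.IsRegularImmersionOfCodim k d i) :
    RegImm.IsRegularImmersionOfCodim k' d i := by
  refine ⟨hi.1, fun z => ?_⟩
  obtain ⟨U, hU, hcl, rs, hlen, hrs, hker⟩ := hi.2 z
  exact ⟨U, hU, hcl, rs, hlen, h _ rs hrs, hker⟩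

end Groth.Agent.Lib.Helper10.RegImmKinds
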