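import Mathlib
import Groth.Prelude.Def_RegImm
import Groth.Prelude.Def_Dual3
import Groth.Agent.Lib.Helper10.LciLocalProp
import Groth.Agent.Lib.Helper10.RegImmDescent
import Groth.Agent.S9773

/-!
# Local complete intersection morphisms of schemes (helper10)

* `lciMor := affineLocally @IsLCIHom`, with `HasRingHomProperty`; stable under composition.
* `lciMor_iff_isLCIMor`: agreement with `Dual3.IsLCIMor`.
* `lciMor_iff_forall_isKoszulAt`: agreement with the factorisation form (`Synt.IsKoszulAt` at every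
  point).
-/

set_option autoImplicit false
universe u

namespace Groth.Agent.Lib.Helper10.LciMor

open AlgebraicGeometry CategoryTheory CategoryTheory.Limits
open Groth.Agent.Lib.Helper10.RegDescent Groth.Agent.Lib.Helper10.RegDescentKoszul
open Groth.Agent.Lib.Helper10.LciTrans Groth.Agent.Lib.Helper10.LciPoly
open Groth.Agent.Lib.Helper10.LciComp Groth.Agent.Lib.Helper10.LciLocal
open Groth.Agent.Lib.Helper10.LciSmooth Groth.Agent.Lib.Helper10.LciLocalProp
open Groth.Agent.Lib.Helper10.RegImmDescent Groth.Agent.Lib.Helper10.RegImmBaseChange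

/-- local complete intersection morphisms, affine-local form. -/
def lciMor : MorphismProperty Scheme.{u} := affineLocally @IsLCIHom

instance : HasRingHomProperty lciMor @IsLCIHom where
  isLocal_ringHomProperty := isLCIHom_propertyIsLocal
  eq_affineLocally' := rfl

instance : lciMor.IsStableUnderComposition :=
  HasRingHomProperty.stableUnderComposition isLCIHom_stableUnderComposition

variable {X Y S Z : Scheme.{u}}

theorem lciMor_iff_isLCIMor (f : X ⟶ S) : lciMor f ↔ Dual3.IsLCIMor f := by
  rw [HasRingHomProperty.iff_exists_appLE (P := lciMor)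
    (isLCIHom_stableUnderComposition.stableUnderCompositionWithLocalizationAway
      isLCIHom_holdsForLocalizationAway).1]
  constructor
  · intro h x
    obtain ⟨V, U, hx, e, hQ⟩ := h x
    exact ⟨U, V, e, hx, hQ⟩
  · intro h x
    obtain ⟨U, V, e, hx, hQ⟩ := h x
    exact ⟨V, U, hx, e, hQ⟩

theorem lciMor_iff_forall (f : X ⟶ S) : lciMor f ↔
    (∀ (U : X.Opens) (V : S.Opens) (hU : IsAffineOpen U) (hV : IsAffineOpen V)
      (hUV : U ≤ f ⁻¹ᵁ V),
        letI := (f.appLE V U hUV).hom.toAlgebra
        LCI.IsLCI Γ(S, V) Γ(X, U)) := by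
  rw [HasRingHomProperty.iff_appLE (P := lciMor)]
  constructor
  · intro h U V hU hV hUV
    exact h ⟨V, hV⟩ ⟨U, hU⟩ hUV
  · intro h V U e
    exact h U.1 V.1 U.2 V.2 e

theorem lciMor_of_smooth (f : X ⟶ S) [Smooth f] : lciMor f := by
  rw [HasRingHomProperty.iff_appLE (P := lciMor)]
  intro V U e
  have h := f.smooth_appLE V.2 U.2 e
  letI := (f.appLE V.1 U.1 e).hom.toAlgebra
  haveI : Algebra.Smooth Γ(S, V.1) Γ(X, U.1) := h
  exact isLCI_of_smooth

theorem lciMor_of_isOpenImmersion (f : X ⟶ S) [IsOpenImmersion f] : lciMor f :=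
  HasRingHomProperty.of_isOpenImmersion (P := lciMor)
    isLCIHom_holdsForLocalizationAway.containsIdentities

theorem locallyOfFiniteType_of_lciMor (f : X ⟶ S) (h : lciMor f) : LocallyOfFiniteType f := by
  rw [HasRingHomProperty.iff_appLE (P := @LocallyOfFiniteType)]
  intro V U e
  exact (HasRingHomProperty.appLE lciMor f h V U e).1

theorem lciMor_of_isRegularImmersion (i : Z ⟶ X) (hi : RegImm.IsRegularImmersion .koszul i) :
    lciMor i := by
  rw [HasRingHomProperty.iff_exists_appLE (P := lciMor)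
    (isLCIHom_stableUnderComposition.stableUnderCompositionWithLocalizationAway
      isLCIHom_holdsForLocalizationAway).1]
  intro z
  obtain ⟨U, hzU, hcl, rs, hrs, hker⟩ := hi.2 z
  obtain ⟨hV, hsurj⟩ := app_surjective_of_restrict i U.1 U.2 hcl
  refine ⟨U, ⟨i ⁻¹ᵁ U.1, hV⟩, hzU, le_rfl, ?_⟩
  rw [← Scheme.Hom.app_eq_appLE]
  exact isLCIHom_of_surjective _ hsurj (isLoc_of_ofList _ rs hrs hker)

/-- **Factorisation form ⇒ affine-local form.** -/
theorem lciMor_of_forall_isKoszulAt (f : X ⟶ S) (h : ∀ x, Synt.IsKoszulAt f x) : lciMor f := by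
  choose U P i π hxU hlft hi hπ hcomm using h
  apply IsZariskiLocalAtSource.of_iSup_eq_top (P := lciMor) U
  · rw [eq_top_iff]
    intro x _
    exact TopologicalSpace.Opens.mem_iSup.mpr ⟨x, hxU x⟩
  · intro x
    rw [← hcomm x]
    haveI := hπ x
    exact lciMor.comp_mem _ _ (lciMor_of_isRegularImmersion _ (hi x)) (lciMor_of_smooth _)

/-- the closed immersion of a surjection with locally Koszul-regular kernel is a Koszul-regular
immersion. -/
theorem isRegularImmersion_Spec_map {R R' : Type u} [CommRing R] [CommRing R'] (φ : R →+* R')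
    (hφ : Function.Surjective φ) (h : IsLoc koszulKind (RingHom.ker φ)) :
    RegImm.IsRegularImmersion .koszul (Spec.map (CommRingCat.ofHom φ)) := by
  haveI hcl : IsClosedImmersion (Spec.map (CommRingCat.ofHom φ)) :=
    IsClosedImmersion.spec_of_surjective _ hφ
  refine ⟨inferInstance, fun z => ?_⟩
  have hcl' : IsClosedImmersion (Spec.map (CommRingCat.ofHom φ) ∣_ ⊤) :=
    IsZariskiLocalAtTarget.restrict hcl ⊤
  refine hasDataAt_of_isLoc (K := koszulKind) _ (isAffineOpen_top _) hcl' ?_ z trivial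
  let e : Γ(Spec (CommRingCat.of R), ⊤) ≃+* R :=
    (Scheme.ΓSpecIso (CommRingCat.of R)).commRingCatIsoToRingEquiv
  have hker : RingHom.ker ((Spec.map (CommRingCat.ofHom φ)).app ⊤).hom =
      (RingHom.ker φ).comap (e : Γ(Spec (CommRingCat.of R), ⊤) →+* R) := by
    ext x
    rw [RingHom.mem_ker, Ideal.mem_comap, RingHom.mem_ker]
    have hnat := Scheme.ΓSpecIso_naturality (CommRingCat.ofHom φ)
    have h1 : (Scheme.ΓSpecIso (CommRingCat.of R')).hom.hom
        (((Spec.map (CommRingCat.ofHom φ)).app ⊤).hom x) =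
        φ ((e : Γ(Spec (CommRingCat.of R), ⊤) →+* R) x) :=
      congrArg (fun g => g.hom x) hnat
    have hinj : Function.Injective (Scheme.ΓSpecIso (CommRingCat.of R')).hom.hom :=
      ((ConcreteCategory.isIso_iff_bijective (Scheme.ΓSpecIso (CommRingCat.of R')).hom).1
        inferInstance).1
    constructor
    · intro h0
      rw [← h1, h0]
      exact map_zero (Scheme.ΓSpecIso (CommRingCat.of R')).hom.hom
    · intro h0
      apply hinj
      rw [h1, h0]
      exact (map_zero (Scheme.ΓSpecIso (CommRingCat.of R')).hom.hom).symm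
  rw [hker]
  exact isLoc_comap_ringEquiv e _ h

/-- **Affine-local form ⇒ factorisation form**, pointwise. -/
theorem isKoszulAt_of_appLE (f : X ⟶ S) (U : X.affineOpens) (V : S.affineOpens)
    (e : U.1 ≤ f ⁻¹ᵁ V.1) (x : X) (hx : x ∈ U.1) (h : IsLCIHom (f.appLE V.1 U.1 e).hom) :
    Synt.IsKoszulAt f x := by
  letI := (f.appLE V.1 U.1 e).hom.toAlgebra
  obtain ⟨hft, n, α, hα, hI⟩ := h
  have hU : IsAffineOpen U.1 := U.2
  have hV : IsAffineOpen V.1 := V.2
  let i : (U.1 : Scheme.{u}) ⟶ Spec (CommRingCat.of (MvPolynomial (Fin n) Γ(S, V.1))) :=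
    hU.isoSpec.hom ≫ Spec.map (CommRingCat.ofHom α.toRingHom)
  let π : Spec (CommRingCat.of (MvPolynomial (Fin n) Γ(S, V.1))) ⟶ S :=
    Spec.map (CommRingCat.ofHom (algebraMap Γ(S, V.1) (MvPolynomial (Fin n) Γ(S, V.1)))) ≫
      hV.fromSpec
  have hreg : RegImm.IsRegularImmersion .koszul i :=
    Groth.Agent.S9773.isRegularImmersion_iso_comp _ _ _
      (isRegularImmersion_Spec_map α.toRingHom hα hI)
  haveI hsm : Smooth π := by
    haveI : Smooth (Spec.map (CommRingCat.ofHom
        (algebraMap Γ(S, V.1) (MvPolynomial (Fin n) Γ(S, V.1))))) := by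
      rw [HasRingHomProperty.Spec_iff (P := @Smooth)]
      show (algebraMap Γ(S, V.1) (MvPolynomial (Fin n) Γ(S, V.1))).Smooth
      rw [RingHom.smooth_algebraMap]
      exact ⟨inferInstance, inferInstance⟩
    infer_instance
  have hcomm : i ≫ π = U.1.ι ≫ f := by
    have h1 : CommRingCat.ofHom (algebraMap Γ(S, V.1) (MvPolynomial (Fin n) Γ(S, V.1))) ≫
        CommRingCat.ofHom α.toRingHom = f.appLE V.1 U.1 e := by
      ext a
      exact α.commutes a
    simp only [i, π, Category.assoc]
    rw [← Spec.map_comp_assoc, h1, IsAffineOpen.SpecMap_appLE_fromSpec f hV hU e,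
      ← IsAffineOpen.isoSpec_inv_ι hU, ← Category.assoc, ← Category.assoc,
      Iso.hom_inv_id, Category.id_comp]
  haveI := hreg.1
  refine ⟨U.1, _, i, π, hx, ?_, hreg, hsm, hcomm⟩
  rw [← hcomm]
  infer_instance

theorem isKoszulAt_of_lciMor (f : X ⟶ S) (h : lciMor f) (x : X) : Synt.IsKoszulAt f x := by
  rw [HasRingHomProperty.iff_exists_appLE (P := lciMor)
    (isLCIHom_stableUnderComposition.stableUnderCompositionWithLocalizationAway
      isLCIHom_holdsForLocalizationAway).1] at h
  obtain ⟨V, U, hx, e, hQ⟩ := h x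
  exact isKoszulAt_of_appLE f U V e x hx hQ

/-- **The factorisation form and the affine-local form of local complete intersection morphisms
agree.** -/
theorem lciMor_iff_forall_isKoszulAt (f : X ⟶ S) : lciMor f ↔ ∀ x, Synt.IsKoszulAt f x :=
  ⟨isKoszulAt_of_lciMor f, lciMor_of_forall_isKoszulAt f⟩

end Groth.Agent.Lib.Helper10.LciMor
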