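import Mathlib
import Groth.Agent.Lib.Helper10.AvrPoly
import Groth.Agent.Lib.Helper10.KosLocus
import Groth.Agent.Lib.Helper10.LciMor

/-!
# Avramov's theorem for morphisms of schemes (helper10)

`isKoszulAt_of_hasFiniteTorDim`: `S` locally Noetherian, `g : Y ⟶ S` locally of finite type,
`f : X ⟶ Y` with finite Tor dimension on affine charts and `f ≫ g` a local complete intersection
morphism.  Then `f` is Koszul at every `x` and `g` is Koszul at `f x` (Stacks 09RL).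
-/

set_option autoImplicit false
universe u

open AlgebraicGeometry CategoryTheory

namespace Groth.Agent.Lib.Helper10.AvrSch

open Groth.Agent.Lib.Helper10.KosAt Groth.Agent.Lib.Helper10.LciComp
open Groth.Agent.Lib.Helper10.KosLocus Groth.Agent.Lib.Helper10.LciMor
open Groth.Agent.Lib.Helper10.AvrCore

variable {X Y S : Scheme.{u}}

/-- the prime of `f x` in an affine chart is the preimage of the prime of `x`. -/
theorem comap_primeIdealOf (f : X ⟶ Y) {U : X.Opens} {V : Y.Opens} (hU : IsAffineOpen U)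
    (hV : IsAffineOpen V) (e : U ≤ f ⁻¹ᵁ V) (x : X) (hx : x ∈ U) :
    (hU.primeIdealOf ⟨x, hx⟩).asIdeal.comap (f.appLE V U e).hom =
      (hV.primeIdealOf ⟨f x, e hx⟩).asIdeal := by
  ext b
  rw [Ideal.mem_comap, ← not_iff_not, notMem_primeIdealOf_iff hU x hx,
    notMem_primeIdealOf_iff hV (f x) (e hx)]
  have h1 : X.basicOpen ((f.appLE V U e).hom b) = U ⊓ f ⁻¹ᵁ (Y.basicOpen b) := by
    simp only [Scheme.Hom.appLE, CommRingCat.hom_comp, RingHom.comp_apply]
    rw [Scheme.basicOpen_res, Scheme.preimage_basicOpen]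
  rw [h1]
  constructor
  · intro h
    exact h.2
  · intro h
    exact ⟨hx, h⟩

/-- **Avramov's theorem for morphisms of schemes**, pointwise. -/
theorem isKoszulAt_of_hasFiniteTorDim (f : X ⟶ Y) (g : Y ⟶ S) [IsLocallyNoetherian S]
    [LocallyOfFiniteType g]
    (hf : ∀ (U : X.Opens) (V : Y.Opens) (_ : IsAffineOpen U) (_ : IsAffineOpen V)
      (hUV : U ≤ f ⁻¹ᵁ V),
      letI := (f.appLE V U hUV).hom.toAlgebra
      DRing.HasFiniteTorDim Γ(Y, V) Γ(X, U))
    (h : ∀ x : X, Synt.IsKoszulAt (f ≫ g) x) (x : X) :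
    Synt.IsKoszulAt f x ∧ Synt.IsKoszulAt g (f x) := by
  have hl : lciMor (f ≫ g) := (lciMor_iff_forall_isKoszulAt _).mpr h
  obtain ⟨W, hW, hxW, -⟩ := exists_isAffineOpen_mem_and_subset (x := g (f x)) (U := ⊤) trivial
  obtain ⟨V, hV, hxV, hVW⟩ := exists_isAffineOpen_mem_and_subset (x := f x) (U := g ⁻¹ᵁ W) hxW
  obtain ⟨U, hU, hxU, hUV⟩ := exists_isAffineOpen_mem_and_subset (x := x) (U := f ⁻¹ᵁ V) hxV
  have eVW : V ≤ g ⁻¹ᵁ W := hVW
  have eUV : U ≤ f ⁻¹ᵁ V := hUV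
  haveI : IsNoetherianRing Γ(S, W) := IsLocallyNoetherian.component_noetherian ⟨W, hW⟩
  have eUW : U ≤ (f ≫ g) ⁻¹ᵁ W := eUV.trans ((TopologicalSpace.Opens.map f.base).map (homOfLE eVW)).le
  have hcompφ : (f.appLE V U eUV).hom.comp (g.appLE W V eVW).hom =
      ((f ≫ g).appLE W U eUW).hom :=
    congrArg CommRingCat.Hom.hom (Scheme.Hom.appLE_comp_appLE f g W V U eVW eUV)
  have hlci : IsLCIHom ((f.appLE V U eUV).hom.comp (g.appLE W V eVW).hom) := by
    rw [hcompφ]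
    exact (lciMor_iff_forall _).mp hl U W hU hW eUW
  have hft : (g.appLE W V eVW).hom.FiniteType := g.finiteType_appLE hW hV eVW
  have hftd := hf U V hU hV eUV
  haveI := (hU.primeIdealOf ⟨x, hxU⟩).isPrime
  obtain ⟨h1, h2⟩ := avramov_ring (g.appLE W V eVW).hom (f.appLE V U eUV).hom hft hlci hftd
    (hU.primeIdealOf ⟨x, hxU⟩).asIdeal
  constructor
  · obtain ⟨U', V', hU', hV', e', hx', hQ⟩ := (mem_locus_iff f x U V hU hV eUV hxU).mpr h2
    exact isKoszulAt_of_appLE f ⟨U', hU'⟩ ⟨V', hV'⟩ e' x hx' hQ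
  · rw [comap_primeIdealOf f hU hV eUV x hxU] at h1
    obtain ⟨V', W', hV', hW', e', hx', hQ⟩ := (mem_locus_iff g (f x) V W hV hW eVW hxV).mpr h1
    exact isKoszulAt_of_appLE g ⟨V', hV'⟩ ⟨W', hW'⟩ e' (f x) hx' hQ

end Groth.Agent.Lib.Helper10.AvrSch
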