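import Groth.Agent.Lib.Helper10.BranchSmoothStrict
import Groth.Agent.Lib.Helper10.BranchSmoothStrictData
import Groth.Agent.Lib.Helper81.GeomUnibranchForward

/-!
# Geometric branches and extension of the base field (helper10)

For a local `k`-algebra `A`, a field extension `K/k` and a prime `𝔮` of `A ⊗[k] K` over the maximal
ideal of `A`, the local rings `A` and `(A ⊗[k] K)_𝔮` have the same number of geometric branches.
-/

set_option autoImplicit false
set_option linter.unusedSectionVars false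
set_option linter.style.haveILetI false
universe u

namespace Groth.Agent.Lib.Helper10.BranchFieldExt

open IsLocalRing TensorProduct Groth.Agent.Lib.Helper3 Groth.Agent.Lib.Helper10.BranchQuot
  Groth.Agent.Lib.Helper10.BranchSmooth

section Gen

variable {R S : Type u} [CommRing R] [CommRing S] [Algebra R S] [Module.Flat R S]
  [IsLocalRing R] (q : Ideal S) [q.IsPrime] [hqm : q.LiesOver (maximalIdeal R)]

/-- If `R → S` is flat, `q` lies over the maximal ideal of the local ring `R`, and `S_q / 𝔭 S_q` is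
geometrically unibranch for every minimal prime `𝔭` of `R`, then the strict henselization of `S_q`
has as many minimal primes as `R`. -/
theorem encard_minimalPrimes_eq_of_forall_isGeomUnibranch
    (hgu : ∀ (𝔭 : Ideal R) [𝔭.IsPrime]
      [IsLocalRing (Localization.AtPrime q ⧸ 𝔭.map (algebraMap R (Localization.AtPrime q)))],
      CAlg2.IsGeomUnibranch
        (Localization.AtPrime q ⧸ 𝔭.map (algebraMap R (Localization.AtPrime q))))
    {Bsh : Type u} [CommRing Bsh] [IsLocalRing Bsh] [Algebra (Localization.AtPrime q) Bsh]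
    [IsLocalHom (algebraMap (Localization.AtPrime q) Bsh)]
    [Hensel.IsStrictHenselization (Localization.AtPrime q) Bsh] :
    (minimalPrimes R).encard = (minimalPrimes Bsh).encard := by
  letI : Algebra R Bsh := ((algebraMap (Localization.AtPrime q) Bsh).comp
    (algebraMap R (Localization.AtPrime q))).toAlgebra
  haveI : IsScalarTower R (Localization.AtPrime q) Bsh := .of_algebraMap_eq' rfl
  haveI : Module.Flat R (Localization.AtPrime q) := Module.Flat.trans R S _
  haveI : Module.Flat (Localization.AtPrime q) Bsh := (Groth.Agent.S0539.result _ _).toFlat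
  haveI : Module.Flat R Bsh := Module.Flat.trans R (Localization.AtPrime q) Bsh
  haveI : IsLocalHom (algebraMap R (Localization.AtPrime q)) := isLocalHom_algebraMap_atPrime q
  haveI : IsLocalHom (algebraMap R Bsh) :=
    RingHom.isLocalHom_comp (algebraMap (Localization.AtPrime q) Bsh)
      (algebraMap R (Localization.AtPrime q))
  apply BranchFlat.encard_minimalPrimes_eq_of_flat
  intro 𝔭 h𝔭
  haveI : 𝔭.IsPrime := h𝔭.1.1
  have hI : 𝔭.map (algebraMap R (Localization.AtPrime q)) ≠ ⊤ :=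
    HensEquiv.map_ne_top 𝔭 Ideal.IsPrime.ne_top'
  haveI : Nontrivial (Localization.AtPrime q ⧸ 𝔭.map (algebraMap R (Localization.AtPrime q))) :=
    Ideal.Quotient.nontrivial_iff.mpr hI
  haveI : IsLocalRing (Localization.AtPrime q ⧸ 𝔭.map (algebraMap R (Localization.AtPrime q))) :=
    IsLocalRing.of_surjective' _ Ideal.Quotient.mk_surjective
  have h1 := HensEquiv.numGeomBranches_quotient (A := Localization.AtPrime q) (S := Bsh)
    (𝔭.map (algebraMap R (Localization.AtPrime q))) hI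
  have h2 : Brnch.numGeomBranches
      (Localization.AtPrime q ⧸ 𝔭.map (algebraMap R (Localization.AtPrime q))) = 1 :=
    (Groth.Agent.S9236.result _).mpr (hgu 𝔭)
  have h3 : 𝔭.map (algebraMap R Bsh) = (𝔭.map (algebraMap R (Localization.AtPrime q))).map
      (algebraMap (Localization.AtPrime q) Bsh) := by
    rw [Ideal.map_map]; rfl
  rw [h3, ← h1, h2]

end Gen

section FE

variable {k R K : Type u} [Field k] [Field K] [Algebra k K] [CommRing R] [Algebra k R]
  [HenselianLocalRing R] [IsSepClosed (ResidueField R)]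
  (q : Ideal (R ⊗[k] K)) [q.IsPrime] [hqm : q.LiesOver (maximalIdeal R)]

/-- `(R ⊗[k] K)_q / 𝔭 (R ⊗[k] K)_q` is geometrically unibranch for every prime `𝔭` of the strictly
henselian local `k`-algebra `R`. -/
theorem isGeomUnibranch_quotient_fieldExt (𝔭 : Ideal R) [𝔭.IsPrime]
    [IsLocalRing (Localization.AtPrime q ⧸ 𝔭.map (algebraMap R (Localization.AtPrime q)))] :
    CAlg2.IsGeomUnibranch
      (Localization.AtPrime q ⧸ 𝔭.map (algebraMap R (Localization.AtPrime q))) := by
  have h𝔭 : 𝔭 ≠ ⊤ := Ideal.IsPrime.ne_top'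
  haveI : Nontrivial (R ⧸ 𝔭) := Ideal.Quotient.nontrivial_iff.mpr h𝔭
  haveI : IsLocalRing (R ⧸ 𝔭) := IsLocalRing.of_surjective' _ Ideal.Quotient.mk_surjective
  haveI : HenselianLocalRing (R ⧸ 𝔭) := Groth.Agent.S13598.henselianLocalRing_quotient 𝔭
  haveI : IsSepClosed (ResidueField (R ⧸ 𝔭)) := isSepClosed_residueField_quotient R 𝔭
  have hgu : CAlg2.IsGeomUnibranch (R ⧸ 𝔭) := isGeomUnibranch_of_strictlyHenselian_of_isDomain _
  have hle : 𝔭 ≤ q.comap (algebraMap R (R ⊗[k] K)) := by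
    rw [← Ideal.under_def, ← hqm.over]; exact le_maximalIdeal h𝔭
  haveI hqb := isPrime_map_mk 𝔭 q hle
  haveI hlo := liesOver_map_mk 𝔭 q h𝔭
  let e₂ : (R ⧸ 𝔭) ⊗[k] K ≃ₐ[R] (R ⊗[k] K) ⧸ 𝔭.map (algebraMap R (R ⊗[k] K)) :=
    Algebra.TensorProduct.quotientTensorEquiv (R := k) R K R 𝔭
  set qb := q.map (Ideal.Quotient.mk (𝔭.map (algebraMap R (R ⊗[k] K)))) with hqbdef
  let q₁ : Ideal ((R ⧸ 𝔭) ⊗[k] K) := qb.comap (e₂ : (R ⧸ 𝔭) ⊗[k] K →+* _)
  haveI : q₁.IsPrime := Ideal.IsPrime.comap _
  have hq₁ : q₁.comap (algebraMap (R ⧸ 𝔭) ((R ⧸ 𝔭) ⊗[k] K)) = maximalIdeal (R ⧸ 𝔭) := by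
    rw [hlo.over, Ideal.under_def]
    ext x
    obtain ⟨r, rfl⟩ := Ideal.Quotient.mk_surjective x
    simp only [Ideal.mem_comap, q₁]
    have h1 : (e₂ : (R ⧸ 𝔭) ⊗[k] K →+* _) (algebraMap (R ⧸ 𝔭) ((R ⧸ 𝔭) ⊗[k] K)
        (Ideal.Quotient.mk 𝔭 r)) = algebraMap (R ⧸ 𝔭) ((R ⊗[k] K) ⧸ 𝔭.map (algebraMap R (R ⊗[k] K)))
        (Ideal.Quotient.mk 𝔭 r) := by
      have := e₂.commutes r
      rw [Algebra.TensorProduct.algebraMap_apply] at this
      exact this
    rw [h1]
  have hgu₁ : CAlg2.IsGeomUnibranch (Localization.AtPrime q₁) :=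
    Groth.Agent.Lib.Helper81.GURad.isGeomUnibranch_tensor_atPrime_of_isGeomUnibranch k (R ⧸ 𝔭) K
      hgu q₁ hq₁
  have hmap : q₁.primeCompl.map (e₂.toRingEquiv.toMonoidHom) = qb.primeCompl := by
    ext y
    constructor
    · rintro ⟨x, hx, rfl⟩
      exact hx
    · intro hy
      refine ⟨e₂.symm y, ?_, e₂.apply_symm_apply y⟩
      change e₂.symm y ∉ q₁
      simp only [q₁, Ideal.mem_comap]
      change ¬ (e₂ (e₂.symm y) ∈ qb)
      rw [e₂.apply_symm_apply]
      exact hy
  let e₃ : Localization.AtPrime q₁ ≃+* Localization.AtPrime qb :=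
    IsLocalization.ringEquivOfRingEquiv (Localization.AtPrime q₁) (Localization.AtPrime qb)
      e₂.toRingEquiv hmap
  obtain ⟨e⟩ := exists_ringEquiv_quotient 𝔭 q hle
  exact Groth.Agent.Lib.Helper61.GU.isGeomUnibranch_of_ringEquiv' (e₃.trans e) hgu₁

end FE

end Groth.Agent.Lib.Helper10.BranchFieldExt
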