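import Groth.Agent.Lib.Helper10.BranchFieldExt
import Groth.Agent.Lib.Helper3.HensEquiv

/-!
# Geometric branches and extension of the base field: ring-level statement (helper10)
-/

set_option autoImplicit false
set_option linter.unusedSectionVars false
set_option linter.style.haveILetI false
universe u

namespace Groth.Agent.Lib.Helper10.BranchFieldExt

open IsLocalRing TensorProduct Groth.Agent.Lib.Helper3 Groth.Agent.Lib.Helper10.BranchQuot
  Groth.Agent.Lib.Helper10.BranchSmooth

/-- Transport of a strict henselization of `S₁_Q` along a ring isomorphism `S₁ ≃ S₂`. -/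
theorem exists_strictHenselization_of_ringEquiv {S₁ S₂ Bsh : Type u} [CommRing S₁] [CommRing S₂]
    (e : S₁ ≃+* S₂) (Q : Ideal S₁) [Q.IsPrime] (Q' : Ideal S₂) [Q'.IsPrime]
    (hQ' : Q' = Q.comap (e.symm : S₂ →+* S₁))
    [CommRing Bsh] [IsLocalRing Bsh] (ψ : Localization.AtPrime Q →+* Bsh) [IsLocalHom ψ]
    (hψ : letI := ψ.toAlgebra; Hensel.IsStrictHenselization (Localization.AtPrime Q) Bsh) :
    ∃ (ψ' : Localization.AtPrime Q' →+* Bsh) (_ : IsLocalHom ψ'),
      (letI := ψ'.toAlgebra; Hensel.IsStrictHenselization (Localization.AtPrime Q') Bsh) := by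
  have hmap : Q'.primeCompl.map (e.symm.toMonoidHom) = Q.primeCompl := by
    ext y
    constructor
    · rintro ⟨x, hx, rfl⟩
      intro hmem
      apply hx
      rw [hQ']
      exact hmem
    · intro hy
      refine ⟨e y, ?_, e.symm_apply_apply y⟩
      change e y ∉ Q'
      rw [hQ']
      simp only [Ideal.mem_comap]
      change ¬ (e.symm (e y) ∈ Q)
      rw [e.symm_apply_apply]
      exact hy
  let e₃ : Localization.AtPrime Q' ≃+* Localization.AtPrime Q :=
    IsLocalization.ringEquivOfRingEquiv (Localization.AtPrime Q') (Localization.AtPrime Q)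
      e.symm hmap
  letI := ψ.toAlgebra
  haveI : IsLocalHom (algebraMap (Localization.AtPrime Q) Bsh) := ‹IsLocalHom ψ›
  let ψ' : Localization.AtPrime Q' →+* Bsh := ψ.comp e₃.toRingHom
  have hloc : IsLocalHom ψ' := HensEquiv.isLocalHom_comp_ringEquiv ψ e₃
  refine ⟨ψ', hloc, ?_⟩
  letI := ψ'.toAlgebra
  haveI : IsLocalHom (algebraMap (Localization.AtPrime Q') Bsh) := hloc
  exact HensEquiv.isStrictHenselization_of_ringEquiv (A := Localization.AtPrime Q)
    (A' := Localization.AtPrime Q') (S := Bsh) e₃ rfl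

/-- For a local `k`-algebra `A`, a field extension `K/k` and a prime `𝔮` of `A ⊗[k] K` over the
maximal ideal of `A`, the local rings `A` and `(A ⊗[k] K)_𝔮` have the same number of geometric
branches. -/
theorem numGeomBranches_atPrime_tensor_fieldExt {k A K : Type u} [Field k] [Field K] [Algebra k K]
    [CommRing A] [IsLocalRing A] [Algebra k A] (𝔮 : Ideal (A ⊗[k] K)) [𝔮.IsPrime]
    (h𝔮 : 𝔮.comap (algebraMap A (A ⊗[k] K)) = maximalIdeal A) :
    Brnch.numGeomBranches A = Brnch.numGeomBranches (Localization.AtPrime 𝔮) := by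
  haveI : 𝔮.LiesOver (maximalIdeal A) := ⟨by rw [Ideal.under_def, h𝔮]⟩
  obtain ⟨Ash, _, _, _, _, hA⟩ := Groth.Agent.S0537.result (Localization.AtPrime (maximalIdeal A))
  obtain ⟨Bsh, _, _, _, _, hB⟩ := Groth.Agent.S0537.result (Localization.AtPrime 𝔮)
  letI : Algebra A Ash := ((algebraMap (Localization.AtPrime (maximalIdeal A)) Ash).comp
    (algebraMap A (Localization.AtPrime (maximalIdeal A)))).toAlgebra
  haveI : IsScalarTower A (Localization.AtPrime (maximalIdeal A)) Ash := .of_algebraMap_eq' rfl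
  letI : Algebra k Ash := ((algebraMap A Ash).comp (algebraMap k A)).toAlgebra
  haveI : IsScalarTower k A Ash := .of_algebraMap_eq' rfl
  haveI : HenselianLocalRing Ash := hA.henselian
  haveI : IsSepClosed (ResidueField Ash) := hA.isSepClosure.sep_closed
  obtain ⟨Q, hQ, hQm, ψ, hψloc, hψ, -⟩ := exists_tensor_strictHenselization_data
    (R := A) (S := A ⊗[k] K) (Ash := Ash) (Bsh := Bsh) 𝔮 (maximalIdeal A)
  let e : Ash ⊗[A] (A ⊗[k] K) ≃ₐ[Ash] Ash ⊗[k] K :=
    Algebra.TensorProduct.cancelBaseChange k A Ash Ash K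
  let Q' : Ideal (Ash ⊗[k] K) := Q.comap (e.toRingEquiv.symm : Ash ⊗[k] K →+* Ash ⊗[A] (A ⊗[k] K))
  haveI : Q'.IsPrime := Ideal.IsPrime.comap _
  haveI hQ'm : Q'.LiesOver (maximalIdeal Ash) := by
    constructor
    rw [hQm.over, Ideal.under_def, Ideal.under_def]
    ext x
    simp only [Ideal.mem_comap, Q']
    have : (e.toRingEquiv.symm : Ash ⊗[k] K →+* Ash ⊗[A] (A ⊗[k] K))
        (algebraMap Ash (Ash ⊗[k] K) x) = algebraMap Ash (Ash ⊗[A] (A ⊗[k] K)) x :=
      e.symm.commutes x
    rw [this]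
  obtain ⟨ψ', hψ'loc, hψ'⟩ := exists_strictHenselization_of_ringEquiv e.toRingEquiv Q Q' rfl ψ hψ
  letI := ψ'.toAlgebra
  haveI : IsLocalHom (algebraMap (Localization.AtPrime Q') Bsh) := hψ'loc
  haveI := hψ'
  have key : (minimalPrimes Ash).encard = (minimalPrimes Bsh).encard :=
    encard_minimalPrimes_eq_of_forall_isGeomUnibranch (R := Ash) (S := Ash ⊗[k] K) Q'
      (fun 𝔭 _ _ => isGeomUnibranch_quotient_fieldExt Q' 𝔭) (Bsh := Bsh)
  have h1 := Groth.Agent.S9238.result (Localization.AtPrime (maximalIdeal A)) Ash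
  have h2 := Groth.Agent.S9238.result (Localization.AtPrime 𝔮) Bsh
  obtain ⟨e₀⟩ := exists_ringEquiv_localization_maximalIdeal A
  rw [HensEquiv.numGeomBranches_congr e₀, ← h1, ← h2]
  exact key

end Groth.Agent.Lib.Helper10.BranchFieldExt
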