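import Groth.Agent.Lib.Helper10.BranchFieldExtRing
import Groth.Agent.Lib.Helper50.StalkBC

/-!
# Geometric branches and extension of the base field: scheme-level statement (helper10)
-/

set_option autoImplicit false
set_option linter.unusedSectionVars false
set_option linter.style.haveILetI false
universe u

namespace Groth.Agent.Lib.Helper10.BranchFieldExt

open CategoryTheory AlgebraicGeometry Limits TensorProduct MorphismProperty
  Groth.Agent.Lib.Helper50

/-- Every point `x'` of `X_K` over `x` has local ring a localization of `O_{X,x} ⊗[k] K` at a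
prime lying over the maximal ideal of `O_{X,x}` (strengthening of helper50's `exists_stalk_bc`,
same proof). -/
theorem exists_stalk_bc_liesOver {X : Scheme.{u}} {k K : Type u} [Field k] [Field K] [Algebra k K]
    (f : X ⟶ Spec (CommRingCat.of k)) (x : X) (φ : k →+* X.presheaf.stalk x)
    (hφ : Spec.map (CommRingCat.ofHom φ) = X.fromSpecStalk x ≫ f) :
    letI := φ.toAlgebra
    ∀ x' : ↥(pullback f (Spec.map (CommRingCat.ofHom (algebraMap k K)))),
      pullback.fst f (Spec.map (CommRingCat.ofHom (algebraMap k K))) x' = x →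
      ∃ q : PrimeSpectrum (X.presheaf.stalk x ⊗[k] K),
        q.asIdeal.comap (Algebra.TensorProduct.includeLeftRingHom :
          X.presheaf.stalk x →+* X.presheaf.stalk x ⊗[k] K) =
          IsLocalRing.maximalIdeal (X.presheaf.stalk x) ∧
        Nonempty ((pullback f (Spec.map (CommRingCat.ofHom (algebraMap k K)))).presheaf.stalk x' ≃+*
          Localization.AtPrime q.asIdeal) := by
  letI := φ.toAlgebra
  let g := Spec.map (CommRingCat.ofHom (algebraMap k K))
  let p := pullback.fst f g
  let i := X.fromSpecStalk x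
  let j : pullback i p ⟶ pullback f g := pullback.snd i p
  have hjflat : Flat j := inferInstance
  have hjpre : IsPreimmersion j :=
    MorphismProperty.of_isPullback (IsPullback.of_hasPullback i p) inferInstance
  let eW : pullback i p ≅ Spec (CommRingCat.of (X.presheaf.stalk x ⊗[k] K)) :=
    pullbackRightPullbackFstIso f g i ≪≫ pullback.congrHom hφ.symm rfl ≪≫
      pullbackSpecIso k (X.presheaf.stalk x) K
  have heW : eW.inv ≫ pullback.fst i p =
      Spec.map (CommRingCat.ofHom (Algebra.TensorProduct.includeLeftRingHom :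
        X.presheaf.stalk x →+* X.presheaf.stalk x ⊗[k] K)) := by
    simp only [eW, p, i, g, Iso.trans_inv, Category.assoc, pullbackRightPullbackFstIso_inv_fst,
      pullback.congrHom_inv]
    erw [pullback.lift_fst]
    rw [Category.comp_id]
    exact pullbackSpecIso_inv_fst k (X.presheaf.stalk x) K
  have key : ∀ (y : ↥(pullback i p)) (q : PrimeSpectrum (X.presheaf.stalk x ⊗[k] K)),
      eW.hom y = q → Nonempty ((pullback f g).presheaf.stalk (j y) ≃+*
      Localization.AtPrime q.asIdeal) := by
    intro y q hyq
    subst hyq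
    have e1 : (pullback f g).presheaf.stalk (j y) ≃+* (pullback i p).presheaf.stalk y :=
      RingEquiv.ofBijective (j.stalkMap y).hom (stalkMap_bijective_of_flat_of_isPreimmersion j y)
    obtain ⟨e2⟩ := nonempty_ringEquiv_stalk_of_iso eW y
    obtain ⟨e3⟩ := nonempty_ringEquiv_stalk_spec (X.presheaf.stalk x ⊗[k] K) (eW.hom y)
    exact ⟨e1.trans (e2.trans e3)⟩
  intro x' hx'
  have hx'' : i (IsLocalRing.closedPoint (X.presheaf.stalk x)) = p x' := by
    rw [hx']; exact Scheme.fromSpecStalk_closedPoint
  obtain ⟨y, hy1, hy⟩ := Scheme.Pullback.exists_preimage_pullback _ _ hx''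
  obtain ⟨e⟩ := key y (eW.hom y) rfl
  have hy' : j y = x' := hy
  rw [hy'] at e
  refine ⟨eW.hom y, ?_, ⟨e⟩⟩
  have h3 : (eW.inv ≫ pullback.fst i p) (eW.hom y) =
      IsLocalRing.closedPoint (X.presheaf.stalk x) := by
    rw [Scheme.Hom.comp_apply, Scheme.hom_inv_apply]
    exact hy1
  rw [heW] at h3
  have h4 := congrArg PrimeSpectrum.asIdeal h3
  exact h4

/-- For `X` over a field `k`, a field extension `K/k` and a point `y` of `X_K` over `x ∈ X`,
the local rings of `X` at `x` and of `X_K` at `y` have the same number of geometric branches. -/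
theorem numGeomBranchesAt_bc (k : Type u) [Field k] (X : Scheme.{u})
    [X.Over (Spec (CommRingCat.of k))] (K : Type u) [Field K] [Algebra k K]
    (y : ↥(Curv2.bc k X K)) :
    Brnch.numGeomBranchesAt X ((Curv2.bcFst k X K).base y) =
      Brnch.numGeomBranchesAt (Curv2.bc k X K) y := by
  set x : X := (Curv2.bcFst k X K).base y with hx
  letI : Algebra k (X.presheaf.stalk x) := (Curv2.stalkMap k X x).toAlgebra
  obtain ⟨q, hq, ⟨e⟩⟩ := exists_stalk_bc_liesOver (K := K) (X ↘ Spec (CommRingCat.of k)) x
    (Curv2.stalkMap k X x) (specMap_stalkMap_eq k x) y rfl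
  unfold Brnch.numGeomBranchesAt
  rw [Groth.Agent.Lib.Helper3.HensEquiv.numGeomBranches_congr e]
  exact numGeomBranches_atPrime_tensor_fieldExt q.asIdeal hq

end Groth.Agent.Lib.Helper10.BranchFieldExt
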