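import Groth.Agent.Lib.Helper3.PtColimBranches

/-!
# Counting minimal primes along a flat local homomorphism (helper10)

If `D → E` is a flat local homomorphism of local rings such that for every minimal prime `𝔭` of `D`
the extended ideal `𝔭 E` has at most one minimal prime, then `D` and `E` have the same number of
minimal primes.
-/

set_option autoImplicit false
set_option linter.unusedSectionVars false

namespace Groth.Agent.Lib.Helper10.BranchFlat

open IsLocalRing Groth.Agent.Lib.Helper3.PtColimBranches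

variable (D E : Type*) [CommRing D] [CommRing E] [IsLocalRing D] [IsLocalRing E] [Algebra D E]
  [Module.Flat D E] [IsLocalHom (algebraMap D E)]

theorem mem_minimalPrimes_map_of_mem_minimalPrimes {Q : Ideal E} (hQ : Q ∈ minimalPrimes E)
    {𝔭 : Ideal D} (h𝔭 : Q.comap (algebraMap D E) = 𝔭) :
    Q ∈ (𝔭.map (algebraMap D E)).minimalPrimes := by
  haveI : Q.IsPrime := hQ.1.1
  refine ⟨⟨inferInstance, ?_⟩, fun P hP hPQ => hQ.2 ⟨hP.1, bot_le⟩ hPQ⟩
  rw [Ideal.map_le_iff_le_comap, h𝔭]

theorem injOn_comap_minimalPrimes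
    (h : ∀ 𝔭 ∈ minimalPrimes D, ((𝔭.map (algebraMap D E)).minimalPrimes).encard ≤ 1) :
    Set.InjOn (Ideal.comap (algebraMap D E)) (minimalPrimes E) := by
  intro Q₁ hQ₁ Q₂ hQ₂ h12
  have h𝔭 := mapsTo_minimalPrimes_of_flat D E hQ₁
  have h1 := mem_minimalPrimes_map_of_mem_minimalPrimes D E hQ₁ rfl
  have h2 := mem_minimalPrimes_map_of_mem_minimalPrimes D E hQ₂ h12.symm
  exact Set.encard_le_one_iff.mp (h _ h𝔭) _ _ h1 h2

theorem encard_minimalPrimes_eq_of_flat
    (h : ∀ 𝔭 ∈ minimalPrimes D, ((𝔭.map (algebraMap D E)).minimalPrimes).encard ≤ 1) :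
    (minimalPrimes D).encard = (minimalPrimes E).encard := by
  have hb : Set.BijOn (Ideal.comap (algebraMap D E)) (minimalPrimes E) (minimalPrimes D) :=
    ⟨mapsTo_minimalPrimes_of_flat D E, injOn_comap_minimalPrimes D E h,
      surjOn_minimalPrimes_of_flat D E⟩
  rw [← hb.image_eq, (hb.injOn).encard_image]

end Groth.Agent.Lib.Helper10.BranchFlat
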