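import Mathlib
import Groth.Agent.Lib.Helper29.DepthQuot

/-!
# Quotients of local rings of smooth algebras (helper10)

For a smooth `R`-algebra `S`, a prime `q` of `S` and an ideal `𝔭` of `R` with `𝔭 S ⊆ q`, the local
ring `S_q / 𝔭 S_q` is the local ring of the smooth `R/𝔭`-algebra `S / 𝔭 S` at the image of `q`.
-/

set_option autoImplicit false
set_option linter.unusedSectionVars false
universe u

namespace Groth.Agent.Lib.Helper10.BranchQuot

open IsLocalRing TensorProduct

section

variable {R S : Type u} [CommRing R] [CommRing S] [Algebra R S] (𝔭 : Ideal R)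

instance smooth_quotient [Algebra.Smooth R S] :
    Algebra.Smooth (R ⧸ 𝔭) (S ⧸ 𝔭.map (algebraMap R S)) :=
  Algebra.Smooth.of_equiv (Algebra.TensorProduct.quotIdealMapEquivQuotTensor S 𝔭).symm

variable (q : Ideal S) [q.IsPrime]

theorem map_le_of_le_comap (h : 𝔭 ≤ q.comap (algebraMap R S)) : 𝔭.map (algebraMap R S) ≤ q :=
  Ideal.map_le_iff_le_comap.mpr h

theorem isPrime_map_mk (h : 𝔭 ≤ q.comap (algebraMap R S)) :
    (q.map (Ideal.Quotient.mk (𝔭.map (algebraMap R S)))).IsPrime :=
  Ideal.map_isPrime_of_surjective Ideal.Quotient.mk_surjective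
    (by rw [Ideal.mk_ker]; exact map_le_of_le_comap 𝔭 q h)

/-- `S_q / 𝔭 S_q` is the localization of `S / 𝔭 S` at the image of `q`. -/
theorem exists_ringEquiv_quotient (h : 𝔭 ≤ q.comap (algebraMap R S))
    [hq' : (q.map (Ideal.Quotient.mk (𝔭.map (algebraMap R S)))).IsPrime] :
    Nonempty (Localization.AtPrime (q.map (Ideal.Quotient.mk (𝔭.map (algebraMap R S)))) ≃+*
      (Localization.AtPrime q ⧸ 𝔭.map (algebraMap R (Localization.AtPrime q)))) := by
  have hJq : 𝔭.map (algebraMap R S) ≤ q := map_le_of_le_comap 𝔭 q h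
  have hI : 𝔭.map (algebraMap R (Localization.AtPrime q)) =
      (𝔭.map (algebraMap R S)).map (algebraMap S (Localization.AtPrime q)) := by
    rw [Ideal.map_map, ← IsScalarTower.algebraMap_eq]
  rw [hI]
  have h1 : IsLocalization (Algebra.algebraMapSubmonoid (S ⧸ 𝔭.map (algebraMap R S)) q.primeCompl)
      (Localization.AtPrime q ⧸
        (𝔭.map (algebraMap R S)).map (algebraMap S (Localization.AtPrime q))) := inferInstance
  rw [Groth.Agent.Lib.Helper29.algebraMapSubmonoid_quotient_primeCompl' S hJq] at h1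
  have hAt : IsLocalization.AtPrime (Localization.AtPrime q ⧸
        (𝔭.map (algebraMap R S)).map (algebraMap S (Localization.AtPrime q)))
      (q.map (Ideal.Quotient.mk (𝔭.map (algebraMap R S)))) := h1
  exact ⟨(IsLocalization.algEquiv (q.map (Ideal.Quotient.mk (𝔭.map (algebraMap R S)))).primeCompl
    (Localization.AtPrime (q.map (Ideal.Quotient.mk (𝔭.map (algebraMap R S)))))
    (Localization.AtPrime q ⧸
        (𝔭.map (algebraMap R S)).map (algebraMap S (Localization.AtPrime q)))).toRingEquiv⟩

/-- Variant of `exists_ringEquiv_quotient` recording the compatibility with the maps from `S`. -/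
theorem exists_ringEquiv_quotient' (h : 𝔭 ≤ q.comap (algebraMap R S))
    [hq' : (q.map (Ideal.Quotient.mk (𝔭.map (algebraMap R S)))).IsPrime] :
    ∃ e : Localization.AtPrime (q.map (Ideal.Quotient.mk (𝔭.map (algebraMap R S)))) ≃+*
      (Localization.AtPrime q ⧸ 𝔭.map (algebraMap R (Localization.AtPrime q))),
      ∀ s : S, e (algebraMap (S ⧸ 𝔭.map (algebraMap R S))
        (Localization.AtPrime (q.map (Ideal.Quotient.mk (𝔭.map (algebraMap R S)))))
          (Ideal.Quotient.mk _ s)) =
        Ideal.Quotient.mk _ (algebraMap S (Localization.AtPrime q) s) := by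
  have hJq : 𝔭.map (algebraMap R S) ≤ q := map_le_of_le_comap 𝔭 q h
  have hI : 𝔭.map (algebraMap R (Localization.AtPrime q)) =
      (𝔭.map (algebraMap R S)).map (algebraMap S (Localization.AtPrime q)) := by
    rw [Ideal.map_map, ← IsScalarTower.algebraMap_eq]
  have h1 : IsLocalization (Algebra.algebraMapSubmonoid (S ⧸ 𝔭.map (algebraMap R S)) q.primeCompl)
      (Localization.AtPrime q ⧸
        (𝔭.map (algebraMap R S)).map (algebraMap S (Localization.AtPrime q))) := inferInstance
  rw [Groth.Agent.Lib.Helper29.algebraMapSubmonoid_quotient_primeCompl' S hJq] at h1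
  have hAt : IsLocalization.AtPrime (Localization.AtPrime q ⧸
        (𝔭.map (algebraMap R S)).map (algebraMap S (Localization.AtPrime q)))
      (q.map (Ideal.Quotient.mk (𝔭.map (algebraMap R S)))) := h1
  let e₁ := IsLocalization.algEquiv (q.map (Ideal.Quotient.mk (𝔭.map (algebraMap R S)))).primeCompl
    (Localization.AtPrime (q.map (Ideal.Quotient.mk (𝔭.map (algebraMap R S)))))
    (Localization.AtPrime q ⧸
        (𝔭.map (algebraMap R S)).map (algebraMap S (Localization.AtPrime q)))
  refine ⟨e₁.toRingEquiv.trans (Ideal.quotEquivOfEq hI.symm), fun s => ?_⟩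
  rw [RingEquiv.trans_apply]
  have h2 : e₁.toRingEquiv (algebraMap (S ⧸ 𝔭.map (algebraMap R S))
        (Localization.AtPrime (q.map (Ideal.Quotient.mk (𝔭.map (algebraMap R S)))))
          (Ideal.Quotient.mk _ s)) =
      algebraMap (S ⧸ 𝔭.map (algebraMap R S)) (Localization.AtPrime q ⧸
        (𝔭.map (algebraMap R S)).map (algebraMap S (Localization.AtPrime q)))
          (Ideal.Quotient.mk _ s) := e₁.commutes _
  rw [h2]
  rfl

end

section

variable {R S : Type u} [CommRing R] [CommRing S] [Algebra R S] [IsLocalRing R] (𝔭 : Ideal R)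
  (q : Ideal S) [q.IsPrime] [hqm : q.LiesOver (maximalIdeal R)]

theorem liesOver_map_mk [IsLocalRing (R ⧸ 𝔭)] (h𝔭 : 𝔭 ≠ ⊤)
    [hq' : (q.map (Ideal.Quotient.mk (𝔭.map (algebraMap R S)))).IsPrime] :
    (q.map (Ideal.Quotient.mk (𝔭.map (algebraMap R S)))).LiesOver (maximalIdeal (R ⧸ 𝔭)) := by
  constructor
  symm
  apply le_antisymm
  · exact le_maximalIdeal (Ideal.comap_ne_top _ hq'.ne_top)
  · intro x hx
    obtain ⟨r, rfl⟩ := Ideal.Quotient.mk_surjective x
    have hr : r ∈ maximalIdeal R := by
      rw [mem_maximalIdeal, mem_nonunits_iff] at hx ⊢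
      intro hu
      exact hx (hu.map _)
    rw [Ideal.mem_comap]
    have h1 : algebraMap R S r ∈ q := by
      have := hqm.over
      rw [this] at hr
      exact hr
    exact Ideal.mem_map_of_mem _ h1

end

/-- A local ring is isomorphic to its localization at the maximal ideal. -/
theorem exists_ringEquiv_localization_maximalIdeal (A : Type u) [CommRing A] [IsLocalRing A] :
    Nonempty (A ≃+* Localization.AtPrime (maximalIdeal A)) := by
  have hunits : ∀ x ∈ (maximalIdeal A).primeCompl, IsUnit x := by
    intro x hx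
    by_contra hnu
    exact hx ((mem_maximalIdeal x).mpr hnu)
  exact ⟨(IsLocalization.atUnits A (maximalIdeal A).primeCompl hunits).toRingEquiv⟩

end Groth.Agent.Lib.Helper10.BranchQuot
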