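import Groth.Agent.Lib.Helper10.BranchFlat
import Groth.Agent.Lib.Helper10.BranchQuot
import Groth.Agent.Lib.Helper3.HensEquiv
import Groth.Agent.Lib.Helper3.GeomUnibranch
import Groth.Agent.Lib.Helper61.GU13
import Groth.Agent.S9236
import Groth.Agent.S0539

/-!
# Minimal primes of the strict henselization of a local ring of a smooth algebra over a strictly
henselian local ring (helper10)
-/

set_option autoImplicit false
set_option linter.unusedSectionVars false
set_option linter.style.haveILetI false
universe u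

namespace Groth.Agent.Lib.Helper10.BranchSmooth

open IsLocalRing TensorProduct Groth.Agent.Lib.Helper3 Groth.Agent.Lib.Helper10.BranchQuot

/-- A quotient of a local ring with separably closed residue field has separably closed residue
field. -/
theorem isSepClosed_residueField_quotient (R : Type u) [CommRing R] [IsLocalRing R]
    [IsSepClosed (ResidueField R)] (I : Ideal R) [IsLocalRing (R ⧸ I)] :
    IsSepClosed (ResidueField (R ⧸ I)) := by
  haveI : IsLocalHom (Ideal.Quotient.mk I) := .of_surjective _ Ideal.Quotient.mk_surjective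
  let π : ResidueField R →+* ResidueField (R ⧸ I) := ResidueField.map (Ideal.Quotient.mk I)
  have hπ : Function.Surjective π := by
    intro x
    obtain ⟨y, rfl⟩ := residue_surjective x
    obtain ⟨s, rfl⟩ := Ideal.Quotient.mk_surjective y
    exact ⟨residue R s, ResidueField.map_residue _ _⟩
  letI : Algebra (ResidueField R) (ResidueField (R ⧸ I)) := π.toAlgebra
  haveI : Algebra.IsAlgebraic (ResidueField R) (ResidueField (R ⧸ I)) :=
    ⟨fun x => by obtain ⟨y, rfl⟩ := hπ x; exact isAlgebraic_algebraMap y⟩
  exact Algebra.IsAlgebraic.isSepClosed (F := ResidueField R)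

/-- A strictly henselian local domain is geometrically unibranch. -/
theorem isGeomUnibranch_of_strictlyHenselian_of_isDomain (D : Type u) [CommRing D]
    [HenselianLocalRing D] [IsSepClosed (ResidueField D)] [IsDomain D] :
    CAlg2.IsGeomUnibranch D := by
  haveI := isStrictHenselization_self D
  rw [isGeomUnibranch_iff_isPrime_nilradical_strictHenselization D D, nilradical_eq_zero]
  exact Ideal.isPrime_bot

theorem isLocalHom_algebraMap_atPrime {R S : Type u} [CommRing R] [CommRing S] [Algebra R S]
    [IsLocalRing R] (q : Ideal S) [q.IsPrime] [hqm : q.LiesOver (maximalIdeal R)] :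
    IsLocalHom (algebraMap R (Localization.AtPrime q)) := by
  refine ((local_hom_TFAE (algebraMap R (Localization.AtPrime q))).out 0 4 rfl rfl).mpr ?_
  have h1 := IsLocalization.AtPrime.under_maximalIdeal (Localization.AtPrime q) q
  rw [Ideal.under_def] at h1
  rw [IsScalarTower.algebraMap_eq R S (Localization.AtPrime q), ← Ideal.comap_comap, h1]
  exact (hqm.over.trans (Ideal.under_def _ _)).symm

section SC

variable {R S : Type u} [CommRing R] [CommRing S] [Algebra R S] [Algebra.Smooth R S]
  [HenselianLocalRing R] [IsSepClosed (ResidueField R)]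
  (q : Ideal S) [q.IsPrime] [hqm : q.LiesOver (maximalIdeal R)]

/-- `S_q / 𝔭 S_q` is geometrically unibranch for every prime `𝔭` of the strictly henselian
base. -/
theorem isGeomUnibranch_quotient (𝔭 : Ideal R) [𝔭.IsPrime]
    [IsLocalRing (Localization.AtPrime q ⧸ 𝔭.map (algebraMap R (Localization.AtPrime q)))] :
    CAlg2.IsGeomUnibranch
      (Localization.AtPrime q ⧸ 𝔭.map (algebraMap R (Localization.AtPrime q))) := by
  have h𝔭 : 𝔭 ≠ ⊤ := Ideal.IsPrime.ne_top'
  haveI : Nontrivial (R ⧸ 𝔭) := Ideal.Quotient.nontrivial_iff.mpr h𝔭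
  haveI : IsLocalRing (R ⧸ 𝔭) := IsLocalRing.of_surjective' _ Ideal.Quotient.mk_surjective
  haveI : HenselianLocalRing (R ⧸ 𝔭) := Groth.Agent.S13598.henselianLocalRing_quotient 𝔭
  haveI : IsSepClosed (ResidueField (R ⧸ 𝔭)) := isSepClosed_residueField_quotient R 𝔭
  have hgu : CAlg2.IsGeomUnibranch (R ⧸ 𝔭) := isGeomUnibranch_of_strictlyHenselian_of_isDomain _
  obtain ⟨e0⟩ := exists_ringEquiv_localization_maximalIdeal (R ⧸ 𝔭)
  have hgu' : CAlg2.IsGeomUnibranch (Localization.AtPrime (maximalIdeal (R ⧸ 𝔭))) :=
    Groth.Agent.Lib.Helper61.GU.isGeomUnibranch_of_ringEquiv' e0 hgu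
  have hle : 𝔭 ≤ q.comap (algebraMap R S) := by
    rw [← Ideal.under_def, ← hqm.over]; exact le_maximalIdeal h𝔭
  haveI := isPrime_map_mk 𝔭 q hle
  haveI := liesOver_map_mk 𝔭 q h𝔭
  have hgu'' := Groth.Agent.Lib.Helper61.GU.isGeomUnibranch_atPrime_of_smooth' (R ⧸ 𝔭)
    (S ⧸ 𝔭.map (algebraMap R S)) (maximalIdeal (R ⧸ 𝔭))
    (q.map (Ideal.Quotient.mk (𝔭.map (algebraMap R S)))) hgu'
  obtain ⟨e⟩ := exists_ringEquiv_quotient 𝔭 q hle
  exact Groth.Agent.Lib.Helper61.GU.isGeomUnibranch_of_ringEquiv' e hgu''

/-- **Strictly henselian base**: the strict henselization of a local ring of a smooth algebra over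
a strictly henselian local ring `R` has as many minimal primes as `R`. -/
theorem encard_minimalPrimes_eq_of_smooth_strict
    {Bsh : Type u} [CommRing Bsh] [IsLocalRing Bsh] [Algebra (Localization.AtPrime q) Bsh]
    [IsLocalHom (algebraMap (Localization.AtPrime q) Bsh)]
    [Hensel.IsStrictHenselization (Localization.AtPrime q) Bsh] :
    (minimalPrimes R).encard = (minimalPrimes Bsh).encard := by
  letI : Algebra R Bsh := ((algebraMap (Localization.AtPrime q) Bsh).comp
    (algebraMap R (Localization.AtPrime q))).toAlgebra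
  haveI : IsScalarTower R (Localization.AtPrime q) Bsh := .of_algebraMap_eq' rfl
  haveI : Module.Flat R (Localization.AtPrime q) := Module.Flat.trans R S _
  haveI : Module.Flat (Localization.AtPrime q) Bsh := (Groth.Agent.S0539.result _ _).toFlat
  haveI : Module.Flat R Bsh := Module.Flat.trans R (Localization.AtPrime q) Bsh
  haveI : IsLocalHom (algebraMap R (Localization.AtPrime q)) := isLocalHom_algebraMap_atPrime q
  haveI : IsLocalHom (algebraMap R Bsh) :=
    RingHom.isLocalHom_comp (algebraMap (Localization.AtPrime q) Bsh)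
      (algebraMap R (Localization.AtPrime q))
  apply BranchFlat.encard_minimalPrimes_eq_of_flat
  intro 𝔭 h𝔭
  haveI : 𝔭.IsPrime := h𝔭.1.1
  have hI : 𝔭.map (algebraMap R (Localization.AtPrime q)) ≠ ⊤ :=
    HensEquiv.map_ne_top 𝔭 Ideal.IsPrime.ne_top'
  haveI : Nontrivial (Localization.AtPrime q ⧸ 𝔭.map (algebraMap R (Localization.AtPrime q))) :=
    Ideal.Quotient.nontrivial_iff.mpr hI
  haveI : IsLocalRing (Localization.AtPrime q ⧸ 𝔭.map (algebraMap R (Localization.AtPrime q))) :=
    IsLocalRing.of_surjective' _ Ideal.Quotient.mk_surjective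
  have h1 := HensEquiv.numGeomBranches_quotient (A := Localization.AtPrime q) (S := Bsh)
    (𝔭.map (algebraMap R (Localization.AtPrime q))) hI
  have h2 : Brnch.numGeomBranches
      (Localization.AtPrime q ⧸ 𝔭.map (algebraMap R (Localization.AtPrime q))) = 1 :=
    (Groth.Agent.S9236.result _).mpr (isGeomUnibranch_quotient q 𝔭)
  have h3 : 𝔭.map (algebraMap R Bsh) = (𝔭.map (algebraMap R (Localization.AtPrime q))).map
      (algebraMap (Localization.AtPrime q) Bsh) := by
    rw [Ideal.map_map]; rfl
  rw [h3, ← h1, h2]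

end SC

end Groth.Agent.Lib.Helper10.BranchSmooth
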