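import Mathlib
import Groth.Agent.Lib.Helper61.GU2

/-!
# Base change of a local normalization along a map with purely inseparable residue extension
(helper10)

Mirror image of `Helper61.GU2`: here the *other* factor `B` has residue field "purely inseparable"
over `A` (`p^n`-th powers of elements of `B` are congruent to elements of `A`).  Then every element
of `B ⊗[A] A'` has a `p^n`-th power congruent to an element of `A'` modulo `𝔪_B (B ⊗ A')`, and
`B ⊗[A] A'` is local when `A'` is local and integral over `A`.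
-/

set_option autoImplicit false
universe u

namespace Groth.Agent.Lib.Helper10.UA

open TensorProduct Groth.Agent.Lib.Helper61.GU

section tensor

variable {A B A' : Type*} [CommRing A] [CommRing B] [CommRing A'] [Algebra A B] [Algebra A A']

/-- The extension of an ideal of `B` to `B ⊗[A] A'`. -/
noncomputable def extIdealL (m : Ideal B) : Ideal (B ⊗[A] A') :=
  m.map (algebraMap B (B ⊗[A] A'))

theorem tmul_mem_extIdealL (m : Ideal B) {b : B} (hb : b ∈ m) (a' : A') :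
    b ⊗ₜ[A] a' ∈ extIdealL (A := A) (A' := A') m := by
  have h1 : b ⊗ₜ[A] (1 : A') ∈ extIdealL (A := A) (A' := A') m :=
    Ideal.mem_map_of_mem (algebraMap B (B ⊗[A] A')) hb
  have h2 : b ⊗ₜ[A] a' = ((1 : B) ⊗ₜ[A] a') * (b ⊗ₜ[A] (1 : A')) := by
    simp
  rw [h2]
  exact Ideal.mul_mem_left _ _ h1

/-- Key lemma: `p^n`-th powers in `B ⊗[A] A'` come from `A'` modulo `𝔪_B`. -/
theorem exists_pow_sub_memL (m : Ideal B) (p : ℕ)
    (hp : p = 1 ∨ (p.Prime ∧ (p : B) ∈ m))
    (hB : ∀ b : B, ∃ (n : ℕ) (a : A), b ^ p ^ n - algebraMap A B a ∈ m)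
    (d : B ⊗[A] A') :
    ∃ (n : ℕ) (a' : A'), d ^ p ^ n - (1 : B) ⊗ₜ[A] a' ∈ extIdealL (A := A) (A' := A') m := by
  set J := extIdealL (A := A) (A' := A') m with hJ
  have hpQ : p = 1 ∨ (p.Prime ∧ (p : (B ⊗[A] A') ⧸ J) = 0) := by
    rcases hp with h | ⟨h1, h2⟩
    · exact Or.inl h
    · refine Or.inr ⟨h1, ?_⟩
      have h3 : ((p : ℕ) : B ⊗[A] A') ∈ J := by
        have := tmul_mem_extIdealL (A := A) (A' := A') m h2 (1 : A')
        have h4 : ((p : ℕ) : B) ⊗ₜ[A] (1 : A') = ((p : ℕ) : B ⊗[A] A') := by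
          rw [← map_natCast (algebraMap B (B ⊗[A] A'))]
          rfl
        rwa [h4] at this
      rw [← map_natCast (Ideal.Quotient.mk J)]
      exact Ideal.Quotient.eq_zero_iff_mem.mpr h3
  suffices h : ∃ (n : ℕ) (a' : A'), (Ideal.Quotient.mk J d) ^ p ^ n =
      Ideal.Quotient.mk J ((1 : B) ⊗ₜ[A] a') by
    obtain ⟨n, a', h⟩ := h
    refine ⟨n, a', ?_⟩
    rw [← Ideal.Quotient.eq, map_pow]
    exact h
  induction d using TensorProduct.induction_on with
  | zero =>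
    refine ⟨0, 0, ?_⟩
    simp
  | tmul b a' =>
    obtain ⟨n, a, ha⟩ := hB b
    refine ⟨n, a • a' ^ p ^ n, ?_⟩
    rw [← map_pow, Ideal.Quotient.eq, Algebra.TensorProduct.tmul_pow]
    have h1 : (1 : B) ⊗ₜ[A] (a • a' ^ p ^ n) = (algebraMap A B a) ⊗ₜ[A] (a' ^ p ^ n) := by
      rw [← TensorProduct.smul_tmul, Algebra.smul_def, mul_one]
    rw [h1, ← TensorProduct.sub_tmul]
    exact tmul_mem_extIdealL m ha _
  | add d₁ d₂ h₁ h₂ =>
    obtain ⟨n₁, b₁, h₁⟩ := h₁
    obtain ⟨n₂, b₂, h₂⟩ := h₂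
    refine ⟨n₁ + n₂, b₁ ^ p ^ n₂ + b₂ ^ p ^ n₁, ?_⟩
    rw [map_add, add_pow_pow_of p hpQ]
    have e1 : (Ideal.Quotient.mk J d₁) ^ p ^ (n₁ + n₂) =
        ((Ideal.Quotient.mk J d₁) ^ p ^ n₁) ^ p ^ n₂ := by
      rw [← pow_mul, ← pow_add]
    have e2 : (Ideal.Quotient.mk J d₂) ^ p ^ (n₁ + n₂) =
        ((Ideal.Quotient.mk J d₂) ^ p ^ n₂) ^ p ^ n₁ := by
      rw [← pow_mul, ← pow_add, add_comm]
    rw [e1, e2, h₁, h₂]
    have e3 : ∀ (x : A') (k : ℕ), ((1 : B) ⊗ₜ[A] x) ^ k = (1 : B) ⊗ₜ[A] (x ^ k) := by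
      intro x k
      rw [Algebra.TensorProduct.tmul_pow, one_pow]
    rw [← map_pow, ← map_pow, e3, e3, ← map_add, ← TensorProduct.tmul_add]

end tensor

section local_

open IsLocalRing

variable {A B A' : Type*} [CommRing A] [CommRing B] [CommRing A'] [Algebra A B] [Algebra A A']
  [IsLocalRing A] [IsLocalRing B] [IsLocalRing A'] [IsLocalHom (algebraMap A B)]
  [Algebra.IsIntegral A A']

/-- Every maximal ideal of `B ⊗[A] A'` contains the extension of the maximal ideal of `B`. -/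
theorem extIdealL_le_of_isMaximal (M : Ideal (B ⊗[A] A')) [hM : M.IsMaximal] :
    extIdealL (A := A) (A' := A') (maximalIdeal B) ≤ M := by
  have h1 : (M.comap (algebraMap B (B ⊗[A] A'))).IsMaximal :=
    Ideal.isMaximal_comap_of_isIntegral_of_isMaximal (R := B) M
  have h2 : M.comap (algebraMap B (B ⊗[A] A')) = maximalIdeal B := eq_maximalIdeal h1
  rw [extIdealL, Ideal.map_le_iff_le_comap, h2]

/-- Every maximal ideal of `B ⊗[A] A'` contracts to the maximal ideal of `A'`. -/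
theorem comap_includeRight_of_isMaximal (M : Ideal (B ⊗[A] A')) [hM : M.IsMaximal] :
    M.comap (Algebra.TensorProduct.includeRight : A' →ₐ[A] B ⊗[A] A').toRingHom =
      maximalIdeal A' := by
  have h1 := extIdeal_le_of_isMaximal (A := A) (B := B) (A' := A') M
  rw [extIdeal, Ideal.map_le_iff_le_comap] at h1
  have hne : M.comap (Algebra.TensorProduct.includeRight : A' →ₐ[A] B ⊗[A] A').toRingHom ≠ ⊤ :=
    Ideal.comap_ne_top _ hM.ne_top
  exact ((maximalIdeal.isMaximal A').eq_of_le hne h1).symm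

/-- `B ⊗[A] A'` is a local ring when the residue field of `B` is purely inseparable over that of
`A` (in the `p^n`-th power form). -/
theorem isLocalRing_tensorL [Nontrivial (B ⊗[A] A')] (p : ℕ)
    (hp : p = 1 ∨ (p.Prime ∧ (p : B) ∈ maximalIdeal B))
    (hB : ∀ b : B, ∃ (n : ℕ) (a : A), b ^ p ^ n - algebraMap A B a ∈ maximalIdeal B) :
    IsLocalRing (B ⊗[A] A') := by
  obtain ⟨M, hM⟩ := Ideal.exists_maximal (B ⊗[A] A')
  apply IsLocalRing.of_unique_max_ideal
  refine ⟨M, hM, fun M₂ hM₂ => ?_⟩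
  have key : ∀ M₁ M₂ : Ideal (B ⊗[A] A'), M₁.IsMaximal → M₂.IsMaximal → M₁ ≤ M₂ := by
    intro M₁ M₂ h₁ h₂ d hd
    obtain ⟨n, a', ha'⟩ := exists_pow_sub_memL (A := A) (A' := A') (maximalIdeal B) p hp hB d
    have hb1 : d ^ p ^ n - (1 : B) ⊗ₜ[A] a' ∈ M₁ := extIdealL_le_of_isMaximal M₁ ha'
    have hb2 : d ^ p ^ n - (1 : B) ⊗ₜ[A] a' ∈ M₂ := extIdealL_le_of_isMaximal M₂ ha'
    have h3 : (1 : B) ⊗ₜ[A] a' ∈ M₁ := by
      have := M₁.sub_mem (M₁.pow_mem_of_mem hd (p ^ n) (by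
        rcases hp with rfl | ⟨h, -⟩
        · simp
        · exact pow_pos h.pos n)) hb1
      simpa using this
    have h4 : (1 : B) ⊗ₜ[A] a' ∈ M₂ := by
      have : a' ∈ M₁.comap (Algebra.TensorProduct.includeRight : A' →ₐ[A] B ⊗[A] A').toRingHom :=
        h3
      rw [comap_includeRight_of_isMaximal M₁, ← comap_includeRight_of_isMaximal M₂] at this
      exact this
    have h5 : d ^ p ^ n ∈ M₂ := by
      have := M₂.add_mem hb2 h4
      simpa using this
    exact h₂.isPrime.mem_of_pow_mem _ h5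
  exact le_antisymm (key M₂ M hM₂ hM) (key M M₂ hM hM₂)

end local_

end Groth.Agent.Lib.Helper10.UA
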