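import Mathlib
import Groth.Agent.Lib.Helper10.UnibranchAscentA
import Groth.Agent.Lib.Helper61.GU13

/-!
# Ascent of unibranchness along flat local maps with normal base change and purely inseparable
residue field extension (helper10)

Unibranch analogue of `Helper61.GU3` / `GU13`.
-/

set_option autoImplicit false
set_option linter.style.haveILetI false
universe u

namespace Groth.Agent.Lib.Helper10.UA

open TensorProduct IsLocalRing Groth.Agent.Lib.Helper38 Groth.Agent.Lib.Helper61.GU

/-- Criterion for unibranchness through an abstract normalization (domain case). -/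
theorem isUnibranch_of_normalization {B D : Type u} [CommRing B] [IsLocalRing B] [IsDomain B]
    [CommRing D] [IsDomain D] [IsIntegrallyClosed D] [IsLocalRing D]
    (φ : B →+* D) (hφ : IsFracExt φ) (hφi : φ.IsIntegral) : CAlg2.IsUnibranch B := by
  obtain ⟨e, -⟩ := exists_ringEquiv_normRed φ hφ hφi
  exact ⟨inferInstance, e.isLocalRing⟩

/-- Criterion for unibranchness of a possibly non-reduced local ring through an abstract
normalization of its reduction. -/
theorem isUnibranch_of_normalization' {B D : Type u} [CommRing B] [IsLocalRing B]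
    [CommRing D] [IsDomain D] [IsIntegrallyClosed D] [IsLocalRing D]
    (ψ : B →+* D) (hker : ∀ b, ψ b = 0 → IsNilpotent b) (hψi : ψ.IsIntegral)
    (hfrac : ∀ d : D, ∃ a c : B, ψ c ≠ 0 ∧ d * ψ c = ψ a) :
    CAlg2.IsUnibranch B := by
  let φ : CAlg2.red B →+* D := Ideal.Quotient.lift (nilradical B) ψ (fun b hb => by
    obtain ⟨n, hn⟩ := (mem_nilradical.mp hb)
    have : ψ b ^ n = 0 := by rw [← map_pow, hn, map_zero]
    exact pow_eq_zero_iff (n := n) (by rintro rfl; simp at this) |>.mp this)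
  have hφmk : ∀ b, φ (Ideal.Quotient.mk _ b) = ψ b := fun b => Ideal.Quotient.lift_mk _ _ _
  have hφinj : Function.Injective φ := by
    rw [injective_iff_map_eq_zero]
    intro c hc
    obtain ⟨b, rfl⟩ := Ideal.Quotient.mk_surjective c
    rw [hφmk] at hc
    exact Ideal.Quotient.eq_zero_iff_mem.mpr (mem_nilradical.mpr (hker b hc))
  haveI hdom : IsDomain (CAlg2.red B) := hφinj.isDomain φ
  have hφ : IsFracExt φ := by
    refine ⟨hφinj, fun d => ?_⟩
    obtain ⟨a, c, hc, hac⟩ := hfrac d
    refine ⟨Ideal.Quotient.mk _ a, Ideal.Quotient.mk _ c, ?_, ?_⟩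
    · intro h0
      apply hc
      rw [← hφmk, h0, map_zero]
    · rw [hφmk, hφmk, hac]
  have hφi : φ.IsIntegral := by
    intro d
    obtain ⟨p, hp, hpd⟩ := hψi d
    refine ⟨p.map (Ideal.Quotient.mk (nilradical B)), hp.map _, ?_⟩
    rw [Polynomial.eval₂_map]
    have : φ.comp (Ideal.Quotient.mk (nilradical B)) = ψ := by
      ext b
      exact hφmk b
    rw [this]
    exact hpd
  haveI : IsIntegrallyClosed (CAlg2.normRed B) :=
    integralClosure.isIntegrallyClosedOfFiniteExtension (FractionRing (CAlg2.red B))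
  obtain ⟨e, -⟩ := exists_ringEquiv_of_isFracExt φ hφ hφi
    (algebraMap (CAlg2.red B) (CAlg2.normRed B)) (algebraMap_red_normRed_isFracExt B)
    (algebraMap_isIntegral_iff.mpr inferInstance)
  exact ⟨hdom, e.isLocalRing⟩

/-- If `π : B → B̄` is a surjective ring homomorphism of local rings with nilpotent kernel and `B̄`
is a unibranch domain, then `B` is unibranch. -/
theorem isUnibranch_of_surjective {B Bb : Type u} [CommRing B] [IsLocalRing B] [CommRing Bb]
    [IsLocalRing Bb] [IsDomain Bb] (π : B →+* Bb) (hπ : Function.Surjective π)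
    (hker : ∀ b, π b = 0 → IsNilpotent b) (hu : CAlg2.IsUnibranch Bb) :
    CAlg2.IsUnibranch B := by
  haveI : IsLocalRing (CAlg2.normRed Bb) := hu.2
  have hι := NormRedDom.iota_isFracExt Bb
  refine isUnibranch_of_normalization' ((NormRedDom.iota Bb).comp π) ?_ ?_ ?_
  · intro b hb
    exact hker b (hι.inj (by rw [map_zero]; exact hb))
  · exact RingHom.IsIntegral.trans _ _ (RingHom.isIntegral_of_surjective _ hπ)
      (NormRedDom.iota_isIntegral Bb)
  · intro d
    obtain ⟨a, c, hc, hac⟩ := hι.frac d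
    obtain ⟨a, rfl⟩ := hπ a
    obtain ⟨c, rfl⟩ := hπ c
    exact ⟨a, c, fun h0 => hc (hι.inj (by rw [map_zero]; exact h0)), hac⟩

/-- The reduction of a unibranch local ring is a unibranch local domain. -/
theorem isUnibranch_red {A : Type u} [CommRing A] [IsLocalRing A] [IsLocalRing (CAlg2.red A)]
    (hu : CAlg2.IsUnibranch A) :
    IsDomain (CAlg2.red A) ∧ CAlg2.IsUnibranch (CAlg2.red A) := by
  haveI hdom : IsDomain (CAlg2.red A) := hu.1
  haveI hloc : IsLocalRing (CAlg2.normRed A) := hu.2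
  haveI : IsIntegrallyClosed (CAlg2.normRed A) :=
    integralClosure.isIntegrallyClosedOfFiniteExtension (FractionRing (CAlg2.red A))
  refine ⟨hdom, ?_⟩
  exact isUnibranch_of_normalization (algebraMap (CAlg2.red A) (CAlg2.normRed A))
    (algebraMap_red_normRed_isFracExt A) (algebraMap_isIntegral_iff.mpr inferInstance)

section abstract

variable {A B A' : Type u} [CommRing A] [CommRing B] [CommRing A'] [Algebra A B] [Algebra A A']

variable [IsLocalRing A] [IsLocalRing B] [IsLocalRing A'] [IsLocalHom (algebraMap A B)]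
  [Algebra.IsIntegral A A'] [IsDomain A] [Module.Flat A B]

/-- Main abstract ascent theorem (domain base). -/
theorem isUnibranch_of_flat_of_normal_tensor
    (hinj : Function.Injective (algebraMap A A'))
    (hfrac : ∀ a' : A', ∃ a c : A, c ≠ 0 ∧ a' * algebraMap A A' c = algebraMap A A' a)
    (p : ℕ) (hp : p = 1 ∨ (p.Prime ∧ (p : B) ∈ maximalIdeal B))
    (hB : ∀ b : B, ∃ (n : ℕ) (a : A), b ^ p ^ n - algebraMap A B a ∈ maximalIdeal B)
    (hN : ∀ (M : Ideal (B ⊗[A] A')) [M.IsPrime],
      IsDomain (Localization.AtPrime M) ∧ IsIntegrallyClosed (Localization.AtPrime M)) :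
    IsDomain B ∧ CAlg2.IsUnibranch B := by
  have hφinj : Function.Injective (algebraMap B (B ⊗[A] A')) :=
    Algebra.TensorProduct.includeLeft_injective (S := B) hinj
  have hnt : Nontrivial (B ⊗[A] A') := hφinj.nontrivial
  have hloc : IsLocalRing (B ⊗[A] A') := isLocalRing_tensorL p hp hB
  have hunits : ∀ x ∈ (maximalIdeal (B ⊗[A] A')).primeCompl, IsUnit x := by
    intro x hx
    by_contra hnu
    exact hx ((mem_maximalIdeal x).mpr hnu)
  let e : (B ⊗[A] A') ≃ₐ[B ⊗[A] A'] Localization.AtPrime (maximalIdeal (B ⊗[A] A')) :=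
    IsLocalization.atUnits _ (maximalIdeal (B ⊗[A] A')).primeCompl hunits
  obtain ⟨hD1, hD2⟩ := hN (maximalIdeal (B ⊗[A] A'))
  have hDdom : IsDomain (B ⊗[A] A') := e.toRingEquiv.toMulEquiv.isDomain _
  have hDic : IsIntegrallyClosed (B ⊗[A] A') := IsIntegrallyClosed.of_equiv e.symm.toRingEquiv
  have hBdom : IsDomain B := hφinj.isDomain _
  refine ⟨hBdom, ?_⟩
  have hff : Module.FaithfullyFlat A B := Module.FaithfullyFlat.of_flat_of_isLocalHom
  have hABinj : Function.Injective (algebraMap A B) := FaithfulSMul.algebraMap_injective A B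
  have hφ : IsFracExt (algebraMap B (B ⊗[A] A')) := by
    refine ⟨hφinj, fun d => ?_⟩
    obtain ⟨c, b, hc, h⟩ := exists_mul_eq_algebraMap (B := B) hfrac d
    exact ⟨b, algebraMap A B c, fun h0 => hc (hABinj (by rw [h0, map_zero])), h⟩
  have hφi : (algebraMap B (B ⊗[A] A')).IsIntegral := algebraMap_isIntegral_iff.mpr inferInstance
  exact isUnibranch_of_normalization (algebraMap B (B ⊗[A] A')) hφ hφi

end abstract

section abstract'

variable {A B : Type u} [CommRing A] [CommRing B] [Algebra A B]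

/-- **Abstract ascent, non-reduced base.** `A` is a local ring with `A_red` a domain, `A'` plays
the role of the normalization of `A_red`. -/
theorem isUnibranch_of_flat_of_normal_tensor' [IsLocalRing A] [IsLocalRing B]
    [IsLocalHom (algebraMap A B)] [Module.Flat A B] [IsDomain (CAlg2.red A)]
    (A' : Type u) [CommRing A'] [Algebra (CAlg2.red A) A'] [Algebra A A']
    [IsScalarTower A (CAlg2.red A) A'] [IsLocalRing A'] [Algebra.IsIntegral (CAlg2.red A) A']
    (hinj : Function.Injective (algebraMap (CAlg2.red A) A'))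
    (hfrac : ∀ a' : A', ∃ a c : CAlg2.red A, c ≠ 0 ∧
      a' * algebraMap (CAlg2.red A) A' c = algebraMap (CAlg2.red A) A' a)
    (p : ℕ) (hp : p = 1 ∨ (p.Prime ∧ (p : B) ∈ maximalIdeal B))
    (hB : ∀ b : B, ∃ (n : ℕ) (a : A), b ^ p ^ n - algebraMap A B a ∈ maximalIdeal B)
    (hN : EGA4.IsNormalRing (B ⊗[A] A')) :
    CAlg2.IsUnibranch B := by
  haveI : IsLocalRing (CAlg2.red A) :=
    IsLocalRing.of_surjective' (Ideal.Quotient.mk (nilradical A)) Ideal.Quotient.mk_surjective
  have hff : Module.FaithfullyFlat A B := Module.FaithfullyFlat.of_flat_of_isLocalHom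
  haveI : Nontrivial (CAlg2.red A ⊗[A] B) := inferInstance
  have hsurj : Function.Surjective
      (Algebra.TensorProduct.includeRight : B →ₐ[A] CAlg2.red A ⊗[A] B) := by
    intro t
    induction t using TensorProduct.induction_on with
    | zero => exact ⟨0, map_zero _⟩
    | tmul a b =>
      obtain ⟨a, rfl⟩ := Ideal.Quotient.mk_surjective a
      refine ⟨a • b, ?_⟩
      change (1 : CAlg2.red A) ⊗ₜ[A] (a • b) = _
      rw [← TensorProduct.smul_tmul, Algebra.smul_def, mul_one]
      rfl
    | add x y hx hy =>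
      obtain ⟨x', rfl⟩ := hx
      obtain ⟨y', rfl⟩ := hy
      exact ⟨x' + y', map_add _ _ _⟩
  haveI : IsLocalRing (CAlg2.red A ⊗[A] B) :=
    IsLocalRing.of_surjective'
      (Algebra.TensorProduct.includeRight : B →ₐ[A] CAlg2.red A ⊗[A] B).toRingHom hsurj
  haveI : IsLocalHom (Algebra.TensorProduct.includeRight :
      B →ₐ[A] CAlg2.red A ⊗[A] B).toRingHom :=
    IsLocalHom.of_surjective _ hsurj
  have h1 : ∀ a : A, algebraMap (CAlg2.red A) (CAlg2.red A ⊗[A] B) (Ideal.Quotient.mk _ a) =
      (Algebra.TensorProduct.includeRight : B →ₐ[A] CAlg2.red A ⊗[A] B).toRingHom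
        (algebraMap A B a) := by
    intro a
    change (Ideal.Quotient.mk _ a) ⊗ₜ[A] (1 : B) = (1 : CAlg2.red A) ⊗ₜ[A] (algebraMap A B a)
    rw [Algebra.algebraMap_eq_smul_one, ← TensorProduct.smul_tmul, Algebra.smul_def, mul_one]
    rfl
  haveI : IsLocalHom (algebraMap (CAlg2.red A) (CAlg2.red A ⊗[A] B)) := by
    constructor
    intro a ha
    obtain ⟨a, rfl⟩ := Ideal.Quotient.mk_surjective a
    rw [h1] at ha
    have h2 : IsUnit (algebraMap A B a) := isUnit_of_map_unit _ _ ha
    have h3 : IsUnit a := isUnit_of_map_unit (algebraMap A B) a h2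
    exact h3.map _
  let e1 := Algebra.TensorProduct.comm (CAlg2.red A) (CAlg2.red A ⊗[A] B) A'
  let e2 := Algebra.TensorProduct.cancelBaseChange A (CAlg2.red A) (CAlg2.red A) A' B
  let e3 := Algebra.TensorProduct.comm A A' B
  let e : (CAlg2.red A ⊗[A] B) ⊗[CAlg2.red A] A' ≃+* B ⊗[A] A' :=
    (e1.trans e2).toRingEquiv.trans e3.toRingEquiv
  have hN' : EGA4.IsNormalRing ((CAlg2.red A ⊗[A] B) ⊗[CAlg2.red A] A') :=
    isNormalRing_of_ringEquiv e.symm hN
  -- transport of the `p`-th power condition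
  have hmax : ∀ b : B, b ∈ maximalIdeal B →
      (Algebra.TensorProduct.includeRight : B →ₐ[A] CAlg2.red A ⊗[A] B).toRingHom b ∈
        maximalIdeal (CAlg2.red A ⊗[A] B) := by
    intro b hb
    rw [mem_maximalIdeal, mem_nonunits_iff] at hb ⊢
    intro hu
    exact hb (isUnit_of_map_unit _ _ hu)
  have hp' : p = 1 ∨ (p.Prime ∧ (p : CAlg2.red A ⊗[A] B) ∈ maximalIdeal (CAlg2.red A ⊗[A] B)) := by
    rcases hp with h | ⟨h, h'⟩
    · exact Or.inl h
    · refine Or.inr ⟨h, ?_⟩
      have := hmax _ h'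
      rwa [map_natCast] at this
  have hB' : ∀ b : CAlg2.red A ⊗[A] B, ∃ (n : ℕ) (a : CAlg2.red A),
      b ^ p ^ n - algebraMap (CAlg2.red A) (CAlg2.red A ⊗[A] B) a ∈
        maximalIdeal (CAlg2.red A ⊗[A] B) := by
    intro b
    obtain ⟨b, rfl⟩ := hsurj b
    obtain ⟨n, a, ha⟩ := hB b
    refine ⟨n, Ideal.Quotient.mk _ a, ?_⟩
    rw [h1]
    have := hmax _ ha
    rwa [map_sub, map_pow] at this
  obtain ⟨hBb, huBb⟩ := isUnibranch_of_flat_of_normal_tensor (A := CAlg2.red A)
    (B := CAlg2.red A ⊗[A] B) (A' := A') hinj hfrac p hp' hB' hN'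
  exact isUnibranch_of_surjective
    (Algebra.TensorProduct.includeRight : B →ₐ[A] CAlg2.red A ⊗[A] B).toRingHom hsurj
    (fun b hb => mem_nilradical.mp (mem_nilradical_of_one_tmul_eq_zero b hb)) huBb

end abstract'

end Groth.Agent.Lib.Helper10.UA
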