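import Mathlib
import Groth.Agent.Lib.Helper10.UnibranchAscentB

/-!
# Smooth algebras over unibranch local rings, purely inseparable residue field extension (helper10)
-/

set_option autoImplicit false
set_option linter.style.haveILetI false
universe u

namespace Groth.Agent.Lib.Helper10.UA

open TensorProduct IsLocalRing Groth.Agent.Lib.Helper38 Groth.Agent.Lib.Helper61.GU

section smooth

variable (R S : Type u) [CommRing R] [CommRing S] [Algebra R S] [Algebra.Smooth R S]
  (p : Ideal R) [p.IsPrime] (q : Ideal S) [q.IsPrime] [q.LiesOver p]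

/-- **Smooth algebras over a local ring whose reduction is a unibranch domain**, with purely
inseparable residue field extension: the local rings are unibranch. -/
theorem isUnibranch_atPrime_of_smooth_of_red
    (ℓ : ℕ) (hℓ : ℓ = 1 ∨ (ℓ.Prime ∧
      (ℓ : Localization.AtPrime q) ∈ maximalIdeal (Localization.AtPrime q)))
    (hB : letI := Localization.AtPrime.algebraOfLiesOver p q
      ∀ b : Localization.AtPrime q, ∃ (n : ℕ) (a : Localization.AtPrime p),
        b ^ ℓ ^ n - algebraMap (Localization.AtPrime p) (Localization.AtPrime q) a ∈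
          maximalIdeal (Localization.AtPrime q))
    (hdom : IsDomain (CAlg2.red (Localization.AtPrime p)))
    (hu : CAlg2.IsUnibranch (CAlg2.red (Localization.AtPrime p))) :
    CAlg2.IsUnibranch (Localization.AtPrime q) := by
  letI := Localization.AtPrime.algebraOfLiesOver p q
  haveI : IsLocalHom (algebraMap (Localization.AtPrime p) (Localization.AtPrime q)) :=
    Localization.isLocalHom_localRingHom p q (algebraMap R S) Ideal.LiesOver.over
  haveI : IsLocalRing (CAlg2.red (Localization.AtPrime p)) :=
    IsLocalRing.of_surjective' (Ideal.Quotient.mk (nilradical (Localization.AtPrime p)))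
      Ideal.Quotient.mk_surjective
  letI : Algebra (CAlg2.red (Localization.AtPrime p))
      (CAlg2.normRed (CAlg2.red (Localization.AtPrime p))) :=
    (NormRedDom.iota (CAlg2.red (Localization.AtPrime p))).toAlgebra
  letI : Algebra (Localization.AtPrime p) (CAlg2.normRed (CAlg2.red (Localization.AtPrime p))) :=
    ((NormRedDom.iota (CAlg2.red (Localization.AtPrime p))).comp
      (Ideal.Quotient.mk (nilradical (Localization.AtPrime p)))).toAlgebra
  haveI : IsScalarTower (Localization.AtPrime p) (CAlg2.red (Localization.AtPrime p))
      (CAlg2.normRed (CAlg2.red (Localization.AtPrime p))) := IsScalarTower.of_algebraMap_eq' rfl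
  haveI : IsLocalRing (CAlg2.normRed (CAlg2.red (Localization.AtPrime p))) := hu.2
  haveI : Algebra.IsIntegral (CAlg2.red (Localization.AtPrime p))
      (CAlg2.normRed (CAlg2.red (Localization.AtPrime p))) :=
    ⟨NormRedDom.iota_isIntegral (CAlg2.red (Localization.AtPrime p))⟩
  have hι := NormRedDom.iota_isFracExt (CAlg2.red (Localization.AtPrime p))
  refine isUnibranch_of_flat_of_normal_tensor'
    (CAlg2.normRed (CAlg2.red (Localization.AtPrime p))) hι.inj hι.frac ℓ hℓ hB ?_
  exact isNormalRing_tensor_of_smooth R S p q (CAlg2.normRed (CAlg2.red (Localization.AtPrime p)))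

/-- **Smooth algebras over a unibranch local ring**, purely inseparable residue field
extension. -/
theorem isUnibranch_atPrime_of_smooth'
    (ℓ : ℕ) (hℓ : ℓ = 1 ∨ (ℓ.Prime ∧
      (ℓ : Localization.AtPrime q) ∈ maximalIdeal (Localization.AtPrime q)))
    (hB : letI := Localization.AtPrime.algebraOfLiesOver p q
      ∀ b : Localization.AtPrime q, ∃ (n : ℕ) (a : Localization.AtPrime p),
        b ^ ℓ ^ n - algebraMap (Localization.AtPrime p) (Localization.AtPrime q) a ∈
          maximalIdeal (Localization.AtPrime q))
    (hu : CAlg2.IsUnibranch (Localization.AtPrime p)) :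
    CAlg2.IsUnibranch (Localization.AtPrime q) := by
  haveI : IsDomain (CAlg2.red (Localization.AtPrime p)) := hu.1
  haveI : IsLocalRing (CAlg2.red (Localization.AtPrime p)) :=
    IsLocalRing.of_surjective' (Ideal.Quotient.mk (nilradical (Localization.AtPrime p)))
      Ideal.Quotient.mk_surjective
  obtain ⟨h1, h2⟩ := isUnibranch_red hu
  exact isUnibranch_atPrime_of_smooth_of_red R S p q ℓ hℓ hB h1 h2

end smooth

end Groth.Agent.Lib.Helper10.UA
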