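import Groth.Agent.Lib.Helper10.BranchFlat
import Groth.Agent.Lib.Helper10.BranchQuot
import Groth.Agent.Lib.Helper10.BranchSmoothStrict
import Groth.Agent.Lib.Helper10.UnibranchAscentC
import Groth.Agent.Lib.Helper3.HensEquiv
import Groth.Agent.Lib.Helper3.Unibranch
import Groth.Agent.Lib.Helper3.HensQF
import Groth.Agent.S9235
import Groth.Agent.S0509

/-!
# Minimal primes of the henselization of a local ring of a smooth algebra over a henselian local
ring, purely inseparable residue field extension (helper10)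
-/

set_option autoImplicit false
set_option linter.unusedSectionVars false
set_option linter.style.haveILetI false
universe u

namespace Groth.Agent.Lib.Helper10.BranchSmooth

open IsLocalRing TensorProduct Groth.Agent.Lib.Helper3 Groth.Agent.Lib.Helper10.BranchQuot

/-- A henselian local domain is unibranch. -/
theorem isUnibranch_of_henselian_of_isDomain (D : Type u) [CommRing D]
    [HenselianLocalRing D] [IsDomain D] : CAlg2.IsUnibranch D := by
  haveI := isHenselization_self D
  rw [isUnibranch_iff_isPrime_nilradical_henselization D D, nilradical_eq_zero]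
  exact Ideal.isPrime_bot

/-- Unibranchness is invariant under ring isomorphisms. -/
theorem isUnibranch_of_ringEquiv {B B' : Type u} [CommRing B] [IsLocalRing B] [CommRing B']
    [IsLocalRing B'] (e : B ≃+* B') (h : CAlg2.IsUnibranch B) : CAlg2.IsUnibranch B' := by
  rw [← Groth.Agent.S9235.result] at h ⊢
  rw [← h]
  exact (HensEquiv.numBranches_congr e).symm

theorem mem_maximalIdeal_iff_of_ringEquiv {X Y : Type*} [CommRing X] [CommRing Y] [IsLocalRing X]
    [IsLocalRing Y] (e : X ≃+* Y) (x : X) : e x ∈ maximalIdeal Y ↔ x ∈ maximalIdeal X := by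
  rw [mem_maximalIdeal, mem_maximalIdeal, mem_nonunits_iff, mem_nonunits_iff]
  exact not_congr (MulEquiv.isUnit_map e.toMulEquiv)

section SC

variable {R S : Type u} [CommRing R] [CommRing S] [Algebra R S] [Algebra.Smooth R S]
  [HenselianLocalRing R] (q : Ideal S) [q.IsPrime] [hqm : q.LiesOver (maximalIdeal R)]
  (ℓ : ℕ) (hℓ : ℓ = 1 ∨ (ℓ.Prime ∧ (ℓ : R) ∈ maximalIdeal R))
  (hB : ∀ b : Localization.AtPrime q, ∃ (n : ℕ) (a : R),
    b ^ ℓ ^ n - algebraMap R (Localization.AtPrime q) a ∈ maximalIdeal (Localization.AtPrime q))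

include hℓ hB in
/-- `S_q / 𝔭 S_q` is unibranch for every prime `𝔭` of the henselian base. -/
theorem isUnibranch_quotient (𝔭 : Ideal R) [𝔭.IsPrime]
    [IsLocalRing (Localization.AtPrime q ⧸ 𝔭.map (algebraMap R (Localization.AtPrime q)))] :
    CAlg2.IsUnibranch
      (Localization.AtPrime q ⧸ 𝔭.map (algebraMap R (Localization.AtPrime q))) := by
  have h𝔭 : 𝔭 ≠ ⊤ := Ideal.IsPrime.ne_top'
  haveI : Nontrivial (R ⧸ 𝔭) := Ideal.Quotient.nontrivial_iff.mpr h𝔭
  haveI : IsLocalRing (R ⧸ 𝔭) := IsLocalRing.of_surjective' _ Ideal.Quotient.mk_surjective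
  haveI : HenselianLocalRing (R ⧸ 𝔭) := Groth.Agent.S13598.henselianLocalRing_quotient 𝔭
  have hu : CAlg2.IsUnibranch (R ⧸ 𝔭) := isUnibranch_of_henselian_of_isDomain _
  obtain ⟨e0⟩ := exists_ringEquiv_localization_maximalIdeal (R ⧸ 𝔭)
  have hu' : CAlg2.IsUnibranch (Localization.AtPrime (maximalIdeal (R ⧸ 𝔭))) :=
    isUnibranch_of_ringEquiv e0 hu
  have hle : 𝔭 ≤ q.comap (algebraMap R S) := by
    rw [← Ideal.under_def, ← hqm.over]; exact le_maximalIdeal h𝔭
  haveI := isPrime_map_mk 𝔭 q hle
  haveI := liesOver_map_mk 𝔭 q h𝔭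
  obtain ⟨e, he⟩ := exists_ringEquiv_quotient' 𝔭 q hle
  haveI : IsLocalHom (Ideal.Quotient.mk (𝔭.map (algebraMap R (Localization.AtPrime q)))) :=
    .of_surjective _ Ideal.Quotient.mk_surjective
  have hmk : ∀ x ∈ maximalIdeal (Localization.AtPrime q),
      Ideal.Quotient.mk (𝔭.map (algebraMap R (Localization.AtPrime q))) x ∈ maximalIdeal _ := by
    intro x hx
    rw [mem_maximalIdeal, mem_nonunits_iff] at hx ⊢
    exact fun hu => hx (isUnit_of_map_unit _ _ hu)
  have hℓ' : ℓ = 1 ∨ (ℓ.Prime ∧
      (ℓ : Localization.AtPrime (q.map (Ideal.Quotient.mk (𝔭.map (algebraMap R S))))) ∈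
        maximalIdeal (Localization.AtPrime (q.map (Ideal.Quotient.mk (𝔭.map (algebraMap R S)))))) := by
    rcases hℓ with h | ⟨h, h'⟩
    · exact Or.inl h
    · refine Or.inr ⟨h, ?_⟩
      rw [← map_natCast (algebraMap (S ⧸ 𝔭.map (algebraMap R S))
        (Localization.AtPrime (q.map (Ideal.Quotient.mk (𝔭.map (algebraMap R S)))))),
        IsLocalization.AtPrime.to_map_mem_maximal_iff _
          (q.map (Ideal.Quotient.mk (𝔭.map (algebraMap R S)))),
        ← map_natCast (Ideal.Quotient.mk (𝔭.map (algebraMap R S)))]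
      apply Ideal.mem_map_of_mem
      rw [← map_natCast (algebraMap R S)]
      have h1 := hqm.over
      rw [Ideal.under_def] at h1
      rw [h1] at h'
      exact h'
  have hB' : letI := (Localization.AtPrime.algebraOfLiesOver (maximalIdeal (R ⧸ 𝔭))
        (q.map (Ideal.Quotient.mk (𝔭.map (algebraMap R S)))))
      ∀ b : Localization.AtPrime (q.map (Ideal.Quotient.mk (𝔭.map (algebraMap R S)))),
        ∃ (n : ℕ) (a : Localization.AtPrime (maximalIdeal (R ⧸ 𝔭))),
        b ^ ℓ ^ n - algebraMap (Localization.AtPrime (maximalIdeal (R ⧸ 𝔭)))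
          (Localization.AtPrime (q.map (Ideal.Quotient.mk (𝔭.map (algebraMap R S))))) a ∈
          maximalIdeal (Localization.AtPrime (q.map (Ideal.Quotient.mk (𝔭.map (algebraMap R S))))) := by
    letI := (Localization.AtPrime.algebraOfLiesOver (maximalIdeal (R ⧸ 𝔭))
        (q.map (Ideal.Quotient.mk (𝔭.map (algebraMap R S)))))
    intro b'
    obtain ⟨b, hb⟩ := Ideal.Quotient.mk_surjective (e b')
    obtain ⟨n, a, ha⟩ := hB b
    refine ⟨n, algebraMap (R ⧸ 𝔭) _ (Ideal.Quotient.mk 𝔭 a), ?_⟩
    have h1 : algebraMap (Localization.AtPrime (maximalIdeal (R ⧸ 𝔭)))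
        (Localization.AtPrime (q.map (Ideal.Quotient.mk (𝔭.map (algebraMap R S)))))
        (algebraMap (R ⧸ 𝔭) _ (Ideal.Quotient.mk 𝔭 a)) =
        algebraMap (S ⧸ 𝔭.map (algebraMap R S)) _
          (Ideal.Quotient.mk _ (algebraMap R S a)) := by
      change Localization.localRingHom _ _ _ _ _ = _
      rw [Localization.localRingHom_to_map]
      rfl
    rw [h1, ← mem_maximalIdeal_iff_of_ringEquiv e, map_sub, map_pow, he, ← hb, ← map_pow,
      ← map_sub, ← IsScalarTower.algebraMap_apply]
    exact hmk _ ha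
  have hu'' := UA.isUnibranch_atPrime_of_smooth' (R ⧸ 𝔭)
    (S ⧸ 𝔭.map (algebraMap R S)) (maximalIdeal (R ⧸ 𝔭))
    (q.map (Ideal.Quotient.mk (𝔭.map (algebraMap R S)))) ℓ hℓ' hB' hu'
  exact isUnibranch_of_ringEquiv e hu''

include hℓ hB in
/-- **Henselian base**: the henselization of a local ring of a smooth algebra over a henselian
local ring `R` with purely inseparable residue field extension has as many minimal primes as
`R`. -/
theorem encard_minimalPrimes_eq_of_smooth_hens
    {Bh : Type u} [CommRing Bh] [IsLocalRing Bh] [Algebra (Localization.AtPrime q) Bh]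
    [IsLocalHom (algebraMap (Localization.AtPrime q) Bh)]
    [Hensel.IsHenselization (Localization.AtPrime q) Bh] :
    (minimalPrimes R).encard = (minimalPrimes Bh).encard := by
  letI : Algebra R Bh := ((algebraMap (Localization.AtPrime q) Bh).comp
    (algebraMap R (Localization.AtPrime q))).toAlgebra
  haveI : IsScalarTower R (Localization.AtPrime q) Bh := .of_algebraMap_eq' rfl
  haveI : Module.Flat R (Localization.AtPrime q) := Module.Flat.trans R S _
  haveI : Module.Flat (Localization.AtPrime q) Bh := (Groth.Agent.S0509.result _ _).toFlat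
  haveI : Module.Flat R Bh := Module.Flat.trans R (Localization.AtPrime q) Bh
  haveI : IsLocalHom (algebraMap R (Localization.AtPrime q)) := isLocalHom_algebraMap_atPrime q
  haveI : IsLocalHom (algebraMap R Bh) :=
    RingHom.isLocalHom_comp (algebraMap (Localization.AtPrime q) Bh)
      (algebraMap R (Localization.AtPrime q))
  apply BranchFlat.encard_minimalPrimes_eq_of_flat
  intro 𝔭 h𝔭
  haveI : 𝔭.IsPrime := h𝔭.1.1
  have hI : 𝔭.map (algebraMap R (Localization.AtPrime q)) ≠ ⊤ :=
    HensEquiv.map_ne_top 𝔭 Ideal.IsPrime.ne_top'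
  haveI : Nontrivial (Localization.AtPrime q ⧸ 𝔭.map (algebraMap R (Localization.AtPrime q))) :=
    Ideal.Quotient.nontrivial_iff.mpr hI
  haveI : IsLocalRing (Localization.AtPrime q ⧸ 𝔭.map (algebraMap R (Localization.AtPrime q))) :=
    IsLocalRing.of_surjective' _ Ideal.Quotient.mk_surjective
  have h1 := HensEquiv.numBranches_quotient (A := Localization.AtPrime q) (S := Bh)
    (𝔭.map (algebraMap R (Localization.AtPrime q))) hI
  have h2 : Brnch.numBranches
      (Localization.AtPrime q ⧸ 𝔭.map (algebraMap R (Localization.AtPrime q))) = 1 :=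
    (Groth.Agent.S9235.result _).mpr (isUnibranch_quotient q ℓ hℓ hB 𝔭)
  have h3 : 𝔭.map (algebraMap R Bh) = (𝔭.map (algebraMap R (Localization.AtPrime q))).map
      (algebraMap (Localization.AtPrime q) Bh) := by
    rw [Ideal.map_map]; rfl
  rw [h3, ← h1, h2]

end SC

end Groth.Agent.Lib.Helper10.BranchSmooth
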