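import Groth.Agent.Lib.Helper10.BranchSmoothHens
import Groth.Agent.Lib.Helper3.HensTensorAt
import Groth.Agent.Lib.Helper9.Hens.LocalFlat

/-!
# Branches along a smooth ring map with purely inseparable residue field extension: reduction to a
henselian base (helper10)
-/

set_option autoImplicit false
set_option linter.unusedSectionVars false
set_option linter.style.haveILetI false
universe u

namespace Groth.Agent.Lib.Helper10.BranchSmooth

open IsLocalRing TensorProduct Groth.Agent.Lib.Helper3

/-- Elementwise form of pure inseparability of the residue field extension of a local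
homomorphism. -/
theorem exists_pow_sub_mem_of_isPurelyInseparable {A B : Type*} [CommRing A] [CommRing B]
    [IsLocalRing A] [IsLocalRing B] (g : A →+* B) [IsLocalHom g]
    (hpi : @IsPurelyInseparable (ResidueField A) (ResidueField B) _ _
      (ResidueField.map g).toAlgebra)
    (e : ℕ) [ExpChar (ResidueField A) e] (b : B) :
    ∃ (n : ℕ) (a : A), b ^ e ^ n - g a ∈ maximalIdeal B := by
  letI := (ResidueField.map g).toAlgebra
  obtain ⟨n, z, hz⟩ := (isPurelyInseparable_iff_pow_mem (ResidueField A) e).mp hpi (residue B b)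
  obtain ⟨a, rfl⟩ := residue_surjective z
  refine ⟨n, a, ?_⟩
  rw [← residue_eq_zero_iff, map_sub, map_pow, ← hz]
  change ResidueField.map g (residue A a) - residue B (g a) = 0
  rw [ResidueField.map_residue, sub_self]

theorem expChar_cases_mem_maximalIdeal (A : Type*) [CommRing A] [IsLocalRing A] (e : ℕ)
    [he : ExpChar (ResidueField A) e] : e = 1 ∨ (e.Prime ∧ (e : A) ∈ maximalIdeal A) := by
  rcases he with _ | ⟨hprime⟩
  · exact Or.inl rfl
  · refine Or.inr ⟨hprime, ?_⟩
    rw [← residue_eq_zero_iff, map_natCast]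
    exact CharP.cast_eq_zero _ _

theorem map_mem_maximalIdeal {A B : Type*} [CommRing A] [CommRing B]
    [IsLocalRing A] [IsLocalRing B] (g : A →+* B) [IsLocalHom g] {a : A}
    (ha : a ∈ maximalIdeal A) : g a ∈ maximalIdeal B := by
  rw [mem_maximalIdeal, mem_nonunits_iff] at ha ⊢
  exact fun hu => ha (isUnit_of_map_unit g a hu)

theorem mem_maximalIdeal_of_map_mem {A B : Type*} [CommRing A] [CommRing B]
    [IsLocalRing A] [IsLocalRing B] (g : A →+* B) {a : A}
    (ha : g a ∈ maximalIdeal B) : a ∈ maximalIdeal A := by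
  rw [mem_maximalIdeal, mem_nonunits_iff] at ha ⊢
  exact fun hu => ha (hu.map g)

/-- For a smooth ring map `R → S` and a prime `q` of `S` over `p` with purely inseparable residue
field extension, the henselizations of `R_p` and `S_q` have the same number of minimal primes. -/
theorem encard_minimalPrimes_henselization_of_smooth
    {R S Ah Bh : Type u} [CommRing R] [CommRing S] [Algebra R S]
    [Algebra.Smooth R S] (q : Ideal S) [q.IsPrime] (p : Ideal R) [p.IsPrime] [hqp : q.LiesOver p]
    (hpi : @IsPurelyInseparable p.ResidueField q.ResidueField _ _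
      (Ideal.ResidueField.mapₐ p q (Algebra.ofId R S) (q.over_def p)).toRingHom.toAlgebra)
    [CommRing Ah] [IsLocalRing Ah] [Algebra (Localization.AtPrime p) Ah]
    [IsLocalHom (algebraMap (Localization.AtPrime p) Ah)]
    [hA : Hensel.IsHenselization (Localization.AtPrime p) Ah]
    [CommRing Bh] [IsLocalRing Bh] [Algebra (Localization.AtPrime q) Bh]
    [IsLocalHom (algebraMap (Localization.AtPrime q) Bh)]
    [hB : Hensel.IsHenselization (Localization.AtPrime q) Bh] :
    (minimalPrimes Ah).encard = (minimalPrimes Bh).encard := by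
  haveI : HenselianLocalRing Ah := hA.henselian
  haveI : HenselianLocalRing Bh := hB.henselian
  letI : Algebra R Ah := ((algebraMap (Localization.AtPrime p) Ah).comp
    (algebraMap R (Localization.AtPrime p))).toAlgebra
  haveI : IsScalarTower R (Localization.AtPrime p) Ah := .of_algebraMap_eq' rfl
  letI : Algebra S Bh := ((algebraMap (Localization.AtPrime q) Bh).comp
    (algebraMap S (Localization.AtPrime q))).toAlgebra
  haveI : IsScalarTower S (Localization.AtPrime q) Bh := .of_algebraMap_eq' rfl
  have hqp' : q.comap (algebraMap R S) = p := (hqp.over.trans (Ideal.under_def _ _)).symm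
  let ℓ : Localization.AtPrime p →+* Localization.AtPrime q :=
    Localization.localRingHom p q (algebraMap R S) hqp'.symm
  haveI : IsLocalHom ℓ := Localization.isLocalHom_localRingHom p q (algebraMap R S) hqp'.symm
  let f : Localization.AtPrime p →+* Bh := (algebraMap (Localization.AtPrime q) Bh).comp ℓ
  haveI hfloc : IsLocalHom f := RingHom.isLocalHom_comp _ _
  obtain ⟨v, hv, -⟩ := hA.universal Bh f hfloc
  have hvloc : IsLocalHom v := by
    refine ((local_hom_TFAE v).out 0 4 rfl rfl).mpr ?_
    have hle : maximalIdeal Ah ≤ (maximalIdeal Bh).comap v := by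
      rw [← Groth.Agent.Lib.Helper9.Hens.map_maximalIdeal_of_isHenselization
        (Localization.AtPrime p) Ah, Ideal.map_le_iff_le_comap, Ideal.comap_comap, hv]
      exact (((local_hom_TFAE f).out 0 4 rfl rfl).mp hfloc).ge
    exact ((maximalIdeal.isMaximal Ah).eq_of_le
      (Ideal.comap_ne_top _ (maximalIdeal.isMaximal Bh).ne_top) hle).symm
  haveI := hvloc
  letI : Algebra R Bh := ((algebraMap S Bh).comp (algebraMap R S)).toAlgebra
  haveI : IsScalarTower R S Bh := .of_algebraMap_eq' rfl
  have hvR : ∀ r : R, v (algebraMap R Ah r) = algebraMap R Bh r := by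
    intro r
    change v (algebraMap (Localization.AtPrime p) Ah (algebraMap R (Localization.AtPrime p) r)) =
      algebraMap (Localization.AtPrime q) Bh
        (algebraMap S (Localization.AtPrime q) (algebraMap R S r))
    rw [← RingHom.comp_apply v, hv]
    change algebraMap _ Bh (ℓ (algebraMap R _ r)) = _
    rw [Localization.localRingHom_to_map]
  let vA : Ah →ₐ[R] Bh := { v with commutes' := hvR }
  let φA : Ah ⊗[R] S →ₐ[R] Bh :=
    Algebra.TensorProduct.lift vA (IsScalarTower.toAlgHom R S Bh) (fun _ _ => Commute.all _ _)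
  let φ : Ah ⊗[R] S →+* Bh := φA.toRingHom
  have hφS : ∀ s, φ (1 ⊗ₜ s) = algebraMap S Bh s := by
    intro s
    simp [φ, φA]
  have hφv : ∀ y, φ (y ⊗ₜ 1) = v y := by
    intro y
    simp [φ, φA, vA]
  let Q : Ideal (Ah ⊗[R] S) := (maximalIdeal Bh).comap φ
  haveI : Q.IsPrime := Ideal.comap_isPrime _ _
  have hR : HensAt R p Ah (algebraMap R Ah) := HensAt.of_isHenselization R p Ah
  have hS : HensAt S q Bh (algebraMap S Bh) := HensAt.of_isHenselization S q Bh
  have hH : HensAt (Ah ⊗[R] S) Q Bh φ :=
    HensAt.tensor R S p q hqp' Ah hR Bh (algebraMap S Bh) hS φ hφS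
  obtain ⟨ψ, hψ, hψloc⟩ := hH.exists_lift
  letI : Algebra (Localization.AtPrime Q) Bh := ψ.toAlgebra
  haveI : IsLocalHom (algebraMap (Localization.AtPrime Q) Bh) := hψloc
  haveI : IsLocalHom ψ := hψloc
  haveI : Hensel.IsHenselization (Localization.AtPrime Q) Bh := hH.isHenselization hψ
  haveI : Q.LiesOver (maximalIdeal Ah) := by
    constructor
    have hvm : (maximalIdeal Bh).comap v = maximalIdeal Ah :=
      ((local_hom_TFAE v).out 0 4 rfl rfl).mp inferInstance
    rw [Ideal.under_def, ← hvm]
    ext y
    simp only [Q, Ideal.mem_comap]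
    rw [Algebra.TensorProduct.algebraMap_apply, Algebra.algebraMap_self, RingHom.id_apply, hφv]
  -- the exponent
  let e : ℕ := ringExpChar (ResidueField (Localization.AtPrime p))
  haveI : ExpChar (ResidueField (Localization.AtPrime p)) e := ringExpChar.expChar _
  have he : e = 1 ∨ (e.Prime ∧ (e : Ah) ∈ maximalIdeal Ah) := by
    rcases expChar_cases_mem_maximalIdeal (Localization.AtPrime p) e with h | ⟨h, h'⟩
    · exact Or.inl h
    · refine Or.inr ⟨h, ?_⟩
      have := map_mem_maximalIdeal (algebraMap (Localization.AtPrime p) Ah) h'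
      rwa [map_natCast] at this
  -- pure inseparability, elementwise on `S_q` over `R_p`
  have hpi' : ∀ b : Localization.AtPrime q, ∃ (n : ℕ) (a : Localization.AtPrime p),
      b ^ e ^ n - ℓ a ∈ maximalIdeal (Localization.AtPrime q) :=
    fun b => exists_pow_sub_mem_of_isPurelyInseparable ℓ hpi e b
  have hBcond : ∀ b : Localization.AtPrime Q, ∃ (n : ℕ) (a : Ah),
      b ^ e ^ n - algebraMap Ah (Localization.AtPrime Q) a ∈
        maximalIdeal (Localization.AtPrime Q) := by
    intro b
    obtain ⟨b', hb'⟩ := Groth.Agent.Lib.Helper9.Hens.exists_sub_mem_maximalIdeal_of_isHenselization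
      (Localization.AtPrime q) Bh (ψ b)
    obtain ⟨n, a', ha'⟩ := hpi' b'
    refine ⟨n, algebraMap (Localization.AtPrime p) Ah a', ?_⟩
    apply mem_maximalIdeal_of_map_mem ψ
    have h1 : ψ (algebraMap Ah (Localization.AtPrime Q) (algebraMap (Localization.AtPrime p) Ah a'))
        = algebraMap (Localization.AtPrime q) Bh (ℓ a') := by
      rw [IsScalarTower.algebraMap_apply Ah (Ah ⊗[R] S) (Localization.AtPrime Q),
        ← RingHom.comp_apply ψ, hψ, Algebra.TensorProduct.algebraMap_apply,
        Algebra.algebraMap_self, RingHom.id_apply, hφv, ← RingHom.comp_apply v, hv]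
      rfl
    rw [map_sub, map_pow, h1]
    have h2 : ψ b ^ e ^ n - algebraMap (Localization.AtPrime q) Bh (ℓ a') =
        (ψ b ^ e ^ n - (algebraMap (Localization.AtPrime q) Bh b') ^ e ^ n) +
          algebraMap (Localization.AtPrime q) Bh (b' ^ e ^ n - ℓ a') := by
      rw [map_sub, map_pow]; ring
    rw [h2]
    refine Ideal.add_mem _ ?_ (map_mem_maximalIdeal _ ha')
    obtain ⟨c, hc⟩ := sub_dvd_pow_sub_pow (ψ b) (algebraMap (Localization.AtPrime q) Bh b') (e ^ n)
    rw [hc]
    exact Ideal.mul_mem_right _ _ hb'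
  exact encard_minimalPrimes_eq_of_smooth_hens (R := Ah) (S := Ah ⊗[R] S) Q e he hBcond

end Groth.Agent.Lib.Helper10.BranchSmooth
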