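import Groth.Agent.Lib.Helper10.BranchSmoothStrict
import Groth.Agent.Lib.Helper24.SmoothNormal
import Groth.Agent.S1972

/-!
# Primes of a strictly henselian local ring stay prime in the strict henselization of a local ring
of a smooth algebra (helper10)
-/

set_option autoImplicit false
set_option linter.unusedSectionVars false
set_option linter.style.haveILetI false
universe u

namespace Groth.Agent.Lib.Helper10.BranchSmooth

open IsLocalRing TensorProduct Groth.Agent.Lib.Helper3 Groth.Agent.Lib.Helper10.BranchQuot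

section

variable {R S : Type u} [CommRing R] [CommRing S] [Algebra R S] [Algebra.Smooth R S]
  [HenselianLocalRing R] [IsSepClosed (ResidueField R)]
  (q : Ideal S) [q.IsPrime] [hqm : q.LiesOver (maximalIdeal R)]

/-- `S_q / 𝔭 S_q` is reduced for every prime `𝔭` of the base. -/
theorem isReduced_quotient (𝔭 : Ideal R) [𝔭.IsPrime] :
    IsReduced (Localization.AtPrime q ⧸ 𝔭.map (algebraMap R (Localization.AtPrime q))) := by
  have h𝔭 : 𝔭 ≠ ⊤ := Ideal.IsPrime.ne_top'
  haveI : Nontrivial (R ⧸ 𝔭) := Ideal.Quotient.nontrivial_iff.mpr h𝔭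
  haveI : IsLocalRing (R ⧸ 𝔭) := IsLocalRing.of_surjective' _ Ideal.Quotient.mk_surjective
  have hle : 𝔭 ≤ q.comap (algebraMap R S) := by
    rw [← Ideal.under_def, ← hqm.over]; exact le_maximalIdeal h𝔭
  haveI := isPrime_map_mk 𝔭 q hle
  haveI := liesOver_map_mk 𝔭 q h𝔭
  have hred := Groth.Agent.Lib.Helper24.isReduced_atPrime_of_smooth (R ⧸ 𝔭)
    (S ⧸ 𝔭.map (algebraMap R S)) (maximalIdeal (R ⧸ 𝔭))
    (q.map (Ideal.Quotient.mk (𝔭.map (algebraMap R S)))) inferInstance
  obtain ⟨e⟩ := exists_ringEquiv_quotient 𝔭 q hle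
  exact isReduced_of_injective e.symm e.symm.injective

/-- **Primes extend to primes**: for a strictly henselian local ring `R`, a smooth `R`-algebra `S`,
a prime `q` of `S` over the maximal ideal and a strict henselization `Bsh` of `S_q`, the extension
of a prime `𝔭` of `R` to `Bsh` is prime. -/
theorem isPrime_map_strictHenselization_of_smooth
    {Bsh : Type u} [CommRing Bsh] [IsLocalRing Bsh] [Algebra (Localization.AtPrime q) Bsh]
    [IsLocalHom (algebraMap (Localization.AtPrime q) Bsh)]
    [Hensel.IsStrictHenselization (Localization.AtPrime q) Bsh] (𝔭 : Ideal R) [𝔭.IsPrime] :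
    ((𝔭.map (algebraMap R (Localization.AtPrime q))).map
      (algebraMap (Localization.AtPrime q) Bsh)).IsPrime := by
  haveI : IsLocalHom (algebraMap R (Localization.AtPrime q)) := isLocalHom_algebraMap_atPrime q
  have hI : 𝔭.map (algebraMap R (Localization.AtPrime q)) ≠ ⊤ :=
    HensEquiv.map_ne_top 𝔭 Ideal.IsPrime.ne_top'
  set I := 𝔭.map (algebraMap R (Localization.AtPrime q)) with hIdef
  haveI : Nontrivial (Localization.AtPrime q ⧸ I) := Ideal.Quotient.nontrivial_iff.mpr hI
  haveI : IsLocalRing (Localization.AtPrime q ⧸ I) :=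
    IsLocalRing.of_surjective' _ Ideal.Quotient.mk_surjective
  haveI : Nontrivial (Bsh ⧸ I.map (algebraMap (Localization.AtPrime q) Bsh)) :=
    Ideal.Quotient.nontrivial_iff.mpr (HensEquiv.map_ne_top I hI)
  haveI : IsLocalRing (Bsh ⧸ I.map (algebraMap (Localization.AtPrime q) Bsh)) :=
    IsLocalRing.of_surjective' _ Ideal.Quotient.mk_surjective
  haveI : IsLocalHom (algebraMap (Localization.AtPrime q ⧸ I)
      (Bsh ⧸ I.map (algebraMap (Localization.AtPrime q) Bsh))) := by
    constructor
    intro a ha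
    obtain ⟨a, rfl⟩ := Ideal.Quotient.mk_surjective a
    have h1 : algebraMap (Localization.AtPrime q ⧸ I)
        (Bsh ⧸ I.map (algebraMap (Localization.AtPrime q) Bsh)) (Ideal.Quotient.mk I a) =
        Ideal.Quotient.mk _ (algebraMap (Localization.AtPrime q) Bsh a) := rfl
    rw [h1] at ha
    haveI : IsLocalHom (Ideal.Quotient.mk (I.map (algebraMap (Localization.AtPrime q) Bsh))) :=
      .of_surjective _ Ideal.Quotient.mk_surjective
    have h2 : IsUnit (algebraMap (Localization.AtPrime q) Bsh a) := isUnit_of_map_unit _ _ ha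
    exact (isUnit_of_map_unit (algebraMap (Localization.AtPrime q) Bsh) a h2).map _
  haveI := isStrictHenselization_quotient (A := Localization.AtPrime q) (S := Bsh) I
  have hgu : CAlg2.IsGeomUnibranch (Localization.AtPrime q ⧸ I) := isGeomUnibranch_quotient q 𝔭
  have hnil : (nilradical (Bsh ⧸ I.map (algebraMap (Localization.AtPrime q) Bsh))).IsPrime :=
    (isGeomUnibranch_iff_isPrime_nilradical_strictHenselization _ _).mp hgu
  haveI hred : IsReduced (Localization.AtPrime q ⧸ I) := isReduced_quotient q 𝔭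
  have hnil0 : nilradical (Bsh ⧸ I.map (algebraMap (Localization.AtPrime q) Bsh)) = ⊥ := by
    rw [← Groth.Agent.S1972.result (Localization.AtPrime q ⧸ I)
      (Bsh ⧸ I.map (algebraMap (Localization.AtPrime q) Bsh)) (Or.inr inferInstance),
      nilradical_eq_zero, Ideal.zero_eq_bot, Ideal.map_bot]
  rw [hnil0] at hnil
  rw [← Ideal.Quotient.isDomain_iff_prime]
  refine @NoZeroDivisors.to_isDomain _ _ _ ⟨fun {a b} hab => ?_⟩
  have := hnil.mem_or_mem (show a * b ∈ (⊥ : Ideal _) from by rw [hab]; exact Ideal.zero_mem _)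
  simpa using this

end

end Groth.Agent.Lib.Helper10.BranchSmooth
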