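import Groth.Agent.Lib.Helper10.BranchSmoothStrict
import Groth.Agent.Lib.Helper3.SHensTensorAt
import Groth.Agent.Lib.Helper3.SHensTensorIso

/-!
# Geometric branches along a smooth ring map: reduction to a strictly henselian base (helper10)
-/

set_option autoImplicit false
set_option linter.unusedSectionVars false
set_option linter.style.haveILetI false
universe u

namespace Groth.Agent.Lib.Helper10.BranchSmooth

open IsLocalRing TensorProduct Groth.Agent.Lib.Helper3

/-- For a smooth ring map `R → S` and a prime `q` of `S` over `p`, the strict henselizations of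
`R_p` and `S_q` have the same number of minimal primes. -/
theorem encard_minimalPrimes_strictHenselization_of_smooth
    {R S Ash Bsh : Type u} [CommRing R] [CommRing S] [Algebra R S]
    [Algebra.Smooth R S] (q : Ideal S) [q.IsPrime] (p : Ideal R) [p.IsPrime] [hqp : q.LiesOver p]
    [CommRing Ash] [IsLocalRing Ash] [Algebra (Localization.AtPrime p) Ash]
    [IsLocalHom (algebraMap (Localization.AtPrime p) Ash)]
    [hA : Hensel.IsStrictHenselization (Localization.AtPrime p) Ash]
    [CommRing Bsh] [IsLocalRing Bsh] [Algebra (Localization.AtPrime q) Bsh]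
    [IsLocalHom (algebraMap (Localization.AtPrime q) Bsh)]
    [hB : Hensel.IsStrictHenselization (Localization.AtPrime q) Bsh] :
    (minimalPrimes Ash).encard = (minimalPrimes Bsh).encard := by
  haveI : HenselianLocalRing Ash := hA.henselian
  haveI : IsSepClosed (ResidueField Ash) := hA.isSepClosure.sep_closed
  haveI : HenselianLocalRing Bsh := hB.henselian
  haveI : IsSepClosed (ResidueField Bsh) := hB.isSepClosure.sep_closed
  letI : Algebra R Ash := ((algebraMap (Localization.AtPrime p) Ash).comp
    (algebraMap R (Localization.AtPrime p))).toAlgebra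
  haveI : IsScalarTower R (Localization.AtPrime p) Ash := .of_algebraMap_eq' rfl
  letI : Algebra S Bsh := ((algebraMap (Localization.AtPrime q) Bsh).comp
    (algebraMap S (Localization.AtPrime q))).toAlgebra
  haveI : IsScalarTower S (Localization.AtPrime q) Bsh := .of_algebraMap_eq' rfl
  have hqp' : q.comap (algebraMap R S) = p := (hqp.over.trans (Ideal.under_def _ _)).symm
  let ℓ : Localization.AtPrime p →+* Localization.AtPrime q :=
    Localization.localRingHom p q (algebraMap R S) hqp'.symm
  haveI : IsLocalHom ℓ := Localization.isLocalHom_localRingHom p q (algebraMap R S) hqp'.symm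
  let f : Localization.AtPrime p →+* Bsh := (algebraMap (Localization.AtPrime q) Bsh).comp ℓ
  haveI : IsLocalHom f := RingHom.isLocalHom_comp _ _
  obtain ⟨v, hv, hvloc⟩ :=
    exists_local_lift_of_isStrictHenselization (Localization.AtPrime p) Ash Bsh f
  haveI := hvloc
  letI : Algebra R Bsh := ((algebraMap S Bsh).comp (algebraMap R S)).toAlgebra
  haveI : IsScalarTower R S Bsh := .of_algebraMap_eq' rfl
  have hvR : ∀ r : R, v (algebraMap R Ash r) = algebraMap R Bsh r := by
    intro r
    change v (algebraMap (Localization.AtPrime p) Ash (algebraMap R (Localization.AtPrime p) r)) =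
      algebraMap (Localization.AtPrime q) Bsh
        (algebraMap S (Localization.AtPrime q) (algebraMap R S r))
    rw [← RingHom.comp_apply v, hv]
    change algebraMap _ Bsh (ℓ (algebraMap R _ r)) = _
    rw [Localization.localRingHom_to_map]
  let vA : Ash →ₐ[R] Bsh := { v with commutes' := hvR }
  let φA : Ash ⊗[R] S →ₐ[R] Bsh :=
    Algebra.TensorProduct.lift vA (IsScalarTower.toAlgHom R S Bsh) (fun _ _ => Commute.all _ _)
  let φ : Ash ⊗[R] S →+* Bsh := φA.toRingHom
  have hφS : ∀ s, φ (1 ⊗ₜ s) = algebraMap S Bsh s := by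
    intro s
    simp [φ, φA]
  have hφv : ∀ y, φ (y ⊗ₜ 1) = v y := by
    intro y
    simp [φ, φA, vA]
  let Q : Ideal (Ash ⊗[R] S) := (maximalIdeal Bsh).comap φ
  haveI : Q.IsPrime := Ideal.comap_isPrime _ _
  obtain ⟨hSH, hmk⟩ := isStrictHenselization_tensor R S p q hqp' Ash Bsh φ hφS v hφv Q rfl
  obtain ⟨ψ, hψ, hψloc⟩ := hSH.exists_lift
  letI : Algebra (Localization.AtPrime Q) Bsh := ψ.toAlgebra
  haveI : IsLocalHom (algebraMap (Localization.AtPrime Q) Bsh) := hψloc
  haveI : Hensel.IsStrictHenselization (Localization.AtPrime Q) Bsh := hmk hψ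
  haveI : Q.LiesOver (maximalIdeal Ash) := by
    constructor
    have hvm : (maximalIdeal Bsh).comap v = maximalIdeal Ash :=
      ((local_hom_TFAE v).out 0 4 rfl rfl).mp inferInstance
    rw [Ideal.under_def, ← hvm]
    ext y
    simp only [Q, Ideal.mem_comap]
    rw [Algebra.TensorProduct.algebraMap_apply, Algebra.algebraMap_self, RingHom.id_apply, hφv]
  exact encard_minimalPrimes_eq_of_smooth_strict (R := Ash) (S := Ash ⊗[R] S) Q

end Groth.Agent.Lib.Helper10.BranchSmooth
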