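import Mathlib
import Groth.Prelude.Def_RegImm
import Groth.Prelude.Def_Pi1
import Groth.Agent.S2166
import Groth.Agent.Lib.Helper82.CIEssFT
import Groth.Agent.Lib.Helper82.CIOpen

/-!
# Complete intersections over a field versus complete intersections via the completion (helper10)

For a local algebra `S` essentially of finite type over a field `k`:
`Synt.IsCIOver k S ↔ Pi1.IsCompleteIntersection S`.
-/

set_option autoImplicit false
universe u

namespace Groth.Agent.Lib.Helper10.CIBridge

open RingTheory.Sequence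

theorem isCIOver_iff_isCompleteIntersection (k S : Type u) [Field k] [CommRing S]
    [IsLocalRing S] [Algebra k S] [Algebra.EssFiniteType k S] :
    Synt.IsCIOver k S ↔ Pi1.IsCompleteIntersection S := by
  classical
  obtain ⟨n, I, q, hq, ⟨e⟩⟩ :=
    Groth.Agent.Lib.Helper82.CIEssFT.exists_algEquiv_localization_quotient k S
  obtain ⟨πL, hπL⟩ := Groth.Agent.Lib.Helper82.CIEssFT.exists_presentation (k := k) n I q
  let π : Localization.AtPrime (q.comap (Ideal.Quotient.mk I)) →ₐ[k] S :=
    e.symm.toAlgHom.comp πL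
  have hπ : Function.Surjective π := e.symm.surjective.comp hπL
  have hne : RingHom.ker π.toRingHom ≠ ⊤ := RingHom.ker_ne_top _
  let ε : (Localization.AtPrime (q.comap (Ideal.Quotient.mk I)) ⧸ RingHom.ker π.toRingHom) ≃+* S :=
    RingHom.quotientKerEquivOfSurjective hπ
  haveI hloc : IsLocalRing (Localization.AtPrime (q.comap (Ideal.Quotient.mk I)) ⧸
      RingHom.ker π.toRingHom) := ε.symm.isLocalRing
  have hS := Groth.Agent.S2166.result (RingHom.ker π.toRingHom) hne
  constructor
  · intro h
    obtain ⟨rs, hreg, hker⟩ := Groth.Agent.Lib.Helper82.CIEssFT.forall_of_isCIOver S h _ π hπ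
    exact Groth.Agent.Lib.Helper82.CIOpen.isCI_of_ringEquiv ε (hS.mpr ⟨rs, hker.symm, hreg⟩)
  · intro h
    obtain ⟨rs, hker, hreg⟩ :=
      hS.mp (Groth.Agent.Lib.Helper82.CIOpen.isCI_of_ringEquiv ε.symm h)
    exact Groth.Agent.Lib.Helper82.CIEssFT.isCIOver_of_presentation S _ inferInstance π hπ rs
      hreg hker.symm

end Groth.Agent.Lib.Helper10.CIBridge
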