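import Groth.Agent.S8660
import Groth.Agent.H46.SyntLocalCM

/-!
# `CInt.IsCIMorphism f ↔ Synt.IsSyntomicMor f` (helper10)
-/

set_option autoImplicit false
universe u

namespace Groth.Agent.Lib.Helper10.CIMorSynt

open AlgebraicGeometry CategoryTheory

theorem isCIMorphism_iff_isSyntomicMor {X S : Scheme.{u}} (f : X ⟶ S) :
    CInt.IsCIMorphism f ↔ Synt.IsSyntomicMor f := by
  constructor
  · intro h
    haveI := h.1
    haveI := h.2.1
    exact (Groth.Agent.S9758.result f).mp ⟨h.1, (Groth.Agent.S8660.result f).mpr h⟩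
  · intro h
    haveI : Flat f := Groth.Agent.H46.SyntLocalCM.flat_of_isSyntomicMor f h
    haveI : LocallyOfFinitePresentation f := Groth.Agent.H46.SyntLocalCM.lfp_of_isSyntomicMor f h
    exact (Groth.Agent.S8660.result f).mp ((Groth.Agent.S9758.result f).mpr h).2

end Groth.Agent.Lib.Helper10.CIMorSynt
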