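import Mathlib
import Groth.Prelude.Def_CInt
import Groth.Prelude.Def_EGA4b
import Groth.Agent.H46.CMAt2
import Groth.Agent.Lib.Helper82.FibReg

/-!
# The local ring of a fibre in an affine chart (helper10)

For `f : X ⟶ S`, affine opens `U ∋ x`, `V ⊇ f(U)`, with `A = Γ(S, V)`, `B = Γ(X, U)`, `q` the prime
of `x` in `B`: `CInt.fiberStalk f x ≃+* B_q / p B_q = EGA4.FibLocRing A B q`, and hence
`≃+* Localization.AtPrime Q` for the prime `Q` of the fibre ring `κ(p) ⊗_A B` over `q`.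
-/

set_option autoImplicit false
universe u

namespace Groth.Agent.Lib.Helper10.FiberStalkChart

open AlgebraicGeometry CategoryTheory IsLocalRing

/-- An isomorphism of arrows of rings with local sources induces an isomorphism of the closed-fibre
rings. -/
theorem nonempty_quotient_equiv_of_arrow {A B A' B' : Type u} [CommRing A] [CommRing B]
    [CommRing A'] [CommRing B'] [IsLocalRing A] [IsLocalRing A']
    (φ : A →+* B) (φ' : A' →+* B') (α : A ≃+* A') (β : B ≃+* B') (h : ∀ a, β (φ a) = φ' (α a)) :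
    Nonempty ((B ⧸ (maximalIdeal A).map φ) ≃+* (B' ⧸ (maximalIdeal A').map φ')) := by
  refine ⟨Ideal.quotientEquiv _ _ β ?_⟩
  have h1 : ((β : B →+* B')).comp φ = φ'.comp (α : A →+* A') := RingHom.ext h
  have h2 : (maximalIdeal A).map (α : A →+* A') = maximalIdeal A' :=
    IsLocalRing.map_maximalIdeal_of_surjective (α : A →+* A') α.surjective
  rw [Ideal.map_map, h1, ← Ideal.map_map, h2]

/-- the local ring of the fibre through `x`, in an affine chart -/
theorem nonempty_fiberStalk_equiv_fibLocRing {X S : Scheme.{u}} (f : X ⟶ S) (U : X.affineOpens)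
    (V : S.affineOpens) (e : U.1 ≤ f ⁻¹ᵁ V.1) (x : X) (hx : x ∈ U.1) :
    letI := (f.appLE V.1 U.1 e).hom.toAlgebra
    Nonempty (CInt.fiberStalk f x ≃+*
      EGA4.FibLocRing Γ(S, V.1) Γ(X, U.1) (U.2.primeIdealOf ⟨x, hx⟩).asIdeal) := by
  letI alg : Algebra Γ(S, V.1) Γ(X, U.1) := (f.appLE V.1 U.1 e).hom.toAlgebra
  obtain ⟨e1⟩ := Groth.Agent.H46.CMAt.nonempty_fibreStalk_equiv f x
  have hpq : (V.2.primeIdealOf ⟨f x, e hx⟩).asIdeal =
      (U.2.primeIdealOf ⟨x, hx⟩).asIdeal.comap (f.appLE V.1 U.1 e).hom :=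
    congr($(IsAffineOpen.comap_primeIdealOf_appLE V.1 V.2 U.1 U.2 e hx).1).symm
  let ai := IsAffineOpen.arrowStalkMapIso f V.1 V.2 U.1 U.2 e hx
  let α : S.presheaf.stalk (f x) ≃+*
      Localization.AtPrime (V.2.primeIdealOf ⟨f x, e hx⟩).asIdeal :=
    (Arrow.leftFunc.mapIso ai).commRingCatIsoToRingEquiv
  let β : X.presheaf.stalk x ≃+* Localization.AtPrime (U.2.primeIdealOf ⟨x, hx⟩).asIdeal :=
    (Arrow.rightFunc.mapIso ai).commRingCatIsoToRingEquiv
  have hαβ : ∀ a, β ((f.stalkMap x).hom a) =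
      Localization.localRingHom _ _ (f.appLE V.1 U.1 e).hom hpq (α a) := by
    intro a
    have hw := ai.hom.w
    exact congr($(hw).hom a).symm
  obtain ⟨e2⟩ := nonempty_quotient_equiv_of_arrow (f.stalkMap x).hom
    (Localization.localRingHom _ _ (f.appLE V.1 U.1 e).hom hpq) α β hαβ
  have hJ : (maximalIdeal (Localization.AtPrime (V.2.primeIdealOf ⟨f x, e hx⟩).asIdeal)).map
      (Localization.localRingHom _ _ (f.appLE V.1 U.1 e).hom hpq) =
      ((U.2.primeIdealOf ⟨x, hx⟩).asIdeal.comap (algebraMap Γ(S, V.1) Γ(X, U.1))).map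
        (algebraMap Γ(S, V.1) (Localization.AtPrime (U.2.primeIdealOf ⟨x, hx⟩).asIdeal)) := by
    rw [← Localization.AtPrime.map_eq_maximalIdeal, Ideal.map_map]
    have h1 : (Localization.localRingHom _ _ (f.appLE V.1 U.1 e).hom hpq).comp
        (algebraMap Γ(S, V.1) (Localization.AtPrime (V.2.primeIdealOf ⟨f x, e hx⟩).asIdeal)) =
        algebraMap Γ(S, V.1) (Localization.AtPrime (U.2.primeIdealOf ⟨x, hx⟩).asIdeal) := by
      ext a
      rw [RingHom.comp_apply, Localization.localRingHom_to_map,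
        IsScalarTower.algebraMap_apply Γ(S, V.1) Γ(X, U.1)
          (Localization.AtPrime (U.2.primeIdealOf ⟨x, hx⟩).asIdeal)]
      rfl
    rw [h1, hpq]
    rfl
  exact ⟨e1.symm.trans (e2.trans (Ideal.quotEquivOfEq hJ))⟩

/-- the local ring of the fibre through `x` is the localization of the fibre ring of an affine
chart at the prime over `x` -/
theorem exists_fiber_prime_equiv {X S : Scheme.{u}} (f : X ⟶ S) (U : X.affineOpens)
    (V : S.affineOpens) (e : U.1 ≤ f ⁻¹ᵁ V.1) (x : X) (hx : x ∈ U.1) :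
    letI := (f.appLE V.1 U.1 e).hom.toAlgebra
    ∃ (Q : Ideal ((V.2.primeIdealOf ⟨f x, e hx⟩).asIdeal.Fiber Γ(X, U.1))) (_ : Q.IsPrime),
      Q.comap (Algebra.TensorProduct.includeRight :
        Γ(X, U.1) →ₐ[Γ(S, V.1)] (V.2.primeIdealOf ⟨f x, e hx⟩).asIdeal.Fiber Γ(X, U.1)) =
          (U.2.primeIdealOf ⟨x, hx⟩).asIdeal ∧
      Nonempty (CInt.fiberStalk f x ≃+* Localization.AtPrime Q) := by
  letI alg : Algebra Γ(S, V.1) Γ(X, U.1) := (f.appLE V.1 U.1 e).hom.toAlgebra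
  have hpq : (V.2.primeIdealOf ⟨f x, e hx⟩).asIdeal =
      (U.2.primeIdealOf ⟨x, hx⟩).asIdeal.comap (algebraMap Γ(S, V.1) Γ(X, U.1)) :=
    congr($(IsAffineOpen.comap_primeIdealOf_appLE V.1 V.2 U.1 U.2 e hx).1).symm
  haveI : (U.2.primeIdealOf ⟨x, hx⟩).asIdeal.LiesOver (V.2.primeIdealOf ⟨f x, e hx⟩).asIdeal :=
    ⟨hpq⟩
  obtain ⟨Q, hQ, hQq⟩ := Groth.Agent.Lib.Helper29.exists_fiber_prime
    (V.2.primeIdealOf ⟨f x, e hx⟩).asIdeal (U.2.primeIdealOf ⟨x, hx⟩).asIdeal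
  obtain ⟨e1⟩ := nonempty_fiberStalk_equiv_fibLocRing f U V e x hx
  obtain ⟨e2⟩ := Groth.Agent.Lib.Helper82.FibReg.nonempty_ringEquiv_fibLocRing Γ(S, V.1) Γ(X, U.1)
    (V.2.primeIdealOf ⟨f x, e hx⟩).asIdeal Q (U.2.primeIdealOf ⟨x, hx⟩).asIdeal hQq hpq.symm
  exact ⟨Q, hQ, hQq, ⟨e1.trans e2.symm⟩⟩

end Groth.Agent.Lib.Helper10.FiberStalkChart
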