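import Mathlib
import Groth.Agent.Lib.Helper10.Fitting

/-!
# Fitting ideals: splitting results via Cramer's rule (helper10)

For a finite tuple `x : ι → M` with relation module `Rel R x ⊆ ι → R`, Cramer's rule gives, for a
square matrix `A` with at most `k` rows that are not relations and a relation `r`,
`det A • r = ∑_{i, A i ∈ Rel} det (A.updateRow i r) • A i` provided all determinants with fewer than
`k` non-relation rows vanish (`Fit_{k-1} = 0`).  Consequences:

* `exists_Psi`: for `d ∈ G R x k` an endomorphism `Ψ` of `ι → R` with values in `Rel R x` and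
  `Ψ r = d • r` on relations;
* `projective_of_G_eq_top`: `Fit_k = R`, `Fit_{k-1} = 0` imply that the module is projective;
* `rel_projective`: `Fit_k = (f)` with `f` a nonzerodivisor and `Fit_{k-1} = 0` imply that the
  relation module is projective (so the module has projective dimension `≤ 1`).
-/

set_option autoImplicit false

namespace Groth.Agent.Lib.Helper10.Fitting

open Matrix

section Split

variable {R : Type*} [CommRing R] {M : Type*} [AddCommGroup M] [Module R M]

/-- Cramer's rule in row form. -/
theorem det_smul_eq_sum_updateRow {ι : Type*} [Fintype ι] [DecidableEq ι] (A : Matrix ι ι R)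
    (r : ι → R) : A.det • r = ∑ i, (A.updateRow i r).det • A i := by
  funext j
  have h := congrFun (Matrix.mulVec_cramer Aᵀ r) j
  rw [Matrix.det_transpose] at h
  rw [← h]
  simp only [Matrix.mulVec, dotProduct, Matrix.transpose_apply, Matrix.cramer_transpose_apply,
    Finset.sum_apply, Pi.smul_apply, smul_eq_mul]
  apply Finset.sum_congr rfl
  intro i _
  ring

open Classical in
theorem nonRelCard_updateRow_of_mem {ι : Type*} [Fintype ι] [DecidableEq ι] (x : ι → M)
    (A : Matrix ι ι R) (i : ι) (r : ι → R) (hr : r ∈ Rel R x) :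
    nonRelCard x (A.updateRow i r) ≤ nonRelCard x A := by
  unfold nonRelCard
  apply Finset.card_le_card
  intro j hj
  rw [Finset.mem_filter] at hj ⊢
  refine ⟨Finset.mem_univ _, ?_⟩
  by_cases hji : j = i
  · subst hji
    exfalso
    apply hj.2
    rw [Matrix.updateRow_self]
    exact hr
  · have := hj.2
    rwa [Matrix.updateRow_ne hji] at this

open Classical in
theorem nonRelCard_updateRow_of_not_mem {ι : Type*} [Fintype ι] [DecidableEq ι] (x : ι → M)
    (A : Matrix ι ι R) (i : ι) (r : ι → R) (hr : r ∈ Rel R x) (hi : A i ∉ Rel R x) :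
    nonRelCard x (A.updateRow i r) + 1 ≤ nonRelCard x A := by
  unfold nonRelCard
  have hmem : i ∈ Finset.univ.filter (fun j => A j ∉ Rel R x) := by
    rw [Finset.mem_filter]
    exact ⟨Finset.mem_univ _, hi⟩
  rw [← Finset.card_erase_add_one hmem]
  apply Nat.add_le_add_right
  apply Finset.card_le_card
  intro j hj
  rw [Finset.mem_filter] at hj
  rw [Finset.mem_erase, Finset.mem_filter]
  by_cases hji : j = i
  · subst hji
    exfalso
    apply hj.2
    rw [Matrix.updateRow_self]
    exact hr
  · refine ⟨hji, Finset.mem_univ _, ?_⟩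
    have := hj.2
    rwa [Matrix.updateRow_ne hji] at this

open Classical in
/-- **Key formula.** -/
theorem key_formula {ι : Type*} [Fintype ι] [DecidableEq ι] (x : ι → M) (k : ℕ)
    (hbot : ∀ B : Matrix ι ι R, nonRelCard x B + 1 ≤ k → B.det = 0)
    (A : Matrix ι ι R) (hA : nonRelCard x A ≤ k) (r : ι → R) (hr : r ∈ Rel R x) :
    A.det • r = ∑ i, if A i ∈ Rel R x then (A.updateRow i r).det • A i else 0 := by
  rw [det_smul_eq_sum_updateRow]
  apply Finset.sum_congr rfl
  intro i _
  split_ifs with hi
  · rfl
  · rw [hbot (A.updateRow i r)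
      (le_trans (nonRelCard_updateRow_of_not_mem x A i r hr hi) hA), zero_smul]

/-- The determinant as a linear function of the `i`-th row. -/
noncomputable def detRowLin {ι : Type*} [Fintype ι] [DecidableEq ι] (A : Matrix ι ι R) (i : ι) :
    (ι → R) →ₗ[R] R where
  toFun v := (A.updateRow i v).det
  map_add' u v := Matrix.det_updateRow_add A i u v
  map_smul' c v := by
    rw [Matrix.det_updateRow_smul, RingHom.id_apply, smul_eq_mul]

theorem detRowLin_apply {ι : Type*} [Fintype ι] [DecidableEq ι] (A : Matrix ι ι R) (i : ι)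
    (v : ι → R) : detRowLin A i v = (A.updateRow i v).det := rfl

open Classical in
/-- The endomorphism `Ψ` attached to a family of matrices and coefficients. -/
noncomputable def Psi {ι : Type*} [Fintype ι] [DecidableEq ι] (x : ι → M) {n : ℕ}
    (a : Fin n → R) (A : Fin n → Matrix ι ι R) : (ι → R) →ₗ[R] (ι → R) :=
  ∑ t, a t • ∑ i, if A t i ∈ Rel R x then (detRowLin (A t) i).smulRight (A t i) else 0

open Classical in
theorem Psi_apply {ι : Type*} [Fintype ι] [DecidableEq ι] (x : ι → M) {n : ℕ}
    (a : Fin n → R) (A : Fin n → Matrix ι ι R) (v : ι → R) :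
    Psi x a A v = ∑ t, a t • ∑ i, if A t i ∈ Rel R x then
      ((A t).updateRow i v).det • A t i else 0 := by
  unfold Psi
  rw [LinearMap.sum_apply]
  apply Finset.sum_congr rfl
  intro t _
  rw [LinearMap.smul_apply, LinearMap.sum_apply]
  congr 1
  apply Finset.sum_congr rfl
  intro i _
  split_ifs with hi
  · rw [LinearMap.smulRight_apply, detRowLin_apply]
  · rw [LinearMap.zero_apply]

theorem Psi_mem {ι : Type*} [Fintype ι] [DecidableEq ι] (x : ι → M) {n : ℕ}
    (a : Fin n → R) (A : Fin n → Matrix ι ι R) (v : ι → R) : Psi x a A v ∈ Rel R x := by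
  classical
  rw [Psi_apply]
  apply Submodule.sum_mem
  intro t _
  apply Submodule.smul_mem
  apply Submodule.sum_mem
  intro i _
  split_ifs with hi
  · exact Submodule.smul_mem _ _ hi
  · exact Submodule.zero_mem _

theorem Psi_rel {ι : Type*} [Fintype ι] [DecidableEq ι] (x : ι → M) (k : ℕ)
    (hbot : ∀ B : Matrix ι ι R, nonRelCard x B + 1 ≤ k → B.det = 0) {n : ℕ}
    (a : Fin n → R) (A : Fin n → Matrix ι ι R) (hA : ∀ t, nonRelCard x (A t) ≤ k)
    (r : ι → R) (hr : r ∈ Rel R x) : Psi x a A r = (∑ t, a t * (A t).det) • r := by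
  classical
  rw [Psi_apply, Finset.sum_smul]
  apply Finset.sum_congr rfl
  intro t _
  rw [mul_smul, key_formula x k hbot (A t) (hA t) r hr]

/-- Decomposition of an element of `G` as a finite combination of determinants. -/
theorem exists_decomp {ι : Type*} [Fintype ι] [DecidableEq ι] (x : ι → M) (k : ℕ) (d : R)
    (hd : d ∈ G R x k) : ∃ (n : ℕ) (a : Fin n → R) (A : Fin n → Matrix ι ι R),
      (∀ t, nonRelCard x (A t) ≤ k) ∧ d = ∑ t, a t * (A t).det := by
  unfold G at hd
  rw [Ideal.span, Submodule.mem_span_set'] at hd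
  obtain ⟨n, a, g, hg⟩ := hd
  have hg' : ∀ t, ∃ A : Matrix ι ι R, nonRelCard x A ≤ k ∧ (g t : R) = A.det := fun t => (g t).2
  choose A hA1 hA2 using hg'
  refine ⟨n, a, A, hA1, ?_⟩
  rw [← hg]
  apply Finset.sum_congr rfl
  intro t _
  rw [smul_eq_mul, hA2 t]

/-- `Fit_k = R` and `Fit_{k-1} = 0` imply projectivity. -/
theorem projective_of_G_eq_top {ι : Type*} [Fintype ι] [DecidableEq ι] (x : ι → M)
    (hx : Submodule.span R (Set.range x) = ⊤) (k : ℕ)
    (hbot : ∀ B : Matrix ι ι R, nonRelCard x B + 1 ≤ k → B.det = 0) (htop : G R x k = ⊤) :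
    Module.Projective R M := by
  classical
  have h1 : (1 : R) ∈ G R x k := by rw [htop]; trivial
  obtain ⟨n, a, A, hA, hsum⟩ := exists_decomp x k 1 h1
  set ψ := Psi x a A with hψ
  let π : (ι → R) →ₗ[R] M := Fintype.linearCombination R x
  have hπ : Function.Surjective π := by
    rw [← LinearMap.range_eq_top, Fintype.range_linearCombination]
    exact hx
  have hker : LinearMap.ker π ≤ LinearMap.ker (LinearMap.id - ψ) := by
    intro r hr
    have hr' : r ∈ Rel R x := hr
    rw [LinearMap.mem_ker, LinearMap.sub_apply, LinearMap.id_apply,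
      Psi_rel x k hbot a A hA r hr', ← hsum, one_smul, sub_self]
  let θ' : ((ι → R) ⧸ LinearMap.ker π) →ₗ[R] (ι → R) :=
    (LinearMap.ker π).liftQ (LinearMap.id - ψ) hker
  let e : ((ι → R) ⧸ LinearMap.ker π) ≃ₗ[R] M := π.quotKerEquivOfSurjective hπ
  let θ : M →ₗ[R] (ι → R) := θ'.comp e.symm.toLinearMap
  have hθ : ∀ v, θ (π v) = v - ψ v := by
    intro v
    show θ' (e.symm (π v)) = _
    have : e.symm (π v) = Submodule.Quotient.mk v := by
      rw [LinearEquiv.symm_apply_eq]
      rfl
    rw [this]
    rfl
  apply Module.Projective.of_split θ π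
  apply LinearMap.ext
  intro m
  obtain ⟨v, rfl⟩ := hπ m
  rw [LinearMap.comp_apply, hθ, map_sub, LinearMap.id_apply]
  have : π (ψ v) = 0 := Psi_mem x a A v
  rw [this, sub_zero]

/-- `Fit_k = (f)` with `f` a nonzerodivisor and `Fit_{k-1} = 0` imply that the relation module is
projective. -/
theorem rel_projective {ι : Type*} [Fintype ι] [DecidableEq ι] (x : ι → M) (k : ℕ) (f : R)
    (hf : f ∈ nonZeroDivisors R)
    (hbot : ∀ B : Matrix ι ι R, nonRelCard x B + 1 ≤ k → B.det = 0)
    (hfit : G R x k = Ideal.span {f}) : Module.Projective R (Rel R x) := by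
  classical
  have h1 : f ∈ G R x k := by rw [hfit]; exact Ideal.mem_span_singleton_self f
  obtain ⟨n, a, A, hA, hsum⟩ := exists_decomp x k f h1
  -- division functionals
  have hdiv : ∀ (t : Fin n) (i : ι) (r : Rel R x), A t i ∈ Rel R x →
      ∃ c : R, c * f = ((A t).updateRow i (r : ι → R)).det := by
    intro t i r hi
    have : ((A t).updateRow i (r : ι → R)).det ∈ G R x k :=
      det_mem_G x k _ (le_trans (nonRelCard_updateRow_of_mem x (A t) i r r.2) (hA t))
    rw [hfit] at this
    exact Ideal.mem_span_singleton'.mp this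
  let lam : Fin n → ι → Rel R x → R := fun t i r =>
    if hi : A t i ∈ Rel R x then Classical.choose (hdiv t i r hi) else 0
  have hlam : ∀ t i r, A t i ∈ Rel R x →
      lam t i r * f = ((A t).updateRow i (r : ι → R)).det := by
    intro t i r hi
    simp only [lam, dif_pos hi]
    exact Classical.choose_spec (hdiv t i r hi)
  have hlam0 : ∀ t i r, A t i ∉ Rel R x → lam t i r = 0 := by
    intro t i r hi
    simp only [lam, dif_neg hi]
  have hcancel : ∀ c c' : R, c * f = c' * f → c = c' := by
    intro c c' h
    have h2 : (c - c') * f = 0 := by rw [sub_mul, h, sub_self]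
    exact sub_eq_zero.mp ((mem_nonZeroDivisors_iff.mp hf).2 _ h2)
  have hlam_add : ∀ t i r r', lam t i (r + r') = lam t i r + lam t i r' := by
    intro t i r r'
    by_cases hi : A t i ∈ Rel R x
    · apply hcancel
      rw [add_mul, hlam t i _ hi, hlam t i _ hi, hlam t i _ hi]
      exact Matrix.det_updateRow_add (A t) i r r'
    · rw [hlam0 t i _ hi, hlam0 t i _ hi, hlam0 t i _ hi, add_zero]
  have hlam_smul : ∀ t i (c : R) r, lam t i (c • r) = c * lam t i r := by
    intro t i c r
    by_cases hi : A t i ∈ Rel R x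
    · apply hcancel
      rw [mul_assoc, hlam t i _ hi, hlam t i _ hi]
      exact Matrix.det_updateRow_smul (A t) i c r
    · rw [hlam0 t i _ hi, hlam0 t i _ hi, mul_zero]
  -- the embedding into a free module and the retraction
  let incl : Rel R x →ₗ[R] (Fin n × ι → R) :=
    { toFun := fun r p => a p.1 * lam p.1 p.2 r
      map_add' := fun r r' => by
        funext p
        show a p.1 * lam p.1 p.2 (r + r') = a p.1 * lam p.1 p.2 r + a p.1 * lam p.1 p.2 r'
        rw [hlam_add, mul_add]
      map_smul' := fun c r => by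
        funext p
        show a p.1 * lam p.1 p.2 (c • r) = c * (a p.1 * lam p.1 p.2 r)
        rw [hlam_smul]
        ring }
  let gen : Fin n × ι → Rel R x := fun p =>
    if hi : A p.1 p.2 ∈ Rel R x then ⟨A p.1 p.2, hi⟩ else 0
  let retr : (Fin n × ι → R) →ₗ[R] Rel R x := Fintype.linearCombination R gen
  apply Module.Projective.of_split incl retr
  apply LinearMap.ext
  intro r
  rw [LinearMap.comp_apply, LinearMap.id_apply]
  apply Subtype.ext
  -- cancel `f`
  have hkey : f • ((retr (incl r) : Rel R x) : ι → R) = f • (r : ι → R) := by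
    have h2 := Psi_rel x k hbot a A hA r r.2
    rw [← hsum] at h2
    rw [← h2, Psi_apply]
    show f • ((Fintype.linearCombination R gen (incl r) : Rel R x) : ι → R) = _
    rw [Fintype.linearCombination_apply, Submodule.coe_sum, Finset.smul_sum,
      Fintype.sum_prod_type]
    apply Finset.sum_congr rfl
    intro t _
    rw [Finset.smul_sum]
    apply Finset.sum_congr rfl
    intro i _
    show f • (((a t * lam t i r) • gen (t, i) : Rel R x) : ι → R) = _
    by_cases hi : A t i ∈ Rel R x
    · rw [if_pos hi]
      have hg : (gen (t, i) : ι → R) = A t i := by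
        simp only [gen, dif_pos hi]
      rw [Submodule.coe_smul, hg, ← hlam t i r hi, smul_smul, smul_smul]
      congr 1
      ring
    · rw [if_neg hi, hlam0 t i r hi, mul_zero, zero_smul, Submodule.coe_zero, smul_zero, smul_zero]
  funext j
  have := congrFun hkey j
  simp only [Pi.smul_apply, smul_eq_mul] at this
  rw [mul_comm f, mul_comm f] at this
  exact hcancel _ _ this

end Split

end Groth.Agent.Lib.Helper10.Fitting
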