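import Mathlib.RingTheory.Flat.EquationalCriterion
import Mathlib.RingTheory.Ideal.Maps
import Mathlib.RingTheory.Ideal.Operations
import Mathlib.Tactic

/-!
Flat base change preserves "primary-ness" of a chain of ideals `P k` (e.g. symbolic powers) of a prime
`p` whose extension is prime.  Everything is done element-wise with the equational criterion of flatness.
-/

set_option autoImplicit false
universe u v

namespace Groth.Agent.Lib.Helper10

variable {R : Type u} {S : Type v} [CommRing R] [CommRing S] [Algebra R S]

/-- Equational criterion, relative to an ideal `P`: a relation `∑ φ(a i) x i ∈ P S` trivializes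
modulo `P`. -/
theorem exists_trivialization_of_sum_mem_map [Module.Flat R S] (P : Ideal R) {ι : Type*}
    (T : Finset ι) (a : ι → R) (x : ι → S)
    (h : ∑ i ∈ T, algebraMap R S (a i) * x i ∈ P.map (algebraMap R S)) :
    ∃ (k : ℕ) (β : ι → Fin k → R) (y : Fin k → S),
      (∀ i ∈ T, x i = ∑ l, algebraMap R S (β i l) * y l) ∧ ∀ l, ∑ i ∈ T, a i * β i l ∈ P := by
  classical
  obtain ⟨m, f, g, hfg⟩ := Submodule.mem_span_set'.mp
    (show _ ∈ Submodule.span S (algebraMap R S '' (P : Set R)) from h)
  have hg : ∀ j, ∃ c ∈ P, algebraMap R S c = (g j : S) := fun j => (g j).2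
  choose c hcP hc using hg
  let F : (↥T ⊕ Fin m) → R := Sum.elim (fun i => a i) (fun j => - c j)
  let X : (↥T ⊕ Fin m) → S := Sum.elim (fun i => x i) (fun j => f j)
  have hrel : ∑ i, F i • X i = 0 := by
    rw [Fintype.sum_sum_type]
    simp only [F, X, Sum.elim_inl, Sum.elim_inr, Algebra.smul_def, map_neg, neg_mul,
      Finset.sum_neg_distrib]
    rw [Finset.sum_coe_sort T (fun i => algebraMap R S (a i) * x i), ← hfg]
    have : ∑ j, algebraMap R S (c j) * f j = ∑ j, f j • (g j : S) := by
      apply Finset.sum_congr rfl
      intro j _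
      rw [hc j, smul_eq_mul, mul_comm]
    rw [this, add_neg_cancel]
  obtain ⟨k, A, y, hA1, hA2⟩ := Module.Flat.isTrivialRelation_of_sum_smul_eq_zero (R := R) (M := S) (f := F) (x := X) hrel
  refine ⟨k, fun i l => if hi : i ∈ T then A (Sum.inl ⟨i, hi⟩) l else 0, y, ?_, ?_⟩
  · intro i hi
    have := hA1 (Sum.inl ⟨i, hi⟩)
    simp only [X, Sum.elim_inl, Algebra.smul_def] at this
    simp only [dif_pos hi]
    exact this
  · intro l
    have h0 := hA2 l
    rw [Fintype.sum_sum_type] at h0
    simp only [F, Sum.elim_inl, Sum.elim_inr] at h0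
    have h1 : ∑ i ∈ T, a i * (if hi : i ∈ T then A (Sum.inl ⟨i, hi⟩) l else 0) =
        ∑ i : ↥T, a i * A (Sum.inl i) l := by
      rw [← Finset.sum_coe_sort T]
      apply Finset.sum_congr rfl
      intro i _
      rw [dif_pos i.2]
    rw [h1]
    have h2 : ∑ i : ↥T, a i * A (Sum.inl i) l = ∑ j, c j * A (Sum.inr j) l := by
      have : ∑ j, -c j * A (Sum.inr j) l = - ∑ j, c j * A (Sum.inr j) l := by
        rw [← Finset.sum_neg_distrib]
        apply Finset.sum_congr rfl
        intro j _
        ring
      rw [this] at h0
      linear_combination h0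
    rw [h2]
    exact P.sum_mem (fun j _ => P.mul_mem_right _ (hcP j))

/-- If `r` is a nonzerodivisor modulo `P`, then `φ r` is a nonzerodivisor modulo `P S` (flatness). -/
theorem mem_map_of_mul_mem_map_of_flat [Module.Flat R S] (P : Ideal R) (r : R)
    (hP : ∀ x, r * x ∈ P → x ∈ P) (s : S)
    (h : algebraMap R S r * s ∈ P.map (algebraMap R S)) : s ∈ P.map (algebraMap R S) := by
  have h' : ∑ i ∈ (Finset.univ : Finset Unit), algebraMap R S ((fun _ => r) i) * (fun _ => s) i ∈
      P.map (algebraMap R S) := by
    simpa using h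
  obtain ⟨k, β, y, h1, h2⟩ := exists_trivialization_of_sum_mem_map P Finset.univ (fun _ => r)
    (fun _ => s) h'
  have hs : s = ∑ l, algebraMap R S (β () l) * y l := h1 () (Finset.mem_univ _)
  rw [hs]
  refine Ideal.sum_mem _ fun l _ => Ideal.mul_mem_right _ _ (Ideal.mem_map_of_mem _ ?_)
  have := h2 l
  simp only [Finset.univ_unique, Finset.sum_singleton] at this
  exact hP _ this

/-- **Flat base change of a primary filtration.** -/
theorem primary_map_of_flat [Module.Flat R S] (p : Ideal R)
    (hq : (p.map (algebraMap R S)).IsPrime) (P : ℕ → Ideal R) (hP0 : P 0 = ⊤)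
    (hPprim : ∀ k r x, r ∉ p → r * x ∈ P k → x ∈ P k)
    (hPmul : ∀ k, p * P k ≤ P (k + 1)) (hPanti : ∀ k, P (k + 1) ≤ P k) :
    ∀ (k : ℕ) (t s : S), t ∉ p.map (algebraMap R S) →
      t * s ∈ (P k).map (algebraMap R S) → s ∈ (P k).map (algebraMap R S) := by
  classical
  set φ := algebraMap R S with hφ
  intro k
  induction k with
  | zero =>
    intro t s _ _
    rw [hP0, Ideal.map_top]; trivial
  | succ k ih =>
    intro t s ht hts
    -- inner induction
    have inner : ∀ (n : ℕ) (T : Finset ℕ), T.card = n → ∀ (a : ℕ → R) (x : ℕ → S),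
        (∀ i ∈ T, a i ∈ P k) → t * ∑ i ∈ T, φ (a i) * x i ∈ (P (k + 1)).map φ →
        ∑ i ∈ T, φ (a i) * x i ∈ (P (k + 1)).map φ := by
      intro n
      induction n with
      | zero =>
        intro T hT a x _ _
        rw [Finset.card_eq_zero.mp hT, Finset.sum_empty]
        exact Ideal.zero_mem _
      | succ n ihn =>
        intro T hT a x ha hmem
        have hmem' : ∑ i ∈ T, φ (a i) * (t * x i) ∈ (P (k + 1)).map φ := by
          have : ∑ i ∈ T, φ (a i) * (t * x i) = t * ∑ i ∈ T, φ (a i) * x i := by
            rw [Finset.mul_sum]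
            apply Finset.sum_congr rfl
            intro i _; ring
          rw [this]; exact hmem
        obtain ⟨k', β, y, hβ1, hβ2⟩ :=
          exists_trivialization_of_sum_mem_map (P (k + 1)) T a (fun i => t * x i) hmem'
        by_cases hall : ∀ i ∈ T, ∀ l, β i l ∈ p
        · -- all coefficients in `p`
          refine Ideal.sum_mem _ fun i hi => ?_
          have h1 : t * x i ∈ p.map φ := by
            rw [hβ1 i hi]
            exact Ideal.sum_mem _ fun l _ =>
              Ideal.mul_mem_right _ _ (Ideal.mem_map_of_mem _ (hall i hi l))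
          have h2 : x i ∈ p.map φ := (hq.mem_or_mem h1).resolve_left ht
          have h3 : φ (a i) * x i ∈ (P k).map φ * p.map φ :=
            Ideal.mul_mem_mul (Ideal.mem_map_of_mem _ (ha i hi)) h2
          rw [← Ideal.map_mul, mul_comm] at h3
          exact Ideal.map_mono (hPmul k) h3
        · -- some coefficient is not in `p`
          simp only [not_forall] at hall
          obtain ⟨i₀, hi₀, l₀, hr⟩ := hall
          set r := β i₀ l₀ with hrdef
          set e := ∑ i ∈ T, a i * β i l₀ with hedef
          have he : e ∈ P (k + 1) := hβ2 l₀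
          let x' : ℕ → S := fun i => φ r * x i - φ (β i l₀) * x i₀
          have hstar : φ r * ∑ i ∈ T, φ (a i) * x i =
              ∑ i ∈ T.erase i₀, φ (a i) * x' i + φ e * x i₀ := by
            have e1 : ∑ i ∈ T, φ (a i) * x i =
                φ (a i₀) * x i₀ + ∑ i ∈ T.erase i₀, φ (a i) * x i :=
              (Finset.add_sum_erase T (fun i => φ (a i) * x i) hi₀).symm
            have e2 : φ e = φ (a i₀) * φ r + ∑ i ∈ T.erase i₀, φ (a i) * φ (β i l₀) := by
              rw [hedef, ← Finset.add_sum_erase T (fun i => a i * β i l₀) hi₀, map_add, map_mul,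
                map_sum]
              simp only [map_mul]
              rfl
            have e3 : ∑ i ∈ T.erase i₀, φ (a i) * x' i =
                φ r * ∑ i ∈ T.erase i₀, φ (a i) * x i -
                  (∑ i ∈ T.erase i₀, φ (a i) * φ (β i l₀)) * x i₀ := by
              rw [Finset.mul_sum, Finset.sum_mul, ← Finset.sum_sub_distrib]
              apply Finset.sum_congr rfl
              intro i _
              simp only [x']; ring
            rw [e1, e2, e3]; ring
          have hcard : (T.erase i₀).card = n := by
            rw [Finset.card_erase_of_mem hi₀, hT]; rfl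
          have ha' : ∀ i ∈ T.erase i₀, a i ∈ P k := fun i hi => ha i (Finset.mem_of_mem_erase hi)
          have hmem'' : t * ∑ i ∈ T.erase i₀, φ (a i) * x' i ∈ (P (k + 1)).map φ := by
            have : t * ∑ i ∈ T.erase i₀, φ (a i) * x' i =
                φ r * (t * ∑ i ∈ T, φ (a i) * x i) - t * x i₀ * φ e := by
              have := congrArg (t * ·) hstar
              linear_combination -this
            rw [this]
            exact Ideal.sub_mem _ (Ideal.mul_mem_left _ _ hmem)
              (Ideal.mul_mem_left _ _ (Ideal.mem_map_of_mem _ he))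
          have h5 := ihn (T.erase i₀) hcard a x' ha' hmem''
          have h6 : φ r * ∑ i ∈ T, φ (a i) * x i ∈ (P (k + 1)).map φ := by
            rw [hstar]
            exact Ideal.add_mem _ h5 (Ideal.mul_mem_right _ _ (Ideal.mem_map_of_mem _ he))
          exact mem_map_of_mul_mem_map_of_flat (P (k + 1)) r
            (fun z hz => hPprim (k + 1) r z hr hz) _ h6
    -- use the inner statement
    have hs : s ∈ (P k).map φ := ih t s ht (Ideal.map_mono (hPanti k) hts)
    obtain ⟨n, f, g, hfg⟩ := Submodule.mem_span_set'.mp
      (show s ∈ Submodule.span S (φ '' (P k : Set R)) from hs)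
    have hg : ∀ j, ∃ c ∈ P k, φ c = (g j : S) := fun j => (g j).2
    choose c hcP hc using hg
    let a : ℕ → R := fun i => if hi : i < n then c ⟨i, hi⟩ else 0
    let x : ℕ → S := fun i => if hi : i < n then f ⟨i, hi⟩ else 0
    have hsum : ∑ i ∈ Finset.range n, φ (a i) * x i = s := by
      rw [← hfg, Finset.sum_range]
      apply Finset.sum_congr rfl
      intro i _
      simp only [a, x, dif_pos i.2, Fin.eta, smul_eq_mul]
      rw [hc i, mul_comm]
    have ha : ∀ i ∈ Finset.range n, a i ∈ P k := by
      intro i hi
      have hi' : i < n := Finset.mem_range.mp hi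
      simp only [a, dif_pos hi']
      exact hcP _
    have := inner n (Finset.range n) (Finset.card_range n) a x ha (by rw [hsum]; exact hts)
    rw [hsum] at this
    exact this

end Groth.Agent.Lib.Helper10
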