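import Groth.Agent.Lib.Helper10.FtdRetract
import Mathlib.Algebra.Polynomial.Module.TensorProduct
import Mathlib.Algebra.MvPolynomial.Equiv

/-!
# Finite tor dimension over polynomial rings (helper10)

`M` a module over `Q[X]` (resp. `MvPolynomial (Fin n) Q`) of finite tor dimension over `Q` has finite
tor dimension over the polynomial ring (characteristic sequence
`0 → Q[X] ⊗ M → Q[X] ⊗ M → M → 0`).
-/

set_option autoImplicit false
set_option linter.unusedSectionVars false
universe u
open CategoryTheory CategoryTheory.Limits TensorProduct Polynomial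

namespace Groth.Agent.Lib.Helper10.FtdSm

section OneVar

variable {Q : Type u} [CommRing Q] (M : Type u) [AddCommGroup M] [Module Q M] [Module Q[X] M]
  [IsScalarTower Q Q[X] M]

/-- the action of `X ^ k`, `Q`-linear -/
noncomputable abbrev xact (k : ℕ) : M →ₗ[Q] M := Algebra.lsmul Q Q M ((X : Q[X]) ^ k)

theorem xact_apply (k : ℕ) (m : M) : (xact M k : M →ₗ[Q] M) m = ((X : Q[X]) ^ k) • m := rfl

noncomputable def charMu : Q[X] ⊗[Q] M →ₗ[Q[X]] M :=
  (LinearMap.id (R := Q) (M := M)).liftBaseChange Q[X]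

theorem charMu_tmul (p : Q[X]) (m : M) : charMu M (p ⊗ₜ[Q] m) = p • m := rfl

noncomputable def charPsi : Q[X] ⊗[Q] M →ₗ[Q[X]] Q[X] ⊗[Q] M :=
  (X : Q[X]) • LinearMap.id - LinearMap.baseChange Q[X] (xact M 1)

theorem charPsi_tmul (p : Q[X]) (m : M) :
    charPsi M (p ⊗ₜ[Q] m) = (X * p) ⊗ₜ[Q] m - p ⊗ₜ[Q] ((X : Q[X]) • m) := by
  simp [charPsi, xact, TensorProduct.smul_tmul']

noncomputable def charSigma : M →ₗ[Q] Q[X] ⊗[Q] M := TensorProduct.mk Q Q[X] M 1

noncomputable def tauK (k : ℕ) : M →ₗ[Q] Q[X] ⊗[Q] M :=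
  ∑ i ∈ Finset.range k, (TensorProduct.mk Q Q[X] M (X ^ i)).comp (xact M (k - 1 - i))

theorem tauK_apply (k : ℕ) (m : M) :
    tauK M k m = ∑ i ∈ Finset.range k, ((X : Q[X]) ^ i) ⊗ₜ[Q] (((X : Q[X]) ^ (k - 1 - i)) • m) := by
  rw [tauK, LinearMap.sum_apply]
  exact Finset.sum_congr rfl (fun i _ => rfl)

noncomputable def charTau : Q[X] ⊗[Q] M →ₗ[Q] Q[X] ⊗[Q] M :=
  TensorProduct.lift (Polynomial.lsum
    (fun k => LinearMap.toSpanSingleton Q (M →ₗ[Q] Q[X] ⊗[Q] M) (tauK M k)))

theorem charTau_pow_tmul (k : ℕ) (m : M) :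
    charTau M (((X : Q[X]) ^ k) ⊗ₜ[Q] m) =
      ∑ i ∈ Finset.range k, ((X : Q[X]) ^ i) ⊗ₜ[Q] (((X : Q[X]) ^ (k - 1 - i)) • m) := by
  rw [charTau, TensorProduct.lift.tmul, Polynomial.lsum_apply, X_pow_eq_monomial,
    Polynomial.sum_monomial_index _ _ (by simp), LinearMap.toSpanSingleton_apply, one_smul,
    tauK_apply]

variable {M} in
theorem ext_pow {N' : Type*} [AddCommGroup N'] [Module Q N'] (g h : Q[X] ⊗[Q] M →ₗ[Q] N')
    (H : ∀ k m, g (((X : Q[X]) ^ k) ⊗ₜ[Q] m) = h (((X : Q[X]) ^ k) ⊗ₜ[Q] m)) : g = h := by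
  apply TensorProduct.ext'
  intro p m
  induction p using Polynomial.induction_on' with
  | add p q hp hq => rw [TensorProduct.add_tmul, map_add, map_add, hp, hq]
  | monomial n a =>
    rw [← Polynomial.smul_X_eq_monomial, ← TensorProduct.smul_tmul', map_smul, map_smul, H]

theorem psi_tau_add (x : Q[X] ⊗[Q] M) :
    charPsi M (charTau M x) + charSigma M (charMu M x) = x := by
  have : ((charPsi M).restrictScalars Q).comp (charTau M) +
      (charSigma M).comp ((charMu M).restrictScalars Q) = LinearMap.id := by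
    apply ext_pow
    intro k m
    simp only [LinearMap.add_apply, LinearMap.comp_apply, LinearMap.restrictScalars_apply,
      LinearMap.id_apply, charTau_pow_tmul, map_sum, charPsi_tmul, charMu_tmul, charSigma,
      TensorProduct.mk_apply]
    have hterm : ∀ i ∈ Finset.range k,
        ((X : Q[X]) * X ^ i) ⊗ₜ[Q] (((X : Q[X]) ^ (k - 1 - i)) • m) -
          ((X : Q[X]) ^ i) ⊗ₜ[Q] ((X : Q[X]) • ((X : Q[X]) ^ (k - 1 - i)) • m) =
        (fun j => ((X : Q[X]) ^ j) ⊗ₜ[Q] (((X : Q[X]) ^ (k - j)) • m)) (i + 1) -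
          (fun j => ((X : Q[X]) ^ j) ⊗ₜ[Q] (((X : Q[X]) ^ (k - j)) • m)) i := by
      intro i hi
      have hi' : i < k := Finset.mem_range.1 hi
      have e1 : k - (i + 1) = k - 1 - i := by omega
      have e2 : k - i = (k - 1 - i) + 1 := by omega
      simp only [e1]
      rw [e2, pow_succ' (X : Q[X]) (k - 1 - i), mul_smul, pow_succ' (X : Q[X]) i]
    rw [Finset.sum_congr rfl hterm]
    have hs := Finset.sum_range_sub (fun j => ((X : Q[X]) ^ j) ⊗ₜ[Q] (((X : Q[X]) ^ (k - j)) • m)) k
    rw [hs]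
    simp
  exact LinearMap.congr_fun this x

theorem tau_psi (x : Q[X] ⊗[Q] M) : charTau M (charPsi M x) = x := by
  have : (charTau M).comp ((charPsi M).restrictScalars Q) = LinearMap.id := by
    apply ext_pow
    intro k m
    simp only [LinearMap.comp_apply, LinearMap.restrictScalars_apply, LinearMap.id_apply,
      charPsi_tmul, map_sub]
    rw [← pow_succ', charTau_pow_tmul, charTau_pow_tmul, Finset.sum_range_succ]
    have hterm : ∀ i ∈ Finset.range k,
        ((X : Q[X]) ^ i) ⊗ₜ[Q] (((X : Q[X]) ^ (k + 1 - 1 - i)) • m) =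
        ((X : Q[X]) ^ i) ⊗ₜ[Q] (((X : Q[X]) ^ (k - 1 - i)) • ((X : Q[X]) • m)) := by
      intro i hi
      have hi' : i < k := Finset.mem_range.1 hi
      have e2 : k + 1 - 1 - i = (k - 1 - i) + 1 := by omega
      rw [e2, pow_succ, mul_smul]
    rw [Finset.sum_congr rfl hterm]
    simp
  exact LinearMap.congr_fun this x

theorem mu_psi (x : Q[X] ⊗[Q] M) : charMu M (charPsi M x) = 0 := by
  induction x using TensorProduct.induction_on with
  | zero => simp
  | tmul p m => rw [charPsi_tmul, map_sub, charMu_tmul, charMu_tmul, mul_smul, smul_comm, sub_self]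
  | add x y hx hy => rw [map_add, map_add, hx, hy, add_zero]

theorem mu_sigma (m : M) : charMu (Q := Q) M (charSigma M m) = m := by
  simp [charSigma, charMu_tmul]

/-- **One variable**: finite tor dimension over `Q` implies finite tor dimension over `Q[X]`. -/
theorem ftd_polynomial (h : DRing.HasFiniteTorDim Q M) : DRing.HasFiniteTorDim Q[X] M := by
  have hbc := ftd_baseChange (Y := Q[X]) M h
  refine ftd_of_shortExact (charPsi M) (charMu M) ?_ ?_ ?_ hbc hbc
  · intro x y hxy
    rw [← tau_psi M x, ← tau_psi M y, hxy]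
  · intro x
    constructor
    · intro hx
      refine ⟨charTau M x, ?_⟩
      have := psi_tau_add M x
      rw [hx, map_zero, add_zero] at this
      exact this
    · rintro ⟨y, rfl⟩
      exact mu_psi M y
  · intro m
    exact ⟨charSigma M m, mu_sigma M m⟩

end OneVar

section Epi

variable {X Y : Type u} [CommRing X] [CommRing Y] [Algebra X Y]
variable (M : Type u) [AddCommGroup M] [Module X M] [Module Y M] [IsScalarTower X Y M]

theorem ftd_of_epi [Module.Flat X Y] (hepi : ∀ y : Y, y ⊗ₜ[X] (1 : Y) = (1 : Y) ⊗ₜ[X] y)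
    (h : DRing.HasFiniteTorDim X M) : DRing.HasFiniteTorDim Y M :=
  ftd_of_diag M 1 (fun y => by rw [mul_one, mul_one, hepi]) (map_one _) h

theorem ftd_of_bijective (hb : Function.Bijective (algebraMap X Y))
    (h : DRing.HasFiniteTorDim X M) : DRing.HasFiniteTorDim Y M := by
  haveI : Module.Flat X Y :=
    Module.Flat.of_linearEquiv (LinearEquiv.ofBijective (Algebra.linearMap X Y) hb).symm
  refine ftd_of_epi M (fun y => ?_) h
  obtain ⟨x, rfl⟩ := hb.2 y
  rw [Algebra.algebraMap_eq_smul_one, TensorProduct.smul_tmul]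

theorem ftd_of_isLocalization (S : Submonoid X) [IsLocalization S Y]
    (h : DRing.HasFiniteTorDim X M) : DRing.HasFiniteTorDim Y M := by
  haveI : Module.Flat X Y := IsLocalization.flat Y S
  refine ftd_of_epi M (fun y => ?_) h
  obtain ⟨x, s, rfl⟩ := IsLocalization.exists_mk'_eq S y
  have h1 : algebraMap X Y s * IsLocalization.mk' Y (1 : X) s = 1 := by
    rw [IsLocalization.mk'_spec', map_one]
  have h2 : algebraMap X Y x * IsLocalization.mk' Y (1 : X) s = IsLocalization.mk' Y x s := by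
    rw [IsLocalization.mul_mk'_eq_mk'_of_mul, mul_one]
  have h3 : algebraMap X Y s * IsLocalization.mk' Y x s = algebraMap X Y x :=
    IsLocalization.mk'_spec' Y x s
  calc IsLocalization.mk' Y x s ⊗ₜ[X] (1 : Y)
      = IsLocalization.mk' Y x s ⊗ₜ[X] ((s : X) • IsLocalization.mk' Y (1 : X) s) := by
        rw [Algebra.smul_def, h1]
    _ = ((s : X) • IsLocalization.mk' Y x s) ⊗ₜ[X] IsLocalization.mk' Y (1 : X) s := by
        rw [TensorProduct.smul_tmul]
    _ = (x • (1 : Y)) ⊗ₜ[X] IsLocalization.mk' Y (1 : X) s := by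
        rw [Algebra.smul_def, h3, Algebra.algebraMap_eq_smul_one]
    _ = (1 : Y) ⊗ₜ[X] (x • IsLocalization.mk' Y (1 : X) s) := by
        rw [TensorProduct.smul_tmul]
    _ = (1 : Y) ⊗ₜ[X] IsLocalization.mk' Y x s := by
        rw [Algebra.smul_def, h2]

theorem ftd_of_etale [Algebra.Etale X Y]
    (h : DRing.HasFiniteTorDim X M) : DRing.HasFiniteTorDim Y M :=
  ftd_of_diag M (Algebra.FormallyUnramified.elem X Y)
    (fun y => (Algebra.FormallyUnramified.one_tmul_mul_elem y).symm)
    Algebra.FormallyUnramified.lmul_elem h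

end Epi

section MvPoly

/-- **Several variables**. -/
theorem ftd_mvPolynomial : ∀ (n : ℕ) (X : Type u) [CommRing X] (M : Type u) [AddCommGroup M]
    [Module X M] [Module (MvPolynomial (Fin n) X) M] [IsScalarTower X (MvPolynomial (Fin n) X) M],
    DRing.HasFiniteTorDim X M → DRing.HasFiniteTorDim (MvPolynomial (Fin n) X) M := by
  intro n
  induction n with
  | zero =>
    intro X _ M _ _ _ _ h
    exact ftd_of_bijective M ⟨MvPolynomial.C_injective _ _, MvPolynomial.C_surjective _⟩ h
  | succ n ih =>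
    intro X _ M _ _ _ _ h
    let e : MvPolynomial (Fin (n + 1)) X ≃ₐ[X] (MvPolynomial (Fin n) X)[X] :=
      MvPolynomial.finSuccEquiv X n
    letI : Algebra (MvPolynomial (Fin n) X)[X] (MvPolynomial (Fin (n + 1)) X) :=
      (e.symm : (MvPolynomial (Fin n) X)[X] →+* MvPolynomial (Fin (n + 1)) X).toAlgebra
    letI : Module (MvPolynomial (Fin n) X)[X] M :=
      Module.compHom M (e.symm : (MvPolynomial (Fin n) X)[X] →+* MvPolynomial (Fin (n + 1)) X)
    haveI : IsScalarTower (MvPolynomial (Fin n) X)[X] (MvPolynomial (Fin (n + 1)) X) M :=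
      ⟨fun a b m => by
        change (e.symm a * b) • m = e.symm a • (b • m)
        rw [mul_smul]⟩
    letI : Module (MvPolynomial (Fin n) X) M :=
      Module.compHom M (Polynomial.C : MvPolynomial (Fin n) X →+* (MvPolynomial (Fin n) X)[X])
    haveI : IsScalarTower (MvPolynomial (Fin n) X) (MvPolynomial (Fin n) X)[X] M :=
      ⟨fun a b m => by
        change (e.symm (a • b)) • m = e.symm (Polynomial.C a) • (e.symm b • m)
        rw [Polynomial.smul_eq_C_mul, map_mul, mul_smul]⟩
    haveI : IsScalarTower X (MvPolynomial (Fin n) X) M :=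
      ⟨fun x a m => by
        change e.symm (Polynomial.C (x • a)) • m = x • (e.symm (Polynomial.C a) • m)
        rw [← smul_assoc, ← map_smul, ← Polynomial.smul_C]⟩
    have h1 : DRing.HasFiniteTorDim (MvPolynomial (Fin n) X) M := ih X M h
    have h2 : DRing.HasFiniteTorDim (MvPolynomial (Fin n) X)[X] M := ftd_polynomial M h1
    exact ftd_of_bijective M e.symm.bijective h2

end MvPoly

end Groth.Agent.Lib.Helper10.FtdSm
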