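import Groth.Agent.Lib.Helper35.FTD

/-!
# Finite tor dimension: retracts, flat base change, descent along maps with a diagonal idempotent
(helper10)
-/

set_option autoImplicit false
set_option linter.unusedSectionVars false
universe u
open CategoryTheory CategoryTheory.Limits TensorProduct
attribute [local instance] HasDerivedCategory.standard

namespace Groth.Agent.Lib.Helper10.FtdSm

open Groth.Agent.Lib.Helper35.TA Groth.Agent.Lib.Helper35.FlatBC Groth.Agent.Lib.Helper35.FTD

section Retract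

variable {Y : Type u} [CommRing Y]

theorem TD_of_retract {M N : ModuleCat.{u} Y} (i : M ⟶ N) (r : N ⟶ M) (h : i ≫ r = 𝟙 M) (n : ℕ)
    (hN : TD n N) : TD n M := by
  intro N' p hp
  have hz := hN N' p hp
  rw [IsZero.iff_id_eq_zero]
  have : 𝟙 (TorZ p M N') = ((Tor (ModuleCat.{u} Y) p).map i).app N' ≫
      ((Tor (ModuleCat.{u} Y) p).map r).app N' := by
    rw [← NatTrans.comp_app, ← CategoryTheory.Functor.map_comp, h, CategoryTheory.Functor.map_id]; rfl
  rw [this, hz.eq_of_tgt (((Tor (ModuleCat.{u} Y) p).map i).app N') 0, zero_comp]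

theorem ftd_of_retract {M N : Type u} [AddCommGroup M] [Module Y M] [AddCommGroup N] [Module Y N]
    (i : M →ₗ[Y] N) (r : N →ₗ[Y] M) (h : ∀ m, r (i m) = m) (hN : DRing.HasFiniteTorDim Y N) :
    DRing.HasFiniteTorDim Y M := by
  obtain ⟨n, hn⟩ := hN
  refine ⟨n, (hasTorDimLE_iff_TD n M).2 (TD_of_retract (ModuleCat.ofHom i) (ModuleCat.ofHom r) ?_ n
    ((hasTorDimLE_iff_TD n N).1 hn))⟩
  ext x
  exact h x

/-- Extension: `0 → N₁ → N₂ → M → 0` with `N₁, N₂` of finite tor dimension. -/
theorem TD_of_shortExact (S : ShortComplex (ModuleCat.{u} Y)) (hS : S.ShortExact) (d : ℕ)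
    (h1 : TD d S.X₁) (h2 : TD (d + 1) S.X₂) : TD (d + 1) S.X₃ := by
  intro N p hp
  obtain ⟨q, rfl⟩ : ∃ q, p = q + 1 := ⟨p - 1, by omega⟩
  obtain ⟨-, δ, w₁, w₂, e₁, -⟩ := Groth.Agent.Lib.Helper73.tor_les_first hS N q
  have hz2 : IsZero (TorZ (q + 1) S.X₂ N) := h2 N (q + 1) hp
  have hz1 : IsZero (TorZ q S.X₁ N) := h1 N q (by omega)
  exact e₁.isZero_of_both_zeros (hz2.eq_of_src _ _) (hz1.eq_of_tgt _ _)

theorem ftd_of_shortExact {N₁ N₂ M : Type u} [AddCommGroup N₁] [Module Y N₁] [AddCommGroup N₂]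
    [Module Y N₂] [AddCommGroup M] [Module Y M] (f : N₁ →ₗ[Y] N₂) (g : N₂ →ₗ[Y] M)
    (hf : Function.Injective f) (hfg : Function.Exact f g) (hg : Function.Surjective g)
    (h1 : DRing.HasFiniteTorDim Y N₁) (h2 : DRing.HasFiniteTorDim Y N₂) :
    DRing.HasFiniteTorDim Y M := by
  obtain ⟨n1, hn1⟩ := h1
  obtain ⟨n2, hn2⟩ := h2
  have hn1' : TD (max n1 n2) (ModuleCat.of Y N₁) := fun N p hp =>
    (hasTorDimLE_iff_TD n1 N₁).1 hn1 N p (lt_of_le_of_lt (le_max_left _ _) hp)
  have hn2' : TD (max n1 n2 + 1) (ModuleCat.of Y N₂) := fun N p hp =>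
    (hasTorDimLE_iff_TD n2 N₂).1 hn2 N p (by have := le_max_right n1 n2; omega)
  let S : ShortComplex (ModuleCat.{u} Y) :=
    ShortComplex.mk (ModuleCat.ofHom f) (ModuleCat.ofHom g) (by
      ext x; exact hfg.apply_apply_eq_zero x)
  have hS : S.ShortExact := by
    refine ShortComplex.ShortExact.mk' ?_ ?_ ?_
    · rw [ShortComplex.ShortExact.moduleCat_exact_iff_function_exact] 
      exact hfg
    · exact (ModuleCat.mono_iff_injective _).2 hf
    · exact (ModuleCat.epi_iff_surjective _).2 hg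
  exact ⟨max n1 n2 + 1, (hasTorDimLE_iff_TD _ M).2 (TD_of_shortExact S hS _ hn1' hn2')⟩

end Retract

section BaseChange

variable {X Y : Type u} [CommRing X] [CommRing Y] [Algebra X Y]

theorem ftd_baseChange [Module.Flat X Y] (M : Type u) [AddCommGroup M] [Module X M]
    (h : DRing.HasFiniteTorDim X M) : DRing.HasFiniteTorDim Y (Y ⊗[X] M) := by
  rw [hasFiniteTorDim_iff] at h ⊢
  obtain ⟨n, hn⟩ := h
  exact ⟨n, TAmp.of_iso (hasTorAmplitudeIn_G Y _ _ _ hn) (GInDIso Y M)⟩

variable (M : Type u) [AddCommGroup M] [Module X M] [Module Y M] [IsScalarTower X Y M]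

/-- `a ⊗ b ↦ (m ↦ a ⊗ b • m)`. -/
noncomputable def diagAct : Y ⊗[X] Y →ₗ[X] (M →ₗ[X] Y ⊗[X] M) :=
  TensorProduct.lift (LinearMap.mk₂ X
    (fun a b => (TensorProduct.mk X Y M a).comp ((Algebra.lsmul X X M b : M →ₗ[X] M)))
    (fun a a' b => by ext m; simp [TensorProduct.add_tmul])
    (fun c a b => by ext m; simp [TensorProduct.smul_tmul'])
    (fun a b b' => by ext m; simp [add_smul, TensorProduct.tmul_add])
    (fun c a b => by ext m; simp [TensorProduct.tmul_smul]))

@[simp] theorem diagAct_tmul (a b : Y) (m : M) : diagAct M (a ⊗ₜ[X] b) m = a ⊗ₜ[X] (b • m) := by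
  simp [diagAct]

theorem diagAct_smul_right (s : Y ⊗[X] Y) (y : Y) (m : M) :
    diagAct M s (y • m) = diagAct M (((1 : Y) ⊗ₜ[X] y) * s) m := by
  induction s using TensorProduct.induction_on with
  | zero => simp
  | tmul a b =>
    rw [Algebra.TensorProduct.tmul_mul_tmul, diagAct_tmul, diagAct_tmul, one_mul, mul_smul,
      smul_comm]
  | add s s' hs hs' => rw [map_add, LinearMap.add_apply, hs, hs', mul_add, map_add,
      LinearMap.add_apply]

theorem diagAct_smul_left (s : Y ⊗[X] Y) (y : Y) (m : M) :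
    y • diagAct M s m = diagAct M ((y ⊗ₜ[X] (1 : Y)) * s) m := by
  induction s using TensorProduct.induction_on with
  | zero => simp
  | tmul a b =>
    rw [Algebra.TensorProduct.tmul_mul_tmul, diagAct_tmul, diagAct_tmul, one_mul,
      TensorProduct.smul_tmul', smul_eq_mul]
  | add s s' hs hs' => rw [map_add, LinearMap.add_apply, smul_add, hs, hs', mul_add, map_add,
      LinearMap.add_apply]

theorem lift_diagAct (s : Y ⊗[X] Y) (m : M) :
    (LinearMap.id (R := X) (M := M)).liftBaseChange Y (diagAct M s m) =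
      Algebra.TensorProduct.lmul' X s • m := by
  induction s using TensorProduct.induction_on with
  | zero => simp
  | tmul a b =>
    rw [diagAct_tmul, LinearMap.liftBaseChange_tmul, Algebra.TensorProduct.lmul'_apply_tmul,
      LinearMap.id_apply, mul_smul]
  | add s s' hs hs' => rw [map_add, LinearMap.add_apply, map_add, hs, hs', map_add, add_smul]

/-- Descent of finite tor dimension along a flat map with a "diagonal idempotent". -/
theorem ftd_of_diag [Module.Flat X Y] (t : Y ⊗[X] Y)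
    (ht1 : ∀ y : Y, (y ⊗ₜ[X] (1 : Y)) * t = ((1 : Y) ⊗ₜ[X] y) * t)
    (ht2 : Algebra.TensorProduct.lmul' X t = 1)
    (h : DRing.HasFiniteTorDim X M) : DRing.HasFiniteTorDim Y M := by
  have hbc := ftd_baseChange (Y := Y) M h
  let ι : M →ₗ[Y] Y ⊗[X] M :=
    { toFun := fun m => diagAct M t m
      map_add' := fun m m' => map_add _ _ _
      map_smul' := fun y m => by
        rw [RingHom.id_apply, diagAct_smul_right, diagAct_smul_left, ht1] }
  refine ftd_of_retract ι ((LinearMap.id (R := X) (M := M)).liftBaseChange Y) (fun m => ?_) hbc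
  change (LinearMap.id (R := X) (M := M)).liftBaseChange Y (diagAct M t m) = m
  rw [lift_diagAct, ht2, one_smul]

end BaseChange

end Groth.Agent.Lib.Helper10.FtdSm
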