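import Groth.Agent.Lib.Helper10.FtdPoly
import Mathlib.RingTheory.RingHom.StandardSmooth
import Mathlib.RingTheory.RingHom.Etale
import Mathlib.RingTheory.RingHom.Flat

/-!
# Finite tor dimension over a smooth algebra (helper10)

If `R₀ → A₀` is standard smooth, `R` is flat over `R₀`, `A` is a localization of `A₀` and `R → A` is
compatible, then an `A`-module of finite tor dimension over `R` has finite tor dimension over `A`.
-/

set_option autoImplicit false
set_option linter.unusedSectionVars false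
universe u
open CategoryTheory CategoryTheory.Limits TensorProduct

namespace Groth.Agent.Lib.Helper10.FtdSm

open Groth.Agent.Lib.Helper35.FTD

theorem ftd_of_smooth_loc {R₀ A₀ R A : Type u} [CommRing R₀] [CommRing A₀] [CommRing R] [CommRing A]
    (f₀ : R₀ →+* A₀) (ρ : R₀ →+* R) (α : A₀ →+* A) (g : R →+* A) (hcomm : g.comp ρ = α.comp f₀)
    (hsm : f₀.IsStandardSmooth) (hρ : ρ.Flat) (S : Submonoid A₀)
    (hα : @IsLocalization _ _ S A _ α.toAlgebra) (N : ModuleCat.{u} A)
    (h : DRing.HasFiniteTorDim R ((ModuleCat.restrictScalars g).obj N)) :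
    DRing.HasFiniteTorDim A N := by
  obtain ⟨n, e, he, het⟩ := hsm.exists_etale_mvPolynomial
  letI := ρ.toAlgebra
  letI := α.toAlgebra
  letI := g.toAlgebra
  letI := e.toAlgebra
  letI mR : Module R N := Module.compHom N g
  letI mA₀ : Module A₀ N := Module.compHom N α
  letI mP : Module (MvPolynomial (Fin n) R₀) N := Module.compHom N (α.comp e)
  letI mR₀ : Module R₀ N := Module.compHom N (α.comp f₀)
  have hgρ : ∀ r₀ : R₀, g (ρ r₀) = α (f₀ r₀) := fun r₀ => RingHom.congr_fun hcomm r₀
  have heC : ∀ r₀ : R₀, e (MvPolynomial.C r₀) = f₀ r₀ := fun r₀ => RingHom.congr_fun he r₀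
  haveI : IsScalarTower R₀ R N := ⟨fun a b m => by
    change g (ρ a * b) • m = α (f₀ a) • (g b • m)
    rw [map_mul, mul_smul, hgρ]⟩
  haveI : IsScalarTower A₀ A N := ⟨fun a b m => by
    change (α a * b) • m = α a • (b • m)
    rw [mul_smul]⟩
  haveI : IsScalarTower (MvPolynomial (Fin n) R₀) A₀ N := ⟨fun a b m => by
    change α (e a * b) • m = α (e a) • (α b • m)
    rw [map_mul, mul_smul]⟩
  haveI : IsScalarTower R₀ (MvPolynomial (Fin n) R₀) N := ⟨fun a b m => by
    change α (e (a • b)) • m = α (f₀ a) • (α (e b) • m)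
    rw [MvPolynomial.smul_eq_C_mul, map_mul, map_mul, mul_smul, heC]⟩
  haveI : Module.Flat R₀ R := hρ
  haveI : Algebra.Etale (MvPolynomial (Fin n) R₀) A₀ := het
  haveI : IsLocalization S A := hα
  have h0 : DRing.HasFiniteTorDim R N := h
  have hR₀ : DRing.HasFiniteTorDim R₀ N := comp N (of_flat R) h0
  have hP : DRing.HasFiniteTorDim (MvPolynomial (Fin n) R₀) N := ftd_mvPolynomial n R₀ N hR₀
  have hA₀ : DRing.HasFiniteTorDim A₀ N := ftd_of_etale N hP
  exact ftd_of_isLocalization N S hA₀

end Groth.Agent.Lib.Helper10.FtdSm
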