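import Mathlib.RingTheory.FinitePresentation
import Mathlib.RingTheory.Localization.Away.AdjoinRoot
import Mathlib.RingTheory.Localization.Away.Basic
import Mathlib.RingTheory.Adjoin.Basic
import Mathlib.Tactic

/-!
Generic finite presentation: for an injective finite type map of domains `R → S` there is a
nonzero `g : S` with `S_g` finitely presented over `R`.
-/

set_option autoImplicit false
universe u

namespace Groth.Agent.Lib.Helper10

open Polynomial

/-- pseudo-division by a minimal-degree nonzero element of an ideal of `A[X]` -/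
theorem exists_pow_mul_eq_mul_of_min_degree {A : Type u} [CommRing A] [IsDomain A]
    (I : Ideal A[X]) (P : A[X]) (hPI : P ∈ I) (hP0 : P ≠ 0)
    (hmin : ∀ Q ∈ I, Q ≠ 0 → P.natDegree ≤ Q.natDegree) :
    ∀ Q ∈ I, ∃ (m : ℕ) (Q' : A[X]), C (P.leadingCoeff ^ m) * Q = P * Q' := by
  have hc0 : P.leadingCoeff ≠ 0 := leadingCoeff_ne_zero.mpr hP0
  suffices H : ∀ (n : ℕ) (Q : A[X]), Q.natDegree = n → Q ∈ I →
      ∃ (m : ℕ) (Q' : A[X]), C (P.leadingCoeff ^ m) * Q = P * Q' from
    fun Q hQ => H Q.natDegree Q rfl hQ
  intro n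
  induction n using Nat.strong_induction_on with
  | _ n ih =>
    intro Q hn hQI
    by_cases hQ0 : Q = 0
    · exact ⟨0, 0, by simp [hQ0]⟩
    have hle := hmin Q hQI hQ0
    set c := P.leadingCoeff with hc
    set k := Q.natDegree - P.natDegree with hk
    set p₁ := C c * Q with hp₁
    set p₂ := C Q.leadingCoeff * X ^ k * P with hp₂
    have hlcQ : Q.leadingCoeff ≠ 0 := leadingCoeff_ne_zero.mpr hQ0
    have hp₁0 : p₁ ≠ 0 := mul_ne_zero (C_ne_zero.mpr hc0) hQ0
    have hp₂0 : p₂ ≠ 0 := mul_ne_zero (mul_ne_zero (C_ne_zero.mpr hlcQ) (pow_ne_zero _ X_ne_zero)) hP0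
    have hnd₁ : p₁.natDegree = Q.natDegree := natDegree_C_mul hc0
    have hnd₂ : p₂.natDegree = Q.natDegree := by
      rw [hp₂, natDegree_mul (mul_ne_zero (C_ne_zero.mpr hlcQ) (pow_ne_zero _ X_ne_zero)) hP0,
        natDegree_C_mul hlcQ, natDegree_X_pow, hk]
      omega
    have hdeg : p₁.degree = p₂.degree := by
      rw [degree_eq_natDegree hp₁0, degree_eq_natDegree hp₂0, hnd₁, hnd₂]
    have hlc : p₁.leadingCoeff = p₂.leadingCoeff := by
      rw [hp₁, hp₂, leadingCoeff_mul, leadingCoeff_mul, leadingCoeff_mul, leadingCoeff_C,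
        leadingCoeff_C, leadingCoeff_X_pow, mul_one, mul_comm]
    have hlt := degree_sub_lt_left hdeg hp₁0 hlc
    set Q₁ := p₁ - p₂ with hQ₁
    have hQ₁I : Q₁ ∈ I := I.sub_mem (I.mul_mem_left _ hQI) (I.mul_mem_left _ hPI)
    by_cases hQ₁0 : Q₁ = 0
    · refine ⟨1, C Q.leadingCoeff * X ^ k, ?_⟩
      rw [pow_one]
      have : p₁ = p₂ := sub_eq_zero.mp hQ₁0
      rw [hp₁, hp₂] at this
      rw [this]; ring
    · have hnlt : Q₁.natDegree < n := by
        rw [← hn, ← hnd₁]
        exact natDegree_lt_natDegree hQ₁0 hlt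
      obtain ⟨m, Q', hm⟩ := ih Q₁.natDegree hnlt Q₁ rfl hQ₁I
      refine ⟨m + 1, Q' + C (c ^ m) * (C Q.leadingCoeff * X ^ k), ?_⟩
      have : C (c ^ (m + 1)) * Q = C (c ^ m) * Q₁ + C (c ^ m) * p₂ := by
        rw [hQ₁, hp₁, pow_succ, C_mul]; ring
      rw [this, hm, hp₂]; ring

/-- one-variable case of generic finite presentation -/
theorem exists_fp_away_of_adjoin_singleton {A B : Type u} [CommRing A] [IsDomain A] [CommRing B]
    [IsDomain B] [Algebra A B] (hinj : Function.Injective (algebraMap A B)) (b : B)
    (hb : Algebra.adjoin A {b} = ⊤) :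
    ∃ c : A, c ≠ 0 ∧ Algebra.FinitePresentation A (Localization.Away (algebraMap A B c)) := by
  classical
  let π : A[X] →ₐ[A] B := Polynomial.aeval b
  have hπsurj : Function.Surjective π := by
    rw [← AlgHom.range_eq_top, ← Algebra.adjoin_singleton_eq_range_aeval, hb]
  set I := RingHom.ker π.toRingHom with hI
  by_cases hI0 : I = ⊥
  · have hbij : Function.Bijective π :=
      ⟨(RingHom.injective_iff_ker_eq_bot π.toRingHom).mpr hI0, hπsurj⟩
    haveI : Algebra.FinitePresentation A B :=
      Algebra.FinitePresentation.equiv (AlgEquiv.ofBijective π hbij)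
    exact ⟨1, one_ne_zero, inferInstance⟩
  · have hne : {P : A[X] | P ∈ I ∧ P ≠ 0}.Nonempty := by
      by_contra h
      apply hI0
      rw [eq_bot_iff]
      intro P hP
      by_contra hP0
      exact h ⟨P, hP, fun h0 => hP0 (by rw [h0]; exact Ideal.zero_mem _)⟩
    obtain ⟨P, ⟨hPI, hP0⟩, hminP⟩ :=
      WellFounded.has_min (InvImage.wf Polynomial.natDegree Nat.lt_wfRel.wf) _ hne
    have hmin : ∀ Q ∈ I, Q ≠ 0 → P.natDegree ≤ Q.natDegree :=
      fun Q hQ hQ0 => not_lt.mp (hminP Q ⟨hQ, hQ0⟩)
    set c := P.leadingCoeff with hc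
    have hc0 : c ≠ 0 := leadingCoeff_ne_zero.mpr hP0
    have hdiv := exists_pow_mul_eq_mul_of_min_degree I P hPI hP0 hmin
    refine ⟨c, hc0, ?_⟩
    have hπC : π (C c) = algebraMap A B c := by simp [π]
    haveI : IsLocalization.Away (π (C c)) (Localization.Away (algebraMap A B c)) := by
      rw [hπC]; infer_instance
    let Φ : Localization.Away (C c : A[X]) →ₐ[A] Localization.Away (algebraMap A B c) :=
      IsLocalization.Away.mapₐ _ _ π (C c)
    have hΦsurj : Function.Surjective Φ :=
      IsLocalization.Away.mapₐ_surjective_of_surjective _ hπsurj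
    have hΦalg : ∀ Q : A[X], Φ (algebraMap A[X] _ Q) = algebraMap B _ (π Q) := by
      intro Q
      simp only [Φ, IsLocalization.Away.mapₐ_apply, IsLocalization.Away.map, IsLocalization.map_eq]
      rfl
    apply Algebra.FinitePresentation.of_surjective hΦsurj
    refine ⟨{algebraMap A[X] _ P}, ?_⟩
    rw [Finset.coe_singleton]
    apply le_antisymm
    · rw [Ideal.span_le, Set.singleton_subset_iff]
      show Φ (algebraMap A[X] _ P) = 0
      rw [hΦalg]
      have : π P = 0 := hPI
      rw [this, map_zero]
    · intro w hw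
      have hw0 : Φ w = 0 := hw
      obtain ⟨Q, y, rfl⟩ := IsLocalization.exists_mk'_eq (Submonoid.powers (C c : A[X])) w
      have h1 : IsLocalization.mk' (Localization.Away (C c : A[X])) Q y *
          algebraMap A[X] _ (y : A[X]) = algebraMap A[X] _ Q := IsLocalization.mk'_spec _ _ _
      have h2 := congrArg Φ h1
      rw [map_mul, hw0, zero_mul, hΦalg] at h2
      obtain ⟨u, hu⟩ := (IsLocalization.map_eq_zero_iff
        (Submonoid.powers (algebraMap A B c)) _ (π Q)).mp h2.symm
      have hu0 : (u : B) ≠ 0 := by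
        obtain ⟨_, j, rfl⟩ := u
        exact pow_ne_zero _ (fun h => hc0 (hinj (by rw [h, map_zero])))
      have hπQ : π Q = 0 := (mul_eq_zero.mp hu).resolve_left hu0
      obtain ⟨m, Q', hm⟩ := hdiv Q hπQ
      have hunit : IsUnit (algebraMap A[X] (Localization.Away (C c : A[X])) (C (c ^ m))) := by
        rw [C_pow, map_pow]
        exact (IsLocalization.Away.algebraMap_isUnit (C c : A[X])).pow m
      have h3 : algebraMap A[X] (Localization.Away (C c : A[X])) Q ∈
          Ideal.span {algebraMap A[X] (Localization.Away (C c : A[X])) P} := by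
        rw [← Ideal.unit_mul_mem_iff_mem _ hunit, ← map_mul, hm, map_mul]
        exact Ideal.mul_mem_right _ _ (Ideal.subset_span rfl)
      rw [IsLocalization.mk'_eq_mul_mk'_one]
      exact Ideal.mul_mem_right _ _ h3

/-- composition step -/
theorem fp_away_comp {R S' S : Type u} [CommRing R] [CommRing S'] [CommRing S] [Algebra R S']
    [Algebra S' S] [Algebra R S] [IsScalarTower R S' S] (g' c : S')
    [h1 : Algebra.FinitePresentation R (Localization.Away g')]
    [h2 : Algebra.FinitePresentation S' (Localization.Away (algebraMap S' S c))] :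
    Algebra.FinitePresentation R (Localization.Away (algebraMap S' S (c * g'))) := by
  set ac : S := algebraMap S' S c with hac
  set ag : S := algebraMap S' S g' with hag
  let Sc := Localization.Away ac
  let x : Sc := algebraMap S Sc ag
  let Loc2 := Localization.Away x
  haveI : IsScalarTower R S' Sc := IsScalarTower.of_algebraMap_eq (fun r => by
    rw [IsScalarTower.algebraMap_apply R S Sc, IsScalarTower.algebraMap_apply R S' S,
      ← IsScalarTower.algebraMap_apply S' S Sc])
  haveI : IsScalarTower R S' Loc2 := IsScalarTower.of_algebraMap_eq (fun r => by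
    have e1 : algebraMap R Loc2 r = algebraMap Sc Loc2 (algebraMap R Sc r) :=
      IsScalarTower.algebraMap_apply R Sc Loc2 r
    have e2 : algebraMap R Sc r = algebraMap S' Sc (algebraMap R S' r) :=
      IsScalarTower.algebraMap_apply R S' Sc r
    have e3 : algebraMap S' Loc2 (algebraMap R S' r) =
        algebraMap Sc Loc2 (algebraMap S' Sc (algebraMap R S' r)) :=
      IsScalarTower.algebraMap_apply S' Sc Loc2 _
    show algebraMap R Loc2 r = algebraMap S' Loc2 (algebraMap R S' r)
    rw [e1, e2, e3])
  -- the map `S'_{g'} → Loc2`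
  have hunit : IsUnit (algebraMap S' Loc2 g') := by
    rw [IsScalarTower.algebraMap_apply S' Sc Loc2, IsScalarTower.algebraMap_apply S' S Sc]
    exact IsLocalization.Away.algebraMap_isUnit x
  let ρ : Localization.Away g' →+* Loc2 := IsLocalization.Away.lift g' hunit
  letI algρ : Algebra (Localization.Away g') Loc2 := ρ.toAlgebra
  have hρ : ∀ s', ρ (algebraMap S' _ s') = algebraMap S' Loc2 s' :=
    fun s' => IsLocalization.Away.lift_eq g' hunit s'
  haveI : IsScalarTower S' (Localization.Away g') Loc2 :=
    IsScalarTower.of_algebraMap_eq (fun s' => (hρ s').symm)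
  haveI : IsScalarTower R (Localization.Away g') Loc2 := IsScalarTower.of_algebraMap_eq (fun r => by
    rw [IsScalarTower.algebraMap_apply R S' (Localization.Away g'),
      ← IsScalarTower.algebraMap_apply S' (Localization.Away g') Loc2,
      ← IsScalarTower.algebraMap_apply R S' Loc2])
  haveI : Algebra.FinitePresentation S' Loc2 := inferInstance
  haveI : Algebra.FinitePresentation S' (Localization.Away g') :=
    IsLocalization.Away.finitePresentation g'
  haveI : Algebra.FiniteType S' (Localization.Away g') := inferInstance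
  haveI : Algebra.FinitePresentation (Localization.Away g') Loc2 :=
    Algebra.FinitePresentation.of_restrict_scalars_finitePresentation S' (Localization.Away g') Loc2
  haveI : Algebra.FinitePresentation R Loc2 :=
    Algebra.FinitePresentation.trans R (Localization.Away g') Loc2
  -- identify `Loc2` with `S_{ac * ag}`
  haveI : IsLocalization.Away (ac * ag) Loc2 := inferInstance
  have hmul : algebraMap S' S (c * g') = ac * ag := map_mul _ _ _
  rw [hmul]
  let e : Loc2 ≃ₐ[S] Localization.Away (ac * ag) :=
    IsLocalization.algEquiv (Submonoid.powers (ac * ag)) _ _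
  exact Algebra.FinitePresentation.equiv (e.restrictScalars R)

/-- generic finite presentation, by induction on the number of generators -/
theorem exists_fp_away_of_adjoin_range (n : ℕ) :
    ∀ (R S : Type u) [CommRing R] [IsDomain R] [CommRing S] [IsDomain S] [Algebra R S],
      Function.Injective (algebraMap R S) → ∀ s : Fin n → S, Algebra.adjoin R (Set.range s) = ⊤ →
      ∃ g : S, g ≠ 0 ∧ Algebra.FinitePresentation R (Localization.Away g) := by
  induction n with
  | zero =>
    intro R S _ _ _ _ _ hinj s hs
    have hbot : (⊥ : Subalgebra R S) = ⊤ := by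
      rw [← hs]
      have : Set.range s = ∅ := Set.range_eq_empty s
      rw [this, Algebra.adjoin_empty]
    have hsurj : Function.Surjective (algebraMap R S) := by
      intro y
      have hy : y ∈ (⊥ : Subalgebra R S) := by rw [hbot]; exact Algebra.mem_top
      exact Algebra.mem_bot.mp hy
    haveI : Algebra.FinitePresentation R S :=
      Algebra.FinitePresentation.equiv (AlgEquiv.ofBijective (Algebra.ofId R S) ⟨hinj, hsurj⟩)
    haveI : Algebra.FinitePresentation S (Localization.Away (1 : S)) :=
      IsLocalization.Away.finitePresentation 1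
    exact ⟨1, one_ne_zero, Algebra.FinitePresentation.trans R S _⟩
  | succ n ih =>
    intro R S _ _ _ _ _ hinj s hs
    let T : Set S := Set.range (s ∘ Fin.castSucc)
    let S' : Subalgebra R S := Algebra.adjoin R T
    have hinj' : Function.Injective (algebraMap R S') := by
      intro a b hab
      apply hinj
      have := congrArg (algebraMap S' S) hab
      rwa [← IsScalarTower.algebraMap_apply, ← IsScalarTower.algebraMap_apply] at this
    let s' : Fin n → S' := fun i => ⟨s (Fin.castSucc i), Algebra.subset_adjoin ⟨i, rfl⟩⟩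
    have hs' : Algebra.adjoin R (Set.range s') = ⊤ := by
      have h1 : Set.range s' = ((↑) : S' → S) ⁻¹' T := by
        ext y
        constructor
        · rintro ⟨i, rfl⟩
          exact ⟨i, rfl⟩
        · rintro ⟨i, hi⟩
          exact ⟨i, Subtype.ext hi⟩
      rw [h1]
      exact Algebra.adjoin_adjoin_coe_preimage
    obtain ⟨g', hg'0, hfp1⟩ := ih R S' hinj' s' hs'
    have hinj2 : Function.Injective (algebraMap S' S) := Subtype.val_injective
    have hb : Algebra.adjoin S' {s (Fin.last n)} = ⊤ := by
      have hunion : Algebra.adjoin R (T ∪ {s (Fin.last n)}) = ⊤ := by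
        rw [eq_top_iff, ← hs]
        apply Algebra.adjoin_mono
        rintro y ⟨i, rfl⟩
        refine Fin.lastCases ?_ (fun j => ?_) i
        · exact Or.inr rfl
        · exact Or.inl ⟨j, rfl⟩
      rw [Algebra.adjoin_union_eq_adjoin_adjoin] at hunion
      rw [eq_top_iff]
      intro y _
      have hy : y ∈ (Algebra.adjoin S' {s (Fin.last n)}).restrictScalars R := by
        rw [hunion]; exact Algebra.mem_top
      exact hy
    obtain ⟨c, hc0, hfp2⟩ := exists_fp_away_of_adjoin_singleton hinj2 (s (Fin.last n)) hb
    refine ⟨algebraMap S' S (c * g'), ?_, ?_⟩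
    · intro h0
      exact mul_ne_zero hc0 hg'0 (hinj2 (by rw [h0, map_zero]))
    · exact fp_away_comp g' c

end Groth.Agent.Lib.Helper10
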