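import Mathlib
import Groth.Agent.S2053
import Groth.Agent.Lib.Helper47.ArtinianRegular

/-!
# Good factorizations exist (helper10)

From the Cohen presentation of a local homomorphism `A → E` of complete Noetherian local rings
(S2053, helper47) we extract a *good factorization* `A → S → E`: `S` is a Noetherian local ring,
flat over `A`, with regular closed fibre `S/𝔪_A S`, and `S → E` is surjective (Stacks 0C0S).
-/

set_option autoImplicit false
universe u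

namespace Groth.Agent.Lib.Helper10.GoodFact

open IsLocalRing

theorem exists_good_factorization {A E : Type u} [CommRing A] [CommRing E] [IsLocalRing A]
    [IsLocalRing E] [IsNoetherianRing A] [IsNoetherianRing E]
    [IsAdicComplete (maximalIdeal A) A] [IsAdicComplete (maximalIdeal E) E] [Algebra A E]
    [IsLocalHom (algebraMap A E)] :
    ∃ (S : Type u) (_ : CommRing S) (_ : IsLocalRing S) (_ : IsNoetherianRing S)
      (_ : Algebra A S) (_ : IsLocalHom (algebraMap A S)) (_ : Module.Flat A S)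
      (_ : IsRegularLocalRing (S ⧸ (maximalIdeal A).map (algebraMap A S))) (p : S →ₐ[A] E),
      Function.Surjective p := by
  classical
  obtain ⟨Λ, Λ', instΛ, instΛ', locΛ, n, m, ρ, σ, τ, hcase, hρ, hσ, hcomm, hτ, hreg⟩ :=
    Groth.Agent.S2053.result (A := A) (B := E)
  -- `Λ'` is a Noetherian local ring
  have hΛ' : IsLocalRing Λ' ∧ IsNoetherianRing Λ' := by
    rcases hcase with ⟨-, -, hF⟩ | ⟨-, -, hC⟩
    · have := Groth.Agent.Lib.Helper47.isRegularLocalRing_of_isField hF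
      exact ⟨inferInstance, inferInstance⟩
    · obtain ⟨hdom, hdvr, -, -⟩ := hC
      exact ⟨inferInstance, inferInstance⟩
  haveI := hΛ'.1
  haveI := hΛ'.2
  -- notation
  letI algRT : Algebra (MvPowerSeries (Fin n) Λ) (MvPowerSeries (Fin m) Λ') := τ.toAlgebra
  haveI hflatRT : Module.Flat (MvPowerSeries (Fin n) Λ) (MvPowerSeries (Fin m) Λ') := hτ
  set 𝔞 : Ideal (MvPowerSeries (Fin n) Λ) := RingHom.ker ρ with h𝔞
  set 𝔟 : Ideal (MvPowerSeries (Fin m) Λ') :=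
    𝔞.map (algebraMap (MvPowerSeries (Fin n) Λ) (MvPowerSeries (Fin m) Λ')) with h𝔟
  have hστ : ∀ r, σ (τ r) = algebraMap A E (ρ r) := fun r => RingHom.congr_fun hcomm r
  have h𝔟σ : 𝔟 ≤ RingHom.ker σ := by
    rw [h𝔟, Ideal.map_le_iff_le_comap]
    intro r hr
    rw [Ideal.mem_comap, RingHom.mem_ker]
    change σ (τ r) = 0
    rw [hστ]
    have : ρ r = 0 := hr
    rw [this, map_zero]
  have h𝔟ne : 𝔟 ≠ ⊤ := fun htop => RingHom.ker_ne_top σ (top_le_iff.mp (htop ▸ h𝔟σ))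
  haveI : Nontrivial (MvPowerSeries (Fin m) Λ' ⧸ 𝔟) := Ideal.Quotient.nontrivial_iff.mpr h𝔟ne
  haveI hlocQ : IsLocalRing (MvPowerSeries (Fin m) Λ' ⧸ 𝔟) :=
    IsLocalRing.of_surjective' (Ideal.Quotient.mk 𝔟) Ideal.Quotient.mk_surjective
  -- the `A`-algebra structure
  let e : (MvPowerSeries (Fin n) Λ ⧸ 𝔞) ≃+* A := RingHom.quotientKerEquivOfSurjective hρ
  have he : ∀ r, e (Ideal.Quotient.mk 𝔞 r) = ρ r := fun r => rfl
  have hesymm : ∀ r, e.symm (ρ r) = Ideal.Quotient.mk 𝔞 r := fun r => by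
    rw [RingEquiv.symm_apply_eq, he]
  letI algAA' : Algebra A (MvPowerSeries (Fin n) Λ ⧸ 𝔞) := (e.symm : A →+* _).toAlgebra
  letI algAQ : Algebra A (MvPowerSeries (Fin m) Λ' ⧸ 𝔟) :=
    ((algebraMap (MvPowerSeries (Fin n) Λ ⧸ 𝔞) (MvPowerSeries (Fin m) Λ' ⧸ 𝔟)).comp
      (e.symm : A →+* _)).toAlgebra
  haveI : IsScalarTower A (MvPowerSeries (Fin n) Λ ⧸ 𝔞) (MvPowerSeries (Fin m) Λ' ⧸ 𝔟) :=
    IsScalarTower.of_algebraMap_eq (fun _ => rfl)
  have hι : ∀ r, algebraMap A (MvPowerSeries (Fin m) Λ' ⧸ 𝔟) (ρ r) =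
      Ideal.Quotient.mk 𝔟 (τ r) := by
    intro r
    change (algebraMap (MvPowerSeries (Fin n) Λ ⧸ 𝔞) (MvPowerSeries (Fin m) Λ' ⧸ 𝔟))
      (e.symm (ρ r)) = _
    rw [hesymm]
    rfl
  -- flatness
  haveI hflatA' : Module.Flat A (MvPowerSeries (Fin n) Λ ⧸ 𝔞) := by
    have h1 : (e.symm : A →+* (MvPowerSeries (Fin n) Λ ⧸ 𝔞)).Flat :=
      RingHom.Flat.of_bijective (f := (e.symm : A →+* (MvPowerSeries (Fin n) Λ ⧸ 𝔞)))
        e.symm.bijective
    exact h1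
  haveI hflatQ' : Module.Flat (MvPowerSeries (Fin n) Λ ⧸ 𝔞) (MvPowerSeries (Fin m) Λ' ⧸ 𝔟) :=
    Module.Flat.of_linearEquiv
      (Algebra.TensorProduct.quotIdealMapEquivQuotTensor (MvPowerSeries (Fin m) Λ') 𝔞).toLinearEquiv
  haveI hflatQ : Module.Flat A (MvPowerSeries (Fin m) Λ' ⧸ 𝔟) :=
    Module.Flat.trans A (MvPowerSeries (Fin n) Λ ⧸ 𝔞) (MvPowerSeries (Fin m) Λ' ⧸ 𝔟)
  -- the map to `E`
  let p₀ : (MvPowerSeries (Fin m) Λ' ⧸ 𝔟) →+* E := Ideal.Quotient.lift 𝔟 σ (fun t ht => h𝔟σ ht)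
  have hp₀ : ∀ t, p₀ (Ideal.Quotient.mk 𝔟 t) = σ t := fun t => rfl
  have hp₀alg : ∀ a, p₀ (algebraMap A _ a) = algebraMap A E a := by
    intro a
    obtain ⟨r, rfl⟩ := hρ a
    rw [hι, hp₀, hστ]
  let p : (MvPowerSeries (Fin m) Λ' ⧸ 𝔟) →ₐ[A] E := { p₀ with commutes' := hp₀alg }
  have hp : Function.Surjective p := by
    intro x
    obtain ⟨t, rfl⟩ := hσ x
    exact ⟨Ideal.Quotient.mk 𝔟 t, hp₀ t⟩
  -- local homomorphism
  haveI hlocAQ : IsLocalHom (algebraMap A (MvPowerSeries (Fin m) Λ' ⧸ 𝔟)) := by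
    constructor
    intro a ha
    have h1 : IsUnit (algebraMap A E a) := by
      rw [← hp₀alg]
      exact ha.map p₀
    exact isUnit_of_map_unit (algebraMap A E) a h1
  -- the closed fibre
  have hmA : (maximalIdeal (MvPowerSeries (Fin n) Λ)).map ρ = maximalIdeal A :=
    IsLocalRing.map_maximalIdeal_of_surjective ρ hρ
  set J : Ideal (MvPowerSeries (Fin m) Λ') :=
    (maximalIdeal (MvPowerSeries (Fin n) Λ)).map τ with hJ
  have hcompeq : (algebraMap A (MvPowerSeries (Fin m) Λ' ⧸ 𝔟)).comp ρ =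
      (Ideal.Quotient.mk 𝔟).comp τ := RingHom.ext hι
  have hfib : (maximalIdeal A).map (algebraMap A (MvPowerSeries (Fin m) Λ' ⧸ 𝔟)) =
      J.map (Ideal.Quotient.mk 𝔟) := by
    rw [← hmA, Ideal.map_map, hcompeq, ← Ideal.map_map]
  have h𝔟J : 𝔟 ≤ J := by
    rw [h𝔟, hJ]
    apply Ideal.map_mono
    exact IsLocalRing.le_maximalIdeal (RingHom.ker_ne_top ρ)
  have hJne : J ≠ ⊤ := by
    intro htop
    have h1 : (1 : MvPowerSeries (Fin m) Λ' ⧸ 𝔟) ∈
        (maximalIdeal A).map (algebraMap A (MvPowerSeries (Fin m) Λ' ⧸ 𝔟)) := by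
      rw [hfib, htop, Ideal.map_top]
      trivial
    have h2 := IsLocalRing.map_maximalIdeal_le (algebraMap A (MvPowerSeries (Fin m) Λ' ⧸ 𝔟)) h1
    exact (mem_maximalIdeal _).mp h2 isUnit_one
  haveI : Nontrivial (MvPowerSeries (Fin m) Λ' ⧸ J) := Ideal.Quotient.nontrivial_iff.mpr hJne
  haveI : IsLocalRing (MvPowerSeries (Fin m) Λ' ⧸ J) :=
    IsLocalRing.of_surjective' (Ideal.Quotient.mk J) Ideal.Quotient.mk_surjective
  haveI : IsRegularRing (MvPowerSeries (Fin m) Λ' ⧸ J) := hreg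
  haveI : IsRegularLocalRing (MvPowerSeries (Fin m) Λ' ⧸ J) :=
    IsRegularLocalRing.of_isRegularRing_of_isLocalRing _
  have hregfib : IsRegularLocalRing ((MvPowerSeries (Fin m) Λ' ⧸ 𝔟) ⧸
      (maximalIdeal A).map (algebraMap A (MvPowerSeries (Fin m) Λ' ⧸ 𝔟))) :=
    IsRegularLocalRing.of_ringEquiv
      ((Ideal.quotEquivOfEq hfib).trans (DoubleQuot.quotQuotEquivQuotOfLE h𝔟J)).symm
  exact ⟨MvPowerSeries (Fin m) Λ' ⧸ 𝔟, inferInstance, hlocQ, inferInstance, algAQ, hlocAQ, hflatQ,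
    hregfib, p, hp⟩

end Groth.Agent.Lib.Helper10.GoodFact
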