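import Mathlib
import Groth.Agent.Lib.Helper10.GfMinGen
import Groth.Agent.Lib.Helper10.RegSeqTorDim
import Groth.Agent.Lib.Helper85.RegularGens
import Groth.Agent.Lib.Helper85.RegularSeq
import Groth.Agent.Lib.Helper90.PSSurj
import Groth.Agent.Lib.Helper93.DepthFlat

/-!
# Comparable good factorizations (helper10)

Let `A` be a local ring and `π : S₁ → S₂` a surjection of Noetherian local flat `A`-algebras
with regular closed fibres.  Then `ker π` is generated by a regular sequence whose members are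
linearly independent modulo `𝔪²`, and an ideal `K` of `S₂` is generated by a regular sequence iff
its preimage in `S₁` is (Stacks 09Q2, the comparison step).
-/

set_option autoImplicit false
universe u

namespace Groth.Agent.Lib.Helper10.GoodFact

open RingTheory.Sequence IsLocalRing TensorProduct

section ListFibre

variable {R S : Type u} [CommRing R] [CommRing S] [Algebra R S] [IsLocalRing R] [IsLocalRing S]
  [IsNoetherianRing S] [IsLocalHom (algebraMap R S)]

/-- Stacks 00ME for lists: a sequence weakly regular on the closed fibre `N/𝔪_R N` of a finite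
`S`-module `N` flat over `R` is weakly regular on `N`. -/
theorem isWeaklyRegular_of_fibre (fs : List S) :
    ∀ (N : Type u) [AddCommGroup N] [Module S N] [Module R N] [IsScalarTower R S N]
      [Module.Finite S N] [Module.Flat R N],
      IsWeaklyRegular (N ⧸ ((maximalIdeal R).map (algebraMap R S)) • (⊤ : Submodule S N)) fs →
      IsWeaklyRegular N fs := by
  induction fs with
  | nil =>
    intro N _ _ _ _ _ _ _
    exact IsWeaklyRegular.nil S N
  | cons y l ih =>
    intro N _ _ _ _ _ _ hreg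
    rw [isWeaklyRegular_cons_iff] at hreg
    obtain ⟨h1, h2⟩ :=
      Groth.Agent.Lib.Helper93.DepthFlat.isSMulRegular_and_flat_of_regular_fibre (R := R) N hreg.1
    have h3 : IsWeaklyRegular (QuotSMulTop y N ⧸
        ((maximalIdeal R).map (algebraMap R S)) • (⊤ : Submodule S (QuotSMulTop y N))) l :=
      ((Groth.Agent.Lib.Helper93.DepthFlat.fibreQuotSMulTopEquiv N
        ((maximalIdeal R).map (algebraMap R S)) y).isWeaklyRegular_congr l).mpr hreg.2
    exact (isWeaklyRegular_cons_iff N y l).mpr ⟨h1, ih (QuotSMulTop y N) h3⟩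

end ListFibre

section RegularQuot

variable {F : Type u} [CommRing F] [IsRegularLocalRing F]

/-- If `F` and `F ⧸ N` are regular local rings, then `N` is generated by a regular sequence whose
members are linearly independent modulo `𝔪²`. -/
theorem exists_prefix_gens (N : Ideal F) (hreg : IsRegularLocalRing (F ⧸ N)) :
    ∃ (c : ℕ) (y : Fin c → F), Ideal.span (Set.range y) = N ∧
      IsWeaklyRegular F (List.ofFn y) ∧
      ∀ a : Fin c → F, ∑ i, a i * y i ∈ maximalIdeal F ^ 2 → ∀ i, a i ∈ maximalIdeal F := by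
  obtain ⟨d, hd⟩ : ∃ d : ℕ, ringKrullDim F = d :=
    ⟨_, (IsRegularLocalRing.spanFinrank_maximalIdeal (R := F)).symm⟩
  have hsf : (maximalIdeal F).spanFinrank = d := by
    have h3 : ((maximalIdeal F).spanFinrank : WithBot ℕ∞) = ringKrullDim F :=
      IsRegularLocalRing.spanFinrank_maximalIdeal (R := F)
    rw [hd] at h3
    exact_mod_cast h3
  obtain ⟨x, c, hc, hspan, hN⟩ :=
    Groth.Agent.Lib.Helper85.exists_generators_of_quotient_regular d hd N hreg
  obtain ⟨e, rfl⟩ := Nat.exists_eq_add_of_le hc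
  have hxreg := Groth.Agent.Lib.Helper85.isRegular_ofFn_of_span_eq_maximalIdeal (c + e) hd x hspan
  refine ⟨c, fun i => x (Fin.castLE hc i), hN.symm, ?_, ?_⟩
  · have h1 : List.ofFn x = List.ofFn (fun i : Fin c => x (Fin.castLE hc i)) ++
        List.ofFn (fun j : Fin e => x (Fin.natAdd c j)) := by
      rw [List.ofFn_add]
    have h2 := hxreg.toIsWeaklyRegular
    rw [h1, isWeaklyRegular_append_iff] at h2
    exact h2.1
  · intro a ha i
    have h1 := Groth.Agent.Lib.Helper90.PSSurj.mem_maximalIdeal_of_sum_mem_sq hsf.symm x hspan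
      (Fin.append a (fun _ : Fin e => (0 : F))) (by
        rw [Fin.sum_univ_add]
        simp only [Fin.append_left, Fin.append_right, zero_mul, Finset.sum_const_zero, add_zero]
        exact ha) (Fin.castAdd e i)
    rwa [Fin.append_left] at h1

end RegularQuot

section Comparable

variable {A S₁ S₂ : Type u} [CommRing A] [CommRing S₁] [CommRing S₂] [IsLocalRing A]
  [IsLocalRing S₁] [IsLocalRing S₂] [IsNoetherianRing S₁] [IsNoetherianRing S₂]
  [Algebra A S₁] [Algebra A S₂] [IsLocalHom (algebraMap A S₁)]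
  [Module.Flat A S₁] [Module.Flat A S₂]
  [IsRegularLocalRing (S₁ ⧸ (maximalIdeal A).map (algebraMap A S₁))]
  [IsRegularLocalRing (S₂ ⧸ (maximalIdeal A).map (algebraMap A S₂))]
  (π : S₁ →ₐ[A] S₂)

local notation "𝔞₁" => Ideal.map (algebraMap A S₁) (maximalIdeal A)
local notation "𝔞₂" => Ideal.map (algebraMap A S₂) (maximalIdeal A)

omit [IsLocalRing S₁] [IsLocalRing S₂] [IsNoetherianRing S₁] [IsNoetherianRing S₂]
  [IsLocalHom (algebraMap A S₁)] [Module.Flat A S₁]
  [IsRegularLocalRing (S₁ ⧸ (maximalIdeal A).map (algebraMap A S₁))]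
  [IsRegularLocalRing (S₂ ⧸ (maximalIdeal A).map (algebraMap A S₂))] in
/-- flatness of `S₂ = S₁/ker π` over `A`: `𝔪_A S₁ ∩ ker π = 𝔪_A ker π`. -/
theorem mem_mul_ker_of_mem (hπ : Function.Surjective π) (z : S₁) (hz : z ∈ RingHom.ker π)
    (hz' : z ∈ 𝔞₁) : z ∈ 𝔞₁ * RingHom.ker (π : S₁ →+* S₂) := by
  let f : S₁ →ₗ[A] S₂ := π.toLinearMap
  have hf : Function.Surjective f := hπ
  have hinj := LinearMap.lTensor_injective_of_exact_of_flat f hf (LinearMap.ker f).subtype
    (LinearMap.ker f).subtype_injective (LinearMap.exact_subtype_ker_map f) (A ⧸ maximalIdeal A)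
  have hzk : z ∈ LinearMap.ker f := hz
  have h1 : (LinearMap.lTensor (A ⧸ maximalIdeal A) (LinearMap.ker f).subtype)
      ((1 : A ⧸ maximalIdeal A) ⊗ₜ[A] (⟨z, hzk⟩ : LinearMap.ker f)) = 0 := by
    rw [LinearMap.lTensor_tmul]
    change (TensorProduct.mk A (A ⧸ maximalIdeal A) S₁ 1) z = 0
    rw [← LinearMap.mem_ker, LinearMap.ker_tensorProductMk]
    exact (Groth.Agent.Lib.Helper93.DepthFlat.mem_map_smul_top_iff (S := S₁) (maximalIdeal A)
      z).mp (by rw [smul_eq_mul, Ideal.mul_top]; exact hz')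
  have h2 : (1 : A ⧸ maximalIdeal A) ⊗ₜ[A] (⟨z, hzk⟩ : LinearMap.ker f) = 0 :=
    hinj (h1.trans (map_zero _).symm)
  have h3 : (⟨z, hzk⟩ : LinearMap.ker f) ∈
      LinearMap.ker (TensorProduct.mk A (A ⧸ maximalIdeal A) (LinearMap.ker f) 1) := h2
  rw [LinearMap.ker_tensorProductMk] at h3
  have key : ∀ w ∈ maximalIdeal A • (⊤ : Submodule A (LinearMap.ker f)),
      (w : S₁) ∈ 𝔞₁ * RingHom.ker (π : S₁ →+* S₂) := by
    intro w hw
    refine Submodule.smul_induction_on
      (p := fun w : LinearMap.ker f => (w : S₁) ∈ 𝔞₁ * RingHom.ker (π : S₁ →+* S₂)) hw ?_ ?_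
    · intro a ha v _
      have : ((a • v : LinearMap.ker f) : S₁) = algebraMap A S₁ a * (v : S₁) := by
        rw [Submodule.coe_smul, Algebra.smul_def]
      rw [this]
      exact Ideal.mul_mem_mul (Ideal.mem_map_of_mem _ ha) v.2
    · intro v w hv hw
      rw [Submodule.coe_add]
      exact Ideal.add_mem _ hv hw
  exact key _ h3

omit [IsLocalRing S₁] [IsLocalRing S₂] [IsNoetherianRing S₁] [IsNoetherianRing S₂]
  [IsLocalHom (algebraMap A S₁)] [Module.Flat A S₁] [Module.Flat A S₂]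
  [IsRegularLocalRing (S₁ ⧸ (maximalIdeal A).map (algebraMap A S₁))]
  [IsRegularLocalRing (S₂ ⧸ (maximalIdeal A).map (algebraMap A S₂))] in
lemma map_fibreIdeal : (𝔞₁).map (π : S₁ →+* S₂) = 𝔞₂ := by
  rw [Ideal.map_map]
  congr 1
  ext a
  exact π.commutes a

omit [IsLocalRing S₁] [IsLocalRing S₂] [IsNoetherianRing S₁] [IsNoetherianRing S₂]
  [IsLocalHom (algebraMap A S₁)] [Module.Flat A S₁] [Module.Flat A S₂]
  [IsRegularLocalRing (S₁ ⧸ (maximalIdeal A).map (algebraMap A S₁))]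
  [IsRegularLocalRing (S₂ ⧸ (maximalIdeal A).map (algebraMap A S₂))] in
lemma fibreIdeal_le_comap : 𝔞₁ ≤ (𝔞₂).comap (π : S₁ →+* S₂) := by
  rw [← Ideal.map_le_iff_le_comap, map_fibreIdeal]

/-- the induced map on closed fibres. -/
noncomputable def fibreMap : S₁ ⧸ 𝔞₁ →+* S₂ ⧸ 𝔞₂ :=
  Ideal.quotientMap 𝔞₂ (π : S₁ →+* S₂) (fibreIdeal_le_comap π)

omit [IsLocalRing S₁] [IsLocalRing S₂] [IsNoetherianRing S₁] [IsNoetherianRing S₂]
  [IsLocalHom (algebraMap A S₁)] [Module.Flat A S₁] [Module.Flat A S₂]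
  [IsRegularLocalRing (S₁ ⧸ (maximalIdeal A).map (algebraMap A S₁))]
  [IsRegularLocalRing (S₂ ⧸ (maximalIdeal A).map (algebraMap A S₂))] in
lemma fibreMap_mk (s : S₁) :
    fibreMap π (Ideal.Quotient.mk _ s) = Ideal.Quotient.mk _ (π s) := rfl

omit [IsLocalRing S₁] [IsLocalRing S₂] [IsNoetherianRing S₁] [IsNoetherianRing S₂]
  [IsLocalHom (algebraMap A S₁)] [Module.Flat A S₁] [Module.Flat A S₂]
  [IsRegularLocalRing (S₁ ⧸ (maximalIdeal A).map (algebraMap A S₁))]
  [IsRegularLocalRing (S₂ ⧸ (maximalIdeal A).map (algebraMap A S₂))] in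
lemma fibreMap_surjective (hπ : Function.Surjective π) : Function.Surjective (fibreMap π) :=
  Ideal.quotientMap_surjective hπ

omit [IsLocalRing S₁] [IsLocalRing S₂] [IsNoetherianRing S₁] [IsNoetherianRing S₂]
  [IsLocalHom (algebraMap A S₁)] [Module.Flat A S₁] [Module.Flat A S₂]
  [IsRegularLocalRing (S₁ ⧸ (maximalIdeal A).map (algebraMap A S₁))]
  [IsRegularLocalRing (S₂ ⧸ (maximalIdeal A).map (algebraMap A S₂))] in
/-- elements of the kernel on fibres lift to the kernel of `π`. -/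
lemma exists_lift_ker (hπ : Function.Surjective π) (ybar : S₁ ⧸ 𝔞₁)
    (hy : ybar ∈ RingHom.ker (fibreMap π)) :
    ∃ y ∈ RingHom.ker (π : S₁ →+* S₂), Ideal.Quotient.mk 𝔞₁ y = ybar := by
  obtain ⟨y₀, rfl⟩ := Ideal.Quotient.mk_surjective ybar
  rw [RingHom.mem_ker, fibreMap_mk, Ideal.Quotient.eq_zero_iff_mem, ← map_fibreIdeal π] at hy
  obtain ⟨z, hz, hzy⟩ := (Ideal.mem_map_iff_of_surjective (π : S₁ →+* S₂) hπ).mp hy
  refine ⟨y₀ - z, ?_, ?_⟩
  · rw [RingHom.mem_ker, map_sub, hzy]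
    exact sub_self _
  · rw [map_sub, Ideal.Quotient.eq_zero_iff_mem.mpr hz, sub_zero]

/-- **The kernel of a surjection of comparable good factorizations.** -/
theorem exists_regular_gens_ker (hπ : Function.Surjective π) :
    ∃ xs : List S₁, Ideal.ofList xs = RingHom.ker (π : S₁ →+* S₂) ∧ IsWeaklyRegular S₁ xs ∧
      ∀ x ∈ RingHom.ker (π : S₁ →+* S₂), x ∈ maximalIdeal S₁ ^ 2 →
        x ∈ maximalIdeal S₁ * RingHom.ker (π : S₁ →+* S₂) := by
  classical
  set I : Ideal S₁ := RingHom.ker (π : S₁ →+* S₂) with hIdef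
  set Nb : Ideal (S₁ ⧸ 𝔞₁) := RingHom.ker (fibreMap π) with hNb
  have hregQ : IsRegularLocalRing ((S₁ ⧸ 𝔞₁) ⧸ Nb) :=
    IsRegularLocalRing.of_ringEquiv
      (RingHom.quotientKerEquivOfSurjective (fibreMap_surjective π hπ)).symm
  obtain ⟨c, ybar, hspan, hwreg, hind⟩ := exists_prefix_gens Nb hregQ
  have hyb : ∀ i, ybar i ∈ Nb := fun i => hspan ▸ Ideal.subset_span ⟨i, rfl⟩
  choose y hyI hy using fun i => exists_lift_ker π hπ (ybar i) (hyb i)
  have h𝔞m : 𝔞₁ ≤ maximalIdeal S₁ := IsLocalRing.map_maximalIdeal_le (algebraMap A S₁)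
  have hmkmap : Ideal.map (Ideal.Quotient.mk 𝔞₁) (Ideal.ofList (List.ofFn y)) = Nb := by
    rw [Ideal.map_ofList, List.map_ofFn, Groth.Agent.Lib.Helper82.CICrit.ofList_ofFn', ← hspan]
    congr 2
    funext i
    exact hy i
  have hle : Ideal.ofList (List.ofFn y) ≤ I := by
    rw [Groth.Agent.Lib.Helper82.CICrit.ofList_ofFn', Ideal.span_le]
    rintro _ ⟨i, rfl⟩
    exact hyI i
  -- flatness: 𝔞₁ ∩ I ⊆ 𝔞₁ I
  have hF : ∀ z ∈ I, z ∈ 𝔞₁ → z ∈ maximalIdeal S₁ * I := fun z hz hz' =>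
    Ideal.mul_mono_left h𝔞m (mem_mul_ker_of_mem π hπ z hz hz')
  -- every element of `I` is congruent to an element of `ofList y` modulo `𝔞₁`
  have hdecomp : ∀ x ∈ I, ∃ u ∈ Ideal.ofList (List.ofFn y), x - u ∈ 𝔞₁ := by
    intro x hx
    have h1 : Ideal.Quotient.mk 𝔞₁ x ∈ Nb := by
      rw [hNb, RingHom.mem_ker, fibreMap_mk]
      have : π x = 0 := hx
      rw [this, map_zero]
    rw [← hmkmap] at h1
    obtain ⟨u, hu, hux⟩ := (Ideal.mem_map_iff_of_surjective _ Ideal.Quotient.mk_surjective).mp h1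
    refine ⟨u, hu, ?_⟩
    rw [← Ideal.Quotient.eq_zero_iff_mem, map_sub, hux, sub_self]
  refine ⟨List.ofFn y, ?_, ?_, ?_⟩
  · -- generation, by Nakayama
    refine le_antisymm hle ?_
    apply Submodule.le_of_le_smul_of_le_jacobson_bot (IsNoetherian.noetherian I)
      (by rw [IsLocalRing.jacobson_eq_maximalIdeal ⊥ bot_ne_top])
    intro x hx
    obtain ⟨u, hu, hxu⟩ := hdecomp x hx
    have h2 : x - u ∈ I := Ideal.sub_mem _ hx (hle hu)
    have h3 := hF _ h2 hxu
    have h4 : x = u + (x - u) := by ring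
    rw [h4]
    exact Submodule.add_mem_sup hu h3
  · -- regularity, by Stacks 00ME
    have h1 : IsWeaklyRegular (S₁ ⧸ 𝔞₁) ((List.ofFn y).map (algebraMap S₁ (S₁ ⧸ 𝔞₁))) := by
      rw [List.map_ofFn]
      have : (algebraMap S₁ (S₁ ⧸ 𝔞₁)) ∘ y = ybar := by
        funext i
        exact hy i
      rw [this]
      exact hwreg
    have h2 : IsWeaklyRegular (S₁ ⧸ 𝔞₁) (List.ofFn y) :=
      (isWeaklyRegular_map_algebraMap_iff (S₁ ⧸ 𝔞₁) (S₁ ⧸ 𝔞₁) (List.ofFn y)).mp h1
    have hsm : (𝔞₁ • ⊤ : Submodule S₁ S₁) = 𝔞₁ := by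
      rw [smul_eq_mul, Ideal.mul_top]
    have h3 : IsWeaklyRegular (S₁ ⧸ (𝔞₁ • ⊤ : Submodule S₁ S₁)) (List.ofFn y) :=
      ((Submodule.quotEquivOfEq _ _ hsm).isWeaklyRegular_congr (List.ofFn y)).mpr h2
    exact isWeaklyRegular_of_fibre (R := A) (List.ofFn y) S₁ h3
  · -- independence modulo `𝔪²`
    intro x hx hx2
    have hmk : Ideal.Quotient.mk 𝔞₁ x ∈ Nb := by
      rw [hNb, RingHom.mem_ker, fibreMap_mk]
      have : π x = 0 := hx
      rw [this, map_zero]
    rw [← hspan] at hmk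
    obtain ⟨abar, hab⟩ := Ideal.mem_span_range_iff_exists_fun.mp hmk
    have hmaxmap : Ideal.map (Ideal.Quotient.mk 𝔞₁) (maximalIdeal S₁) =
        maximalIdeal (S₁ ⧸ 𝔞₁) :=
      IsLocalRing.map_maximalIdeal_of_surjective _ Ideal.Quotient.mk_surjective
    have hx2' : ∑ i, abar i * ybar i ∈ maximalIdeal (S₁ ⧸ 𝔞₁) ^ 2 := by
      rw [hab, ← hmaxmap, ← Ideal.map_pow]
      exact Ideal.mem_map_of_mem _ hx2
    have habm := hind abar hx2'
    choose a ha using fun i => Ideal.Quotient.mk_surjective (I := 𝔞₁) (abar i)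
    have ham : ∀ i, a i ∈ maximalIdeal S₁ := by
      intro i
      by_contra hnot
      have hu : IsUnit (a i) := by
        by_contra h
        exact hnot ((mem_maximalIdeal _).mpr h)
      have hu' : IsUnit (abar i) := ha i ▸ hu.map (Ideal.Quotient.mk 𝔞₁)
      exact (mem_maximalIdeal _).mp (habm i) hu'
    set w : S₁ := ∑ i, a i * y i with hw
    have hwI : w ∈ maximalIdeal S₁ * I :=
      Ideal.sum_mem _ fun i _ => Ideal.mul_mem_mul (ham i) (hyI i)
    have hwI' : w ∈ I := Ideal.mul_le_right hwI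
    have hxw : x - w ∈ 𝔞₁ := by
      rw [← Ideal.Quotient.eq_zero_iff_mem, map_sub, hw, map_sum, ← hab]
      simp only [map_mul, ha, hy, sub_self]
    have h5 := hF _ (Ideal.sub_mem _ hx hwI') hxw
    have h6 : x = w + (x - w) := by ring
    rw [h6]
    exact Ideal.add_mem _ hwI h5


/-- **Comparable good factorizations** (Stacks 09Q2, comparison step): an ideal of `S₂` is
generated by a regular sequence iff its preimage in `S₁` is. -/
theorem genReg_comap_iff (hπ : Function.Surjective π) (K : Ideal S₂) (hK : K ≠ ⊤) :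
    GenReg S₂ K ↔ GenReg S₁ (K.comap (π : S₁ →+* S₂)) := by
  classical
  obtain ⟨xs, hxs, hxreg, hH⟩ := exists_regular_gens_ker π hπ
  set I : Ideal S₁ := RingHom.ker (π : S₁ →+* S₂) with hIdef
  set J : Ideal S₁ := K.comap (π : S₁ →+* S₂) with hJdef
  have hIJ : I ≤ J := by
    intro x hx
    rw [hJdef, Ideal.mem_comap]
    have : π x = 0 := hx
    change π x ∈ K
    rw [this]
    exact K.zero_mem
  have hJne : J ≠ ⊤ := by
    intro h
    apply hK
    rw [← Ideal.map_comap_of_surjective (π : S₁ →+* S₂) hπ K, ← hJdef, h, Ideal.map_top]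
  have hJmap : J.map (π : S₁ →+* S₂) = K := Ideal.map_comap_of_surjective _ hπ K
  constructor
  · rintro ⟨ys', hys', hyreg⟩
    -- lift the generators
    have hsurjl : ∃ ys : List S₁, ys.map (π : S₁ →+* S₂) = ys' := by
      refine ⟨ys'.map (Function.surjInv hπ), ?_⟩
      rw [List.map_map]
      conv_rhs => rw [← List.map_id ys']
      apply List.map_congr_left
      intro q _
      exact Function.surjInv_eq hπ q
    obtain ⟨ys, rfl⟩ := hsurjl
    have hJeq : Ideal.ofList (xs ++ ys) = J := by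
      rw [Ideal.ofList_append, hxs, hJdef, ← hys', ← Ideal.map_ofList,
        Ideal.comap_map_of_surjective (π : S₁ →+* S₂) hπ, ← RingHom.ker_eq_comap_bot, sup_comm]
    refine ⟨xs ++ ys, hJeq, ?_⟩
    apply isRegular_of_isWeaklyRegular _ (hJeq ▸ hJne)
    rw [isWeaklyRegular_append_iff]
    refine ⟨hxreg, ?_⟩
    letI : Algebra S₁ S₂ := (π : S₁ →+* S₂).toAlgebra
    have h1 : IsWeaklyRegular S₂ (ys.map (algebraMap S₁ S₂)) := hyreg.toIsWeaklyRegular
    have h2 : IsWeaklyRegular S₂ ys := (isWeaklyRegular_map_algebraMap_iff S₂ S₂ ys).mp h1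
    have hsm : (Ideal.ofList xs • ⊤ : Submodule S₁ S₁) = LinearMap.ker (Algebra.linearMap S₁ S₂) := by
      rw [smul_eq_mul, Ideal.mul_top, hxs]
      rfl
    let e : (S₁ ⧸ (Ideal.ofList xs • ⊤ : Submodule S₁ S₁)) ≃ₗ[S₁] S₂ :=
      (Submodule.quotEquivOfEq _ _ hsm).trans
        ((Algebra.linearMap S₁ S₂).quotKerEquivOfSurjective hπ)
    exact (e.isWeaklyRegular_congr ys).mpr h2
  · intro hJreg
    have H : ∀ x ∈ I, x ∈ maximalIdeal S₁ * J → x ∈ maximalIdeal S₁ * I := by
      intro x hx hxJ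
      apply hH x hx
      rw [pow_two]
      exact Ideal.mul_mono_right (IsLocalRing.le_maximalIdeal hJne) hxJ
    obtain ⟨-, rs', hrs', hreg'⟩ :=
      Groth.Agent.Lib.Helper10.RegSeqTorDim.regular_of_mem_maximal_mul I J hIJ hJne H hJreg
    let e : S₁ ⧸ I ≃+* S₂ := RingHom.quotientKerEquivOfSurjective (f := (π : S₁ →+* S₂)) hπ
    have h1 := GenReg.map_ringEquiv e ⟨rs', hrs', hreg'⟩
    have h2 : (J.map (Ideal.Quotient.mk I)).map (e : S₁ ⧸ I →+* S₂) = K := by
      rw [Ideal.map_map, ← hJmap]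
      congr 1
    rwa [h2] at h1


end Comparable

end Groth.Agent.Lib.Helper10.GoodFact
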