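import Mathlib
import Groth.Agent.Lib.Helper10.GfMinGen
import Groth.Agent.Lib.Helper18.ComplMap
import Groth.Agent.Lib.Helper18.AdicQuot
import Groth.Agent.Lib.Helper82.CICompl
import Groth.Agent.S0543

/-!
# Completing a good factorization (helper10)

For a surjection `g : S → B` of Noetherian local rings with `B` complete, the induced map
`ĝ : Ŝ → B` from the completion has kernel `(ker g) Ŝ`; and the completion of a flat local
`A`-algebra with regular closed fibre is again one.
-/

set_option autoImplicit false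
universe u

namespace Groth.Agent.Lib.Helper10.GoodFact

open IsLocalRing

section ComplHom

variable {S B : Type u} [CommRing S] [CommRing B] [IsLocalRing S]
  [IsLocalRing B] [IsAdicComplete (maximalIdeal B) B] (g : S →+* B)

local notation "Ŝ" => AdicCompletion (maximalIdeal S) S

/-- the extension of `g : S → B` to the completion of `S`, for `B` complete. -/
noncomputable def complHom (h : (maximalIdeal S).map g ≤ maximalIdeal B) : Ŝ →+* B :=
  ((AdicCompletion.ofAlgEquiv (maximalIdeal B)).symm : AdicCompletion (maximalIdeal B) B →+* B).comp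
    (FSch.complMap (maximalIdeal S) (maximalIdeal B) g h)

theorem complHom_algebraMap (h : (maximalIdeal S).map g ≤ maximalIdeal B) (s : S) :
    complHom g h (algebraMap S Ŝ s) = g s := by
  rw [complHom, RingHom.comp_apply, AdicCompletion.algebraMap_apply, Algebra.algebraMap_self,
    RingHom.id_apply, Groth.Agent.Lib.Helper18.complMap_of]
  exact AdicCompletion.ofAlgEquiv_symm_of _ _

theorem complHom_comp_algebraMap (h : (maximalIdeal S).map g ≤ maximalIdeal B) :
    (complHom g h).comp (algebraMap S Ŝ) = g :=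
  RingHom.ext (complHom_algebraMap g h)

theorem complHom_surjective (h : (maximalIdeal S).map g ≤ maximalIdeal B)
    (hg : Function.Surjective g) : Function.Surjective (complHom g h) := by
  intro b
  obtain ⟨s, rfl⟩ := hg b
  exact ⟨_, complHom_algebraMap g h s⟩

variable [IsNoetherianRing S] [IsNoetherianRing B]

instance : IsNoetherianRing Ŝ := Groth.Agent.S0543.result S _

/-- the kernel of the completed map is the extension of the kernel. -/
theorem ker_complHom (h : (maximalIdeal S).map g ≤ maximalIdeal B)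
    (hg : Function.Surjective g) :
    RingHom.ker (complHom g h) = (RingHom.ker g).map (algebraMap S Ŝ) := by
  set Kh : Ideal Ŝ := (RingHom.ker g).map (algebraMap S Ŝ) with hKh
  set M : Ideal Ŝ := (maximalIdeal S).map (algebraMap S Ŝ) with hM
  have hle : Kh ≤ RingHom.ker (complHom g h) := by
    rw [hKh, Ideal.map_le_iff_le_comap]
    intro s hs
    rw [Ideal.mem_comap, RingHom.mem_ker, complHom_algebraMap]
    exact hs
  refine le_antisymm ?_ hle
  have hKne : Kh ≠ ⊤ := fun htop =>
    RingHom.ker_ne_top (complHom g h) (top_le_iff.mp (htop ▸ hle))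
  have hMmax : M = maximalIdeal Ŝ := (AdicCompletion.maximalIdeal_eq_map (R := S)).symm
  have hmapg : (maximalIdeal S).map g = maximalIdeal B :=
    IsLocalRing.map_maximalIdeal_of_surjective g hg
  -- `ĝ` maps `M ^ n` into `𝔪_B ^ n`
  have hpow : ∀ n : ℕ, (M ^ n).map (complHom g h) ≤ maximalIdeal B ^ n := by
    intro n
    rw [Ideal.map_pow, hM, Ideal.map_map, complHom_comp_algebraMap, hmapg]
  intro x hx
  have hx0 : complHom g h x = 0 := hx
  -- `x ∈ Kh ⊔ M ^ n` for all `n`
  have hmem : ∀ n : ℕ, x ∈ Kh ⊔ M ^ n := by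
    intro n
    obtain ⟨s, hs⟩ := Ideal.Quotient.mk_surjective (AdicCompletion.evalₐ (maximalIdeal S) n x)
    have h1 : x - algebraMap S Ŝ s ∈ M ^ n := by
      rw [hM, ← Groth.Agent.Lib.Helper18.ker_evalₐ_eq_map_pow _
        (maximalIdeal S).fg_of_isNoetherianRing n, RingHom.mem_ker]
      change AdicCompletion.evalₐ (maximalIdeal S) n (x - AdicCompletion.of _ S s) = 0
      rw [map_sub, AdicCompletion.evalₐ_of, hs, sub_self]
    have h2 : g s ∈ maximalIdeal B ^ n := by
      have h3 := hpow n (Ideal.mem_map_of_mem _ h1)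
      rw [map_sub, hx0, zero_sub, complHom_algebraMap] at h3
      exact (Ideal.neg_mem_iff _).mp h3
    rw [← hmapg, ← Ideal.map_pow] at h2
    obtain ⟨t, ht, hts⟩ := (Ideal.mem_map_iff_of_surjective g hg).mp h2
    have h4 : s - t ∈ RingHom.ker g := by
      rw [RingHom.mem_ker, map_sub, hts, sub_self]
    have h5 : algebraMap S Ŝ (s - t) ∈ Kh := Ideal.mem_map_of_mem _ h4
    have h6 : algebraMap S Ŝ t ∈ M ^ n := by
      rw [hM, ← Ideal.map_pow]
      exact Ideal.mem_map_of_mem _ ht
    have h7 : x = algebraMap S Ŝ (s - t) + (algebraMap S Ŝ t + (x - algebraMap S Ŝ s)) := by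
      rw [map_sub]; ring
    rw [h7]
    exact Submodule.add_mem_sup h5 (Ideal.add_mem _ h6 h1)
  -- Krull intersection in the quotient
  haveI : Nontrivial (Ŝ ⧸ Kh) := Ideal.Quotient.nontrivial_iff.mpr hKne
  haveI : IsLocalRing (Ŝ ⧸ Kh) :=
    IsLocalRing.of_surjective' (Ideal.Quotient.mk Kh) Ideal.Quotient.mk_surjective
  have hMq : M.map (Ideal.Quotient.mk Kh) ≠ ⊤ := by
    rw [hMmax, IsLocalRing.map_maximalIdeal_of_surjective _ Ideal.Quotient.mk_surjective]
    exact (maximalIdeal.isMaximal _).ne_top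
  have hK := Ideal.iInf_pow_eq_bot_of_isLocalRing (M.map (Ideal.Quotient.mk Kh)) hMq
  have hxq : Ideal.Quotient.mk Kh x ∈ (⨅ i : ℕ, (M.map (Ideal.Quotient.mk Kh)) ^ i) := by
    rw [Ideal.mem_iInf]
    intro n
    obtain ⟨u, hu, v, hv, huv⟩ := Submodule.mem_sup.mp (hmem n)
    rw [← huv, map_add, Ideal.Quotient.eq_zero_iff_mem.mpr hu, zero_add, ← Ideal.map_pow]
    exact Ideal.mem_map_of_mem _ hv
  rw [hK, Ideal.mem_bot, Ideal.Quotient.eq_zero_iff_mem] at hxq
  exact hxq

end ComplHom

section Good

variable {A S : Type u} [CommRing A] [CommRing S] [IsLocalRing A] [IsLocalRing S]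
  [IsNoetherianRing S] [Algebra A S] [IsLocalHom (algebraMap A S)] [Module.Flat A S]
  [IsRegularLocalRing (S ⧸ (maximalIdeal A).map (algebraMap A S))]

local notation "Ŝ" => AdicCompletion (maximalIdeal S) S

omit [Module.Flat A S] [IsRegularLocalRing (S ⧸ (maximalIdeal A).map (algebraMap A S))] in
theorem isLocalHom_algebraMap_completion : IsLocalHom (algebraMap A Ŝ) := by
  rw [IsScalarTower.algebraMap_eq A S Ŝ]
  exact RingHom.isLocalHom_comp _ _

omit [IsLocalHom (algebraMap A S)]
  [IsRegularLocalRing (S ⧸ (maximalIdeal A).map (algebraMap A S))] in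
theorem flat_completion : Module.Flat A Ŝ := Module.Flat.trans A S Ŝ

omit [Module.Flat A S] in
theorem isRegularLocalRing_fibre_completion :
    IsRegularLocalRing (Ŝ ⧸ (maximalIdeal A).map (algebraMap A Ŝ)) := by
  set 𝔞 : Ideal S := (maximalIdeal A).map (algebraMap A S) with h𝔞
  have h1 : (maximalIdeal A).map (algebraMap A Ŝ) = 𝔞.map (algebraMap S Ŝ) := by
    rw [h𝔞, Ideal.map_map, ← IsScalarTower.algebraMap_eq]
  obtain ⟨e⟩ := Groth.Agent.Lib.Helper82.ComplQuot.exists_ringEquiv S 𝔞
  haveI := Groth.Agent.Lib.Helper82.CICompl.isRegularLocalRing_completion (S ⧸ 𝔞)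
  exact IsRegularLocalRing.of_ringEquiv (e.trans (Ideal.quotEquivOfEq h1.symm))

end Good

end Groth.Agent.Lib.Helper10.GoodFact
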