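import Mathlib
import Groth.Agent.Lib.Helper10.GfCompletion
import Groth.Agent.S0542

/-!
# A complete local ring dominating two complete local rings over a common quotient (helper10)

For surjections `h : P → B`, `h' : P' → B` of `A`-algebras with `P`, `P'` complete Noetherian
local rings, the completion of the fibre product `P ×_B P'` is a complete Noetherian local
`A`-algebra mapping onto `P` and `P'` compatibly with the maps to `B`.
-/

set_option autoImplicit false
universe u

namespace Groth.Agent.Lib.Helper10.GoodFact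

open IsLocalRing

section Ext

variable {C B : Type u} [CommRing C] [IsLocalRing C] [CommRing B] [IsLocalRing B]
  [IsNoetherianRing B]

/-- two ring maps out of the completion of a local ring into a Noetherian local ring which are
continuous and agree on the ring itself are equal. -/
theorem ringHom_ext_completion (fg : (maximalIdeal C).FG)
    (φ ψ : AdicCompletion (maximalIdeal C) C →+* B)
    (hφ : ((maximalIdeal C).map (algebraMap C (AdicCompletion (maximalIdeal C) C))).map φ ≤
      maximalIdeal B)
    (hψ : ((maximalIdeal C).map (algebraMap C (AdicCompletion (maximalIdeal C) C))).map ψ ≤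
      maximalIdeal B)
    (hag : ∀ c, φ (algebraMap C _ c) = ψ (algebraMap C _ c)) : φ = ψ := by
  set M : Ideal (AdicCompletion (maximalIdeal C) C) :=
    (maximalIdeal C).map (algebraMap C (AdicCompletion (maximalIdeal C) C)) with hM
  ext x
  have hK := Ideal.iInf_pow_eq_bot_of_isLocalRing (maximalIdeal B)
    (maximalIdeal.isMaximal B).ne_top
  have hmem : φ x - ψ x ∈ (⨅ i : ℕ, maximalIdeal B ^ i) := by
    rw [Ideal.mem_iInf]
    intro n
    obtain ⟨c, hc⟩ := Ideal.Quotient.mk_surjective (AdicCompletion.evalₐ (maximalIdeal C) n x)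
    have h1 : x - algebraMap C _ c ∈ M ^ n := by
      rw [hM, ← Groth.Agent.Lib.Helper18.ker_evalₐ_eq_map_pow _ fg n, RingHom.mem_ker]
      change AdicCompletion.evalₐ (maximalIdeal C) n (x - AdicCompletion.of _ C c) = 0
      rw [map_sub, AdicCompletion.evalₐ_of, hc, sub_self]
    have h2 : φ (x - algebraMap C _ c) ∈ maximalIdeal B ^ n := by
      have := Ideal.mem_map_of_mem φ h1
      rw [Ideal.map_pow] at this
      exact Ideal.pow_right_mono hφ n this
    have h3 : ψ (x - algebraMap C _ c) ∈ maximalIdeal B ^ n := by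
      have := Ideal.mem_map_of_mem ψ h1
      rw [Ideal.map_pow] at this
      exact Ideal.pow_right_mono hψ n this
    have h4 : φ x - ψ x = φ (x - algebraMap C _ c) - ψ (x - algebraMap C _ c) := by
      rw [map_sub, map_sub, hag c]; ring
    rw [h4]
    exact Ideal.sub_mem _ h2 h3
  rw [hK, Ideal.mem_bot] at hmem
  exact sub_eq_zero.mp hmem

end Ext

section Pullback

variable {A P P' B : Type u} [CommRing A] [CommRing P] [CommRing P'] [CommRing B]
  [Algebra A P] [Algebra A P'] [Algebra A B] [IsLocalRing P] [IsLocalRing P'] [IsLocalRing B]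
  [IsNoetherianRing P] [IsNoetherianRing P'] [IsNoetherianRing B]
  [IsAdicComplete (maximalIdeal P) P] [IsAdicComplete (maximalIdeal P') P']
  (h : P →ₐ[A] B) (h' : P' →ₐ[A] B)

/-- **A complete Noetherian local ring dominating `P` and `P'` over `B`.** -/
theorem exists_dominating (hh : Function.Surjective h) (hh' : Function.Surjective h') :
    ∃ (E : Type u) (_ : CommRing E) (_ : IsLocalRing E) (_ : IsNoetherianRing E)
      (_ : IsAdicComplete (maximalIdeal E) E) (_ : Algebra A E) (q : E →ₐ[A] P)
      (q' : E →ₐ[A] P'), Function.Surjective q ∧ Function.Surjective q' ∧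
        h.comp q = h'.comp q' := by
  classical
  haveI hloc' : IsLocalHom h' :=
    ⟨fun a ha => (IsLocalHom.of_surjective (h' : P' →+* B) hh').map_nonunit a ha⟩
  haveI hlocC : IsLocalRing (AlgHom.pullback h h') := AlgHom.isLocalRing_pullback h h'
  set pr₁ : AlgHom.pullback h h' →ₐ[A] P := AlgHom.pullbackFst h h' with hpr₁
  set pr₂ : AlgHom.pullback h h' →ₐ[A] P' := AlgHom.pullbackSnd h h' with hpr₂
  have hs₁ : Function.Surjective pr₁ := AlgHom.surjective_pullbackFst_of_surjective h h' hh'
  have hs₂ : Function.Surjective pr₂ := AlgHom.surjective_pullbackSnd_of_surjective h h' hh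
  have hsq : h.comp pr₁ = h'.comp pr₂ := AlgHom.pullback_comm_sq h h'
  -- the maximal ideal of the fibre product is finitely generated
  have hker₁ : (RingHom.ker (pr₁ : AlgHom.pullback h h' →+* P)).FG := by
    apply Ideal.fg_of_fg_map_of_fg_inf_ker_of_surjective
      (f := (pr₂ : AlgHom.pullback h h' →+* P')) (IsNoetherian.noetherian _) ?_ hs₂
    have hbot : RingHom.ker (pr₁ : AlgHom.pullback h h' →+* P) ⊓
        RingHom.ker (pr₂ : AlgHom.pullback h h' →+* P') = ⊥ := by
      rw [eq_bot_iff]
      rintro ⟨⟨p, p'⟩, hx⟩ ⟨h1, h2⟩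
      have h1' : p = 0 := h1
      have h2' : p' = 0 := h2
      rw [Ideal.mem_bot]
      apply Subtype.ext
      exact Prod.ext h1' h2'
    rw [hbot]
    exact Submodule.fg_bot
  have hfg : (maximalIdeal (AlgHom.pullback h h')).FG := by
    apply Ideal.fg_of_fg_map_of_fg_inf_ker_of_surjective
      (f := (pr₁ : AlgHom.pullback h h' →+* P)) (IsNoetherian.noetherian _) ?_ hs₁
    have hle : RingHom.ker (pr₁ : AlgHom.pullback h h' →+* P) ≤
        maximalIdeal (AlgHom.pullback h h') :=
      IsLocalRing.le_maximalIdeal (RingHom.ker_ne_top _)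
    rw [inf_eq_right.mpr hle]
    exact hker₁
  -- the completion
  haveI hlocE : IsLocalRing (AdicCompletion (maximalIdeal (AlgHom.pullback h h'))
      (AlgHom.pullback h h')) := AdicCompletion.isLocalRing_of_fg hfg
  haveI hnoeQ : IsNoetherianRing (AlgHom.pullback h h' ⧸ maximalIdeal (AlgHom.pullback h h')) := by
    letI := Ideal.Quotient.field (maximalIdeal (AlgHom.pullback h h'))
    infer_instance
  haveI hnoeE : IsNoetherianRing (AdicCompletion (maximalIdeal (AlgHom.pullback h h'))
      (AlgHom.pullback h h')) := Groth.Agent.S0542.result _ _ hfg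
  have hcompE := AdicCompletion.isAdicComplete_of_fg hfg
  have hm₁ : (maximalIdeal (AlgHom.pullback h h')).map (pr₁ : AlgHom.pullback h h' →+* P) ≤
      maximalIdeal P := (IsLocalRing.map_maximalIdeal_of_surjective _ hs₁).le
  have hm₂ : (maximalIdeal (AlgHom.pullback h h')).map (pr₂ : AlgHom.pullback h h' →+* P') ≤
      maximalIdeal P' := (IsLocalRing.map_maximalIdeal_of_surjective _ hs₂).le
  let q₀ := complHom (pr₁ : AlgHom.pullback h h' →+* P) hm₁
  let q₀' := complHom (pr₂ : AlgHom.pullback h h' →+* P') hm₂
  have hq₀ : ∀ c, q₀ (algebraMap _ _ c) = pr₁ c := complHom_algebraMap _ hm₁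
  have hq₀' : ∀ c, q₀' (algebraMap _ _ c) = pr₂ c := complHom_algebraMap _ hm₂
  let q : AdicCompletion (maximalIdeal (AlgHom.pullback h h')) (AlgHom.pullback h h') →ₐ[A] P :=
    { q₀ with
      commutes' := fun a => by
        change q₀ (algebraMap A _ a) = _
        rw [IsScalarTower.algebraMap_apply A (AlgHom.pullback h h')
          (AdicCompletion (maximalIdeal (AlgHom.pullback h h')) (AlgHom.pullback h h')), hq₀]
        exact pr₁.commutes a }
  let q' : AdicCompletion (maximalIdeal (AlgHom.pullback h h')) (AlgHom.pullback h h') →ₐ[A] P' :=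
    { q₀' with
      commutes' := fun a => by
        change q₀' (algebraMap A _ a) = _
        rw [IsScalarTower.algebraMap_apply A (AlgHom.pullback h h')
          (AdicCompletion (maximalIdeal (AlgHom.pullback h h')) (AlgHom.pullback h h')), hq₀']
        exact pr₂.commutes a }
  refine ⟨AdicCompletion (maximalIdeal (AlgHom.pullback h h')) (AlgHom.pullback h h'),
    inferInstance, hlocE, hnoeE, hcompE, inferInstance, q, q',
    complHom_surjective _ hm₁ hs₁, complHom_surjective _ hm₂ hs₂, ?_⟩
  -- compatibility, by density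
  have hcomp₁ : ((h : P →+* B).comp q₀).comp (algebraMap (AlgHom.pullback h h') _) =
      ((h : P →+* B).comp (pr₁ : AlgHom.pullback h h' →+* P)) := by
    ext c
    exact congrArg h (hq₀ c)
  have hcomp₂ : ((h' : P' →+* B).comp q₀').comp (algebraMap (AlgHom.pullback h h') _) =
      ((h' : P' →+* B).comp (pr₂ : AlgHom.pullback h h' →+* P')) := by
    ext c
    exact congrArg h' (hq₀' c)
  have hsurj₁ : Function.Surjective ((h : P →+* B).comp (pr₁ : AlgHom.pullback h h' →+* P)) :=
    hh.comp hs₁
  have hsurj₂ : Function.Surjective ((h' : P' →+* B).comp (pr₂ : AlgHom.pullback h h' →+* P')) :=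
    hh'.comp hs₂
  have key : (h : P →+* B).comp q₀ = (h' : P' →+* B).comp q₀' := by
    apply ringHom_ext_completion hfg
    · rw [Ideal.map_map, hcomp₁, IsLocalRing.map_maximalIdeal_of_surjective _ hsurj₁]
    · rw [Ideal.map_map, hcomp₂, IsLocalRing.map_maximalIdeal_of_surjective _ hsurj₂]
    · intro c
      change h (q₀ (algebraMap _ _ c)) = h' (q₀' (algebraMap _ _ c))
      rw [hq₀, hq₀']
      exact congrArg (fun f : AlgHom.pullback h h' →ₐ[A] B => f c) hsq
  ext x
  exact congrArg (fun f : _ →+* B => f x) key

end Pullback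

end Groth.Agent.Lib.Helper10.GoodFact
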