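import Mathlib
import Groth.Agent.Lib.Helper10.GfMinGen
import Groth.Agent.Lib.Helper10.GfComparable
import Groth.Agent.Lib.Helper10.GfCompletion
import Groth.Agent.Lib.Helper10.GfPullback
import Groth.Agent.Lib.Helper10.GfCohen

/-!
# Independence of the good factorization (Stacks 09Q2) (helper10)

For a local homomorphism `A → B` of complete Noetherian local rings and two good factorizations
`A → S → B`, `A → S' → B`, the kernel of `S → B` is generated by a regular sequence iff the
kernel of `S' → B` is.
-/

set_option autoImplicit false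
universe u

namespace Groth.Agent.Lib.Helper10.GoodFact

open IsLocalRing

variable {A B S S' : Type u} [CommRing A] [CommRing B] [CommRing S] [CommRing S']
  [IsNoetherianRing A] [IsNoetherianRing B] [IsNoetherianRing S] [IsNoetherianRing S']
  [IsLocalRing A] [IsLocalRing B] [IsLocalRing S] [IsLocalRing S']
  [IsAdicComplete (maximalIdeal A) A] [IsAdicComplete (maximalIdeal B) B]
  [Algebra A B] [Algebra A S] [Algebra A S'] [IsLocalHom (algebraMap A B)]
  [Module.Flat A S] [Module.Flat A S']
  [IsRegularLocalRing (S ⧸ Ideal.map (algebraMap A S) (maximalIdeal A))]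
  [IsRegularLocalRing (S' ⧸ Ideal.map (algebraMap A S') (maximalIdeal A))]

omit [IsNoetherianRing A] [IsNoetherianRing B] [IsNoetherianRing S] [IsLocalRing S]
  [IsAdicComplete (maximalIdeal A) A] [IsAdicComplete (maximalIdeal B) B] [Module.Flat A S]
  [IsRegularLocalRing (S ⧸ Ideal.map (algebraMap A S) (maximalIdeal A))] in
lemma isLocalHom_of_algHom (g : S →ₐ[A] B) : IsLocalHom (algebraMap A S) := by
  constructor
  intro a ha
  have h1 : IsUnit (algebraMap A B a) := by
    rw [← g.commutes a]
    exact ha.map g
  exact isUnit_of_map_unit (algebraMap A B) a h1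

/-- one direction of the independence statement. -/
theorem genReg_transfer (g : S →ₐ[A] B) (g' : S' →ₐ[A] B) (hg : Function.Surjective g)
    (hg' : Function.Surjective g') (h : GenReg S (RingHom.ker (g : S →+* B))) :
    GenReg S' (RingHom.ker (g' : S' →+* B)) := by
  haveI hlS : IsLocalHom (algebraMap A S) := isLocalHom_of_algHom g
  haveI hlS' : IsLocalHom (algebraMap A S') := isLocalHom_of_algHom g'
  -- the completions are good
  haveI hlŜ : IsLocalHom (algebraMap A (AdicCompletion (maximalIdeal S) S)) :=
    isLocalHom_algebraMap_completion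
  haveI hlŜ' : IsLocalHom (algebraMap A (AdicCompletion (maximalIdeal S') S')) :=
    isLocalHom_algebraMap_completion
  haveI hfŜ : Module.Flat A (AdicCompletion (maximalIdeal S) S) := flat_completion
  haveI hfŜ' : Module.Flat A (AdicCompletion (maximalIdeal S') S') := flat_completion
  haveI hrŜ : IsRegularLocalRing (AdicCompletion (maximalIdeal S) S ⧸
      (maximalIdeal A).map (algebraMap A (AdicCompletion (maximalIdeal S) S))) :=
    isRegularLocalRing_fibre_completion
  haveI hrŜ' : IsRegularLocalRing (AdicCompletion (maximalIdeal S') S' ⧸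
      (maximalIdeal A).map (algebraMap A (AdicCompletion (maximalIdeal S') S'))) :=
    isRegularLocalRing_fibre_completion
  -- the completed maps
  have hm : (maximalIdeal S).map (g : S →+* B) ≤ maximalIdeal B :=
    (IsLocalRing.map_maximalIdeal_of_surjective (g : S →+* B) hg).le
  have hm' : (maximalIdeal S').map (g' : S' →+* B) ≤ maximalIdeal B :=
    (IsLocalRing.map_maximalIdeal_of_surjective (g' : S' →+* B) hg').le
  let ĝ₀ := complHom (g : S →+* B) hm
  let ĝ₀' := complHom (g' : S' →+* B) hm'
  let ĝ : AdicCompletion (maximalIdeal S) S →ₐ[A] B :=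
    { ĝ₀ with
      commutes' := fun a => by
        change ĝ₀ (algebraMap A _ a) = _
        rw [IsScalarTower.algebraMap_apply A S (AdicCompletion (maximalIdeal S) S)]
        exact (complHom_algebraMap (g : S →+* B) hm _).trans (g.commutes a) }
  let ĝ' : AdicCompletion (maximalIdeal S') S' →ₐ[A] B :=
    { ĝ₀' with
      commutes' := fun a => by
        change ĝ₀' (algebraMap A _ a) = _
        rw [IsScalarTower.algebraMap_apply A S' (AdicCompletion (maximalIdeal S') S')]
        exact (complHom_algebraMap (g' : S' →+* B) hm' _).trans (g'.commutes a) }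
  have hĝ : Function.Surjective ĝ := complHom_surjective (g : S →+* B) hm hg
  have hĝ' : Function.Surjective ĝ' := complHom_surjective (g' : S' →+* B) hm' hg'
  have hker : RingHom.ker ĝ₀ = (RingHom.ker (g : S →+* B)).map (algebraMap S _) :=
    ker_complHom (g : S →+* B) hm hg
  have hker' : RingHom.ker ĝ₀' = (RingHom.ker (g' : S' →+* B)).map (algebraMap S' _) :=
    ker_complHom (g' : S' →+* B) hm' hg'
  -- step 1: pass to the completion of `S`
  have h1 : GenReg (AdicCompletion (maximalIdeal S) S) (RingHom.ker ĝ₀) := by
    rw [hker]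
    exact (genReg_map_iff _ (RingHom.ker_ne_top _)).mp h
  -- step 2: a dominating complete local ring and a good factorization of it
  obtain ⟨E, _, _, _, _, _, q, q', hq, hq', hqq⟩ := exists_dominating ĝ ĝ' hĝ hĝ'
  haveI hlE : IsLocalHom (algebraMap A E) := by
    constructor
    intro a ha
    have h2 : IsUnit (algebraMap A (AdicCompletion (maximalIdeal S) S) a) := by
      rw [← q.commutes a]
      exact ha.map q
    exact isUnit_of_map_unit (algebraMap A (AdicCompletion (maximalIdeal S) S)) a h2
  obtain ⟨S'', _, _, _, _, _, _, _, p, hp⟩ := exists_good_factorization (A := A) (E := E)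
  let π : S'' →ₐ[A] AdicCompletion (maximalIdeal S) S := q.comp p
  let π' : S'' →ₐ[A] AdicCompletion (maximalIdeal S') S' := q'.comp p
  have hπ : Function.Surjective π := hq.comp hp
  have hπ' : Function.Surjective π' := hq'.comp hp
  have hcomm : ĝ.comp π = ĝ'.comp π' := by
    change (ĝ.comp q).comp p = (ĝ'.comp q').comp p
    rw [hqq]
  -- step 3: comparison
  have h2 : GenReg S'' ((RingHom.ker ĝ₀).comap (π : S'' →+* _)) :=
    (genReg_comap_iff π hπ _ (RingHom.ker_ne_top _)).mp h1
  have hcomap : (RingHom.ker ĝ₀).comap (π : S'' →+* _) =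
      (RingHom.ker ĝ₀').comap (π' : S'' →+* _) := by
    ext x
    rw [Ideal.mem_comap, Ideal.mem_comap, RingHom.mem_ker, RingHom.mem_ker]
    have hx : ĝ (π x) = ĝ' (π' x) := congrArg (fun f : S'' →ₐ[A] B => f x) hcomm
    change ĝ (π x) = 0 ↔ ĝ' (π' x) = 0
    rw [hx]
  rw [hcomap] at h2
  have h3 : GenReg (AdicCompletion (maximalIdeal S') S') (RingHom.ker ĝ₀') :=
    (genReg_comap_iff π' hπ' _ (RingHom.ker_ne_top _)).mpr h2
  rw [hker'] at h3
  exact (genReg_map_iff _ (RingHom.ker_ne_top _)).mpr h3

end Groth.Agent.Lib.Helper10.GoodFact
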