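import Mathlib
import Groth.Agent.S2053
import Groth.Agent.Lib.Helper94.CIAsc3

/-!
# Cohen squares and the associated good factorization (helper10)

* `exists_cohen_square`: a local homomorphism `A → B` of complete Noetherian local rings sits in a
  commutative square `R → T`, `R ↠ A`, `T ↠ B` with `R`, `T` regular local rings, `R → T` flat and
  local with regular closed fibre (S2053 + regularity of power series rings).
* `exists_goodFact_of_square`: for such a square (no regularity of `R`, `T` needed) the ring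
  `T ⧸ (ker ρ) T` is a flat local `A`-algebra with regular closed fibre mapping onto `B` with kernel
  `(ker σ) / (ker ρ) T`.
-/

set_option autoImplicit false
universe u

namespace Groth.Agent.Lib.Helper10.GoodFact

open IsLocalRing

theorem exists_cohen_square {A B : Type u} [CommRing A] [CommRing B] [IsLocalRing A]
    [IsLocalRing B] [IsNoetherianRing A] [IsNoetherianRing B]
    [IsAdicComplete (maximalIdeal A) A] [IsAdicComplete (maximalIdeal B) B] [Algebra A B]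
    [IsLocalHom (algebraMap A B)] :
    ∃ (R T : Type u) (_ : CommRing R) (_ : CommRing T) (_ : IsRegularLocalRing R)
      (_ : IsRegularLocalRing T) (_ : Algebra R T) (_ : IsLocalHom (algebraMap R T))
      (_ : Module.Flat R T)
      (_ : IsRegularLocalRing (T ⧸ (maximalIdeal R).map (algebraMap R T)))
      (ρ : R →+* A) (σ : T →+* B), Function.Surjective ρ ∧ Function.Surjective σ ∧
        ∀ r, σ (algebraMap R T r) = algebraMap A B (ρ r) := by
  classical
  obtain ⟨Λ, Λ', instΛ, instΛ', locΛ, n, m, ρ, σ, τ, hcase, hρ, hσ, hcomm, hτ, hreg⟩ :=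
    Groth.Agent.S2053.result (A := A) (B := B)
  have hΛ1 : IsField Λ ∨ CAlg.IsCohenRing Λ := by
    rcases hcase with ⟨-, h, -⟩ | ⟨-, h, -⟩
    · exact Or.inl h
    · exact Or.inr h
  have hΛ2 : IsField Λ' ∨ CAlg.IsCohenRing Λ' := by
    rcases hcase with ⟨-, -, h⟩ | ⟨-, -, h⟩
    · exact Or.inl h
    · exact Or.inr h
  obtain ⟨hloc1, hP⟩ := Groth.Agent.Lib.Helper94.CIAsc3.isRegularLocalRing_mvPowerSeries Λ n hΛ1
  obtain ⟨hloc2, hQ⟩ := Groth.Agent.Lib.Helper94.CIAsc3.isRegularLocalRing_mvPowerSeries Λ' m hΛ2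
  letI algRT : Algebra (MvPowerSeries (Fin n) Λ) (MvPowerSeries (Fin m) Λ') := τ.toAlgebra
  have hστ : ∀ r, σ (τ r) = algebraMap A B (ρ r) := fun r => RingHom.congr_fun hcomm r
  haveI hlocρ : IsLocalHom ρ := hρ.isLocalHom
  haveI hlocτ : IsLocalHom (algebraMap (MvPowerSeries (Fin n) Λ) (MvPowerSeries (Fin m) Λ')) := by
    constructor
    intro r hr
    have h1 : IsUnit (algebraMap A B (ρ r)) := by
      rw [← hστ]
      exact hr.map σ
    have h2 : IsUnit (ρ r) := isUnit_of_map_unit (algebraMap A B) _ h1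
    exact isUnit_of_map_unit ρ r h2
  have hne : (maximalIdeal (MvPowerSeries (Fin n) Λ)).map
      (algebraMap (MvPowerSeries (Fin n) Λ) (MvPowerSeries (Fin m) Λ')) ≠ ⊤ := by
    intro htop
    have h1 := IsLocalRing.map_maximalIdeal_le
      (algebraMap (MvPowerSeries (Fin n) Λ) (MvPowerSeries (Fin m) Λ'))
    rw [htop] at h1
    exact (IsLocalRing.maximalIdeal.isMaximal (MvPowerSeries (Fin m) Λ')).ne_top
      (top_le_iff.mp h1)
  haveI : Nontrivial (MvPowerSeries (Fin m) Λ' ⧸ (maximalIdeal (MvPowerSeries (Fin n) Λ)).map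
      (algebraMap (MvPowerSeries (Fin n) Λ) (MvPowerSeries (Fin m) Λ'))) :=
    Ideal.Quotient.nontrivial_iff.mpr hne
  haveI : IsLocalRing (MvPowerSeries (Fin m) Λ' ⧸ (maximalIdeal (MvPowerSeries (Fin n) Λ)).map
      (algebraMap (MvPowerSeries (Fin n) Λ) (MvPowerSeries (Fin m) Λ'))) :=
    IsLocalRing.of_surjective' (Ideal.Quotient.mk _) Ideal.Quotient.mk_surjective
  haveI : IsRegularRing (MvPowerSeries (Fin m) Λ' ⧸ (maximalIdeal (MvPowerSeries (Fin n) Λ)).map
      (algebraMap (MvPowerSeries (Fin n) Λ) (MvPowerSeries (Fin m) Λ'))) := hreg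
  exact ⟨MvPowerSeries (Fin n) Λ, MvPowerSeries (Fin m) Λ', inferInstance, inferInstance, hP, hQ,
    algRT, hlocτ, hτ, IsRegularLocalRing.of_isRegularRing_of_isLocalRing _, ρ, σ, hρ, hσ, hστ⟩

section Square

variable {A B R T : Type u} [CommRing A] [CommRing B] [CommRing R] [CommRing T]
  [IsLocalRing A] [IsLocalRing B] [IsLocalRing R] [IsLocalRing T] [IsNoetherianRing T]
  [Algebra A B] [IsLocalHom (algebraMap A B)] [Algebra R T] [Module.Flat R T]
  [IsRegularLocalRing (T ⧸ (maximalIdeal R).map (algebraMap R T))]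

theorem exists_goodFact_of_square (ρ : R →+* A) (σ : T →+* B) (hρ : Function.Surjective ρ)
    (hσ : Function.Surjective σ) (hcomm : ∀ r, σ (algebraMap R T r) = algebraMap A B (ρ r)) :
    ∃ (_ : IsLocalRing (T ⧸ (RingHom.ker ρ).map (algebraMap R T)))
      (_ : Algebra A (T ⧸ (RingHom.ker ρ).map (algebraMap R T)))
      (_ : IsLocalHom (algebraMap A (T ⧸ (RingHom.ker ρ).map (algebraMap R T))))
      (_ : Module.Flat A (T ⧸ (RingHom.ker ρ).map (algebraMap R T)))
      (_ : IsRegularLocalRing ((T ⧸ (RingHom.ker ρ).map (algebraMap R T)) ⧸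
        (maximalIdeal A).map (algebraMap A (T ⧸ (RingHom.ker ρ).map (algebraMap R T)))))
      (g : (T ⧸ (RingHom.ker ρ).map (algebraMap R T)) →ₐ[A] B),
      Function.Surjective g ∧
        RingHom.ker g = (RingHom.ker σ).map (Ideal.Quotient.mk _) ∧
        (∀ r, algebraMap A (T ⧸ (RingHom.ker ρ).map (algebraMap R T)) (ρ r) =
          Ideal.Quotient.mk _ (algebraMap R T r)) ∧
        ∀ t, g (Ideal.Quotient.mk _ t) = σ t := by
  classical
  set 𝔞 : Ideal R := RingHom.ker ρ with h𝔞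
  set 𝔟 : Ideal T := 𝔞.map (algebraMap R T) with h𝔟
  have h𝔟σ : 𝔟 ≤ RingHom.ker σ := by
    rw [h𝔟, Ideal.map_le_iff_le_comap]
    intro r hr
    rw [Ideal.mem_comap, RingHom.mem_ker, hcomm]
    have : ρ r = 0 := hr
    rw [this, map_zero]
  have h𝔟ne : 𝔟 ≠ ⊤ := fun htop => RingHom.ker_ne_top σ (top_le_iff.mp (htop ▸ h𝔟σ))
  haveI : Nontrivial (T ⧸ 𝔟) := Ideal.Quotient.nontrivial_iff.mpr h𝔟ne
  haveI hlocQ : IsLocalRing (T ⧸ 𝔟) :=
    IsLocalRing.of_surjective' (Ideal.Quotient.mk 𝔟) Ideal.Quotient.mk_surjective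
  let e : (R ⧸ 𝔞) ≃+* A := RingHom.quotientKerEquivOfSurjective hρ
  have he : ∀ r, e (Ideal.Quotient.mk 𝔞 r) = ρ r := fun r => rfl
  have hesymm : ∀ r, e.symm (ρ r) = Ideal.Quotient.mk 𝔞 r := fun r => by
    rw [RingEquiv.symm_apply_eq, he]
  letI algAA' : Algebra A (R ⧸ 𝔞) := (e.symm : A →+* _).toAlgebra
  letI algAQ : Algebra A (T ⧸ 𝔟) :=
    ((algebraMap (R ⧸ 𝔞) (T ⧸ 𝔟)).comp (e.symm : A →+* _)).toAlgebra
  haveI : IsScalarTower A (R ⧸ 𝔞) (T ⧸ 𝔟) := IsScalarTower.of_algebraMap_eq (fun _ => rfl)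
  have hι : ∀ r, algebraMap A (T ⧸ 𝔟) (ρ r) = Ideal.Quotient.mk 𝔟 (algebraMap R T r) := by
    intro r
    change (algebraMap (R ⧸ 𝔞) (T ⧸ 𝔟)) (e.symm (ρ r)) = _
    rw [hesymm]
    rfl
  haveI hflatA' : Module.Flat A (R ⧸ 𝔞) := by
    have h1 : (e.symm : A →+* (R ⧸ 𝔞)).Flat :=
      RingHom.Flat.of_bijective (f := (e.symm : A →+* (R ⧸ 𝔞))) e.symm.bijective
    exact h1
  haveI hflatQ' : Module.Flat (R ⧸ 𝔞) (T ⧸ 𝔟) :=
    Module.Flat.of_linearEquiv
      (Algebra.TensorProduct.quotIdealMapEquivQuotTensor T 𝔞).toLinearEquiv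
  haveI hflatQ : Module.Flat A (T ⧸ 𝔟) := Module.Flat.trans A (R ⧸ 𝔞) (T ⧸ 𝔟)
  let p₀ : (T ⧸ 𝔟) →+* B := Ideal.Quotient.lift 𝔟 σ (fun t ht => h𝔟σ ht)
  have hp₀ : ∀ t, p₀ (Ideal.Quotient.mk 𝔟 t) = σ t := fun t => rfl
  have hp₀alg : ∀ a, p₀ (algebraMap A _ a) = algebraMap A B a := by
    intro a
    obtain ⟨r, rfl⟩ := hρ a
    rw [hι, hp₀, hcomm]
  let p : (T ⧸ 𝔟) →ₐ[A] B := { p₀ with commutes' := hp₀alg }
  have hp : Function.Surjective p := by
    intro x
    obtain ⟨t, rfl⟩ := hσ x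
    exact ⟨Ideal.Quotient.mk 𝔟 t, hp₀ t⟩
  haveI hlocAQ : IsLocalHom (algebraMap A (T ⧸ 𝔟)) := by
    constructor
    intro a ha
    have h1 : IsUnit (algebraMap A B a) := by
      rw [← hp₀alg]
      exact ha.map p₀
    exact isUnit_of_map_unit (algebraMap A B) a h1
  have hmA : (maximalIdeal R).map ρ = maximalIdeal A :=
    IsLocalRing.map_maximalIdeal_of_surjective ρ hρ
  set J : Ideal T := (maximalIdeal R).map (algebraMap R T) with hJ
  have hcompeq : (algebraMap A (T ⧸ 𝔟)).comp ρ = (Ideal.Quotient.mk 𝔟).comp (algebraMap R T) :=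
    RingHom.ext hι
  have hfib : (maximalIdeal A).map (algebraMap A (T ⧸ 𝔟)) = J.map (Ideal.Quotient.mk 𝔟) := by
    rw [← hmA, Ideal.map_map, hcompeq, ← Ideal.map_map]
  have h𝔟J : 𝔟 ≤ J := by
    rw [h𝔟, hJ]
    apply Ideal.map_mono
    exact IsLocalRing.le_maximalIdeal (RingHom.ker_ne_top ρ)
  have hregfib : IsRegularLocalRing ((T ⧸ 𝔟) ⧸ (maximalIdeal A).map (algebraMap A (T ⧸ 𝔟))) :=
    IsRegularLocalRing.of_ringEquiv
      ((Ideal.quotEquivOfEq hfib).trans (DoubleQuot.quotQuotEquivQuotOfLE h𝔟J)).symm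
  have hker : RingHom.ker p = (RingHom.ker σ).map (Ideal.Quotient.mk 𝔟) := by
    apply le_antisymm
    · intro x hx
      obtain ⟨t, rfl⟩ := Ideal.Quotient.mk_surjective x
      have h1 : σ t = 0 := hx
      exact Ideal.mem_map_of_mem _ h1
    · rw [Ideal.map_le_iff_le_comap]
      intro t ht
      rw [Ideal.mem_comap, RingHom.mem_ker]
      exact ht
  exact ⟨hlocQ, algAQ, hlocAQ, hflatQ, hregfib, p, hp, hker, hι, hp₀⟩

end Square

end Groth.Agent.Lib.Helper10.GoodFact
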