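import Mathlib
import Groth.Prelude.Def_DRing2
import Groth.Agent.Lib.Helper85.IntMult.FlatPull
import Groth.Agent.Lib.Helper85.IntMult.TorVanish
import Groth.Agent.Lib.Helper16.KosTor.Excess
import Groth.Agent.Lib.Helper94.KoszulBridge

/-!
# Local vanishing of `Tor_n(A/I, A/J)` for ideals that are locally generated by regular sequences
whose concatenation is regular (helper10)
-/

set_option autoImplicit false
universe u

namespace Groth.Agent.Lib.Helper10.InterRegTor

open RingTheory.Sequence CategoryTheory TensorProduct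

section Vanish

variable {B : Type u} [CommRing B]

/-- `Tor_n(B/(f), B/(g)) = 0` for `n > 0` when `f`, `g`, `f ++ g` are weakly regular. -/
theorem subsingleton_tor_quot (f g : List B) (hf : IsWeaklyRegular B f) (hg : IsWeaklyRegular B g)
    (hfg : IsWeaklyRegular B (f ++ g)) (n : ℕ) (hn : 0 < n) :
    Subsingleton (DRing.Tor B n (B ⧸ Ideal.ofList f) (B ⧸ Ideal.ofList g)) := by
  have kf := Groth.Agent.Lib.Helper94.isKoszulRegularSeq_of_isWeaklyRegular B f hf
  have kg := Groth.Agent.Lib.Helper94.isKoszulRegularSeq_of_isWeaklyRegular B g hg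
  have kfg := Groth.Agent.Lib.Helper94.isKoszulRegularSeq_of_isWeaklyRegular B (f ++ g) hfg
  obtain ⟨e⟩ := Groth.Agent.Lib.Helper16.KosTor.nonempty_tor_equiv ([] : List B) f g kf kg kfg n
  have h0 : ([] : List B).length.choose n = 0 := by
    rw [List.length_nil]
    exact Nat.choose_eq_zero_of_lt hn
  haveI : IsEmpty (Fin (([] : List B).length.choose n)) := by
    rw [h0]; infer_instance
  exact e.toEquiv.subsingleton

/-- transport of `Tor` along linear equivalences in both variables. -/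
theorem nonempty_tor_congr {M M' N N' : Type u} [AddCommGroup M] [Module B M] [AddCommGroup M']
    [Module B M'] [AddCommGroup N] [Module B N] [AddCommGroup N'] [Module B N']
    (eM : M ≃ₗ[B] M') (eN : N ≃ₗ[B] N') (n : ℕ) :
    Nonempty (DRing.Tor B n M N ≃ₗ[B] DRing.Tor B n M' N') :=
  ⟨((((CategoryTheory.Tor (ModuleCat.{u} B) n).mapIso eM.toModuleIso).app (ModuleCat.of B N)) ≪≫
    (((CategoryTheory.Tor (ModuleCat.{u} B) n).obj (ModuleCat.of B M')).mapIso
      eN.toModuleIso)).toLinearEquiv⟩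

end Vanish

section Local

variable {A : Type u} [CommRing A] [IsNoetherianRing A]

lemma smul_eq_zero_of_equiv_quot (I : Ideal A) {M : Type u} [AddCommGroup M] [Module A M]
    (eM : M ≃ₗ[A] A ⧸ I) (a : A) (ha : a ∈ I) (y : M) : a • y = 0 := by
  apply eM.injective
  rw [map_smul, map_zero]
  obtain ⟨b, hb⟩ := Ideal.Quotient.mk_surjective (eM y)
  rw [← hb]
  change Ideal.Quotient.mk I (a * b) = 0
  exact Ideal.Quotient.eq_zero_iff_mem.mpr (I.mul_mem_right _ ha)

/-- base change of `A/I` to an `A`-algebra `B`. -/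
theorem nonempty_baseChange_quot_equiv (I : Ideal A) {M : Type u} [AddCommGroup M] [Module A M]
    (eM : M ≃ₗ[A] A ⧸ I) (B : Type u) [CommRing B] [Algebra A B] (f : List B)
    (hf : I.map (algebraMap A B) = Ideal.ofList f) :
    Nonempty ((B ⊗[A] M) ≃ₗ[B] (B ⧸ Ideal.ofList f)) := by
  let e1 : (B ⊗[A] M) ≃ₗ[B] (B ⊗[A] (A ⧸ I)) :=
    TensorProduct.AlgebraTensorModule.congr (LinearEquiv.refl B B) eM
  let e2 : (B ⊗[A] (A ⧸ I)) ≃ₗ[B] (B ⧸ I.map (algebraMap A B)) :=
    (Algebra.TensorProduct.quotIdealMapEquivTensorQuot B I).symm.toLinearEquiv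
  let e3 : (B ⧸ I.map (algebraMap A B)) ≃ₗ[B] (B ⧸ Ideal.ofList f) :=
    Submodule.quotEquivOfEq _ _ hf
  exact ⟨e1 ≪≫ₗ e2 ≪≫ₗ e3⟩

/-- **Local criterion.**  `Tor_n^A(M, N) = 0` for `n > 0`, `M ≅ A/I`, `N ≅ A/J`, as soon as around
every maximal ideal containing `I` and `J` the two ideals are generated, on a basic open, by
weakly regular sequences whose concatenation is weakly regular. -/
theorem subsingleton_tor_of_local (I J : Ideal A)
    (M N : Type u) [AddCommGroup M] [Module A M] [AddCommGroup N] [Module A N]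
    (eM : M ≃ₗ[A] A ⧸ I) (eN : N ≃ₗ[A] A ⧸ J)
    (H : ∀ 𝔪 : Ideal A, 𝔪.IsMaximal → I ≤ 𝔪 → J ≤ 𝔪 → ∃ h : A, h ∉ 𝔪 ∧
      ∃ (B : Type u) (_ : CommRing B) (_ : Algebra A B) (_ : IsLocalization.Away h B)
        (f g : List B), I.map (algebraMap A B) = Ideal.ofList f ∧
          J.map (algebraMap A B) = Ideal.ofList g ∧ IsWeaklyRegular B f ∧ IsWeaklyRegular B g ∧
          IsWeaklyRegular B (f ++ g))
    (n : ℕ) (hn : 0 < n) : Subsingleton (DRing.Tor A n M N) := by
  refine ⟨fun t t' => ?_⟩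
  suffices hz : ∀ t : DRing.Tor A n M N, t = 0 by rw [hz t, hz t']
  intro t
  by_contra ht
  let 𝔞 : Ideal A := Ideal.torsionOf A _ t
  have h𝔞 : 𝔞 ≠ ⊤ := by
    intro h
    have h1 : (1 : A) ∈ 𝔞 := by rw [h]; trivial
    rw [Ideal.mem_torsionOf_iff, one_smul] at h1
    exact ht h1
  obtain ⟨𝔪, hmax, hle⟩ := Ideal.exists_le_maximal 𝔞 h𝔞
  have hI : I ≤ 𝔪 := by
    intro a ha
    apply hle
    rw [Ideal.mem_torsionOf_iff]
    exact Groth.Agent.Lib.Helper85.TorVanish.smul_tor_eq_zero_left (A := A) M N n a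
      (smul_eq_zero_of_equiv_quot I eM a ha) t
  have hJ : J ≤ 𝔪 := by
    intro a ha
    apply hle
    rw [Ideal.mem_torsionOf_iff]
    exact Groth.Agent.Lib.Helper85.TorVanish.smul_tor_eq_zero_right (A := A) M N n a
      (smul_eq_zero_of_equiv_quot J eN a ha) t
  obtain ⟨h, hh, B, _, _, _, f, g, hf, hg, rf, rg, rfg⟩ := H 𝔪 hmax hI hJ
  haveI : Module.Flat A B := IsLocalization.flat B (Submonoid.powers h)
  haveI : Module.Finite A N := Module.Finite.equiv eN.symm
  obtain ⟨e⟩ := Groth.Agent.Lib.Helper85.FlatPull.nonempty_tor_baseChange (A := A) (B := B) M n N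
  obtain ⟨eM'⟩ := nonempty_baseChange_quot_equiv I eM B f hf
  obtain ⟨eN'⟩ := nonempty_baseChange_quot_equiv J eN B g hg
  obtain ⟨e'⟩ := nonempty_tor_congr eM' eN' n
  haveI := subsingleton_tor_quot f g rf rg rfg n hn
  haveI : Subsingleton (B ⊗[A] DRing.Tor A n M N) := (e.symm ≪≫ₗ e').toEquiv.subsingleton
  have h1 : (TensorProduct.mk A B (DRing.Tor A n M N) 1) t = 0 := Subsingleton.elim _ _
  obtain ⟨c, hc⟩ := (IsLocalizedModule.eq_zero_iff (Submonoid.powers h)
    (TensorProduct.mk A B (DRing.Tor A n M N) 1)).mp h1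
  obtain ⟨c, ⟨k, rfl⟩⟩ := c
  have h2 : h ^ k ∈ 𝔪 := by
    apply hle
    rw [Ideal.mem_torsionOf_iff]
    exact hc
  exact hh (hmax.isPrime.mem_of_pow_mem k h2)

/-- the same criterion for modules given by surjective ring homomorphisms. -/
theorem subsingleton_tor_of_ringHom {M N : Type u} [CommRing M] [CommRing N]
    (φ : A →+* M) (ψ : A →+* N) (hφ : Function.Surjective φ) (hψ : Function.Surjective ψ)
    (H : ∀ 𝔪 : Ideal A, 𝔪.IsMaximal → RingHom.ker φ ≤ 𝔪 → RingHom.ker ψ ≤ 𝔪 → ∃ h : A, h ∉ 𝔪 ∧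
      ∃ (B : Type u) (_ : CommRing B) (_ : Algebra A B) (_ : IsLocalization.Away h B)
        (f g : List B), (RingHom.ker φ).map (algebraMap A B) = Ideal.ofList f ∧
          (RingHom.ker ψ).map (algebraMap A B) = Ideal.ofList g ∧ IsWeaklyRegular B f ∧
          IsWeaklyRegular B g ∧ IsWeaklyRegular B (f ++ g))
    (n : ℕ) (hn : 0 < n) :
    Subsingleton (@DRing.Tor A _ n M N _ φ.toModule _ ψ.toModule) := by
  letI : Module A M := φ.toModule
  letI : Module A N := ψ.toModule
  let lφ : A →ₗ[A] M :=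
    { toFun := φ, map_add' := map_add φ, map_smul' := fun r s => by
        rw [smul_eq_mul, map_mul]; rfl }
  let lψ : A →ₗ[A] N :=
    { toFun := ψ, map_add' := map_add ψ, map_smul' := fun r s => by
        rw [smul_eq_mul, map_mul]; rfl }
  have hkφ : LinearMap.ker lφ = RingHom.ker φ := by
    ext a; rfl
  have hkψ : LinearMap.ker lψ = RingHom.ker ψ := by
    ext a; rfl
  let eM : M ≃ₗ[A] A ⧸ RingHom.ker φ :=
    (lφ.quotKerEquivOfSurjective hφ).symm ≪≫ₗ Submodule.quotEquivOfEq _ _ hkφ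
  let eN : N ≃ₗ[A] A ⧸ RingHom.ker ψ :=
    (lψ.quotKerEquivOfSurjective hψ).symm ≪≫ₗ Submodule.quotEquivOfEq _ _ hkψ
  exact subsingleton_tor_of_local (RingHom.ker φ) (RingHom.ker ψ) M N eM eN H n hn

end Local

end Groth.Agent.Lib.Helper10.InterRegTor
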