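import Mathlib
import Groth.Prelude.Def_DRing2
import Groth.Agent.Lib.Helper85.IntMult.FlatPull
import Groth.Agent.Lib.Helper10.InterRegTor

/-!
# Transport of `Tor` along a ring isomorphism (helper10)

`subsingleton_tor_iff_of_ringEquiv`: for a ring isomorphism `e : A ≃+* A'` and `e`-semilinear
additive isomorphisms `M ≃ M'`, `N ≃ N'` the vanishing of `Tor^A_n(M,N)` is equivalent to the
vanishing of `Tor^{A'}_n(M',N')`.
-/

set_option autoImplicit false
universe u

namespace Groth.Agent.Lib.Helper10.GoodFact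

open TensorProduct

section

variable {A A' : Type u} [CommRing A] [CommRing A'] [Algebra A A']
  (hbij : Function.Bijective (algebraMap A A'))
  {M M' : Type u} [AddCommGroup M] [Module A M] [AddCommGroup M'] [Module A' M']

include hbij in
/-- a semilinear isomorphism is a base change along a bijective ring map. -/
theorem nonempty_baseChange_equiv_of_bijective (eM : M ≃+ M')
    (heM : ∀ (a : A) (m : M), eM (a • m) = algebraMap A A' a • eM m) :
    Nonempty ((A' ⊗[A] M) ≃ₗ[A'] M') := by
  letI : Module A M' := Module.compHom M' (algebraMap A A')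
  haveI : IsScalarTower A A' M' := IsScalarTower.of_algebraMap_smul (fun _ _ => rfl)
  let f : M →ₗ[A] M' :=
    { toFun := eM, map_add' := map_add eM, map_smul' := fun a m => heM a m }
  let F : (A' ⊗[A] M) →ₗ[A'] M' := LinearMap.liftBaseChange A' f
  have hF : ∀ m : M, F (1 ⊗ₜ[A] m) = eM m := by
    intro m
    change LinearMap.liftBaseChange A' f (1 ⊗ₜ[A] m) = _
    rw [LinearMap.liftBaseChange_tmul, one_smul]
    rfl
  have hrep : ∀ x : A' ⊗[A] M, ∃ m : M, x = 1 ⊗ₜ[A] m := by
    intro x
    induction x using TensorProduct.induction_on with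
    | zero => exact ⟨0, (TensorProduct.tmul_zero _ _).symm⟩
    | tmul a' m =>
      obtain ⟨a, rfl⟩ := hbij.2 a'
      refine ⟨a • m, ?_⟩
      rw [TensorProduct.tmul_smul, TensorProduct.smul_tmul', Algebra.smul_def, mul_one]
    | add x y hx hy =>
      obtain ⟨m, rfl⟩ := hx
      obtain ⟨m', rfl⟩ := hy
      exact ⟨m + m', (TensorProduct.tmul_add _ _ _).symm⟩
  have hinj : Function.Injective F := by
    intro x y hxy
    obtain ⟨m, rfl⟩ := hrep x
    obtain ⟨m', rfl⟩ := hrep y
    rw [hF, hF] at hxy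
    rw [eM.injective hxy]
  have hsurj : Function.Surjective F := by
    intro m'
    refine ⟨1 ⊗ₜ[A] eM.symm m', ?_⟩
    rw [hF, AddEquiv.apply_symm_apply]
  exact ⟨LinearEquiv.ofBijective F ⟨hinj, hsurj⟩⟩

include hbij in
theorem subsingleton_baseChange_iff_of_bijective (X : Type u) [AddCommGroup X] [Module A X] :
    Subsingleton (A' ⊗[A] X) ↔ Subsingleton X := by
  have hrep : ∀ x : A' ⊗[A] X, ∃ m : X, x = 1 ⊗ₜ[A] m := by
    intro x
    induction x using TensorProduct.induction_on with
    | zero => exact ⟨0, (TensorProduct.tmul_zero _ _).symm⟩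
    | tmul a' m =>
      obtain ⟨a, rfl⟩ := hbij.2 a'
      refine ⟨a • m, ?_⟩
      rw [TensorProduct.tmul_smul, TensorProduct.smul_tmul', Algebra.smul_def, mul_one]
    | add x y hx hy =>
      obtain ⟨m, rfl⟩ := hx
      obtain ⟨m', rfl⟩ := hy
      exact ⟨m + m', (TensorProduct.tmul_add _ _ _).symm⟩
  constructor
  · intro h
    -- `X ≃ A ⊗ X → A' ⊗ X` is injective
    let ι : A ≃ₗ[A] A' := LinearEquiv.ofBijective (Algebra.linearMap A A') hbij
    let E : X ≃ₗ[A] A' ⊗[A] X :=
      (TensorProduct.lid A X).symm ≪≫ₗ TensorProduct.congr ι (LinearEquiv.refl A X)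
    exact E.toEquiv.subsingleton
  · intro h
    refine ⟨fun x y => ?_⟩
    obtain ⟨m, rfl⟩ := hrep x
    obtain ⟨m', rfl⟩ := hrep y
    rw [Subsingleton.elim m m']

end

/-- **Transport of `Tor`-vanishing along a ring isomorphism.** -/
theorem subsingleton_tor_iff_of_ringEquiv {A A' : Type u} [CommRing A] [CommRing A']
    [IsNoetherianRing A] (e : A ≃+* A')
    {M N : Type u} [AddCommGroup M] [Module A M] [AddCommGroup N] [Module A N] [Module.Finite A N]
    {M' N' : Type u} [AddCommGroup M'] [Module A' M'] [AddCommGroup N'] [Module A' N']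
    (eM : M ≃+ M') (heM : ∀ (a : A) (m : M), eM (a • m) = e a • eM m)
    (eN : N ≃+ N') (heN : ∀ (a : A) (n : N), eN (a • n) = e a • eN n) (n : ℕ) :
    Subsingleton (DRing.Tor A n M N) ↔ Subsingleton (DRing.Tor A' n M' N') := by
  letI : Algebra A A' := (e : A →+* A').toAlgebra
  have hbij : Function.Bijective (algebraMap A A') := e.bijective
  haveI : Module.Flat A A' := by
    have h1 : (e : A →+* A').Flat := RingHom.Flat.of_bijective (f := (e : A →+* A')) e.bijective
    exact h1
  obtain ⟨φ⟩ := Groth.Agent.Lib.Helper85.FlatPull.nonempty_tor_baseChange (A := A) (B := A') M n N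
  obtain ⟨eM'⟩ := nonempty_baseChange_equiv_of_bijective hbij eM heM
  obtain ⟨eN'⟩ := nonempty_baseChange_equiv_of_bijective hbij eN heN
  obtain ⟨ψ⟩ := Groth.Agent.Lib.Helper10.InterRegTor.nonempty_tor_congr eM' eN' n
  rw [← subsingleton_baseChange_iff_of_bijective hbij (DRing.Tor A n M N)]
  exact (φ.symm ≪≫ₗ ψ).toEquiv.subsingleton_congr

end Groth.Agent.Lib.Helper10.GoodFact
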