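import Mathlib
import Groth.Agent.Lib.Helper85.Vasc.Spread
import Groth.Agent.Lib.Helper82.CMHeight

/-!
# Intersections of regularly embedded subschemes in Cohen–Macaulay rings: algebra (helper10)

* `exists_weaklyRegular_away` : spreading out weak regularity of a list from `R_p` to some `R_g`.
* `le_height_map` : height of an extended ideal in a localization at a prime.
* `isWeaklyRegular_of_forall_le_height` : in a CM local ring `S = R_p`, a list of `n` elements of
  `p` all of whose overprimes have height `≥ n` is weakly regular in `S`.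
-/

set_option autoImplicit false
universe u

namespace Groth.Agent.Lib.Helper10.InterReg

open RingTheory.Sequence Groth.Agent.Lib.Helper85.Vasc

section Spread

variable {R : Type u} [CommRing R] [IsNoetherianRing R]

/-- spreading out weak regularity of (the image of) a list from `R_p` to some `R_g`. -/
theorem exists_weaklyRegular_away (p : Ideal R) [p.IsPrime]
    (S : Type u) [CommRing S] [Algebra R S] [IsLocalization.AtPrime S p]
    (as : List R) (hreg : IsWeaklyRegular S (as.map (algebraMap R S))) :
    ∃ g : R, g ∉ p ∧ ∀ (A : Type u) [CommRing A] [Algebra R A] [IsLocalization.Away g A],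
      IsWeaklyRegular A (as.map (algebraMap R A)) := by
  classical
  let T := p.primeCompl
  rw [isWeaklyRegular_self_iff] at hreg
  have hcol : ∀ i : Fin as.length, ∃ t ∈ T, ∀ r : R,
      as[i] * r ∈ Ideal.ofList (as.take i) → t * r ∈ Ideal.ofList (as.take i) := by
    intro i
    let K := Ideal.ofList (as.take i)
    let C : Ideal R := K.colon {as[i]}
    have hC : ∀ r, r ∈ C ↔ as[i] * r ∈ K := by
      intro r
      rw [Submodule.mem_colon_singleton, smul_eq_mul, mul_comm]
    have h1 : ∀ r ∈ C, ∃ t ∈ T, t * r ∈ K := by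
      intro r hr
      apply exists_mul_mem_of_algebraMap_mem T S
      have h2 := hreg i ((List.length_map (as := as) (algebraMap R S)).symm ▸ i.2)
        (algebraMap R S r)
      rw [List.getElem_map, ← List.map_take, ← Ideal.map_ofList, ← map_mul] at h2
      exact h2 (Ideal.mem_map_of_mem _ ((hC r).mp hr))
    obtain ⟨t, ht, h3⟩ := exists_uniform_mul_mem T C K (IsNoetherian.noetherian C) h1
    exact ⟨t, ht, fun r hr => h3 r ((hC r).mpr hr)⟩
  choose gi hgiS hgi using hcol
  let g : R := ∏ i, gi i
  have hgS : g ∈ T := T.prod_mem fun i _ => hgiS i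
  refine ⟨g, hgS, ?_⟩
  intro A _ _ _
  have hgu : IsUnit (algebraMap R A g) := IsLocalization.Away.algebraMap_isUnit g
  have hui : ∀ i, IsUnit (algebraMap R A (gi i)) := fun i =>
    isUnit_of_dvd_unit (map_dvd (algebraMap R A)
      (Finset.dvd_prod_of_mem gi (Finset.mem_univ i))) hgu
  have hpow : ∀ m : ℕ, IsUnit (algebraMap R A (g ^ m)) := fun m => by
    rw [map_pow]; exact hgu.pow m
  rw [isWeaklyRegular_self_iff]
  intro i hi x hx
  rw [List.length_map] at hi
  rw [List.getElem_map, ← List.map_take, ← Ideal.map_ofList] at hx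
  rw [← List.map_take, ← Ideal.map_ofList]
  obtain ⟨⟨r, ⟨_, k, rfl⟩⟩, hrx⟩ := IsLocalization.surj (Submonoid.powers g) x
  simp only at hrx
  have h1 : algebraMap R A (as[i] * r) ∈ (Ideal.ofList (as.take i)).map (algebraMap R A) := by
    rw [map_mul, ← hrx, ← mul_assoc]
    exact Ideal.mul_mem_right _ _ hx
  obtain ⟨_, ⟨m, rfl⟩, hm⟩ :=
    exists_mul_mem_of_algebraMap_mem (Submonoid.powers g) A _ _ h1
  have h2 : as[i] * (g ^ m * r) ∈ Ideal.ofList (as.take i) := by
    have : as[i] * (g ^ m * r) = g ^ m * (as[i] * r) := by ring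
    rw [this]; exact hm
  have h3 := hgi ⟨i, hi⟩ _ h2
  have h4 : algebraMap R A r ∈ (Ideal.ofList (as.take i)).map (algebraMap R A) := by
    have h5 := mem_map_of_unit_mul_mem (A := A) _ _ _ (hui ⟨i, hi⟩) h3
    rw [map_mul] at h5
    exact (Ideal.unit_mul_mem_iff_mem _ (hpow m)).mp h5
  rw [← hrx] at h4
  exact (Ideal.mul_unit_mem_iff_mem _ (hpow k)).mp h4

end Spread

section Height

variable {R : Type u} [CommRing R]

/-- if every prime over `K` has height `≥ n` then so does the extension of `K` to a
localization. -/
theorem le_height_map (M : Submonoid R) (S : Type u) [CommRing S] [Algebra R S]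
    [IsLocalization M S] (K : Ideal R) (n : ℕ∞)
    (h : ∀ p' : Ideal R, p'.IsPrime → K ≤ p' → n ≤ p'.height) :
    n ≤ (K.map (algebraMap R S)).height := by
  rw [Ideal.height_eq_inf_minimalPrimes]
  refine le_iInf₂ fun q hq => ?_
  haveI := hq.1.1
  have h1 : K ≤ q.comap (algebraMap R S) := Ideal.map_le_iff_le_comap.mp hq.1.2
  have h2 := h _ (Ideal.IsPrime.comap _) h1
  have h3 : (q.comap (algebraMap R S)).height = q.height := IsLocalization.height_under M q
  rw [h3] at h2
  exact h2

end Height

section CM

open LocCoh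

variable {R : Type u} [CommRing R]

/-- In a Cohen–Macaulay localization `S = R_p`, a list of `n` elements of `p` such that all primes
containing it have height `≥ n` becomes weakly regular in `S`. -/
theorem isWeaklyRegular_of_forall_le_height (p : Ideal R) [p.IsPrime]
    (S : Type u) [CommRing S] [Algebra R S] [IsLocalization.AtPrime S p]
    [IsCohenMacaulayLocalRing S] (as : List R) (hmem : ∀ r ∈ as, r ∈ p)
    (h : ∀ p' : Ideal R, p'.IsPrime → Ideal.ofList as ≤ p' → (as.length : ℕ∞) ≤ p'.height) :
    IsWeaklyRegular S (as.map (algebraMap R S)) := by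
  apply Groth.Agent.Lib.Helper82.CMHeight.isWeaklyRegular_of_length_le_height
    (IsCohenMacaulayLocalRing.supportDim_eq_depth)
  · intro x hx
    obtain ⟨r, hr, rfl⟩ := List.mem_map.mp hx
    exact (IsLocalization.AtPrime.to_map_mem_maximal_iff S p r).mpr (hmem r hr)
  · rw [List.length_map, ← Ideal.map_ofList]
    exact le_height_map p.primeCompl S _ _ h

end CM

end Groth.Agent.Lib.Helper10.InterReg
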