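import Mathlib
import Groth.Prelude.Def_RegImm
import Groth.Prelude.Def_CAlg
import Groth.Agent.Lib.Helper10.InterReg
import Groth.Agent.Lib.Helper10.RegImmDescent

/-!
# Intersections of regularly embedded closed subschemes of a Cohen–Macaulay scheme: geometry
(helper10)
-/

set_option autoImplicit false
universe u

namespace Groth.Agent.Lib.Helper10.InterRegGeom

open AlgebraicGeometry CategoryTheory CategoryTheory.Limits RingTheory.Sequence
open Groth.Agent.Lib.Helper10.RegImmBaseChange Groth.Agent.Lib.Helper10.RegImmDescent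
open Groth.Agent.Lib.Helper10.InterReg

section Ring

lemma isWeaklyRegular_map_of_flat {R S : Type u} [CommRing R] [CommRing S] (φ : R →+* S)
    (hφ : φ.Flat) (rs : List R) (h : IsWeaklyRegular R rs) : IsWeaklyRegular S (rs.map φ) := by
  letI := φ.toAlgebra
  haveI : Module.Flat R S := hφ
  exact h.of_flat

end Ring

variable {X Y Z : Scheme.{u}}

section Points

/-- a point of an affine open whose prime contains the kernel of sections of a closed immersion
lies in the image. -/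
theorem exists_apply_eq_fromSpec (i : Y ⟶ X) {V : X.Opens} (hV : IsAffineOpen V)
    (hcl : IsClosedImmersion (i ∣_ V)) (𝔮 : PrimeSpectrum Γ(X, V))
    (h𝔮 : RingHom.ker (i.app V).hom ≤ 𝔮.asIdeal) : ∃ y : Y, i y = hV.fromSpec 𝔮 := by
  obtain ⟨hV', hsurj⟩ := app_surjective_of_restrict i V hV hcl
  have hmem : 𝔮 ∈ Set.range (PrimeSpectrum.comap (i.app V).hom) := by
    rw [range_comap_of_surjective _ _ hsurj]
    exact h𝔮
  obtain ⟨𝔮', h𝔮'⟩ := hmem
  have hz : hV'.fromSpec 𝔮' ∈ i ⁻¹ᵁ V := fromSpec_mem hV' 𝔮'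
  have hx : i (hV'.fromSpec 𝔮') ∈ V := hz
  refine ⟨hV'.fromSpec 𝔮', ?_⟩
  have hprime : hV.primeIdealOf ⟨i (hV'.fromSpec 𝔮'), hx⟩ = 𝔮 := by
    have h1 := IsAffineOpen.comap_primeIdealOf_appLE (f := i) V hV (i ⁻¹ᵁ V) hV' le_rfl hz
    rw [primeIdealOf_fromSpec hV' 𝔮' hz] at h1
    rw [← h1, ← h𝔮', Scheme.Hom.app_eq_appLE]
  rw [← hprime]
  exact (hV.fromSpec_primeIdealOf ⟨_, hx⟩).symm

/-- the kernel of sections is contained in the prime of any point of the image. -/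
theorem ker_le_primeIdealOf (i : Y ⟶ X) {V : X.Opens} (hV : IsAffineOpen V) (x : X) (hx : x ∈ V)
    (y : Y) (hy : i y = x) :
    RingHom.ker (i.app V).hom ≤ (hV.primeIdealOf ⟨x, hx⟩).asIdeal := by
  subst hy
  intro a ha
  by_contra hnot
  have h1 : i y ∈ X.basicOpen a := (mem_basicOpen_iff_notMem_primeIdealOf hV _ hx a).mpr hnot
  have h2 : y ∈ i ⁻¹ᵁ X.basicOpen a := h1
  rw [Scheme.Hom.preimage_basicOpen, (RingHom.mem_ker).mp ha] at h2
  simp at h2

/-- the dimension of the local ring at a point of an affine open is the height of its prime. -/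
theorem ringKrullDim_stalk_fromSpec {V : X.Opens} (hV : IsAffineOpen V)
    (𝔮 : PrimeSpectrum Γ(X, V)) :
    ringKrullDim (X.presheaf.stalk (hV.fromSpec 𝔮)) = 𝔮.asIdeal.height := by
  have hy := fromSpec_mem hV 𝔮
  exact @IsLocalization.AtPrime.ringKrullDim_eq_height _ _ 𝔮.asIdeal _ _ _
    (TopCat.Presheaf.algebra_section_stalk X.presheaf ⟨hV.fromSpec 𝔮, hy⟩)
    (hV.isLocalization_stalk' 𝔮 hy)

end Points

section Data

/-- local data: over the affine open `V` both immersions are closed and cut out by weakly regular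
sequences of lengths `a` and `b` whose concatenation is weakly regular. -/
def HasInterData (iY : Y ⟶ X) (iZ : Z ⟶ X) (a b : ℕ) (V : X.Opens) : Prop :=
  IsClosedImmersion (iY ∣_ V) ∧ IsClosedImmersion (iZ ∣_ V) ∧
    ∃ f g : List Γ(X, V), f.length = a ∧ g.length = b ∧
      RingHom.ker (iY.app V).hom = Ideal.ofList f ∧ RingHom.ker (iZ.app V).hom = Ideal.ofList g ∧
      IsWeaklyRegular Γ(X, V) f ∧ IsWeaklyRegular Γ(X, V) g ∧ IsWeaklyRegular Γ(X, V) (f ++ g)

theorem HasInterData.mono {iY : Y ⟶ X} {iZ : Z ⟶ X} {a b : ℕ} {V V' : X.Opens}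
    (hV : IsAffineOpen V) (hV' : IsAffineOpen V') (hle : V' ≤ V)
    (h : HasInterData iY iZ a b V) :
    IsClosedImmersion (iY ∣_ V') ∧ IsClosedImmersion (iZ ∣_ V') ∧
    ∃ f g : List Γ(X, V), f.length = a ∧ g.length = b ∧
      RingHom.ker (iY.app V).hom = Ideal.ofList f ∧ RingHom.ker (iZ.app V).hom = Ideal.ofList g ∧
      RingHom.ker (iY.app V').hom = Ideal.ofList (f.map (X.presheaf.map (homOfLE hle).op).hom) ∧
      RingHom.ker (iZ.app V').hom = Ideal.ofList (g.map (X.presheaf.map (homOfLE hle).op).hom) ∧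
      IsWeaklyRegular Γ(X, V') (f.map (X.presheaf.map (homOfLE hle).op).hom) ∧
      IsWeaklyRegular Γ(X, V') (g.map (X.presheaf.map (homOfLE hle).op).hom) ∧
      IsWeaklyRegular Γ(X, V')
        (f.map (X.presheaf.map (homOfLE hle).op).hom ++
          g.map (X.presheaf.map (homOfLE hle).op).hom) := by
  obtain ⟨hclY, hclZ, f, g, hfa, hgb, hkY, hkZ, wf, wg, wfg⟩ := h
  obtain ⟨hclY', hkerY', hflat⟩ := restrictData iY hV hV' hle hclY
  obtain ⟨hclZ', hkerZ', -⟩ := restrictData iZ hV hV' hle hclZ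
  refine ⟨hclY', hclZ', f, g, hfa, hgb, hkY, hkZ, ?_, ?_, ?_, ?_, ?_⟩
  · rw [hkerY', hkY, Ideal.map_ofList]
  · rw [hkerZ', hkZ, Ideal.map_ofList]
  · exact isWeaklyRegular_map_of_flat _ hflat f wf
  · exact isWeaklyRegular_map_of_flat _ hflat g wg
  · rw [← List.map_append]
    exact isWeaklyRegular_map_of_flat _ hflat (f ++ g) wfg

theorem HasInterData.of_le {iY : Y ⟶ X} {iZ : Z ⟶ X} {a b : ℕ} {V V' : X.Opens}
    (hV : IsAffineOpen V) (hV' : IsAffineOpen V') (hle : V' ≤ V)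
    (h : HasInterData iY iZ a b V) : HasInterData iY iZ a b V' := by
  obtain ⟨hclY', hclZ', f, g, hfa, hgb, -, -, hkY, hkZ, wf, wg, wfg⟩ := h.mono hV hV' hle
  exact ⟨hclY', hclZ', _, _, by rw [List.length_map, hfa], by rw [List.length_map, hgb],
    hkY, hkZ, wf, wg, wfg⟩

end Data

section Local

/-- **Local lemma.**  Around a point of `Y ∩ Z` at which the expected codimension holds on a
neighbourhood, there is an affine open on which `Y` and `Z` are cut out by regular sequences whose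
concatenation is regular. -/
theorem exists_hasInterData [IsLocallyNoetherian X]
    (hCM : ∀ x : X, LocCoh.IsCohenMacaulayLocalRing (X.presheaf.stalk x))
    (iY : Y ⟶ X) (iZ : Z ⟶ X) (a b : ℕ)
    (hY : RegImm.IsRegularImmersionOfCodim RegImm.Kind.regular a iY)
    (hZ : RegImm.IsRegularImmersionOfCodim RegImm.Kind.regular b iZ)
    (hcodim : ∀ x : X, x ∈ Set.range iY → x ∈ Set.range iZ →
      ((a + b : ℕ) : WithBot ℕ∞) ≤ ringKrullDim (X.presheaf.stalk x))
    (x : X) (y : Y) (z : Z) (hy : iY y = x) (hz : iZ z = x) :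
    ∃ V : X.Opens, IsAffineOpen V ∧ x ∈ V ∧ HasInterData iY iZ a b V := by
  obtain ⟨U₁, hxU₁, hcl₁, rs₁, hlen₁, hreg₁, hker₁⟩ := hY.2 y
  obtain ⟨U₂, hxU₂, hcl₂, rs₂, hlen₂, hreg₂, hker₂⟩ := hZ.2 z
  rw [hy] at hxU₁
  rw [hz] at hxU₂
  have hmem : x ∈ U₁.1 ⊓ U₂.1 := ⟨hxU₁, hxU₂⟩
  obtain ⟨_, ⟨V₀, hV₀, rfl⟩, hxV₀, hle⟩ :=
    X.isBasis_affineOpens.exists_subset_of_mem_open hmem (U₁.1 ⊓ U₂.1).2
  have hle₁ : V₀ ≤ U₁.1 := fun _ h => (hle h).1
  have hle₂ : V₀ ≤ U₂.1 := fun _ h => (hle h).2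
  obtain ⟨hclY₀, hkerY₀, hflat₁⟩ := restrictData iY U₁.2 hV₀ hle₁ hcl₁
  obtain ⟨hclZ₀, hkerZ₀, hflat₂⟩ := restrictData iZ U₂.2 hV₀ hle₂ hcl₂
  have hkY : RingHom.ker (iY.app V₀).hom =
      Ideal.ofList (rs₁.map (X.presheaf.map (homOfLE hle₁).op).hom) := by
    rw [hkerY₀, hker₁, Ideal.map_ofList]
  have hkZ : RingHom.ker (iZ.app V₀).hom =
      Ideal.ofList (rs₂.map (X.presheaf.map (homOfLE hle₂).op).hom) := by
    rw [hkerZ₀, hker₂, Ideal.map_ofList]
  have wr₁ : IsWeaklyRegular Γ(X, U₁.1) rs₁ := hreg₁.toIsWeaklyRegular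
  have wr₂ : IsWeaklyRegular Γ(X, U₂.1) rs₂ := hreg₂.toIsWeaklyRegular
  have wf₁ := isWeaklyRegular_map_of_flat _ hflat₁ rs₁ wr₁
  have wg₁ := isWeaklyRegular_map_of_flat _ hflat₂ rs₂ wr₂
  generalize hf₁ : rs₁.map (X.presheaf.map (homOfLE hle₁).op).hom = f₁ at hkY wf₁
  generalize hg₁ : rs₂.map (X.presheaf.map (homOfLE hle₂).op).hom = g₁ at hkZ wg₁
  have hlf : f₁.length = a := by rw [← hf₁, List.length_map, hlen₁]
  have hlg : g₁.length = b := by rw [← hg₁, List.length_map, hlen₂]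
  -- the local ring
  letI : Algebra Γ(X, V₀) (X.presheaf.stalk x) :=
    TopCat.Presheaf.algebra_section_stalk X.presheaf ⟨x, hxV₀⟩
  haveI : IsLocalization.AtPrime (X.presheaf.stalk x) (hV₀.primeIdealOf ⟨x, hxV₀⟩).asIdeal :=
    hV₀.isLocalization_stalk ⟨x, hxV₀⟩
  haveI := hCM x
  haveI : IsNoetherianRing Γ(X, V₀) := IsLocallyNoetherian.component_noetherian ⟨V₀, hV₀⟩
  have hregS : IsWeaklyRegular (X.presheaf.stalk x)
      ((f₁ ++ g₁).map (algebraMap Γ(X, V₀) (X.presheaf.stalk x))) := by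
    apply isWeaklyRegular_of_forall_le_height (hV₀.primeIdealOf ⟨x, hxV₀⟩).asIdeal
    · intro r hr
      rcases List.mem_append.mp hr with h | h
      · apply ker_le_primeIdealOf iY hV₀ x hxV₀ y hy
        rw [hkY]
        exact Ideal.subset_span h
      · apply ker_le_primeIdealOf iZ hV₀ x hxV₀ z hz
        rw [hkZ]
        exact Ideal.subset_span h
    · intro p' hp' hle'
      rw [List.length_append, hlf, hlg]
      rw [Ideal.ofList_append, sup_le_iff, ← hkY, ← hkZ] at hle'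
      obtain ⟨y', hy'⟩ := exists_apply_eq_fromSpec iY hV₀ hclY₀ ⟨p', hp'⟩ hle'.1
      obtain ⟨z', hz'⟩ := exists_apply_eq_fromSpec iZ hV₀ hclZ₀ ⟨p', hp'⟩ hle'.2
      have h1 := hcodim (hV₀.fromSpec ⟨p', hp'⟩) ⟨y', hy'⟩ ⟨z', hz'⟩
      rw [ringKrullDim_stalk_fromSpec hV₀ ⟨p', hp'⟩] at h1
      have h2 : ((a + b : ℕ) : ℕ∞) ≤ p'.height := by exact_mod_cast h1
      exact_mod_cast h2
  obtain ⟨g, hgp, hg⟩ := exists_weaklyRegular_away (hV₀.primeIdealOf ⟨x, hxV₀⟩).asIdeal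
    (X.presheaf.stalk x) (f₁ ++ g₁) hregS
  have hD : IsAffineOpen (X.basicOpen g) := hV₀.basicOpen g
  haveI := hV₀.isLocalization_basicOpen g
  have hW := hg Γ(X, X.basicOpen g)
  refine ⟨X.basicOpen g, hD, (mem_basicOpen_iff_notMem_primeIdealOf hV₀ x hxV₀ g).mpr hgp, ?_⟩
  obtain ⟨hclY, hkerY, hflatY⟩ := restrictData iY hV₀ hD (X.basicOpen_le g) hclY₀
  obtain ⟨hclZ, hkerZ, -⟩ := restrictData iZ hV₀ hD (X.basicOpen_le g) hclZ₀
  refine ⟨hclY, hclZ, f₁.map (X.presheaf.map (homOfLE (X.basicOpen_le g)).op).hom,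
    g₁.map (X.presheaf.map (homOfLE (X.basicOpen_le g)).op).hom,
    by rw [List.length_map, hlf], by rw [List.length_map, hlg], ?_, ?_, ?_, ?_, ?_⟩
  · rw [hkerY, hkY, Ideal.map_ofList]
  · rw [hkerZ, hkZ, Ideal.map_ofList]
  · exact isWeaklyRegular_map_of_flat _ hflatY f₁ wf₁
  · exact isWeaklyRegular_map_of_flat _ hflatY g₁ wg₁
  · rw [← List.map_append]
    exact hW

end Local

section Inter

/-- the ideal of the intersection is the sum of the ideals. -/
theorem ker_fst_comp_app (iY : Y ⟶ X) (iZ : Z ⟶ X) {V : X.Opens} (hV : IsAffineOpen V)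
    (hclY : IsClosedImmersion (iY ∣_ V)) (hclZ : IsClosedImmersion (iZ ∣_ V)) :
    RingHom.ker ((pullback.fst iY iZ ≫ iY).app V).hom =
      RingHom.ker (iY.app V).hom ⊔ RingHom.ker (iZ.app V).hom := by
  have H : IsPullback (pullback.snd iY iZ) (pullback.fst iY iZ) iZ iY :=
    (IsPullback.of_hasPullback iY iZ).flip
  obtain ⟨hV', hsurj⟩ := app_surjective_of_restrict iY V hV hclY
  have hk := ker_app_eq_map H hV hV' (le_refl (iY ⁻¹ᵁ V)) hclZ
  rw [← Scheme.Hom.app_eq_appLE] at hk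
  have hcomp : ((pullback.fst iY iZ ≫ iY).app V).hom =
      ((pullback.fst iY iZ).app (iY ⁻¹ᵁ V)).hom.comp (iY.app V).hom := by
    rw [Scheme.Hom.comp_app]
    rfl
  have h1 : RingHom.ker ((pullback.fst iY iZ ≫ iY).app V).hom =
      (RingHom.ker ((pullback.fst iY iZ).app (iY ⁻¹ᵁ V)).hom).comap (iY.app V).hom := by
    rw [hcomp]
    exact (RingHom.comap_ker _ _).symm
  rw [h1, hk, Ideal.comap_map_of_surjective _ hsurj, ← RingHom.ker_eq_comap_bot, sup_comm]

/-- **The intersection is regularly embedded of codimension `a + b`.** -/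
theorem isRegularImmersionOfCodim_inter (iY : Y ⟶ X) (iZ : Z ⟶ X) [IsClosedImmersion iY]
    [IsClosedImmersion iZ] (a b : ℕ)
    (H : ∀ w : ↥(pullback iY iZ), ∃ V : X.Opens, IsAffineOpen V ∧
      (pullback.fst iY iZ ≫ iY) w ∈ V ∧ HasInterData iY iZ a b V) :
    RegImm.IsRegularImmersionOfCodim RegImm.Kind.regular (a + b) (pullback.fst iY iZ ≫ iY) := by
  refine ⟨inferInstance, fun w => ?_⟩
  obtain ⟨V, hV, hw, hclY, hclZ, f, g, hfa, hgb, hkY, hkZ, wf, wg, wfg⟩ := H w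
  have hker := ker_fst_comp_app iY iZ hV hclY hclZ
  rw [hkY, hkZ, ← Ideal.ofList_append] at hker
  refine ⟨⟨V, hV⟩, hw, IsZariskiLocalAtTarget.restrict (P := @IsClosedImmersion) inferInstance V, f ++ g,
    by rw [List.length_append, hfa, hgb], ⟨wfg, ?_⟩, hker⟩
  rw [smul_eq_mul, Ideal.mul_top, ← hker]
  intro htop
  have h1 : (1 : Γ(X, V)) ∈ RingHom.ker ((pullback.fst iY iZ ≫ iY).app V).hom := by
    rw [← htop]; trivial
  rw [RingHom.mem_ker, map_one] at h1
  have hsub : Subsingleton Γ(pullback iY iZ, (pullback.fst iY iZ ≫ iY) ⁻¹ᵁ V) :=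
    subsingleton_of_zero_eq_one h1.symm
  have hne : Nonempty (((pullback.fst iY iZ ≫ iY) ⁻¹ᵁ V : (pullback iY iZ).Opens) : Scheme.{u}) :=
    ⟨⟨w, hw⟩⟩
  have : Nontrivial Γ(pullback iY iZ, (pullback.fst iY iZ ≫ iY) ⁻¹ᵁ V) :=
    Scheme.component_nontrivial _ _
  exact not_subsingleton _ hsub

end Inter

end Groth.Agent.Lib.Helper10.InterRegGeom
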