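import Mathlib
import Groth.Prelude.Def_RegImm
import Groth.Agent.Lib.Helper10.KoszulComp
import Groth.Agent.Lib.Helper10.RegImmBaseChange

/-!
# Composition of Koszul-regular immersions (local form)
-/

set_option autoImplicit false
universe u

namespace Groth.Agent.Lib.Helper10.KoszulRegImmComp

open CategoryTheory CategoryTheory.Limits AlgebraicGeometry TopologicalSpace
open Groth.Agent.Lib.Helper10.RegImmBaseChange Groth.Agent.Lib.Helper10.KoszulFlat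
open Groth.Agent.Lib.Helper10.KoszulComp

/-- local form of the composition of Koszul-regular immersions, with the lengths of the
sequences. -/
theorem comp_at {X Y Z : Scheme.{u}} (i : Y ⟶ X) (j : Z ⟶ Y) [IsImmersion i] (z : Z)
    (U₁ : X.affineOpens) (hU₁ : i (j z) ∈ U₁.1) (hcl₁ : IsClosedImmersion (i ∣_ U₁.1))
    (fs : List Γ(X, U₁.1)) (hfs : LCI.IsKoszulRegularSeq Γ(X, U₁.1) fs)
    (hker₁ : RingHom.ker (i.app U₁.1).hom = Ideal.ofList fs)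
    (V : Y.affineOpens) (hV : j z ∈ V.1) (hcl₂ : IsClosedImmersion (j ∣_ V.1))
    (gs : List Γ(Y, V.1)) (hgs : LCI.IsKoszulRegularSeq Γ(Y, V.1) gs)
    (hker₂ : RingHom.ker (j.app V.1).hom = Ideal.ofList gs) :
    ∃ U : X.affineOpens, (j ≫ i) z ∈ U.1 ∧ IsClosedImmersion ((j ≫ i) ∣_ U.1) ∧
      ∃ rs : List Γ(X, U.1), rs.length = gs.length + fs.length ∧
        LCI.IsKoszulRegularSeq Γ(X, U.1) rs ∧
        RingHom.ker ((j ≫ i).app U.1).hom = Ideal.ofList rs := by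
  -- an open of `X` cutting out `V`
  obtain ⟨W, hW⟩ : ∃ W : X.Opens, i ⁻¹ᵁ W = V.1 := by
    have hind : Topology.IsInducing i := i.isEmbedding.isInducing
    obtain ⟨W, hWo, hWe⟩ := hind.isOpen_iff.mp V.1.2
    exact ⟨⟨W, hWo⟩, Opens.ext hWe⟩
  have hmem : i (j z) ∈ U₁.1 ⊓ W := by
    refine ⟨hU₁, ?_⟩
    have : j z ∈ i ⁻¹ᵁ W := by rw [hW]; exact hV
    exact this
  obtain ⟨_, ⟨U₂, hU₂, rfl⟩, hz₂, hle⟩ := X.isBasis_affineOpens.exists_subset_of_mem_open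
    hmem (U₁.1 ⊓ W).2
  have e₁ : U₂ ≤ (𝟙 X) ⁻¹ᵁ U₁.1 := fun x hx => (hle hx).1
  have e₂ : i ⁻¹ᵁ U₂ ≤ (𝟙 Y) ⁻¹ᵁ V.1 := by
    intro y hy
    have : y ∈ i ⁻¹ᵁ W := (hle hy).2
    rw [hW] at this
    exact this
  -- restrict the data of `i` to `U₂`
  have Hi : IsPullback (𝟙 Y) i i (𝟙 X) := IsPullback.of_horiz_isIso ⟨by simp⟩
  have hcl₁' : IsClosedImmersion (i ∣_ U₂) := isClosedImmersion_restrict Hi e₁ hcl₁
  have hker₁' := ker_app_eq_map Hi U₁.2 hU₂ e₁ hcl₁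
  rw [hker₁, Ideal.map_ofList] at hker₁'
  obtain ⟨hV₂, hsurj⟩ := app_surjective_of_restrict i U₂ hU₂ hcl₁'
  have hfs' := isKoszulRegularSeq_map _ (Flat.flat_appLE (𝟙 X) U₁.2 hU₂ e₁) fs hfs
  -- restrict the data of `j` to `i ⁻¹ U₂`
  have Hj : IsPullback (𝟙 Z) j j (𝟙 Y) := IsPullback.of_horiz_isIso ⟨by simp⟩
  have hcl₂' : IsClosedImmersion (j ∣_ (i ⁻¹ᵁ U₂)) := isClosedImmersion_restrict Hj e₂ hcl₂
  have hker₂' := ker_app_eq_map Hj V.2 hV₂ e₂ hcl₂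
  rw [hker₂, Ideal.map_ofList] at hker₂'
  have hgs' := isKoszulRegularSeq_map _ (Flat.flat_appLE (𝟙 Y) V.2 hV₂ e₂) gs hgs
  -- lift the second sequence
  obtain ⟨gs', hgs'eq⟩ := (List.map_surjective_iff.mpr hsurj)
    (gs.map (Scheme.Hom.appLE (𝟙 Y) V.1 (i ⁻¹ᵁ U₂) e₂).hom)
  rw [← hgs'eq] at hgs' hker₂'
  refine ⟨⟨U₂, hU₂⟩, hz₂, ?_, gs' ++ fs.map (Scheme.Hom.appLE (𝟙 X) U₁.1 U₂ e₁).hom, ?_, ?_, ?_⟩
  · rw [morphismRestrict_comp]
    change IsClosedImmersion (j ∣_ (i ⁻¹ᵁ U₂) ≫ i ∣_ U₂)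
    infer_instance
  · rw [List.length_append, List.length_map]
    have := congrArg List.length hgs'eq
    rw [List.length_map, List.length_map] at this
    rw [this]
  · exact isKoszulRegularSeq_append (i.app U₂).hom hsurj _ gs' hker₁' hfs' hgs'
  · rw [Scheme.Hom.comp_app]
    change RingHom.ker ((j.app (i ⁻¹ᵁ U₂)).hom.comp (i.app U₂).hom) = _
    rw [← RingHom.comap_ker, hker₂', ← Ideal.map_ofList,
      Ideal.comap_map_of_surjective _ hsurj, Ideal.ofList_append]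
    congr 1

end Groth.Agent.Lib.Helper10.KoszulRegImmComp
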