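import Mathlib
import Groth.Agent.Lib.Helper12.KoszulDepth
import Groth.Agent.Lib.Helper39.McCoy
import Groth.Agent.Lib.Helper10.KoszulGen
import Groth.Agent.Lib.Helper10.KoszulFlat
import Groth.Agent.Lib.Helper10.KoszulPerm
import Groth.Agent.Lib.Helper10.LciTrans
import Groth.Agent.Lib.Helper94.KoszulBridge

/-!
# A Koszul-regular sequence becomes regular after a polynomial extension (helper10)

Stacks 0667-type statement: if `f₁, …, f_r` is Koszul-regular in `R`, then in a polynomial ring
`R[t]` (finitely many variables) the ideal `(f₁, …, f_r) R[t]` is generated by a (weakly) regular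
sequence of length `r`, namely `g_i = f_i + ∑_{j > i} t_{ij} f_j`.
-/

set_option autoImplicit false
universe u

namespace Groth.Agent.Lib.Helper10.KoszulSmoothReg

open CategoryTheory CategoryTheory.Limits MvPolynomial RingTheory.Sequence
open scoped Pointwise

section Ann

variable {A : Type u} [CommRing A]

/-- the joint annihilator of a nonempty Koszul-regular sequence is zero. -/
theorem eq_zero_of_forall_mul_eq_zero (l : List A) (hl : LCI.IsKoszulRegularSeq A l)
    (hne : l ≠ []) (x : A) (hx : ∀ f ∈ l, f * x = 0) : x = 0 := by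
  obtain ⟨ι, -, hr⟩ := Groth.Agent.Lib.Helper12.KoszulDepth.bottom l A
  obtain ⟨c, rfl⟩ := (hr x).mpr (fun f hf => by rw [smul_eq_mul]; exact hx f hf)
  have hz : IsZero ((CohIII.koszulCx (ModuleCat.of A A) l).homology (-(l.length : ℤ))) := by
    rw [← Groth.Agent.Lib.Helper94.koszul_eq]
    refine hl _ ?_
    have : 0 < l.length := List.length_pos_of_ne_nil hne
    omega
  have : Subsingleton ((CohIII.koszulCx (ModuleCat.of A A) l).homology (-(l.length : ℤ))) :=
    ModuleCat.subsingleton_of_isZero hz
  rw [Subsingleton.elim c 0, map_zero]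

end Ann

section First

variable {R : Type u} [CommRing R]

/-- the generic combination `f₁ + ∑ t_j f_j`. -/
noncomputable def gen (f₁ : R) (fs : List R) : MvPolynomial (Fin fs.length) R :=
  C f₁ + ∑ j : Fin fs.length, X j * C (fs.get j)

lemma coeff_zero_gen (f₁ : R) (fs : List R) : coeff 0 (gen f₁ fs) = f₁ := by
  classical
  simp only [gen, coeff_add, coeff_C, if_true, coeff_sum]
  rw [Finset.sum_eq_zero, add_zero]
  intro j _
  rw [coeff_X_mul', if_neg]
  simp

lemma coeff_single_gen (f₁ : R) (fs : List R) (j : Fin fs.length) :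
    coeff (Finsupp.single j 1) (gen f₁ fs) = fs.get j := by
  classical
  simp only [gen, coeff_add, coeff_sum]
  rw [coeff_C, if_neg (by
    intro h
    have := congrArg (fun m => m j) h
    simp at this), zero_add]
  rw [Finset.sum_eq_single j]
  · rw [coeff_X_mul', if_pos (by simp)]
    simp
  · intro k _ hk
    rw [coeff_X_mul']
    split_ifs with h
    · simp only [Finsupp.mem_support_iff, ne_eq] at h
      have h2 : (Finsupp.single j 1 - Finsupp.single k 1 : Fin fs.length →₀ ℕ) ≠ 0 := by
        intro h0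
        have := congrArg (fun m => m j) h0
        simp [Finsupp.single_apply, hk] at this
      rw [coeff_C, if_neg (Ne.symm h2)]
    · rfl
  · intro h; exact absurd (Finset.mem_univ j) h

/-- the generic combination of a sequence with zero joint annihilator is a nonzerodivisor. -/
theorem isSMulRegular_gen (f₁ : R) (fs : List R)
    (hann : ∀ x : R, (∀ f ∈ f₁ :: fs, f * x = 0) → x = 0) :
    IsSMulRegular (MvPolynomial (Fin fs.length) R) (gen f₁ fs) := by
  rw [isSMulRegular_iff_right_eq_zero_of_smul]
  intro b hb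
  by_contra hb0
  obtain ⟨a, ha, hag⟩ := Groth.Agent.Lib.Helper39.mcCoy
    (MonomialOrder.lex (σ := Fin fs.length)) (gen f₁ fs) b hb0 hb
  apply ha
  apply hann
  intro f hf
  rw [List.mem_cons] at hf
  rcases hf with rfl | hf
  · have := congrArg (coeff 0) hag
    rw [coeff_smul, coeff_zero_gen, coeff_zero, smul_eq_mul] at this
    rw [mul_comm]; exact this
  · obtain ⟨j, rfl⟩ := List.mem_iff_get.mp hf
    have := congrArg (coeff (Finsupp.single j 1)) hag
    rw [coeff_smul, coeff_single_gen, coeff_zero, smul_eq_mul] at this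
    rw [mul_comm]; exact this

/-- the ideal generated by `gen f₁ fs` and `fs` is the extension of `(f₁, fs)`. -/
theorem ofList_gen (f₁ : R) (fs : List R) :
    Ideal.ofList (gen f₁ fs :: fs.map (C : R →+* MvPolynomial (Fin fs.length) R)) =
      (Ideal.ofList (f₁ :: fs)).map (C : R →+* MvPolynomial (Fin fs.length) R) := by
  have hmem : ∀ j : Fin fs.length, (C (fs.get j) : MvPolynomial (Fin fs.length) R) ∈
      Ideal.ofList (fs.map (C : R →+* MvPolynomial (Fin fs.length) R)) := by
    intro j
    apply Ideal.subset_span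
    exact List.mem_map.mpr ⟨fs.get j, List.get_mem fs j, rfl⟩
  have hsum : (∑ j : Fin fs.length, X j * C (fs.get j) : MvPolynomial (Fin fs.length) R) ∈
      Ideal.ofList (fs.map (C : R →+* MvPolynomial (Fin fs.length) R)) :=
    Ideal.sum_mem _ fun j _ => Ideal.mul_mem_left _ _ (hmem j)
  rw [Ideal.map_ofList, List.map_cons, Ideal.ofList_cons, Ideal.ofList_cons]
  apply le_antisymm
  · apply sup_le
    · rw [Ideal.span_singleton_le_iff_mem]
      exact Ideal.add_mem _ (Ideal.mem_sup_left (Ideal.mem_span_singleton_self _))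
        (Ideal.mem_sup_right hsum)
    · exact le_sup_right
  · apply sup_le
    · rw [Ideal.span_singleton_le_iff_mem]
      have : (C f₁ : MvPolynomial (Fin fs.length) R) =
          gen f₁ fs - ∑ j : Fin fs.length, X j * C (fs.get j) := by
        simp [gen]
      rw [this]
      exact Ideal.sub_mem _ (Ideal.mem_sup_left (Ideal.mem_span_singleton_self _))
        (Ideal.mem_sup_right hsum)
    · exact le_sup_right

end First

section Main

open Groth.Agent.Lib.Helper10.KoszulFlat Groth.Agent.Lib.Helper10.KoszulGen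
  Groth.Agent.Lib.Helper10.KoszulPerm Groth.Agent.Lib.Helper10.LciTrans

/-- transport of weak regularity along a ring isomorphism. -/
lemma isWeaklyRegular_map_ringEquiv {A B : Type*} [CommRing A] [CommRing B] (e : A ≃+* B)
    (l : List A) (h : IsWeaklyRegular A l) : IsWeaklyRegular B (l.map e) := by
  letI : Algebra A B := e.toRingHom.toAlgebra
  have h1 : IsWeaklyRegular B (l.map (algebraMap A B)) := by
    rw [isWeaklyRegular_map_algebraMap_iff B B l]
    let e' : A ≃ₗ[A] B :=
      { e.toAddEquiv with
        map_smul' := fun a x => by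
          show e (a * x) = e a * e x
          exact map_mul e a x }
    exact (e'.isWeaklyRegular_congr l).mp h
  exact h1


/-- a weakly regular sequence on a quotient by a nonzerodivisor lifts. -/
lemma isWeaklyRegular_cons_of_surjective {A B : Type*} [CommRing A] [CommRing B] (π : A →+* B)
    (hπ : Function.Surjective π) (a : A) (hker : RingHom.ker π = Ideal.span {a})
    (ha : IsSMulRegular A a) (l : List A) (hl : IsWeaklyRegular B (l.map π)) :
    IsWeaklyRegular A (a :: l) := by
  rw [isWeaklyRegular_cons_iff]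
  refine ⟨ha, ?_⟩
  letI : Algebra A B := π.toAlgebra
  have hk : (a • (⊤ : Submodule A A)) = LinearMap.ker (Algebra.linearMap A B) := by
    ext x
    have h1 : x ∈ LinearMap.ker (Algebra.linearMap A B) ↔ x ∈ RingHom.ker π := Iff.rfl
    rw [h1, hker, Ideal.mem_span_singleton', Submodule.mem_smul_pointwise_iff_exists]
    constructor
    · rintro ⟨b, -, rfl⟩
      exact ⟨b, by rw [smul_eq_mul, mul_comm]⟩
    · rintro ⟨b, rfl⟩
      exact ⟨b, trivial, by rw [smul_eq_mul, mul_comm]⟩
  let e : QuotSMulTop a A ≃ₗ[A] B :=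
    Submodule.quotEquivOfEq _ _ hk ≪≫ₗ
      LinearMap.quotKerEquivOfSurjective (Algebra.linearMap A B) hπ
  rw [e.isWeaklyRegular_congr l, ← isWeaklyRegular_map_algebraMap_iff B B l]
  exact hl

/-- the lifting step of the induction. -/
theorem lift_step {R : Type u} [CommRing R] {n : ℕ} (F : List R)
    (g₁ : MvPolynomial (Fin n) R) (l₁ : List (MvPolynomial (Fin n) R))
    (hF : Ideal.ofList (g₁ :: l₁) = (Ideal.ofList F).map (C : R →+* MvPolynomial (Fin n) R))
    (hreg : IsSMulRegular (MvPolynomial (Fin n) R) g₁)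
    (σ' : Type) (hσ' : Finite σ')
    (g' : List (MvPolynomial σ' (MvPolynomial (Fin n) R ⧸ Ideal.span {g₁})))
    (hg'reg : IsWeaklyRegular (MvPolynomial σ' (MvPolynomial (Fin n) R ⧸ Ideal.span {g₁})) g')
    (hg'I : Ideal.ofList g' = (Ideal.ofList (l₁.map (Ideal.Quotient.mk (Ideal.span {g₁})))).map
        (C : _ →+* MvPolynomial σ' (MvPolynomial (Fin n) R ⧸ Ideal.span {g₁}))) :
    ∃ (σ : Type) (_ : Finite σ) (g : List (MvPolynomial σ R)), g.length = g'.length + 1 ∧
      IsWeaklyRegular (MvPolynomial σ R) g ∧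
      Ideal.ofList g = (Ideal.ofList F).map (C : R →+* MvPolynomial σ R) := by
  let P₁ := MvPolynomial (Fin n) R
  let φ : P₁ →+* P₁ ⧸ Ideal.span {g₁} := Ideal.Quotient.mk (Ideal.span {g₁})
  let π : MvPolynomial σ' P₁ →+* MvPolynomial σ' (P₁ ⧸ Ideal.span {g₁}) := MvPolynomial.map φ
  have hπsurj : Function.Surjective π := MvPolynomial.map_surjective φ Ideal.Quotient.mk_surjective
  have hπker : RingHom.ker π = Ideal.span {(C g₁ : MvPolynomial σ' P₁)} := by
    show RingHom.ker (MvPolynomial.map φ) = _
    rw [MvPolynomial.ker_map, Ideal.mk_ker, Ideal.map_span, Set.image_singleton]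
  obtain ⟨gt, hgt⟩ := exists_map_eq π hπsurj g'
  -- regularity upstairs
  have hWR : IsWeaklyRegular (MvPolynomial σ' P₁) ((C g₁ : MvPolynomial σ' P₁) :: gt) := by
    have hl : IsWeaklyRegular (MvPolynomial σ' (P₁ ⧸ Ideal.span {g₁})) (gt.map π) := by
      rw [hgt]; exact hg'reg
    refine isWeaklyRegular_cons_of_surjective (A := MvPolynomial σ' P₁)
      (B := MvPolynomial σ' (P₁ ⧸ Ideal.span {g₁})) π hπsurj (C g₁) hπker ?_ gt hl
    have := IsSMulRegular.of_flat (S := MvPolynomial σ' P₁) hreg
    rwa [MvPolynomial.algebraMap_eq] at this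
  -- the ideal upstairs
  have hI : Ideal.ofList ((C g₁ : MvPolynomial σ' P₁) :: gt) =
      (Ideal.ofList F).map
        ((C : P₁ →+* MvPolynomial σ' P₁).comp (C : R →+* P₁)) := by
    have h1 : (Ideal.ofList gt).map π =
        (Ideal.ofList (l₁.map (C : P₁ →+* MvPolynomial σ' P₁))).map π := by
      rw [Ideal.map_ofList, hgt, hg'I, Ideal.map_ofList, Ideal.map_ofList, List.map_map,
        List.map_map]
      congr 1
      apply List.map_congr_left
      intro a _
      simp only [Function.comp_apply, π, MvPolynomial.map_C]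
      rfl
    have h2 : Ideal.ofList gt ⊔ RingHom.ker π =
        Ideal.ofList (l₁.map (C : P₁ →+* MvPolynomial σ' P₁)) ⊔ RingHom.ker π := by
      have := congrArg (Ideal.comap π) h1
      rwa [Ideal.comap_map_of_surjective π hπsurj, Ideal.comap_map_of_surjective π hπsurj,
        ← RingHom.ker_eq_comap_bot] at this
    rw [Ideal.ofList_cons, ← hπker, sup_comm, h2, sup_comm, hπker, ← Ideal.ofList_cons,
      ← List.map_cons, ← Ideal.map_ofList, hF, Ideal.map_map]
  -- flatten
  let e : MvPolynomial σ' P₁ ≃+* MvPolynomial (σ' ⊕ Fin n) R :=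
    (MvPolynomial.sumAlgEquiv R σ' (Fin n)).symm.toRingEquiv
  refine ⟨σ' ⊕ Fin n, inferInstance, ((C g₁ : MvPolynomial σ' P₁) :: gt).map e, ?_,
    isWeaklyRegular_map_ringEquiv e _ hWR, ?_⟩
  · rw [List.length_map, List.length_cons, ← hgt, List.length_map]
  · have h3 : Ideal.ofList (((C g₁ : MvPolynomial σ' P₁) :: gt).map e) =
        (Ideal.ofList ((C g₁ : MvPolynomial σ' P₁) :: gt)).map e.toRingHom := by
      rw [Ideal.map_ofList]
      rfl
    rw [h3, hI, Ideal.map_map]
    congr 1
    refine RingHom.ext fun x => ?_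
    exact MvPolynomial.sumAlgEquiv_symm_C_C R σ' (Fin n) x

theorem exists_poly_regular : ∀ (r : ℕ) (R : Type u) [CommRing R] (f : List R), f.length = r →
    LCI.IsKoszulRegularSeq R f →
    ∃ (σ : Type) (_ : Finite σ) (g : List (MvPolynomial σ R)), g.length = r ∧
      IsWeaklyRegular (MvPolynomial σ R) g ∧
      Ideal.ofList g = (Ideal.ofList f).map (C : R →+* MvPolynomial σ R)
  | 0, R, _, f, hlen, _ => by
    have hf : f = [] := List.length_eq_zero_iff.mp hlen
    subst hf
    refine ⟨PEmpty, inferInstance, [], rfl, IsWeaklyRegular.nil _ _, ?_⟩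
    simp [Ideal.ofList_nil]
  | r + 1, R, _, f, hlen, hf => by
    obtain ⟨f₁, fs, rfl⟩ : ∃ f₁ fs, f = f₁ :: fs := by
      cases f with
      | nil => simp at hlen
      | cons a l => exact ⟨a, l, rfl⟩
    have hr : fs.length = r := by simpa using hlen
    have hreg : IsSMulRegular (MvPolynomial (Fin fs.length) R) (gen f₁ fs) :=
      isSMulRegular_gen f₁ fs
        (fun x hx => eq_zero_of_forall_mul_eq_zero _ hf (by simp) x hx)
    have hflat : (C : R →+* MvPolynomial (Fin fs.length) R).Flat := by
      rw [← MvPolynomial.algebraMap_eq, RingHom.flat_algebraMap_iff]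
      infer_instance
    have hKR1 := isKoszulRegularSeq_map (C : R →+* MvPolynomial (Fin fs.length) R) hflat _ hf
    have hKR2 : LCI.IsKoszulRegularSeq (MvPolynomial (Fin fs.length) R)
        (gen f₁ fs :: fs.map (C : R →+* MvPolynomial (Fin fs.length) R)) :=
      isKoszulRegularSeq_of_ofList_eq _ _ hKR1 (by rw [ofList_gen, Ideal.map_ofList])
        (by simp)
    -- the quotient ring
    have hKR3 : LCI.IsKoszulRegularSeq
        (MvPolynomial (Fin fs.length) R ⧸ Ideal.span {gen f₁ fs})
        ((fs.map (C : R →+* MvPolynomial (Fin fs.length) R)).map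
          (Ideal.Quotient.mk (Ideal.span {gen f₁ fs}))) := by
      refine isKoszulRegularSeq_of_append (Ideal.Quotient.mk (Ideal.span {gen f₁ fs}))
        Ideal.Quotient.mk_surjective [gen f₁ fs] _ ?_ ?_ ?_
      · rw [Ideal.mk_ker, Ideal.ofList_singleton]
      · apply Groth.Agent.Lib.Helper94.isKoszulRegularSeq_of_isWeaklyRegular
        rw [isWeaklyRegular_cons_iff]
        exact ⟨hreg, IsWeaklyRegular.nil _ _⟩
      · exact isKoszulRegularSeq_of_perm (List.perm_append_singleton _ _).symm hKR2
    obtain ⟨σ', hσ', g', hg'len, hg'reg, hg'I⟩ := exists_poly_regular r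
      (MvPolynomial (Fin fs.length) R ⧸ Ideal.span {gen f₁ fs}) _ (by simp [hr]) hKR3
    obtain ⟨σ, hσ, g, hglen, hgreg, hgI⟩ := lift_step (f₁ :: fs) (gen f₁ fs) _ (ofList_gen f₁ fs) hreg
      σ' hσ' g' hg'reg hg'I
    exact ⟨σ, hσ, g, by rw [hglen, hg'len], hgreg, hgI⟩

end Main

end Groth.Agent.Lib.Helper10.KoszulSmoothReg
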