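import Groth.Agent.Lib.Helper10.LciSmooth

/-!
# fppf-local nature of "locally generated by a list of kind `K`" (helper10)
-/

set_option autoImplicit false
set_option linter.unusedSectionVars false
set_option linter.style.haveILetI false
universe u

namespace Groth.Agent.Lib.Helper10.LciEtaleDescent

open Groth.Agent.Lib.Helper10.RegDescent Groth.Agent.Lib.Helper10.RegDescentKoszul
open Groth.Agent.Lib.Helper10.LciComp Groth.Agent.Lib.Helper10.LciSmooth
open Groth.Agent.Lib.Helper10.FlatLocal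

/-- `IsLoc K I` may be checked after flat, finitely presented ring maps hitting every prime
containing `I`. -/
theorem isLoc_of_forall_exists_flat_fp {K : Kind.{u}} {A : Type u} [CommRing A] (I : Ideal A)
    (h : ∀ 𝔭 : PrimeSpectrum A, I ≤ 𝔭.asIdeal → ∃ (A' : Type u) (_ : CommRing A') (ψ : A →+* A'),
      ψ.Flat ∧ ψ.FinitePresentation ∧ (∃ 𝔭' : PrimeSpectrum A', 𝔭'.comap ψ = 𝔭) ∧
        IsLoc K (I.map ψ)) :
    IsLoc K I := by
  apply isLoc_of_forall_exists_away
  intro 𝔭 hI
  obtain ⟨A', _, ψ, hflat, hfp, ⟨𝔭', h𝔭'⟩, hloc⟩ := h 𝔭 hI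
  letI := ψ.toAlgebra
  haveI : Module.Flat A A' := hflat
  haveI : Algebra.FinitePresentation A A' := hfp
  have hopen : IsOpenMap (PrimeSpectrum.comap (algebraMap A A')) :=
    PrimeSpectrum.isOpenMap_comap_of_hasGoingDown_of_finitePresentation
  have hrange : IsOpen (Set.range (PrimeSpectrum.comap (algebraMap A A'))) := hopen.isOpen_range
  have hmem : 𝔭 ∈ Set.range (PrimeSpectrum.comap (algebraMap A A')) := ⟨𝔭', h𝔭'⟩
  obtain ⟨_, ⟨g, rfl⟩, hg, hsub⟩ :=
    PrimeSpectrum.isTopologicalBasis_basic_opens.exists_subset_of_mem_open hmem hrange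
  refine ⟨g, hg, ?_⟩
  letI : Algebra (Localization.Away g) (Localization.Away (ψ g)) :=
    (Localization.awayMap ψ g).toAlgebra
  haveI : Module.Flat (Localization.Away g) (Localization.Away (ψ g)) := awayMap_flat ψ g hflat
  haveI : Module.FaithfullyFlat (Localization.Away g) (Localization.Away (ψ g)) := by
    apply Module.FaithfullyFlat.of_comap_surjective
    intro 𝔮
    have hg𝔮 : g ∉ (𝔮.comap (algebraMap A (Localization.Away g))).asIdeal := by
      intro hmem
      exact 𝔮.isPrime.ne_top (Ideal.eq_top_of_isUnit_mem _ hmem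
        (IsLocalization.Away.algebraMap_isUnit g))
    obtain ⟨𝔮', h𝔮'⟩ := hsub hg𝔮
    have hψg : ψ g ∉ 𝔮'.asIdeal := by
      rw [← h𝔮'] at hg𝔮
      exact hg𝔮
    obtain ⟨𝔮'', h𝔮''⟩ := exists_prime_away ψ g 𝔮' hψg
    refine ⟨𝔮'', ?_⟩
    apply prime_away_ext g
    rw [← h𝔮', ← h𝔮'']
    ext1
    show Ideal.comap _ (Ideal.comap _ _) = Ideal.comap _ (Ideal.comap _ _)
    rw [Ideal.comap_comap, Ideal.comap_comap]
    congr 1
    exact awayMap_comp ψ g
  apply isLoc_of_faithfullyFlat (B := Localization.Away (ψ g))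
  rw [RingHom.algebraMap_toAlgebra, map_awayMap]
  exact isLoc_map_of_flat _ (algebraMap_away_flat _) _ hloc

end Groth.Agent.Lib.Helper10.LciEtaleDescent
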