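import Groth.Agent.Lib.Helper10.LciEtaleDescentA
import Groth.Agent.Lib.Helper10.RegImmBaseChange
import Groth.Agent.Lib.Helper70.EtFibA

/-!
# Local complete intersection ring maps are étale local on the source (helper10)
-/

set_option autoImplicit false
set_option linter.unusedSectionVars false
set_option linter.style.haveILetI false
universe u

namespace Groth.Agent.Lib.Helper10.LciEtaleDescent

open Groth.Agent.Lib.Helper10.RegDescent Groth.Agent.Lib.Helper10.RegDescentKoszul
open Groth.Agent.Lib.Helper10.LciComp Groth.Agent.Lib.Helper10.LciSmooth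
open Groth.Agent.Lib.Helper10.FlatLocal TensorProduct

/-- The kernel of `P' → B ⊗[P] P'` for a surjective `P → B`. -/
theorem ker_includeRight_of_surjective {P B P' : Type u} [CommRing P] [CommRing B] [CommRing P']
    [Algebra P B] [Algebra P P'] (hsurj : Function.Surjective (algebraMap P B)) :
    RingHom.ker (Algebra.TensorProduct.includeRight : P' →ₐ[P] B ⊗[P] P').toRingHom =
      (RingHom.ker (algebraMap P B)).map (algebraMap P P') := by
  refine Groth.Agent.Lib.Helper10.RegImmBaseChange.ker_of_pushout (algebraMap P B)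
    (algebraMap P P') (Algebra.TensorProduct.includeLeftRingHom : B →+* B ⊗[P] P')
    (Algebra.TensorProduct.includeRight : P' →ₐ[P] B ⊗[P] P').toRingHom hsurj ?_ ?_
  · ext p
    simp only [RingHom.comp_apply, AlgHom.toRingHom_eq_coe, RingHom.coe_coe,
      Algebra.TensorProduct.includeRight_apply, Algebra.TensorProduct.includeLeftRingHom_apply]
    rw [Algebra.algebraMap_eq_smul_one, Algebra.algebraMap_eq_smul_one, TensorProduct.smul_tmul]
  · intro Q _ h k hcomm
    letI : Algebra P Q := (h.comp (algebraMap P B)).toAlgebra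
    let hA : B →ₐ[P] Q := { h with commutes' := fun _ => rfl }
    have hk : ∀ p : P, k (algebraMap P P' p) = h (algebraMap P B p) := fun p => by
      rw [← RingHom.comp_apply, ← hcomm, RingHom.comp_apply]
    let kA : P' →ₐ[P] Q := { k with commutes' := hk }
    refine ⟨(Algebra.TensorProduct.lift hA kA (fun _ _ => Commute.all _ _)).toRingHom, ?_⟩
    ext p'
    simp [kA]

theorem includeRight_surjective_of_surjective {P B P' : Type u} [CommRing P] [CommRing B]
    [CommRing P'] [Algebra P B] [Algebra P P'] (hsurj : Function.Surjective (algebraMap P B)) :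
    Function.Surjective (Algebra.TensorProduct.includeRight : P' →ₐ[P] B ⊗[P] P') := by
  intro x
  induction x using TensorProduct.induction_on with
  | zero => exact ⟨0, map_zero _⟩
  | tmul b p' =>
    obtain ⟨p, rfl⟩ := hsurj b
    refine ⟨p • p', ?_⟩
    rw [Algebra.TensorProduct.includeRight_apply, Algebra.algebraMap_eq_smul_one,
      TensorProduct.smul_tmul]
  | add x y hx hy =>
    obtain ⟨a, rfl⟩ := hx
    obtain ⟨b, rfl⟩ := hy
    exact ⟨a + b, map_add _ _ _⟩

/-- **Étale descent on the source** for local complete intersection ring maps. -/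
theorem isLCIHom_of_forall_exists_etale {A B : Type u} [CommRing A] [CommRing B] (φ : A →+* B)
    (hft : φ.FiniteType)
    (h : ∀ 𝔮 : PrimeSpectrum B, ∃ (B' : Type u) (_ : CommRing B') (ε : B →+* B'), ε.Etale ∧
      (∃ 𝔮' : PrimeSpectrum B', 𝔮'.comap ε = 𝔮) ∧ IsLCIHom (ε.comp φ)) : IsLCIHom φ := by
  letI := φ.toAlgebra
  have hft' : Algebra.FiniteType A B := hft
  obtain ⟨n, α, hα⟩ := Algebra.FiniteType.iff_quotient_mvPolynomial''.mp hft'
  refine ⟨hft', n, α, hα, ?_⟩
  show IsLoc koszulKind (RingHom.ker α.toRingHom)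
  apply isLoc_of_forall_exists_flat_fp
  intro 𝔭 h𝔭
  letI : Algebra (MvPolynomial (Fin n) A) B := α.toRingHom.toAlgebra
  haveI : IsScalarTower A (MvPolynomial (Fin n) A) B :=
    .of_algebraMap_eq (fun a => (α.commutes a).symm)
  have hsurj : Function.Surjective (algebraMap (MvPolynomial (Fin n) A) B) := hα
  have hαeq : algebraMap (MvPolynomial (Fin n) A) B = α.toRingHom := rfl
  -- the prime `𝔮` of `B`
  have h𝔮prime : (𝔭.asIdeal.map α.toRingHom).IsPrime :=
    Ideal.map_isPrime_of_surjective hα h𝔭
  have h𝔮 : (𝔭.asIdeal.map α.toRingHom).comap α.toRingHom = 𝔭.asIdeal := by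
    rw [Ideal.comap_map_of_surjective α.toRingHom hα]
    apply sup_eq_left.mpr
    rw [← RingHom.ker_eq_comap_bot]
    exact h𝔭
  obtain ⟨B', _, ε, hε, ⟨𝔮', h𝔮'⟩, hlci⟩ := h ⟨𝔭.asIdeal.map α.toRingHom, h𝔮prime⟩
  letI : Algebra B B' := ε.toAlgebra
  haveI : Algebra.Etale B B' := hε
  haveI := 𝔮'.isPrime
  haveI : Algebra.FinitePresentation B B' := Algebra.Etale.finitePresentation
  haveI : Algebra.FormallyEtale B B' := Algebra.Etale.formallyEtale
  haveI : Algebra.IsEtaleAt B 𝔮'.asIdeal :=
    Algebra.FormallyEtale.comp B B' (Localization.AtPrime 𝔮'.asIdeal)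
  obtain ⟨f, hf, hstd⟩ := Algebra.IsEtaleAt.exists_isStandardEtale (R := B) 𝔮'.asIdeal
  obtain ⟨P', _, _, hP', ⟨e⟩⟩ := Groth.Agent.Lib.Helper70.EtFibA.exists_etale_lift
    (MvPolynomial (Fin n) A) B (Localization.Away f)
    (Groth.Agent.Lib.Helper70.EtFibA.FracSurj.of_surjective hsurj)
  haveI : Algebra.Etale (MvPolynomial (Fin n) A) P' := hP'
  haveI : Algebra.FinitePresentation (MvPolynomial (Fin n) A) P' := Algebra.Etale.finitePresentation
  haveI : Algebra.FormallyEtale (MvPolynomial (Fin n) A) P' := Algebra.Etale.formallyEtale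
  haveI : Algebra.Smooth (MvPolynomial (Fin n) A) P' := ⟨inferInstance, inferInstance⟩
  -- basic identities
  have hone : ∀ p : MvPolynomial (Fin n) A,
      ((1 : B) ⊗ₜ[MvPolynomial (Fin n) A] algebraMap (MvPolynomial (Fin n) A) P' p) =
        algebraMap B (B ⊗[MvPolynomial (Fin n) A] P') (α p) := by
    intro p
    rw [Algebra.TensorProduct.algebraMap_apply, Algebra.algebraMap_self, RingHom.id_apply,
      Algebra.algebraMap_eq_smul_one, ← TensorProduct.smul_tmul, Algebra.smul_def, mul_one]
    rfl
  have hesymm : ∀ b : B, e.symm (algebraMap B (B ⊗[MvPolynomial (Fin n) A] P') b) =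
      algebraMap B' (Localization.Away f) (ε b) := by
    intro b
    rw [e.symm.commutes]
    rw [IsScalarTower.algebraMap_apply B B' (Localization.Away f)]
    rfl
  let β : P' →+* Localization.Away f := (e.symm : _ →+* Localization.Away f).comp
    (Algebra.TensorProduct.includeRight :
      P' →ₐ[MvPolynomial (Fin n) A] B ⊗[MvPolynomial (Fin n) A] P').toRingHom
  have hβ : ∀ p : MvPolynomial (Fin n) A,
      β (algebraMap (MvPolynomial (Fin n) A) P' p) = algebraMap B' (Localization.Away f) (ε (α p)) := by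
    intro p
    show e.symm ((1 : B) ⊗ₜ[MvPolynomial (Fin n) A] algebraMap (MvPolynomial (Fin n) A) P' p) = _
    rw [hone, hesymm]
  have hβsurj : Function.Surjective β :=
    e.symm.surjective.comp (includeRight_surjective_of_surjective hsurj)
  have hβker : RingHom.ker β =
      (RingHom.ker α.toRingHom).map (algebraMap (MvPolynomial (Fin n) A) P') := by
    rw [← hαeq, ← ker_includeRight_of_surjective hsurj]
    ext x
    simp only [RingHom.mem_ker, β, RingHom.comp_apply]
    exact (map_eq_zero_iff _ e.symm.injective)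
  refine ⟨P', inferInstance, algebraMap (MvPolynomial (Fin n) A) P',
    RingHom.flat_algebraMap_iff.mpr inferInstance,
    RingHom.finitePresentation_algebraMap.mpr inferInstance, ?_, ?_⟩
  · obtain ⟨𝔮'', h𝔮''⟩ := exists_prime_away' f 𝔮' hf
    refine ⟨𝔮''.comap β, ?_⟩
    ext1
    show Ideal.comap _ (Ideal.comap β 𝔮''.asIdeal) = 𝔭.asIdeal
    rw [← h𝔮]
    ext p
    simp only [Ideal.mem_comap]
    rw [hβ p]
    have h1 : algebraMap B' (Localization.Away f) (ε (α p)) ∈ 𝔮''.asIdeal ↔
        ε (α p) ∈ 𝔮'.asIdeal := by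
      rw [← h𝔮'']
      rfl
    rw [h1]
    have h2 : ε (α p) ∈ 𝔮'.asIdeal ↔ α p ∈ (𝔮'.comap ε).asIdeal := Iff.rfl
    rw [h2, h𝔮']
    rfl
  · rw [← hβker]
    letI : Algebra A P' := ((algebraMap (MvPolynomial (Fin n) A) P').comp
      (algebraMap A (MvPolynomial (Fin n) A))).toAlgebra
    haveI : IsScalarTower A (MvPolynomial (Fin n) A) P' := .of_algebraMap_eq' rfl
    haveI : Algebra.Smooth A (MvPolynomial (Fin n) A) := ⟨inferInstance, inferInstance⟩
    haveI : Algebra.Smooth A P' := Algebra.Smooth.comp A (MvPolynomial (Fin n) A) P'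
    apply isLoc_ker_of_smooth (A := A) β hβsurj
    have hcomp : β.comp (algebraMap A P') =
        (algebraMap B' (Localization.Away f)).comp (ε.comp φ) := by
      ext a
      simp only [RingHom.comp_apply]
      rw [IsScalarTower.algebraMap_apply A (MvPolynomial (Fin n) A) P', hβ]
      congr 2
      exact α.commutes a
    rw [hcomp]
    exact isLCIHom_comp _ _ hlci (isLCIHom_away f)

end Groth.Agent.Lib.Helper10.LciEtaleDescent
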