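import Groth.Agent.Lib.Helper10.LciEtaleDescentB
import Groth.Agent.Lib.Helper10.LciMor

/-!
# Local complete intersection morphisms of schemes: étale descent on the source, cancellation of a
smooth morphism (helper10)
-/

set_option autoImplicit false
set_option linter.unusedSectionVars false
set_option linter.style.haveILetI false
universe u

namespace Groth.Agent.Lib.Helper10.LciEtaleDescent

open AlgebraicGeometry CategoryTheory CategoryTheory.Limits
open Groth.Agent.Lib.Helper10.LciComp Groth.Agent.Lib.Helper10.LciSmooth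
open Groth.Agent.Lib.Helper10.LciLocalProp Groth.Agent.Lib.Helper10.LciMor
open Groth.Agent.Lib.Helper10.RegImmDescent

variable {X' X Y W : Scheme.{u}}

/-- **Étale descent on the source**: if `e` is étale surjective, `g` is locally of finite type and
`e ≫ g` is a local complete intersection morphism, so is `g`. -/
theorem lciMor_of_etale_surjective_comp (e : X' ⟶ X) (g : X ⟶ Y) [Etale e] [Surjective e]
    [LocallyOfFiniteType g] (h : lciMor (e ≫ g)) : lciMor g := by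
  rw [HasRingHomProperty.iff_appLE (P := lciMor)]
  intro V U hUV
  apply isLCIHom_of_forall_exists_etale
  · exact HasRingHomProperty.appLE @LocallyOfFiniteType g inferInstance V U hUV
  · intro 𝔮
    have hxU : U.2.fromSpec 𝔮 ∈ U.1 := fromSpec_mem U.2 𝔮
    obtain ⟨x', hx'⟩ := e.surjective (U.2.fromSpec 𝔮)
    have hx'mem : x' ∈ e ⁻¹ᵁ U.1 := by
      show e x' ∈ U.1
      rw [hx']; exact hxU
    obtain ⟨_, ⟨U', hU', rfl⟩, hx'U', hU'le⟩ :=
      X'.isBasis_affineOpens.exists_subset_of_mem_open hx'mem (e ⁻¹ᵁ U.1).isOpen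
    refine ⟨Γ(X', U'), inferInstance, (e.appLE U.1 U' hU'le).hom, ?_,
      ⟨hU'.primeIdealOf ⟨x', hx'U'⟩, ?_⟩, ?_⟩
    · exact HasRingHomProperty.appLE @Etale e inferInstance U ⟨U', hU'⟩ hU'le
    · rw [IsAffineOpen.comap_primeIdealOf_appLE U.1 U.2 U' hU' hU'le hx'U']
      have : (⟨e x', hU'le hx'U'⟩ : U.1) = ⟨U.2.fromSpec 𝔮, hxU⟩ := Subtype.ext hx'
      rw [this]
      exact primeIdealOf_fromSpec U.2 𝔮 hxU
    · rw [← CommRingCat.hom_comp, Scheme.Hom.appLE_comp_appLE]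
      exact HasRingHomProperty.appLE lciMor (e ≫ g) h V ⟨U', hU'⟩ _

/-- **Cancellation of a smooth morphism**: if `q` is smooth and `h ≫ q` is a local complete
intersection morphism, so is `h`. -/
theorem lciMor_of_comp_smooth (h : X ⟶ Y) (q : Y ⟶ W) [Smooth q] (hc : lciMor (h ≫ q)) :
    lciMor h := by
  rw [HasRingHomProperty.iff_exists_appLE (P := lciMor)
    (isLCIHom_stableUnderComposition.stableUnderCompositionWithLocalizationAway
      isLCIHom_holdsForLocalizationAway).1]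
  intro x
  obtain ⟨_, ⟨W₀, hW₀, rfl⟩, hxW₀, -⟩ :=
    W.isBasis_affineOpens.exists_subset_of_mem_open (Set.mem_univ (q (h x))) isOpen_univ
  obtain ⟨_, ⟨V₀, hV₀, rfl⟩, hxV₀, hV₀le⟩ :=
    Y.isBasis_affineOpens.exists_subset_of_mem_open (show h x ∈ q ⁻¹ᵁ W₀ from hxW₀)
      (q ⁻¹ᵁ W₀).isOpen
  obtain ⟨_, ⟨U₀, hU₀, rfl⟩, hxU₀, hU₀le⟩ :=
    X.isBasis_affineOpens.exists_subset_of_mem_open (show x ∈ h ⁻¹ᵁ V₀ from hxV₀)
      (h ⁻¹ᵁ V₀).isOpen
  refine ⟨⟨V₀, hV₀⟩, ⟨U₀, hU₀⟩, hxU₀, hU₀le, ?_⟩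
  have hsm : (q.appLE W₀ V₀ hV₀le).hom.Smooth :=
    HasRingHomProperty.appLE @Smooth q inferInstance ⟨W₀, hW₀⟩ ⟨V₀, hV₀⟩ hV₀le
  apply isLCIHom_of_comp_smooth (q.appLE W₀ V₀ hV₀le).hom hsm
  rw [← CommRingCat.hom_comp, Scheme.Hom.appLE_comp_appLE]
  exact HasRingHomProperty.appLE lciMor (h ≫ q) hc ⟨W₀, hW₀⟩ ⟨U₀, hU₀⟩ _

end Groth.Agent.Lib.Helper10.LciEtaleDescent
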