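import Groth.Agent.Lib.Helper10.LciMor
import Groth.Agent.S8662

/-!
# Descent of local complete intersection morphisms of schemes along a flat family refined by a
finite jointly surjective family of quasi-compact schemes (helper10)
-/

set_option autoImplicit false
set_option linter.unusedSectionVars false
set_option linter.style.haveILetI false
universe u

namespace Groth.Agent.Lib.Helper10.LciFpqcSch

open AlgebraicGeometry CategoryTheory CategoryTheory.Limits
open Groth.Agent.Lib.Helper10.LciMor

/-- for a property respecting isomorphisms, the second legs of two pullback squares over the same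
cospan have the property simultaneously. -/
theorem snd_of_isPullback_of_isPullback (Q : MorphismProperty Scheme.{u}) [Q.RespectsIso]
    {P₁ P₂ X Y Z : Scheme.{u}} {f₁ : P₁ ⟶ X} {g₁ : P₁ ⟶ Y} {f₂ : P₂ ⟶ X} {g₂ : P₂ ⟶ Y}
    {s : X ⟶ Z} {c : Y ⟶ Z}
    (sq₁ : IsPullback f₁ g₁ s c) (sq₂ : IsPullback f₂ g₂ s c) (h : Q g₁) : Q g₂ := by
  rw [← sq₂.isoIsPullback_hom_snd _ _ sq₁]
  exact (Q.cancel_left_of_respectsIso _ _).2 h

/-- base change of an lci morphism along an open immersion followed by ... : the restriction of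
an lci base change to an open of the new base. -/
theorem lciMor_snd_of_openImmersion_comp {U T V V' : Scheme.{u}} (h : U ⟶ T) (β : V ⟶ T)
    (j : V' ⟶ V) [IsOpenImmersion j] (hl : lciMor (pullback.snd h β)) :
    lciMor (pullback.snd h (j ≫ β)) := by
  have sq1 := IsPullback.of_hasPullback (pullback.snd h β) j
  have sq2 := IsPullback.of_hasPullback h β
  have big := sq1.paste_horiz sq2
  have h1 : lciMor (pullback.snd (pullback.snd h β) j) :=
    IsZariskiLocalAtTarget.of_isPullback (P := lciMor) sq1 hl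
  exact snd_of_isPullback_of_isPullback lciMor big (IsPullback.of_hasPullback h (j ≫ β)) h1

/-- **Descent along a flat family with a finite quasi-compact refinement.** -/
theorem lciMor_of_flat_family {U T : Scheme.{u}} [QuasiSeparatedSpace T] (h : U ⟶ T)
    {ι : Type u} (V : ι → Scheme.{u}) (β : ∀ i, V i ⟶ T) (hflat : ∀ i, Flat (β i))
    (hl : ∀ i, lciMor (pullback.snd h (β i)))
    {m : ℕ} (W : Fin m → Scheme.{u}) (hW : ∀ j, CompactSpace (W j)) (c : ∀ j, W j ⟶ T)
    (hsurj : ∀ t : T, ∃ j, t ∈ Set.range (c j))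
    (idx : Fin m → ι) (l : ∀ j, W j ⟶ V (idx j)) (hl' : ∀ j, l j ≫ β (idx j) = c j) :
    lciMor h := by
  have hex : ∀ j, ∃ V' : (V (idx j)).Opens, IsCompact (V' : Set (V (idx j))) ∧
      Set.range (l j) ⊆ (V' : Set (V (idx j))) := by
    intro j
    haveI := hW j
    have hK : IsCompact (Set.range (l j)) := isCompact_range (l j).continuous
    obtain ⟨K, hKc, hKo, hsub, -⟩ :=
      PrespectralSpace.exists_isCompact_and_isOpen_between hK isOpen_univ (Set.subset_univ _)
    exact ⟨⟨K, hKo⟩, hKc, hsub⟩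
  choose V' hV'c hV'l using hex
  let Z : Fin m → Scheme.{u} := fun j => ((V' j : (V (idx j)).Opens) : Scheme.{u})
  let γ : ∀ j, Z j ⟶ T := fun j => (V' j).ι ≫ β (idx j)
  let c' : ∐ Z ⟶ T := Sigma.desc γ
  haveI hc'flat : Flat c' := by
    rw [IsZariskiLocalAtSource.iff_of_openCover (P := @Flat) (sigmaOpenCover Z)]
    intro j
    change Flat (Sigma.ι Z j ≫ Sigma.desc γ)
    rw [Sigma.ι_desc]
    haveI := hflat (idx j)
    infer_instance
  haveI hc'surj : Surjective c' := by
    refine ⟨fun t => ?_⟩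
    obtain ⟨j, w, hw⟩ := hsurj t
    have hmem : l j w ∈ (V' j : Set (V (idx j))) := hV'l j ⟨w, rfl⟩
    refine ⟨Sigma.ι Z j ⟨l j w, hmem⟩, ?_⟩
    rw [← Scheme.Hom.comp_apply, Sigma.ι_desc]
    change ((V' j).ι ≫ β (idx j)) ⟨l j w, hmem⟩ = t
    rw [Scheme.Hom.comp_apply]
    have : (V' j).ι ⟨l j w, hmem⟩ = l j w := rfl
    rw [this, ← Scheme.Hom.comp_apply, hl' j]
    exact hw
  haveI : ∀ j, CompactSpace (Z j) := fun j => isCompact_iff_compactSpace.mp (hV'c j)
  haveI : Finite (sigmaOpenCover Z).I₀ := inferInstanceAs (Finite (Fin m))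
  haveI : ∀ j, CompactSpace ((sigmaOpenCover Z).X j) := fun j =>
    inferInstanceAs (CompactSpace (Z j))
  haveI : CompactSpace ↥(∐ Z) := (sigmaOpenCover Z).compactSpace
  haveI hc'qc : QuasiCompact c' := inferInstance
  rw [lciMor_iff_forall_isKoszulAt]
  refine Groth.Agent.S8662.result h c' (pullback.snd h c') (pullback.fst h c')
    (IsPullback.of_hasPullback h c') ?_
  rw [← lciMor_iff_forall_isKoszulAt]
  rw [IsZariskiLocalAtTarget.iff_of_openCover (P := lciMor) (sigmaOpenCover Z)]
  intro j
  change lciMor (pullback.snd (pullback.snd h c') (Sigma.ι Z j))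
  have sq1 := IsPullback.of_hasPullback (pullback.snd h c') (Sigma.ι Z j)
  have sq2 := IsPullback.of_hasPullback h c'
  have big := sq1.paste_horiz sq2
  have hι : Sigma.ι Z j ≫ c' = γ j := Sigma.ι_desc _ _
  rw [hι] at big
  exact snd_of_isPullback_of_isPullback lciMor (IsPullback.of_hasPullback h (γ j)) big
    (lciMor_snd_of_openImmersion_comp h (β (idx j)) (V' j).ι (hl (idx j)))

end Groth.Agent.Lib.Helper10.LciFpqcSch
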