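import Groth.Agent.Lib.Helper10.LciSpLocal
import Groth.Agent.Lib.Helper10.LciFpqcSch
import Groth.Agent.Lib.Helper54.FpqcCover
import Groth.Agent.H52.QC
import Groth.Agent.H52.ZarAff

/-!
# Local complete intersection morphisms of algebraic spaces are fpqc local on the base (helper10)
-/

set_option autoImplicit false
set_option linter.unusedSectionVars false
set_option linter.style.haveILetI false
universe u

namespace Groth.Agent.Lib.Helper10.LciFpqcSp

open AlgebraicGeometry CategoryTheory CategoryTheory.Limits AlgSp Groth.Agent.H52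
open Groth.Agent.Lib.Helper10.LciMor Groth.Agent.Lib.Helper10.LciSpNear
open Groth.Agent.Lib.Helper10.LciSmLocal Groth.Agent.Lib.Helper10.LciEtaleDescent
open Groth.Agent.Lib.Helper78.FlatLocusSp Groth.Agent.Lib.Helper10.LciFpqcSch

variable {S : Scheme.{u}}

/-- **Base change of a prescribed chart.**  Given an étale chart `U` of `X ×_Y V` (with `V` an étale
chart of `Y`), a pullback square `X' = X ×_Y Y'` and an étale chart `V'` of `Y'` over `V`, the scheme
`U ×_V V'` is an étale chart of `X'` over `V'`. -/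
theorem exists_baseChange_chart_of_chart {X Y Y' X' : Sp S} {f : X ⟶ Y} {g : Y' ⟶ Y}
    {g' : X' ⟶ X} {f' : X' ⟶ Y'} (sq : IsPullback g' f' f g)
    {V V' U : Over S} (b : (yon S).obj V ⟶ Y)
    (c : (yon S).obj U ⟶ pullback f b) (hce : RepWith @Etale c) (h : U ⟶ V)
    (hh : (yon S).map h = c ≫ pullback.snd f b)
    (b' : (yon S).obj V' ⟶ Y') (hb'e : RepWith @Etale b') (β : V' ⟶ V)
    (hb'β : b' ≫ g = (yon S).map β ≫ b) :
    ∃ (U' : Over S) (a' : (yon S).obj U' ⟶ X') (h' : U' ⟶ V') (α : U' ⟶ U),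
      RepWith @Etale a' ∧ a' ≫ f' = (yon S).map h' ≫ b' ∧
      IsPullback α.left h'.left h.left β.left := by
  have sqN := IsPullback.of_hasPullback f b
  have sqM := IsPullback.of_hasPullback (pullback.snd f b) ((yon S).map β)
  set m₁ := pullback.fst (pullback.snd f b) ((yon S).map β) with hm₁
  set m₂ := pullback.snd (pullback.snd f b) ((yon S).map β) with hm₂
  have hcompat : (m₁ ≫ pullback.fst f b) ≫ f = (m₂ ≫ b') ≫ g := by
    rw [Category.assoc, sqN.w, ← Category.assoc, sqM.w, Category.assoc, Category.assoc, hb'β]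
  let μ : pullback (pullback.snd f b) ((yon S).map β) ⟶ X' := sq.lift _ _ hcompat
  have hμ1 : μ ≫ g' = m₁ ≫ pullback.fst f b := sq.lift_fst _ _ _
  have hμ2 : μ ≫ f' = m₂ ≫ b' := sq.lift_snd _ _ _
  have sqL : IsPullback μ m₂ f' b' := by
    have big : IsPullback (m₁ ≫ pullback.fst f b) m₂ f ((yon S).map β ≫ b) :=
      sqM.paste_horiz sqN
    rw [← hb'β, ← hμ1] at big
    exact IsPullback.of_right big hμ2 sq
  have hμe : RepWith @Etale μ := MorphismProperty.of_isPullback sqL.flip hb'e
  -- the scheme `U' = U ×_V V'`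
  let U' : Over S := Over.mk (pullback.fst h.left β.left ≫ U.hom)
  let α : U' ⟶ U := Over.homMk (pullback.fst h.left β.left) rfl
  have hw : pullback.snd h.left β.left ≫ V'.hom = pullback.fst h.left β.left ≫ U.hom := by
    rw [← Over.w β, ← Over.w h, ← Category.assoc, ← Category.assoc, pullback.condition]
  let h' : U' ⟶ V' := Over.homMk (pullback.snd h.left β.left) hw
  have sqS : IsPullback α.left h'.left h.left β.left := IsPullback.of_hasPullback h.left β.left
  have sqO : IsPullback α h' h β :=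
    IsPullback.of_map (Over.forget S) (by ext; exact pullback.condition) sqS
  have sqU' := sqO.map (yon S)
  have hcompat2 : ((yon S).map α ≫ c) ≫ pullback.snd f b = (yon S).map h' ≫ (yon S).map β := by
    rw [Category.assoc, ← hh]; exact sqU'.w
  let ψ : (yon S).obj U' ⟶ pullback (pullback.snd f b) ((yon S).map β) := sqM.lift _ _ hcompat2
  have hψ1 : ψ ≫ m₁ = (yon S).map α ≫ c := sqM.lift_fst _ _ _
  have hψ2 : ψ ≫ m₂ = (yon S).map h' := sqM.lift_snd _ _ _
  have sqψ : IsPullback ψ ((yon S).map α) m₁ c := by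
    have big : IsPullback ((yon S).map h') ((yon S).map α) ((yon S).map β) ((yon S).map h) :=
      sqU'.flip
    rw [← hψ2, hh] at big
    exact IsPullback.of_right big hψ1 sqM.flip
  have hψe : RepWith @Etale ψ := MorphismProperty.of_isPullback sqψ.flip hce
  refine ⟨U', ψ ≫ μ, h', α, (RepWith (S := S) @Etale).comp_mem _ _ hψe hμe, ?_, sqS⟩
  rw [Category.assoc, hμ2, ← Category.assoc, hψ2]

open Groth.Agent.Lib.Helper54 in
/-- **Key lemma.**  For an fpqc covering `Y_i ⟶ Y` with lci base changes `X_i ⟶ Y_i`, an étale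
chart `U ⟶ T` of `X ×_Y T ⟶ T` over an affine étale chart `T` of `Y` is lci. -/
theorem lciMor_chart_of_fpqc_cover {ι : Type u} {Y : Sp S} (Yi : ι → Sp S) (g : ∀ i, Yi i ⟶ Y)
    (hY : IsAlgSpace Y) (hYi : ∀ i, IsAlgSpace (Yi i)) (hcov : IsFpqcCover Yi g)
    {X : Sp S} (f : X ⟶ Y) (Xi : ι → Sp S) (p : ∀ i, Xi i ⟶ Yi i)
    (q : ∀ i, Xi i ⟶ X) (sq : ∀ i, IsPullback (q i) (p i) f (g i))
    (hp : ∀ i, IsLCIMor (p i))
    {T U : Over S} [IsAffine T.left] (b : (yon S).obj T ⟶ Y) (hbe : RepWith @Etale b)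
    (c : (yon S).obj U ⟶ pullback f b) (hce : RepWith @Etale c) (h : U ⟶ T)
    (hh : (yon S).map h = c ≫ pullback.snd f b) : lciMor h.left := by
  -- per-index data
  have key : ∀ i, ∃ (V : Over S) (β : V ⟶ T) (e : (yon S).obj V ⟶ pullback (g i) b),
      RepWith @Etale e ∧ RepWith @Surjective e ∧ (yon S).map β = e ≫ pullback.snd (g i) b ∧
      Flat β.left ∧ lciMor (pullback.snd h.left β.left) := by
    intro i
    have sqP := IsPullback.of_hasPullback (g i) b
    have hP : IsAlgSpace (pullback (g i) b) :=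
      isAlgSpace_of_isPullback sqP (hYi i) hY (IsAlgSpace.yon_obj T)
    obtain ⟨V, e, hee, hes⟩ := hP.atlas
    obtain ⟨β, hβ⟩ := (yon S).map_surjective (e ≫ pullback.snd (g i) b)
    have hfst : RepWith @Etale (pullback.fst (g i) b) :=
      MorphismProperty.of_isPullback sqP.flip hbe
    have hb'e : RepWith @Etale (e ≫ pullback.fst (g i) b) :=
      (RepWith (S := S) @Etale).comp_mem _ _ hee hfst
    have comm : (e ≫ pullback.fst (g i) b) ≫ g i = (yon S).map β ≫ b := by
      rw [Category.assoc, sqP.w, ← Category.assoc, hβ]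
    have hflat : Flat β.left := hcov.1 i _ b β hb'e hbe comm
    obtain ⟨U', a', h', α, ha'e, ck', sqS⟩ :=
      exists_baseChange_chart_of_chart (sq i) b c hce h hh _ hb'e β comm
    have hl : AlgSp.lci h'.left := hp i a' _ h' ha'e hb'e ck'
    refine ⟨V, β, e, hee, hes, hβ, hflat, ?_⟩
    exact snd_of_isPullback_of_isPullback lciMor sqS (IsPullback.of_hasPullback h.left β.left)
      ((lciMor_iff_forall_isKoszulAt _).mpr hl)
  choose V β e hee hes hβ hflat hl using key
  -- refinement of the identity of `h_T` by the family `β i`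
  have href : FpqcRefines (fun i => (yon S).map (β i)) T (𝟙 _) := by
    obtain ⟨m, W, c', haff, hcflat, hsurj, hlift⟩ := hcov.2 T inferInstance b
    refine fpqcRefines_trans _ T (𝟙 _) W c' hcflat hsurj (fun j => ?_)
    obtain ⟨i, l, hl⟩ := hlift j
    haveI := haff j
    let lam : (yon S).obj (W j) ⟶ pullback (g i) b := pullback.lift l ((yon S).map (c' j)) hl
    have sqZ := (hee i).rep.isPullback lam
    obtain ⟨r, hr⟩ := (yon S).map_surjective ((hee i).rep.fst lam)
    rw [← hr] at sqZ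
    have hsnd_e : Etale ((hee i).rep.snd lam).left := (hee i).property_snd lam
    have hsnd_s : Surjective ((hee i).rep.snd lam).left := (hes i).property _ _ _ sqZ
    refine fpqcRefines_of_open_family _ (W j) _ (κ := Unit)
      (fun _ => (hee i).rep.pullback lam) (fun _ => (hee i).rep.snd lam)
      (fun _ => inferInstance) (fun _ => ((hee i).rep.snd lam).left.isOpenMap)
      (fun z => ⟨(), hsnd_s.surj z⟩) (fun _ => ⟨i, (yon S).map r, ?_⟩)
    change (yon S).map r ≫ (yon S).map (β i) = _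
    rw [hβ i, ← Category.assoc, sqZ.w, Category.assoc, Category.comp_id]
    congr 1
    exact pullback.lift_snd _ _ _
  obtain ⟨m, W, c', haff, hcflat, hsurj, hlift⟩ := href
  choose idx l hl' using hlift
  choose l₀ hl₀ using fun j => (yon S).map_surjective (l j)
  have hcomm : ∀ j, l₀ j ≫ β (idx j) = c' j := by
    intro j
    apply (yon S).map_injective
    rw [Functor.map_comp, hl₀ j, hl' j, Category.comp_id]
  exact lciMor_of_flat_family h.left (fun i => (V i).left) (fun i => (β i).left) hflat hl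
    (fun j => (W j).left) (fun j => haveI := haff j; inferInstance) (fun j => (c' j).left) hsurj
    idx (fun j => (l₀ j).left) (fun j => by rw [← hcomm j]; rfl)

/-- **Descent of lci along an fpqc covering of the base.** -/
theorem isLCIMor_of_fpqc_cover {ι : Type u} {Y : Sp S} (Yi : ι → Sp S) (g : ∀ i, Yi i ⟶ Y)
    (hY : IsAlgSpace Y) (hYi : ∀ i, IsAlgSpace (Yi i)) (hcov : IsFpqcCover Yi g)
    {X : Sp S} (f : X ⟶ Y) (hX : IsAlgSpace X) (Xi : ι → Sp S) (p : ∀ i, Xi i ⟶ Yi i)
    (q : ∀ i, Xi i ⟶ X) (sq : ∀ i, IsPullback (q i) (p i) f (g i))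
    (hp : ∀ i, IsLCIMor (p i)) : IsLCIMor f := by
  show LocP AlgSp.lci f
  rw [locP_lci_iff_forall_hasAtMor hX hY f]
  intro x
  obtain ⟨V₀, b₀, v₀, hb₀e, hb₀v⟩ := exists_chart_through_point hY (Points.map f x)
  obtain ⟨O, hO, hv₀O, -⟩ := exists_isAffineOpen_mem_and_subset (x := v₀) (U := ⊤) trivial
  haveI : IsAffine (overOpen V₀ O).left := hO
  have hbe : RepWith @Etale ((yon S).map (overOpenι V₀ O) ≫ b₀) :=
    (RepWith (S := S) @Etale).comp_mem _ _ (repWith_etale_overOpenι V₀ O) hb₀e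
  have hbv : Points.ofPt ((yon S).map (overOpenι V₀ O) ≫ b₀) ⟨v₀, hv₀O⟩ = Points.map f x := by
    rw [ofPt_overOpenι_comp]
    exact hb₀v
  generalize (yon S).map (overOpenι V₀ O) ≫ b₀ = b at hbe hbv
  have sqN := IsPullback.of_hasPullback f b
  have hN : IsAlgSpace (pullback f b) :=
    isAlgSpace_of_isPullback sqN hX hY (IsAlgSpace.yon_obj _)
  have hn₁ : RepWith @Etale (pullback.fst f b) := MorphismProperty.of_isPullback sqN.flip hbe
  obtain ⟨n, hnx, hnv⟩ := exists_point_of_isPullback sqN x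
    (Points.ofScheme (overOpen V₀ O) ⟨v₀, hv₀O⟩) (by rw [← Points.ofPt_eq_map_ofScheme, hbv])
  obtain ⟨U, c, u, hce, hcu⟩ := exists_chart_through_point hN n
  obtain ⟨h, hh⟩ := (yon S).map_surjective (c ≫ pullback.snd f b)
  have key := lciMor_chart_of_fpqc_cover Yi g hY hYi hcov f Xi p q sq hp b hbe c hce h hh
  refine ⟨U, overOpen V₀ O, c ≫ pullback.fst f b, b, h, u,
    (RepWith (S := S) @Etale).comp_mem _ _ hce hn₁, hbe, ?_, ?_, ⊤, trivial, ?_⟩
  · rw [Category.assoc, sqN.w, ← Category.assoc, hh]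
  · rw [Points.ofPt_eq_map_ofScheme, Points.map_comp, ← Points.ofPt_eq_map_ofScheme, hcu, hnx]
  · exact lciMor.comp_mem _ _ (lciMor_of_isOpenImmersion _) key

/-- **lci is fpqc local on the base** for algebraic spaces. -/
theorem isLocalOnBase_fpqc_isLCIMor : IsLocalOnBase (IsFpqcCover (S := S)) IsLCIMor := by
  intro ι Y Yi g hY hYi hcov X f hX Xi p q hXi sq
  constructor
  · intro hf i
    exact Groth.Agent.Lib.Helper10.LciSpLocal.isLCIMor_of_isPullback_flat hX hY (hXi i) (hYi i)
      (sq i) (hcov.1 i) hf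
  · exact isLCIMor_of_fpqc_cover Yi g hY hYi hcov f hX Xi p q sq

end Groth.Agent.Lib.Helper10.LciFpqcSp
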