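import Groth.Agent.Lib.Helper10.LciMor

/-!
# An immersion which is a local complete intersection morphism is a Koszul-regular immersion
(helper10)
-/

set_option autoImplicit false
set_option linter.unusedSectionVars false
set_option linter.style.haveILetI false
universe u

namespace Groth.Agent.Lib.Helper10.LciImmersion

open AlgebraicGeometry CategoryTheory CategoryTheory.Limits
open Groth.Agent.Lib.Helper10.RegDescent Groth.Agent.Lib.Helper10.RegDescentKoszul
open Groth.Agent.Lib.Helper10.LciComp Groth.Agent.Lib.Helper10.LciSmooth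
open Groth.Agent.Lib.Helper10.LciLocalProp Groth.Agent.Lib.Helper10.LciMor
open Groth.Agent.Lib.Helper10.RegImmDescent Groth.Agent.Lib.Helper10.RegImmBaseChange

/-- A surjective local complete intersection ring map has a locally Koszul-regular kernel. -/
theorem isLoc_ker_of_isLCIHom_of_surjective {B C : Type u} [CommRing B] [CommRing C] (ψ : B →+* C)
    (hψ : Function.Surjective ψ) (h : IsLCIHom ψ) : IsLoc koszulKind (RingHom.ker ψ) := by
  haveI : Algebra.Smooth B B := ⟨inferInstance, inferInstance⟩
  apply isLoc_ker_of_smooth (A := B) (B := B) ψ hψ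
  have : ψ.comp (algebraMap B B) = ψ := by ext; rfl
  rw [this]
  exact h

variable {Z X : Scheme.{u}}

/-- An immersion which is a local complete intersection morphism is a Koszul-regular immersion. -/
theorem isRegularImmersion_of_lciMor (i : Z ⟶ X) [IsImmersion i] (h : lciMor i) :
    RegImm.IsRegularImmersion .koszul i := by
  refine ⟨inferInstance, fun z => ?_⟩
  obtain ⟨U, hzU, hcl⟩ := exists_affine_isClosedImmersion_restrict i z
  obtain ⟨hV, hsurj⟩ := app_surjective_of_restrict i U.1 U.2 hcl
  have hlci : IsLCIHom (i.app U.1).hom := by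
    rw [Scheme.Hom.app_eq_appLE]
    exact HasRingHomProperty.appLE lciMor i h U ⟨i ⁻¹ᵁ U.1, hV⟩ le_rfl
  have hloc : IsLoc koszulKind (RingHom.ker (i.app U.1).hom) :=
    isLoc_ker_of_isLCIHom_of_surjective _ hsurj hlci
  exact hasDataAt_of_isLoc i U.2 hcl hloc z hzU

end Groth.Agent.Lib.Helper10.LciImmersion
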