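import Mathlib
import Groth.Agent.Lib.Helper10.LciComp
import Groth.Agent.H8.RegSeqSpread
import Groth.Agent.Lib.Helper85.RegularIdeal

/-!
# Finite type maps between regular rings are local complete intersections (helper10)
-/

set_option autoImplicit false
universe u

namespace Groth.Agent.Lib.Helper10.LciRegular

open Groth.Agent.Lib.Helper10.RegDescent Groth.Agent.Lib.Helper10.RegDescentKoszul
open Groth.Agent.Lib.Helper10.LciTrans Groth.Agent.Lib.Helper10.LciComp
open Groth.Agent.H8.RegSeqSpread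

section LocQuot

variable {P B : Type u} [CommRing P] [CommRing B] (α : P →+* B) (hα : Function.Surjective α)
  (𝔓 : Ideal P) [𝔓.IsPrime] (hker : RingHom.ker α ≤ 𝔓)

include hα hker

lemma map_primeCompl [(𝔓.map α).IsPrime] :
    Submonoid.map α 𝔓.primeCompl = (𝔓.map α).primeCompl := by
  ext b
  constructor
  · rintro ⟨p, hp, rfl⟩
    intro hmem
    exact hp (mem_of_map_mem α hα 𝔓 hker p hmem)
  · intro hb
    obtain ⟨p, rfl⟩ := hα b
    exact ⟨p, fun hp => hb (Ideal.mem_map_of_mem α hp), rfl⟩

/-- the local ring of the quotient is the quotient of the local ring. -/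
lemma nonempty_quotient_equiv [(𝔓.map α).IsPrime] :
    Nonempty (Localization.AtPrime (𝔓.map α) ≃+*
      Localization.AtPrime 𝔓 ⧸ (RingHom.ker α).map (algebraMap P (Localization.AtPrime 𝔓))) := by
  have hT := map_primeCompl α hα 𝔓 hker
  haveI : IsLocalization (Submonoid.map α 𝔓.primeCompl) (Localization.AtPrime (𝔓.map α)) := by
    rw [hT]
    infer_instance
  have hsurj := IsLocalization.map_surjective_of_surjective (S := Localization.AtPrime 𝔓)
    (M := 𝔓.primeCompl) (Q := Localization.AtPrime (𝔓.map α)) (g := α) hα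
  have hk := IsLocalization.ker_map (S := Localization.AtPrime 𝔓)
    (Localization.AtPrime (𝔓.map α)) α (M := 𝔓.primeCompl)
    (T := Submonoid.map α 𝔓.primeCompl) rfl
  exact ⟨((Ideal.quotEquivOfEq hk.symm).trans
    (RingHom.quotientKerEquivOfSurjective hsurj)).symm⟩

end LocQuot

/-- the kernel of a surjection from a regular ring onto a ring with regular local rings is locally
Koszul-regular. -/
theorem isLoc_ker_of_regular {P B : Type u} [CommRing P] [CommRing B] [IsRegularRing P]
    (hB : ∀ (q : Ideal B) [q.IsPrime], IsRegularLocalRing (Localization.AtPrime q))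
    (α : P →+* B) (hα : Function.Surjective α) : IsLoc koszulKind (RingHom.ker α) := by
  intro 𝔓 h𝔓
  haveI : (𝔓.asIdeal.map α).IsPrime := Ideal.map_isPrime_of_surjective hα h𝔓
  obtain ⟨e⟩ := nonempty_quotient_equiv α hα 𝔓.asIdeal h𝔓
  haveI := hB (𝔓.asIdeal.map α)
  have hreg : IsRegularLocalRing (Localization.AtPrime 𝔓.asIdeal ⧸
      (RingHom.ker α).map (algebraMap P (Localization.AtPrime 𝔓.asIdeal))) :=
    IsRegularLocalRing.of_ringEquiv e
  obtain ⟨rs, hrs, hrsI⟩ := Groth.Agent.Lib.Helper85.exists_regular_seq_of_quotient_regular _ hreg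
  obtain ⟨as, has⟩ := exists_list_map_unit 𝔓.asIdeal.primeCompl
    (Localization.AtPrime 𝔓.asIdeal) rs
  have hwr : RingTheory.Sequence.IsWeaklyRegular (Localization.AtPrime 𝔓.asIdeal)
      (as.map (algebraMap P (Localization.AtPrime 𝔓.asIdeal))) :=
    isWeaklyRegular_of_forall₂_unit has _ hrs.toIsWeaklyRegular
  have hid : (Ideal.ofList as).map (algebraMap P (Localization.AtPrime 𝔓.asIdeal)) =
      (RingHom.ker α).map (algebraMap P (Localization.AtPrime 𝔓.asIdeal)) := by
    rw [Ideal.map_ofList, ofList_eq_of_forall₂_unit has, hrsI]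
  obtain ⟨f₁, hf₁, hf₁'⟩ := exists_isWeaklyRegular_away_ring P 𝔓.asIdeal
    (Localization.AtPrime 𝔓.asIdeal) as hwr
  obtain ⟨f₂, hf₂, hf₂'⟩ := exists_map_eq_away P 𝔓.asIdeal
    (Localization.AtPrime 𝔓.asIdeal) _ _ hid
  refine ⟨f₁ * f₂, fun hmem => (𝔓.isPrime.mem_or_mem hmem).elim hf₁ hf₂,
    as.map (algebraMap P (Localization.Away (f₁ * f₂))), ?_, ?_⟩
  · exact Groth.Agent.Lib.Helper94.isKoszulRegularSeq_of_isWeaklyRegular _ _
      (hf₁' (f₁ * f₂) (Ideal.mem_span_singleton'.mpr ⟨f₂, by ring⟩) (Localization.Away (f₁ * f₂)))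
  · rw [← Ideal.map_ofList]
    exact (hf₂' (f₁ * f₂) (Ideal.mem_span_singleton'.mpr ⟨f₁, rfl⟩)
      (Localization.Away (f₁ * f₂))).symm

/-- a finite type algebra over a regular ring, all of whose local rings are regular, is a local
complete intersection. -/
theorem isLCI_of_regular {A B : Type u} [CommRing A] [CommRing B] [Algebra A B] [IsRegularRing A]
    (hft : Algebra.FiniteType A B)
    (hB : ∀ (q : Ideal B) [q.IsPrime], IsRegularLocalRing (Localization.AtPrime q)) :
    LCI.IsLCI A B := by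
  obtain ⟨n, α, hα⟩ := Algebra.FiniteType.iff_quotient_mvPolynomial''.mp hft
  exact ⟨hft, n, α, hα, isLoc_ker_of_regular hB α.toRingHom hα⟩

end Groth.Agent.Lib.Helper10.LciRegular
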