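import Groth.Agent.Lib.Helper10.LciEtaleDescentC
import Groth.Agent.Lib.Helper24.SmoothSourceDescentScheme
import Groth.Agent.H52.NhdInvariant
import Groth.Agent.S10195
import Groth.Prelude.Def_AlgSpMor6

/-!
# "Local complete intersection near a point" for morphisms of algebraic spaces (helper10)

* `isEtaleSquareInvariant_lciNhd`: for morphisms of schemes, "lci on an open neighbourhood of the
  point" is invariant under étale squares (no base change stability is needed).
* `locPNear_lci_iff_hasAtMor`: the prelude's `AlgSp.LocPNear AlgSp.lci f x` (lci on an open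
  subspace through `x`) agrees with "lci near the point on some (equivalently every) chart
  diagram through `x`".
-/

set_option autoImplicit false
set_option linter.unusedSectionVars false
set_option linter.style.haveILetI false
universe u

namespace Groth.Agent.Lib.Helper10.LciSpNear

open AlgebraicGeometry CategoryTheory CategoryTheory.Limits AlgSp Groth.Agent.H52
open Groth.Agent.Lib.Helper10.LciMor Groth.Agent.Lib.Helper10.LciEtaleDescent
open Groth.Agent.Lib.Helper10.LciLocalProp

section Schemes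

variable {X' X Y : Scheme.{u}}

/-- Étale descent on the source, without finiteness hypothesis on `g`. -/
theorem lciMor_of_etale_surjective_comp' (e : X' ⟶ X) (g : X ⟶ Y) [Etale e] [Surjective e]
    (h : lciMor (e ≫ g)) : lciMor g := by
  haveI : LocallyOfFiniteType (e ≫ g) := locallyOfFiniteType_of_lciMor _ h
  haveI : LocallyOfFiniteType g :=
    Groth.Agent.Lib.Helper24.locallyOfFiniteType_of_smooth_surjective_comp e g
  exact lciMor_of_etale_surjective_comp e g h

/-- "lci on an open neighbourhood of the point" is invariant under étale squares. -/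
theorem isEtaleSquareInvariant_lciNhd :
    IsEtaleSquareInvariant.{u} (fun {U _} h u => ∃ W : U.Opens, u ∈ W ∧ lciMor (W.ι ≫ h)) := by
  intro U U' V V' h h' a b ha hb comm u'
  haveI := ha
  haveI := hb
  apply propext
  constructor
  · rintro ⟨W, hu, hW⟩
    refine ⟨a ⁻¹ᵁ W, hu, ?_⟩
    apply lciMor_of_comp_smooth _ b
    have e : ((a ⁻¹ᵁ W).ι ≫ h') ≫ b = (a ∣_ W) ≫ W.ι ≫ h := by
      rw [Category.assoc, comm, ← Category.assoc, ← morphismRestrict_ι, Category.assoc]
    rw [e]
    exact lciMor.comp_mem _ _ (lciMor_of_smooth (a ∣_ W)) hW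
  · rintro ⟨W', hu', hW'⟩
    let W : U.Opens := ⟨a '' (W' : Set U'), a.isOpenMap _ W'.2⟩
    have hsub : Set.range (W'.ι ≫ a) ⊆ Set.range W.ι := by
      rintro _ ⟨w, rfl⟩
      rw [Scheme.Opens.range_ι]
      exact ⟨w.1, w.2, by simp [Scheme.Hom.comp_apply]⟩
    let e : W'.toScheme ⟶ W.toScheme := IsOpenImmersion.lift W.ι (W'.ι ≫ a) hsub
    have he : e ≫ W.ι = W'.ι ≫ a := IsOpenImmersion.lift_fac _ _ _
    haveI hee : Etale e := by
      have : Etale (e ≫ W.ι) := by rw [he]; infer_instance
      exact Etale.of_comp e W.ι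
    haveI hes : Surjective e := by
      refine ⟨fun w => ?_⟩
      obtain ⟨w', hw', hw'e⟩ := w.2
      refine ⟨⟨w', hw'⟩, ?_⟩
      apply W.ι.isOpenEmbedding.injective
      rw [← Scheme.Hom.comp_apply, he, Scheme.Hom.comp_apply]
      exact hw'e
    refine ⟨W, ⟨u', hu', rfl⟩, lciMor_of_etale_surjective_comp' e (W.ι ≫ h) ?_⟩
    have e2 : e ≫ W.ι ≫ h = (W'.ι ≫ h') ≫ b := by
      rw [← Category.assoc, he, Category.assoc, ← comm, Category.assoc]
    rw [e2]
    exact lciMor.comp_mem _ _ hW' (lciMor_of_smooth b)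

end Schemes

variable {S : Scheme.{u}}

/-- "lci near the point on some chart diagram through `x`" is the same as "lci near the point on
every chart diagram through `x`". -/
theorem hasAtMor_lciNhd_iff_forall {X Y : Sp S} (hX : IsAlgSpace X) (hY : IsAlgSpace Y)
    (f : X ⟶ Y) (x : Points X) :
    HasAtMor (fun U _ h u => ∃ W : U.Opens, u ∈ W ∧ lciMor (W.ι ≫ h)) f x ↔
      ∀ ⦃U V : Over S⦄ (a : (yon S).obj U ⟶ X) (b : (yon S).obj V ⟶ Y) (h : U ⟶ V) (u : ↥U.left),
        RepWith @Etale a → RepWith @Etale b → a ≫ f = (yon S).map h ≫ b → Points.ofPt a u = x →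
          ∃ W : U.left.Opens, u ∈ W ∧ lciMor (W.ι ≫ h.left) := by
  have key := isEtaleSquareInvariant_lciNhd.hasAtMor_iff_forall hX hY f x True
  simp only [eq_iff_iff, iff_true] at key
  exact key

section Locus

variable {U V : Scheme.{u}}

/-- The two forms of the lci locus of a morphism of schemes: some affine chart at the point
carries an lci ring map, or the morphism is lci on an open neighbourhood of the point. -/
theorem exists_affine_isLCI_iff_exists_nhd (h : U ⟶ V) (u : U) :
    (∃ (U' : U.Opens) (V' : V.Opens) (_ : IsAffineOpen U') (_ : IsAffineOpen V')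
      (hUV : U' ≤ h ⁻¹ᵁ V'), u ∈ U' ∧
        Groth.Agent.Lib.Helper10.LciComp.IsLCIHom (h.appLE V' U' hUV).hom) ↔
      ∃ W : U.Opens, u ∈ W ∧ lciMor (W.ι ≫ h) := by
  have key : ∀ (U' : U.Opens) (V' : V.Opens) (hU' : IsAffineOpen U') (hV' : IsAffineOpen V')
      (hUV : U' ≤ h ⁻¹ᵁ V'), lciMor (h.resLE V' U' hUV) ↔
        Groth.Agent.Lib.Helper10.LciComp.IsLCIHom (h.appLE V' U' hUV).hom := by
    intro U' V' hU' hV' hUV
    haveI : IsAffine (U' : Scheme.{u}) := hU'
    haveI : IsAffine (V' : Scheme.{u}) := hV'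
    rw [HasRingHomProperty.iff_of_isAffine (P := lciMor)]
    have hri := isLCIHom_respectsIso
    have e1 : (h.resLE V' U' hUV).appTop =
        V'.topIso.hom ≫ h.appLE V' U' hUV ≫ U'.topIso.inv := Scheme.Hom.resLE_app_top _ _
    rw [e1]
    exact (hri.cancel_left_isIso _ _).trans (hri.cancel_right_isIso _ _)
  constructor
  · rintro ⟨U', V', hU', hV', hUV, hu, hlci⟩
    refine ⟨U', hu, ?_⟩
    rw [← Scheme.Hom.resLE_comp_ι h hUV]
    exact lciMor.comp_mem _ _ ((key U' V' hU' hV' hUV).mpr hlci) (lciMor_of_isOpenImmersion _)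
  · rintro ⟨W, hu, hW⟩
    obtain ⟨_, ⟨V', hV', rfl⟩, hhu, -⟩ :=
      V.isBasis_affineOpens.exists_subset_of_mem_open (Set.mem_univ (h u)) isOpen_univ
    obtain ⟨_, ⟨U', hU', rfl⟩, huU', hle⟩ :=
      U.isBasis_affineOpens.exists_subset_of_mem_open
        (show u ∈ W ⊓ h ⁻¹ᵁ V' from ⟨hu, hhu⟩) (W ⊓ h ⁻¹ᵁ V').isOpen
    have hU'W : U' ≤ W := fun x hx => (hle hx).1
    have hUV : U' ≤ h ⁻¹ᵁ V' := fun x hx => (hle hx).2
    refine ⟨U', V', hU', hV', hUV, huU', (key U' V' hU' hV' hUV).mp ?_⟩
    apply lciMor_of_comp_smooth _ (Scheme.Opens.ι (X := V) V')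
    rw [Scheme.Hom.resLE_comp_ι, ← U.homOfLE_ι hU'W, Category.assoc]
    exact lciMor.comp_mem _ _ (lciMor_of_isOpenImmersion _) hW

end Locus

/-- The prelude's "Koszul at `x`" (lci on an open subspace through `x`) agrees with "lci near the
point on some chart diagram through `x`". -/
theorem locPNear_lci_iff_hasAtMor {X : AlgSp.Space S} {Y : Sp S} (hY : IsAlgSpace Y)
    (f : X.obj ⟶ Y) (x : Points X.obj) :
    LocPNear AlgSp.lci f x ↔
      HasAtMor (fun U _ h u => ∃ W : U.Opens, u ∈ W ∧ lciMor (W.ι ≫ h)) f x := by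
  have hX := X.property
  constructor
  · rintro ⟨W₀, j, hj, ⟨w₀, hw₀⟩, hLoc⟩
    obtain ⟨U, V, a, b, h, u, ha, hb, comm, hu⟩ := exists_diagram_through_point hX hY f x
    have sq := hj.rep.isPullback a
    have hι : IsOpenImmersion (hj.rep.snd a).left := hj.property_snd a
    have ha₀ : RepWith @Etale (hj.rep.fst a) := MorphismProperty.of_isPullback sq.flip ha
    obtain ⟨p, hp1, hp2⟩ := exists_point_of_isPullback sq w₀ (Points.ofScheme U u)
      (by rw [hw₀, ← Points.ofPt_eq_map_ofScheme, hu])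
    obtain ⟨u₀, rfl⟩ := (Points.schemeEquiv _).surjective p
    have hu₀ : (hj.rep.snd a).left u₀ = u := by
      apply (Points.schemeEquiv U).injective
      exact (points_map_ofScheme (hj.rep.snd a) u₀).symm.trans hp2
    have hl : AlgSp.lci (hj.rep.snd a ≫ h).left := by
      refine hLoc (hj.rep.fst a) b (hj.rep.snd a ≫ h) ha₀ hb ?_
      rw [← Category.assoc, sq.w, Category.assoc, comm, Functor.map_comp, Category.assoc]
    refine ⟨U, V, a, b, h, u, ha, hb, comm, hu, (hj.rep.snd a).left.opensRange, ⟨u₀, hu₀⟩, ?_⟩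
    rw [← Scheme.Hom.isoOpensRange_inv_comp, Category.assoc,
      lciMor.cancel_left_of_respectsIso, ← Over.comp_left]
    exact (lciMor_iff_forall_isKoszulAt _).mpr hl
  · rintro ⟨U, V, a, b, h, u, ha, hb, comm, hu, W, huW, hW⟩
    have hO : IsOpen (Points.map a '' (Points.schemeEquiv U '' (W : Set ↥U.left))) :=
      isOpenMap_points_of_etale a ha _ ((Points.schemeHomeo U).isOpenMap _ W.2)
    obtain ⟨W₀, j, hj, hrange⟩ := Groth.Agent.S10195.result X _ hO
    refine ⟨W₀.obj, j.hom, hj, ?_, ?_⟩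
    · rw [hrange]
      exact ⟨_, ⟨u, huW, rfl⟩, by rw [← hu]; exact (Points.ofPt_eq_map_ofScheme a u).symm⟩
    · -- every point of `W₀` lies on a chart diagram near which the morphism is lci
      have hpt : ∀ w₁ : Points W₀.obj,
          HasAtMor (fun U _ h u => ∃ W : U.Opens, u ∈ W ∧ lciMor (W.ι ≫ h)) (j.hom ≫ f) w₁ := by
        intro w₁
        have hmem : Points.map j.hom w₁ ∈ Set.range (Points.map j.hom) := ⟨w₁, rfl⟩
        rw [hrange] at hmem
        obtain ⟨_, ⟨u₂, hu₂W, rfl⟩, hu₂⟩ := hmem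
        have sq := hj.rep.isPullback a
        have hι : IsOpenImmersion (hj.rep.snd a).left := hj.property_snd a
        have ha₀ : RepWith @Etale (hj.rep.fst a) := MorphismProperty.of_isPullback sq.flip ha
        obtain ⟨p, hp1, hp2⟩ := exists_point_of_isPullback sq w₁ (Points.schemeEquiv U u₂)
          hu₂.symm
        obtain ⟨u₃, rfl⟩ := (Points.schemeEquiv _).surjective p
        have hu₃ : (hj.rep.snd a).left u₃ = u₂ := by
          apply (Points.schemeEquiv U).injective
          exact (points_map_ofScheme (hj.rep.snd a) u₃).symm.trans hp2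
        refine ⟨_, V, hj.rep.fst a, b, hj.rep.snd a ≫ h, u₃, ha₀, hb, ?_, ?_,
          (hj.rep.snd a).left ⁻¹ᵁ W, ?_, ?_⟩
        · rw [← Category.assoc, sq.w, Category.assoc, comm, Functor.map_comp, Category.assoc]
        · rw [Points.ofPt_eq_map_ofScheme]
          exact hp1
        · show (hj.rep.snd a).left u₃ ∈ W
          rw [hu₃]; exact hu₂W
        · rw [Over.comp_left, ← Category.assoc, ← morphismRestrict_ι, Category.assoc]
          exact lciMor.comp_mem _ _ (lciMor_of_isOpenImmersion _) hW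
      intro U₁ V₁ a₁ b₁ h₁ ha₁ hb₁ comm₁
      apply (lciMor_iff_forall_isKoszulAt _).mp
      have hall := fun u₁ : ↥U₁.left =>
        (hasAtMor_lciNhd_iff_forall W₀.property hY (j.hom ≫ f) (Points.ofPt a₁ u₁)).mp
          (hpt _) a₁ b₁ h₁ u₁ ha₁ hb₁ comm₁ rfl
      choose Wf hWf1 hWf2 using hall
      apply IsZariskiLocalAtSource.of_iSup_eq_top (P := lciMor) Wf
      · rw [eq_top_iff]
        intro x _
        exact TopologicalSpace.Opens.mem_iSup.mpr ⟨x, hWf1 x⟩
      · exact hWf2

/-- A morphism of algebraic spaces is a local complete intersection morphism iff it is lci near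
every point (on some chart diagram through the point). -/
theorem locP_lci_iff_forall_hasAtMor {X Y : Sp S} (hX : IsAlgSpace X) (hY : IsAlgSpace Y)
    (f : X ⟶ Y) :
    LocP AlgSp.lci f ↔
      ∀ x : Points X, HasAtMor (fun U _ h u => ∃ W : U.Opens, u ∈ W ∧ lciMor (W.ι ≫ h)) f x := by
  constructor
  · intro hf x
    obtain ⟨U, V, a, b, h, u, ha, hb, comm, hu⟩ := exists_diagram_through_point hX hY f x
    refine ⟨U, V, a, b, h, u, ha, hb, comm, hu, ⊤, trivial, ?_⟩
    exact lciMor.comp_mem _ _ (lciMor_of_isOpenImmersion _)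
      ((lciMor_iff_forall_isKoszulAt _).mpr (hf a b h ha hb comm))
  · intro hpt U₁ V₁ a₁ b₁ h₁ ha₁ hb₁ comm₁
    apply (lciMor_iff_forall_isKoszulAt _).mp
    have hall := fun u₁ : ↥U₁.left =>
      (hasAtMor_lciNhd_iff_forall hX hY f (Points.ofPt a₁ u₁)).mp
        (hpt _) a₁ b₁ h₁ u₁ ha₁ hb₁ comm₁ rfl
    choose Wf hWf1 hWf2 using hall
    apply IsZariskiLocalAtSource.of_iSup_eq_top (P := lciMor) Wf
    · rw [eq_top_iff]
      intro x _
      exact TopologicalSpace.Opens.mem_iSup.mpr ⟨x, hWf1 x⟩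
    · exact hWf2

/-- The Koszul locus of a morphism of algebraic spaces is open. -/
theorem isOpen_setOf_locPNear_lci {X : AlgSp.Space S} {Y : Sp S} (hY : IsAlgSpace Y)
    (f : X.obj ⟶ Y) : IsOpen {x : Points X.obj | LocPNear AlgSp.lci f x} := by
  have e : {x : Points X.obj | LocPNear AlgSp.lci f x} =
      {x | HasAtMor (fun U _ h u => ∃ W : U.Opens, u ∈ W ∧ lciMor (W.ι ≫ h)) f x} :=
    Set.ext fun x => locPNear_lci_iff_hasAtMor hY f x
  rw [e]
  exact isOpen_setOf_hasAtMor_nhd lciMor f

/-- A morphism of algebraic spaces is a local complete intersection morphism iff it is Koszul at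
every point. -/
theorem locP_lci_iff_forall_locPNear {X : AlgSp.Space S} {Y : Sp S} (hY : IsAlgSpace Y)
    (f : X.obj ⟶ Y) : LocP AlgSp.lci f ↔ ∀ x : Points X.obj, LocPNear AlgSp.lci f x := by
  rw [locP_lci_iff_forall_hasAtMor X.property hY f]
  exact forall_congr' fun x => (locPNear_lci_iff_hasAtMor hY f x).symm

end Groth.Agent.Lib.Helper10.LciSpNear
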