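import Groth.Agent.Lib.Helper10.LciSyntDescentC
import Groth.Agent.Lib.Helper10.LciSpNear
import Groth.Agent.Lib.Helper24.SmoothSourceDescentScheme

/-!
# Local complete intersection morphisms are smooth local on the source (helper10)
-/

set_option autoImplicit false
set_option linter.unusedSectionVars false
set_option linter.style.haveILetI false
universe u

namespace Groth.Agent.Lib.Helper10.LciSmLocal

open AlgebraicGeometry CategoryTheory CategoryTheory.Limits
open Groth.Agent.Lib.Helper10.LciMor Groth.Agent.Lib.Helper10.LciEtaleDescent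
open Groth.Agent.Lib.Helper10.LciLocalProp Groth.Agent.Lib.Helper10.LciSyntDescent

variable {X' X Y : Scheme.{u}}

/-- Smooth descent on the source, without finiteness hypothesis on `g`. -/
theorem lciMor_of_smooth_surjective_comp (e : X' ⟶ X) (g : X ⟶ Y) [Smooth e] [Surjective e]
    (h : lciMor (e ≫ g)) : lciMor g := by
  haveI : LocallyOfFiniteType (e ≫ g) := locallyOfFiniteType_of_lciMor _ h
  haveI : LocallyOfFiniteType g :=
    Groth.Agent.Lib.Helper24.locallyOfFiniteType_of_smooth_surjective_comp e g
  exact lciMor_of_flat_lci_surjective_comp e g (lciMor_of_smooth e) h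

/-- if `e` is smooth and `e ≫ g` is lci then `g` is lci on the (open) image of `e`. -/
theorem lciMor_opensRange_of_smooth_comp (e : X' ⟶ X) (g : X ⟶ Y) [Smooth e]
    (h : lciMor (e ≫ g)) :
    ∃ W : X.Opens, (W : Set X) = Set.range e ∧ lciMor (W.ι ≫ g) := by
  let W : X.Opens := ⟨Set.range e, e.isOpenMap.isOpen_range⟩
  have hsub : Set.range e ⊆ Set.range W.ι := by
    rw [Scheme.Opens.range_ι]
    exact fun x hx => hx
  let e' : X' ⟶ W.toScheme := IsOpenImmersion.lift W.ι e hsub
  have he : e' ≫ W.ι = e := IsOpenImmersion.lift_fac _ _ _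
  haveI hee : Smooth e' := by
    have : Smooth (e' ≫ W.ι) := by rw [he]; infer_instance
    exact MorphismProperty.of_postcomp (W := @Smooth) (W' := @IsOpenImmersion) e' W.ι
      inferInstance this
  haveI hes : Surjective e' := by
    refine ⟨fun w => ?_⟩
    obtain ⟨w', hw'⟩ := w.2
    refine ⟨w', ?_⟩
    apply W.ι.isOpenEmbedding.injective
    rw [← Scheme.Hom.comp_apply, he]
    exact hw'
  refine ⟨W, rfl, lciMor_of_smooth_surjective_comp e' (W.ι ≫ g) ?_⟩
  rw [← Category.assoc, he]
  exact h

theorem lciMor_isLocalAtSource_smooth :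
    MorphismProperty.IsLocalAtSource (lciMor.{u}) (Scheme.precoverage @Smooth) := by
  refine MorphismProperty.IsLocalAtSource.mk_of_iff_of_zeroHypercover fun {X Y} f 𝒰 ↦ ?_
  have hmem := 𝒰.mem₀
  rw [Scheme.ofArrows_mem_precoverage_iff] at hmem
  obtain ⟨hsurj, hP⟩ := hmem
  constructor
  · intro hf i
    haveI : Smooth (𝒰.f i) := hP i
    exact lciMor.comp_mem _ _ (lciMor_of_smooth _) hf
  · intro h
    choose i hi using hsurj
    haveI hg : Smooth (Sigma.desc (fun x : X => 𝒰.f (i x))) :=
      IsZariskiLocalAtSource.sigmaDesc (fun x => hP (i x))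
    haveI hs : Surjective (Sigma.desc (fun x : X => 𝒰.f (i x))) := by
      apply Surjective.sigmaDesc_of_union_range_eq_univ
      rw [Set.eq_univ_iff_forall]
      intro x
      exact Set.mem_iUnion.2 ⟨x, hi x⟩
    have hgf : lciMor (Sigma.desc (fun x : X => 𝒰.f (i x)) ≫ f) := by
      have : Sigma.desc (fun x : X => 𝒰.f (i x)) ≫ f =
          Sigma.desc (fun x : X => 𝒰.f (i x) ≫ f) := by
        apply Sigma.hom_ext
        intro x
        rw [Sigma.ι_desc_assoc, Sigma.ι_desc]
      rw [this]
      exact IsZariskiLocalAtSource.sigmaDesc (fun x => h (i x))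
    exact lciMor_of_smooth_surjective_comp _ f hgf

theorem lci_eq_lciMor : (AlgSp.lci : MorphismProperty Scheme.{u}) = lciMor := by
  ext X Y f
  exact (lciMor_iff_forall_isKoszulAt f).symm

theorem lci_isLocalAtSource_smooth :
    MorphismProperty.IsLocalAtSource (AlgSp.lci.{u}) (Scheme.precoverage @Smooth) := by
  rw [lci_eq_lciMor]
  exact lciMor_isLocalAtSource_smooth

end Groth.Agent.Lib.Helper10.LciSmLocal
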