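import Groth.Agent.Lib.Helper10.LciSmLocal
import Groth.Agent.Lib.Helper78.FlatLocusSp
import Groth.Agent.Lib.Helper54.SrcLocalGen
import Groth.Agent.S8658
import Groth.Agent.S10567

/-!
# Local complete intersection morphisms of algebraic spaces: flat base change, smooth locality
(helper10)
-/

set_option autoImplicit false
set_option linter.unusedSectionVars false
set_option linter.style.haveILetI false
universe u

namespace Groth.Agent.Lib.Helper10.LciSpLocal

open AlgebraicGeometry CategoryTheory CategoryTheory.Limits AlgSp Groth.Agent.H52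
open Groth.Agent.Lib.Helper10.LciMor Groth.Agent.Lib.Helper10.LciSpNear
open Groth.Agent.Lib.Helper10.LciSmLocal Groth.Agent.Lib.Helper10.LciEtaleDescent
open Groth.Agent.Lib.Helper78.FlatLocusSp

variable {S : Scheme.{u}}

/-- **Flat base change** of local complete intersection morphisms of algebraic spaces. -/
theorem isLCIMor_of_isPullback_flat {X Y X' Y' : Sp S} (hX : IsAlgSpace X) (hY : IsAlgSpace Y)
    (hX' : IsAlgSpace X') (hY' : IsAlgSpace Y') {f : X ⟶ Y} {g : Y' ⟶ Y} {g' : X' ⟶ X}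
    {f' : X' ⟶ Y'} (sq : IsPullback g' f' f g) (hg : LocP @Flat g) (hf : IsLCIMor f) :
    IsLCIMor f' := by
  show LocP AlgSp.lci f'
  rw [locP_lci_iff_forall_hasAtMor hX' hY' f']
  intro x'
  obtain ⟨V', V, b', b, β, v', hb'e, hbe, cβ, hv'⟩ :=
    exists_diagram_through_point hY' hY g (Points.map f' x')
  obtain ⟨U, U', a, a', h, h', α, u', hae, ha'e, ck, ck', cα, sqS, hu'⟩ :=
    exists_baseChange_charts_over hX hY hY' sq x' b hbe b' hb'e β cβ v' hv'
  haveI : Flat β.left := hg b' b β hb'e hbe cβ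
  have hh : AlgSp.lci h.left := hf a b h hae hbe ck
  have hh' : AlgSp.lci h'.left :=
    Groth.Agent.S8658.result h.left β.left h'.left α.left sqS hh
  refine ⟨U', V', a', b', h', u', ha'e, hb'e, ck', hu', ⊤, trivial, ?_⟩
  exact lciMor.comp_mem _ _ (lciMor_of_isOpenImmersion _)
    ((lciMor_iff_forall_isKoszulAt _).mpr hh')

/-- descent of lci along a smooth covering of the base. -/
theorem isLCIMor_of_smooth_cover {ι : Type u} {Y : Sp S} (Yi : ι → Sp S) (g : ∀ i, Yi i ⟶ Y)
    (hY : IsAlgSpace Y) (hYi : ∀ i, IsAlgSpace (Yi i)) (hcov : IsSmCover Yi g)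
    {X : Sp S} (f : X ⟶ Y) (hX : IsAlgSpace X) (Xi : ι → Sp S) (p : ∀ i, Xi i ⟶ Yi i)
    (q : ∀ i, Xi i ⟶ X) (sq : ∀ i, IsPullback (q i) (p i) f (g i))
    (hp : ∀ i, IsLCIMor (p i)) : IsLCIMor f := by
  show LocP AlgSp.lci f
  rw [locP_lci_iff_forall_hasAtMor hX hY f]
  intro x
  obtain ⟨i, yi, hyi⟩ := hcov.2 (Points.map f x)
  obtain ⟨xi, hxi1, hxi2⟩ := exists_point_of_isPullback (sq i) x yi hyi.symm
  obtain ⟨V', V, b', b, β, v', hb'e, hbe, cβ, hv'⟩ :=
    exists_diagram_through_point (hYi i) hY (g i) yi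
  obtain ⟨U, U', a, a', h, h', α, u', hae, ha'e, ck, ck', cα, sqS, hu'⟩ :=
    exists_baseChange_charts_over hX hY (hYi i) (sq i) xi b hbe b' hb'e β cβ v'
      (by rw [hv', hxi2])
  haveI : Smooth β.left := hcov.1 i b' b β hb'e hbe cβ
  haveI : Smooth α.left := MorphismProperty.of_isPullback (P := @Smooth) sqS.flip inferInstance
  have hh' : AlgSp.lci h'.left := hp i a' b' h' ha'e hb'e ck'
  have hcomp : lciMor (α.left ≫ h.left) := by
    rw [sqS.w]
    exact lciMor.comp_mem _ _ ((lciMor_iff_forall_isKoszulAt _).mpr hh') (lciMor_of_smooth _)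
  obtain ⟨W, hW, hWl⟩ := lciMor_opensRange_of_smooth_comp α.left h.left hcomp
  refine ⟨U, V, a, b, h, α.left u', hae, hbe, ck, ?_, W, ?_, hWl⟩
  · rw [← ofPt_yon_map_comp, ← cα, ← Points.map_ofPt, hu', hxi1]
  · show α.left u' ∈ (W : Set _)
    rw [hW]
    exact ⟨u', rfl⟩

theorem locP_flat_of_locP_smooth {X Y : Sp S} {g : X ⟶ Y} (hg : LocP @Smooth g) :
    LocP @Flat g := by
  intro U V a b h ha hb c
  haveI : Smooth h.left := hg a b h ha hb c
  infer_instance

theorem isLocalOnBase_sm_isLCIMor : IsLocalOnBase (IsSmCover (S := S)) IsLCIMor := by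
  intro ι Y Yi g hY hYi hcov X f hX Xi p q hXi sq
  constructor
  · intro hf i
    exact isLCIMor_of_isPullback_flat hX hY (hXi i) (hYi i) (sq i)
      (locP_flat_of_locP_smooth (hcov.1 i)) hf
  · exact isLCIMor_of_smooth_cover Yi g hY hYi hcov f hX Xi p q sq

theorem isLocalOnSource_sm_isLCIMor : IsLocalOnSource (IsSmCover (S := S)) IsLCIMor :=
  (Groth.Agent.Lib.Helper54.isLocalOnSource_locP_of_isLocalAtSource S AlgSp.lci).2.2.1
    lci_isLocalAtSource_smooth

/-- lci followed by smooth is lci (algebraic spaces). -/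
theorem isLCIMor_comp_smooth {X Y Z : Sp S} (hX : IsAlgSpace X) (hY : IsAlgSpace Y)
    (hZ : IsAlgSpace Z) (f : X ⟶ Y) (g : Y ⟶ Z) (hf : IsLCIMor f) (hg : LocP @Smooth g) :
    IsLCIMor (f ≫ g) := by
  show LocP AlgSp.lci (f ≫ g)
  rw [locP_lci_iff_forall_hasAtMor hX hZ (f ≫ g)]
  intro x
  obtain ⟨V, W, b, c, k, v, hbe, hce, ck, hv⟩ :=
    exists_diagram_through_point hY hZ g (Points.map f x)
  obtain ⟨U, a, h, u, hae, hak, hau, -⟩ :=
    exists_chart_over_through_point hX hY f b hbe x v hv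
  have hh : AlgSp.lci h.left := hf a b h hae hbe hak
  haveI : Smooth k.left := hg b c k hbe hce ck
  refine ⟨U, W, a, c, h ≫ k, u, hae, hce, ?_, hau, ⊤, trivial, ?_⟩
  · rw [← Category.assoc, hak, Category.assoc, ck, Functor.map_comp, Category.assoc]
  · rw [Over.comp_left]
    exact lciMor.comp_mem _ _ (lciMor_of_isOpenImmersion _)
      (lciMor.comp_mem _ _ ((lciMor_iff_forall_isKoszulAt _).mpr hh) (lciMor_of_smooth _))

/-- **lci is smooth local on the source-and-target** for algebraic spaces. -/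
theorem isSmoothLocalST_isLCIMor : IsSmoothLocalST (IsLCIMor (S := S)) :=
  Groth.Agent.S10567.result _ isLocalOnSource_sm_isLCIMor isLocalOnBase_sm_isLCIMor
    (fun X Y Z f g hf hg =>
      isLCIMor_comp_smooth X.property Y.property Z.property f.hom g.hom hf hg)

end Groth.Agent.Lib.Helper10.LciSpLocal
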