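import Groth.Agent.Lib.Helper10.LciSpLocal
import Groth.Agent.Lib.Helper66.AlgStLocQLfp
import Groth.Agent.Lib.Helper66.AlgSpSmLocalSmooth
import Groth.Agent.Lib.Helper66.AlgStLocQSq9

/-!
# Cancellation of a smooth morphism for local complete intersection morphisms of algebraic stacks
(helper10)
-/

set_option autoImplicit false
set_option backward.isDefEq.respectTransparency false
set_option backward.isDefEq.respectTransparency.types false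
universe u

open CategoryTheory CategoryTheory.Limits AlgebraicGeometry Opposite

namespace Groth.Agent.Lib.Helper10.LciStack

open FibCat Groth.Agent.Lib.Helper31 Groth.Agent.Lib.Helper65 Groth.Agent.Lib.Helper66
  Groth.Agent.Lib.Helper66.AlgStLocQSq Groth.Agent.Lib.Helper65.LocQFlat
  Groth.Agent.Lib.Helper66.AlgSpSmLocalLft
open Groth.Agent.Lib.Helper10.LciMor Groth.Agent.Lib.Helper10.LciSpNear
  Groth.Agent.Lib.Helper10.LciSpLocal Groth.Agent.Lib.Helper10.LciEtaleDescent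

variable {S : Scheme.{u}} {𝒳 𝒴 𝒵 : AlgSt.Cat S}

/-- a lci morphism of schemes gives a lci morphism of the represented sheaves. -/
theorem isLCIMor_yon_map {U V : Over S} (h : U ⟶ V) (hh : lciMor h.left) :
    AlgSp.IsLCIMor ((AlgSp.yon S).map h) := by
  show AlgSp.LocP AlgSp.lci _
  rw [locP_lci_iff_forall_hasAtMor (AlgSp.IsAlgSpace.yon_obj U) (AlgSp.IsAlgSpace.yon_obj V)]
  intro x
  obtain ⟨u, rfl⟩ := (AlgSp.Points.schemeEquiv U).surjective x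
  refine ⟨U, V, 𝟙 _, 𝟙 _, h, u, AlgSp.repWith_id _ U, AlgSp.repWith_id _ V, by simp, ?_, ⊤,
    trivial, ?_⟩
  · rw [AlgSp.Points.ofPt_eq_map_ofScheme, AlgSp.Points.map_id]
    rfl
  · exact lciMor.comp_mem _ _ (lciMor_of_isOpenImmersion _) hh

/-- Cancellation for morphisms of schemes seen as maps of sheaves. -/
theorem isLCIMor_yon_of_comp_smooth {U V W : Over S} (h : U ⟶ V) (k : V ⟶ W)
    (hhk : AlgSp.IsLCIMor ((AlgSp.yon S).map (h ≫ k)))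
    (hk : AlgSp.LocP @Smooth ((AlgSp.yon S).map k)) :
    AlgSp.IsLCIMor ((AlgSp.yon S).map h) := by
  have h1 : AlgSp.lci (h ≫ k).left := AlgSp.locP_yon_map hhk
  haveI h2 : Smooth k.left := AlgSp.locP_yon_map hk
  rw [Over.comp_left] at h1
  exact isLCIMor_yon_map h
    (lciMor_of_comp_smooth h.left k.left ((lciMor_iff_forall_isKoszulAt _).mpr h1))

/-- if `f ≫ g` is a local complete intersection morphism and `g` is smooth then `f` is a local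
complete intersection morphism (algebraic stacks). -/
theorem locQ_lci_of_comp_smooth
    (h𝒳 : AlgSt.IsAlgStack Scheme.fppfPrecoverage 𝒳) (h𝒴 : AlgSt.IsAlgStack Scheme.fppfPrecoverage 𝒴)
    (h𝒵 : AlgSt.IsAlgStack Scheme.fppfPrecoverage 𝒵) (f : 𝒳 ⥤ᵇ 𝒴) (g : 𝒴 ⥤ᵇ 𝒵)
    (hfg : AlgSt.LocQ AlgSp.IsLCIMor (BasedFunctor.comp f g))
    (hg : AlgSt.LocQ (AlgSp.LocP @Smooth) g) :
    AlgSt.LocQ AlgSp.IsLCIMor f := by
  have hP : AlgSp.IsSmoothLocalST (AlgSp.IsLCIMor (S := S)) := isSmoothLocalST_isLCIMor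
  have hT : AlgSp.IsSmoothLocalST (AlgSp.LocP (S := S) @Smooth) :=
    isSmoothLocalST_locP_smooth
  obtain ⟨W, w, hw1, hw2⟩ := h𝒵.atlas
  have hW := isAlgStack_overCat W
  have h𝒴W : AlgSt.IsAlgStack Scheme.fppfPrecoverage (fp w g) :=
    Groth.Agent.S12763.result h𝒵.isStack h𝒵.diag hW h𝒴 w g
  have hs1 : AlgSt.RepByAlgSpWith (AlgSp.LocP @Smooth) (fpSnd w g) :=
    Groth.Agent.Lib.Helper66.AlgStBC.repByAlgSpWith_fpSnd _ g w hw1
  have hs2 : AlgSt.RepByAlgSpWith AlgSp.IsSurjectiveMor (fpSnd w g) :=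
    Groth.Agent.Lib.Helper66.AlgStBC.repByAlgSpWith_fpSnd _ g w hw2
  have h𝒳' : AlgSt.IsAlgStack Scheme.fppfPrecoverage (fp (fpSnd w g) f) :=
    Groth.Agent.S12763.result h𝒴.isStack h𝒴.diag h𝒴W h𝒳 (fpSnd w g) f
  refine locQ_of_locQ_fpFst _ h𝒳.isStack.1 h𝒴.isStack.1 h𝒴W.isStack.1 f (fpSnd w g) hs1 hs2 ?_
  have hgW : AlgSt.LocQ (AlgSp.LocP @Smooth) (fpFst w g) :=
    locQ_fpFst_of_smooth _ hT h𝒴 h𝒵 hW g w hw1 hg
  have hfgW : AlgSt.LocQ AlgSp.IsLCIMor (fpFst w (BasedFunctor.comp f g)) :=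
    locQ_fpFst_of_smooth _ hP h𝒳 h𝒵 hW (BasedFunctor.comp f g) w hw1 hfg
  have hE : AlgSt.RepByAlgSpWith (AlgSp.LocP @Smooth) (fpPasteSnd w g f) :=
    repByAlgSpWith_of_isEquivOver _ (fun U => Groth.Agent.Lib.Helper54.locP_smooth_id _) _
      (fpPasteSnd_isEquivOver w g f)
  have hcomp : AlgSt.LocQ AlgSp.IsLCIMor
      (BasedFunctor.comp (fpFst (fpSnd w g) f) (fpFst w g)) :=
    locQ_precomp_smooth _ hP h𝒳'.isStack.1
      (isFibGrpd_fp w (BasedFunctor.comp f g) hW.isStack.1 h𝒳.isStack.1 h𝒵.isStack.1) hW.isStack.1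
      (fpPasteSnd w g f) (fpFst w (BasedFunctor.comp f g)) hE hfgW
  obtain ⟨V, v, hv1, hv2⟩ := h𝒴W.atlas
  obtain ⟨U, x, k₁, α₁, hx1, hx2, -⟩ :=
    exists_good_square h𝒳' h𝒴W (fpFst (fpSnd w g) f) V v hv1 hv2
  obtain ⟨k₂, -, ⟨i₂⟩⟩ :=
    Groth.Agent.Lib.Helper65.exists_iso_overMap (BasedFunctor.comp v (fpFst w g))
  have hP₂ : AlgSp.LocP @Smooth ((AlgSp.yon S).map k₂) :=
    prop_of_locQ_to_overCat _ hT h𝒴W _ hgW V v k₂ i₂ hv1
  let β : BasedFunctor.comp x (BasedFunctor.comp (fpFst (fpSnd w g) f) (fpFst w g)) ≅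
      AlgSt.overMap (k₁ ≫ k₂) :=
    bWhiskerRightIso α₁ (fpFst w g) ≪≫ bWhiskerLeftIso (AlgSt.overMap k₁) i₂ ≪≫ overMapComp k₁ k₂
  have hP₁₂ : AlgSp.IsLCIMor ((AlgSp.yon S).map (k₁ ≫ k₂)) :=
    prop_of_locQ_to_overCat _ hP h𝒳' _ hcomp U x (k₁ ≫ k₂) β hx1
  exact ⟨U, V, x, v, k₁, α₁, hx1, hx2, hv1, isLCIMor_yon_of_comp_smooth k₁ k₂ hP₁₂ hP₂⟩

end Groth.Agent.Lib.Helper10.LciStack
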