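import Groth.Agent.Lib.Helper10.LciEtaleDescentA
import Groth.Agent.Lib.Helper10.KoszulH1
import Groth.Agent.Lib.Helper10.LciTrans
import Groth.Agent.Lib.Helper82.SyntLocal

/-!
# Independence of a relatively flat `H_1`-regular sequence (helper10)

`S₀` an `R`-algebra, `fs` an `H_1`-regular sequence in `S₀` with `S₀/(fs)` flat over `R`, `I` an ideal
of `R`.  Then `fs` is independent modulo `𝔓 · (I S₀ + (fs))` at every prime `𝔓 ⊇ I S₀ + (fs)`.
-/

set_option autoImplicit false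
set_option linter.unusedSectionVars false
set_option linter.style.haveILetI false
universe u

namespace Groth.Agent.Lib.Helper10.LciSyntDescent

open Groth.Agent.Lib.Helper10.RegDescent Groth.Agent.Lib.Helper10.RegDescentKoszul
open Groth.Agent.Lib.Helper10.FlatLocal

section Ind

variable {R S₀ : Type u} [CommRing R] [CommRing S₀] [Algebra R S₀]

/-- elements of `𝔓 · (f)` are combinations of the `f i` with coefficients in `𝔓`. -/
lemma exists_coeff_of_mem_mul_span {c : ℕ} (f : Fin c → S₀) (𝔓 : Ideal S₀) (y : S₀)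
    (hy : y ∈ 𝔓 * Ideal.span (Set.range f)) :
    ∃ b : Fin c → S₀, (∀ i, b i ∈ 𝔓) ∧ y = ∑ i, b i * f i := by
  rw [← Ideal.smul_eq_mul, Submodule.mem_ideal_smul_span_iff_exists_sum] at hy
  obtain ⟨b, hb, hby⟩ := hy
  refine ⟨fun i => b i, hb, ?_⟩
  rw [← hby, Finsupp.sum_fintype _ _ (fun i => by simp)]
  simp

theorem ind_of_flat {c : ℕ} (f : Fin c → S₀) (hf : CAlgX.IsH1Regular f)
    [Module.Flat R (S₀ ⧸ Ideal.span (Set.range f))] (I : Ideal R) (𝔓 : Ideal S₀)
    (hI𝔓 : I.map (algebraMap R S₀) ≤ 𝔓) (hf𝔓 : Ideal.span (Set.range f) ≤ 𝔓)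
    (a : Fin c → S₀)
    (ha : ∑ i, a i * f i ∈ 𝔓 * (I.map (algebraMap R S₀) ⊔ Ideal.span (Set.range f))) :
    ∀ i, a i ∈ 𝔓 := by
  set L := Ideal.span (Set.range f) with hL
  set I' := I.map (algebraMap R S₀) with hI'
  rw [Ideal.mul_sup] at ha
  obtain ⟨u, hu, v, hv, huv⟩ := Submodule.mem_sup.mp ha
  obtain ⟨m, hm, hvm⟩ := exists_coeff_of_mem_mul_span f 𝔓 v hv
  have huI' : u ∈ I' := Ideal.mul_le_right hu
  have hfL : ∀ i, f i ∈ L := fun i => Ideal.subset_span ⟨i, rfl⟩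
  have hw : ∑ i, (a i - m i) * f i = u := by
    simp only [sub_mul, Finset.sum_sub_distrib]
    rw [← huv, hvm]
    ring
  have hwL : u ∈ L := by
    rw [← hw]
    exact Ideal.sum_mem _ fun i _ => Ideal.mul_mem_left _ _ (hfL i)
  have hmul : u ∈ I' * L :=
    Groth.Agent.Lib.Helper82.SyntLocal.mem_mul_of_flat I L hwL huI'
  obtain ⟨e, he, hue⟩ := exists_coeff_of_mem_mul_span f I' u hmul
  have hrel : ∑ i, (a i - m i - e i) * f i = 0 := by
    have : ∑ i, (a i - m i - e i) * f i = ∑ i, (a i - m i) * f i - ∑ i, e i * f i := by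
      simp only [sub_mul, Finset.sum_sub_distrib]
    rw [this, hw, ← hue, sub_self]
  intro i
  have hmem := Groth.Agent.Lib.Helper10.KoszulH1.coeff_mem_of_isH1Regular f hf
    (fun i => a i - m i - e i) (by rw [hrel]; exact Ideal.zero_mem _) i
  have h1 : a i - m i - e i ∈ 𝔓 := hf𝔓 hmem
  have h2 : a i = (a i - m i - e i) + m i + e i := by ring
  rw [h2]
  exact 𝔓.add_mem (𝔓.add_mem h1 (hm i)) (hI𝔓 (he i))

end Ind

end Groth.Agent.Lib.Helper10.LciSyntDescent
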