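import Mathlib
import Groth.Prelude.Def_CAlgX
import Groth.Agent.Lib.Helper10.KoszulH1
import Groth.Agent.Lib.Helper14.KoszulH1

/-!
# Dimension of the quotient by an `H_1`-regular sequence (helper10)

* `isH1Regular_map_of_isLocalization`: `H_1`-regular sequences localise.
* `height_add_le_of_isH1Regular`, `ringKrullDim_quotient_le_of_isH1Regular`: in a Noetherian ring `B` of
  dimension `≤ n`, the quotient by an `H_1`-regular sequence of length `c` has dimension `≤ n - c`.
-/

set_option autoImplicit false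
universe u

namespace Groth.Agent.Lib.Helper10.SyntDim

open Groth.Agent.Lib.Helper10.KoszulH1 RingTheory.Sequence

section Map

variable {B B' : Type u} [CommRing B] [CommRing B'] (φ : B →+* B') {c : ℕ} (l : Fin c → B)

lemma map_mem_Triv (v : Fin c → B) (hv : v ∈ Triv l) :
    (fun i => φ (v i)) ∈ Triv (fun i => φ (l i)) := by
  classical
  refine Submodule.span_induction (p := fun v _ => (fun i => φ (v i)) ∈ Triv (fun i => φ (l i)))
    ?_ ?_ ?_ ?_ hv
  · rintro v ⟨i, j, rfl⟩
    refine Submodule.subset_span ⟨i, j, ?_⟩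
    funext k
    simp only [Pi.sub_apply, Pi.single_apply, map_sub]
    split_ifs <;> simp
  · simp only [Pi.zero_apply, map_zero]
    exact Submodule.zero_mem _
  · intro x y _ _ hx hy
    have : (fun i => φ ((x + y) i)) = (fun i => φ (x i)) + (fun i => φ (y i)) := by
      funext i; simp
    rw [this]
    exact Submodule.add_mem _ hx hy
  · intro a x _ hx
    have : (fun i => φ ((a • x) i)) = φ a • (fun i => φ (x i)) := by
      funext i; simp
    rw [this]
    exact Submodule.smul_mem _ _ hx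

/-- `H_1`-regular sequences localise. -/
theorem isH1Regular_map_of_isLocalization (M : Submonoid B) [Algebra B B'] [IsLocalization M B']
    (hl : CAlgX.IsH1Regular l) : CAlgX.IsH1Regular (fun i => algebraMap B B' (l i)) := by
  classical
  intro a ha
  change a ∈ Triv (fun i => algebraMap B B' (l i))
  obtain ⟨s, hs⟩ := IsLocalization.exist_integer_multiples M (Finset.univ : Finset (Fin c)) a
  choose b hb using fun i => hs i (Finset.mem_univ i)
  -- `algebraMap (b i) = s • a i`
  have hsum : algebraMap B B' (∑ i, b i * l i) = 0 := by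
    rw [map_sum]
    have : ∀ i, algebraMap B B' (b i * l i) = algebraMap B B' s * (a i * algebraMap B B' (l i)) := by
      intro i
      rw [map_mul, hb i, Algebra.smul_def, mul_assoc]
    simp only [this]
    rw [← Finset.mul_sum, ha, mul_zero]
  obtain ⟨t, ht⟩ := (IsLocalization.map_eq_zero_iff M B' _).mp hsum
  have hrel : ∑ i, (t.1 * b i) * l i = 0 := by
    rw [← ht, Finset.mul_sum]
    exact Finset.sum_congr rfl fun i _ => by ring
  have h1 := hl (fun i => t.1 * b i) hrel
  have h2 := map_mem_Triv (algebraMap B B') l _ h1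
  have hu : IsUnit (algebraMap B B' (t.1 * s.1)) :=
    IsLocalization.map_units B' (⟨t.1 * s.1, M.mul_mem t.2 s.2⟩ : M)
  obtain ⟨u, hu⟩ := hu
  have : a = (↑u⁻¹ : B') • (fun i => algebraMap B B' (t.1 * b i)) := by
    funext i
    simp only [Pi.smul_apply, smul_eq_mul]
    rw [map_mul, hb i, Algebra.smul_def]
    have h3 : (algebraMap B B') ↑t * ((algebraMap B B') ↑s * a i) = ↑u * a i := by
      rw [hu, map_mul, mul_assoc]
    rw [h3, ← mul_assoc, Units.inv_mul, one_mul]
  rw [this]
  exact Submodule.smul_mem _ _ h2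

end Map

section Dim

variable {B : Type u} [CommRing B] [IsNoetherianRing B] {c : ℕ} (l : Fin c → B)

lemma koszulH1Zero_of_isH1Regular {R : Type u} [CommRing R] {c : ℕ} (f : Fin c → R)
    (h : CAlgX.IsH1Regular f) : CInt.KoszulH1Zero f R := by
  intro m hm
  have hm' : ∑ i, m i * f i = 0 := by
    rw [← hm]
    exact Finset.sum_congr rfl fun i _ => by rw [smul_eq_mul, mul_comm]
  have h1 := h m hm'
  refine Submodule.span_le.mpr ?_ h1
  rintro v ⟨i, j, rfl⟩
  refine Submodule.subset_span ⟨i, j, 1, ?_⟩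
  ext k
  simp only [Pi.sub_apply, Pi.smul_apply, Pi.single_apply, smul_eq_mul]
  split_ifs <;> simp

/-- for a prime `𝔫` of `B ⧸ (l)` with `l` an `H_1`-regular sequence: `ht 𝔫 + c ≤ dim B`. -/
theorem height_add_le_of_isH1Regular (hl : CAlgX.IsH1Regular l) (J : Ideal B)
    (hJ : Ideal.span (Set.range l) = J) (𝔫 : Ideal (B ⧸ J)) [𝔫.IsPrime] :
    (𝔫.height : WithBot ℕ∞) + (c : WithBot ℕ∞) ≤ ringKrullDim B := by
  subst hJ
  set 𝔪 : Ideal B := 𝔫.comap (Ideal.Quotient.mk (Ideal.span (Set.range l))) with h𝔪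
  have : 𝔪.IsPrime := Ideal.comap_isPrime _ _
  set A := Localization.AtPrime 𝔪
  set l' : Fin c → A := fun i => algebraMap B A (l i) with hl'
  have h1 : CAlgX.IsH1Regular l' := isH1Regular_map_of_isLocalization l 𝔪.primeCompl hl
  have hmem : ∀ i, l' i ∈ IsLocalRing.maximalIdeal A := by
    intro i
    rw [hl', IsLocalization.AtPrime.to_map_mem_maximal_iff A 𝔪, h𝔪, Ideal.mem_comap,
      Ideal.Quotient.eq_zero_iff_mem.mpr (Ideal.subset_span (Set.mem_range_self i))]
    exact zero_mem _
  have h2 : IsWeaklyRegular A (List.ofFn l') := by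
    apply Groth.Agent.Lib.Helper14.isWeaklyRegular_of_koszulH1Zero l'
    · intro i
      rw [IsLocalRing.jacobson_eq_maximalIdeal ⊥ bot_ne_top]
      exact hmem i
    · exact koszulH1Zero_of_isH1Regular l' h1
  have h3 : IsRegular A (List.ofFn l') := by
    rw [IsLocalRing.isRegular_iff_isWeaklyRegular_of_subset_maximalIdeal]
    · exact h2
    · intro r hr
      rw [List.mem_ofFn] at hr
      obtain ⟨i, rfl⟩ := hr
      exact hmem i
  have h4 := ringKrullDim_add_length_eq_ringKrullDim_of_isRegular (List.ofFn l') h3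
  rw [List.length_ofFn] at h4
  have h5 : ringKrullDim A ≤ ringKrullDim B := by
    rw [IsLocalization.AtPrime.ringKrullDim_eq_height 𝔪 A]
    exact Ideal.height_le_ringKrullDim_of_ne_top Ideal.IsPrime.ne_top'
  -- the surjection `A ⧸ (l') → (B ⧸ J)_𝔫`
  let ρ : A →+* Localization.AtPrime 𝔫 :=
    Localization.localRingHom 𝔪 𝔫 (Ideal.Quotient.mk (Ideal.span (Set.range l))) rfl
  have hρ : Function.Surjective ρ := by
    intro y
    obtain ⟨x, s, rfl⟩ := IsLocalization.exists_mk'_eq 𝔫.primeCompl y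
    obtain ⟨x', rfl⟩ := Ideal.Quotient.mk_surjective x
    obtain ⟨s', hs'⟩ := Ideal.Quotient.mk_surjective s.1
    have hs'm : s' ∈ 𝔪.primeCompl := by
      intro hmem
      apply s.2
      rw [← hs']
      exact hmem
    refine ⟨IsLocalization.mk' A x' ⟨s', hs'm⟩, ?_⟩
    rw [Localization.localRingHom_mk']
    congr 1
    exact Subtype.ext hs'
  have hker : Ideal.ofList (List.ofFn l') ≤ RingHom.ker ρ := by
    unfold Ideal.ofList
    rw [Ideal.span_le]
    intro x hx
    have hx' : x ∈ List.ofFn l' := hx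
    rw [List.mem_ofFn] at hx'
    obtain ⟨i, rfl⟩ := hx'
    rw [SetLike.mem_coe, RingHom.mem_ker, hl']
    simp only [ρ]
    rw [Localization.localRingHom_to_map,
      Ideal.Quotient.eq_zero_iff_mem.mpr (Ideal.subset_span (Set.mem_range_self i)), map_zero]
  have h6 : ringKrullDim (Localization.AtPrime 𝔫) ≤ ringKrullDim (A ⧸ Ideal.ofList (List.ofFn l')) :=
    ringKrullDim_le_of_surjective (Ideal.Quotient.lift _ ρ hker)
      (Ideal.Quotient.lift_surjective_of_surjective _ hker hρ)
  rw [IsLocalization.AtPrime.ringKrullDim_eq_height 𝔫 (Localization.AtPrime 𝔫)] at h6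
  calc (𝔫.height : WithBot ℕ∞) + (c : WithBot ℕ∞)
      ≤ ringKrullDim (A ⧸ Ideal.ofList (List.ofFn l')) + (c : WithBot ℕ∞) := add_le_add h6 le_rfl
    _ = ringKrullDim A := h4
    _ ≤ ringKrullDim B := h5

/-- In a Noetherian ring of dimension `≤ n`, a nonzero quotient by an `H_1`-regular sequence of
length `c` has dimension `≤ n - c` (and `c ≤ n`). -/
theorem ringKrullDim_quotient_le_of_isH1Regular (n : ℕ) (hB : ringKrullDim B ≤ (n : WithBot ℕ∞))
    (hl : CAlgX.IsH1Regular l) (J : Ideal B) (hJ : Ideal.span (Set.range l) = J)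
    [Nontrivial (B ⧸ J)] :
    c ≤ n ∧ ringKrullDim (B ⧸ J) ≤ ((n - c : ℕ) : WithBot ℕ∞) := by
  have key : ∀ (𝔫 : Ideal (B ⧸ J)) [𝔫.IsPrime],
      (𝔫.height : WithBot ℕ∞) + (c : WithBot ℕ∞) ≤ (n : WithBot ℕ∞) :=
    fun 𝔫 _ => (height_add_le_of_isH1Regular l hl J hJ 𝔫).trans hB
  have hcn : c ≤ n := by
    obtain ⟨𝔫, h𝔫⟩ := Ideal.exists_maximal (B ⧸ J)
    have : 𝔫.IsPrime := h𝔫.isPrime
    have := key 𝔫
    have h0 : (c : WithBot ℕ∞) ≤ (𝔫.height : WithBot ℕ∞) + (c : WithBot ℕ∞) := by
      exact le_add_of_nonneg_left (by exact_mod_cast (zero_le : (0 : ℕ∞) ≤ 𝔫.height))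
    exact_mod_cast h0.trans this
  refine ⟨hcn, ?_⟩
  rw [ringKrullDim_le_iff_height_le]
  intro 𝔫 h𝔫
  have := key 𝔫
  clear key
  generalize 𝔫.height = h at this ⊢
  induction h using ENat.recTopCoe with
  | top =>
    exfalso
    have h1 : ((⊤ : ℕ∞) : WithBot ℕ∞) + ((c : ℕ∞) : WithBot ℕ∞) ≤ ((n : ℕ∞) : WithBot ℕ∞) := this
    rw [← WithBot.coe_add, WithBot.coe_le_coe, top_add] at h1
    exact absurd h1 (by simp)
  | coe h =>
    have h1 : ((h + c : ℕ) : WithBot ℕ∞) ≤ ((n : ℕ) : WithBot ℕ∞) := by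
      push_cast
      exact this
    have h2 : h + c ≤ n := by exact_mod_cast h1
    have h3 : h ≤ n - c := by omega
    exact WithBot.coe_le_coe.mpr (by exact_mod_cast h3)

end Dim

end Groth.Agent.Lib.Helper10.SyntDim
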