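import Mathlib
import Groth.Prelude.Def_RegImm
import Groth.Agent.Lib.Helper82.RelGCIAway

/-!
# Hand-made presentations (helper10)

Generic lemmas producing presentations "`n` generators, `c` relations" for localisations away from an
element and for quotients by finitely many elements, and the passage to a global complete intersection
over a field.
-/

set_option autoImplicit false
universe u

namespace Groth.Agent.Lib.Helper10.SyntPres

open MvPolynomial

section Pres

variable {k : Type u} [CommRing k]

/-- presentation of `S_g` with one more generator and one more relation (over any base ring). -/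
theorem exists_presentation_away {S : Type u} [CommRing S] [Algebra k S] (g : S) {n c : ℕ}
    (φ : MvPolynomial (Fin n) k →ₐ[k] S) (r : Fin c → MvPolynomial (Fin n) k)
    (hφ : Function.Surjective φ) (hker : RingHom.ker φ.toRingHom = Ideal.span (Set.range r)) :
    ∃ (φ' : MvPolynomial (Fin (n + 1)) k →ₐ[k] Localization.Away g)
      (r' : Fin (c + 1) → MvPolynomial (Fin (n + 1)) k),
      Function.Surjective φ' ∧ RingHom.ker φ'.toRingHom = Ideal.span (Set.range r') := by
  have hae : aeval (fun i => φ (X i)) = φ := by
    ext i; simp
  let G : Algebra.Generators k S (Fin n) :=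
    Algebra.Generators.ofSurjective (fun i => φ (X i)) (by rw [hae]; exact hφ)
  let P : Algebra.Presentation k S (Fin n) (Fin c) :=
    { toGenerators := G
      relation := r
      span_range_relation_eq_ker := by
        rw [Algebra.Generators.ker_eq_ker_aeval_val]
        show _ = RingHom.ker (aeval fun i => φ (X i))
        rw [hae, ← hker]
        rfl }
  let Q := (Algebra.Presentation.localizationAway (Localization.Away g) g).comp P
  let e : Fin (n + 1) ≃ Unit ⊕ Fin n := Fintype.equivOfCardEq (by simp; omega)
  let f : Fin (c + 1) ≃ Unit ⊕ Fin c := Fintype.equivOfCardEq (by simp; omega)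
  let Q' := Q.reindex e f
  refine ⟨aeval Q'.val, Q'.relation, Q'.toGenerators.aeval_val_surjective, ?_⟩
  rw [Q'.span_range_relation_eq_ker, Algebra.Generators.ker_eq_ker_aeval_val]
  rfl

lemma range_append {α : Type*} {d c : ℕ} (r : Fin d → α) (L : Fin c → α) :
    Set.range (Fin.append r L) = Set.range r ∪ Set.range L := by
  ext x
  constructor
  · rintro ⟨i, rfl⟩
    refine Fin.addCases (fun j => ?_) (fun j => ?_) i
    · rw [Fin.append_left]; exact Or.inl ⟨j, rfl⟩
    · rw [Fin.append_right]; exact Or.inr ⟨j, rfl⟩
  · rintro (⟨j, rfl⟩ | ⟨j, rfl⟩)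
    · exact ⟨Fin.castAdd c j, Fin.append_left _ _ _⟩
    · exact ⟨Fin.natAdd d j, Fin.append_right _ _ _⟩

/-- presentation of a quotient by `c` elements: `c` more relations. -/
theorem exists_presentation_quotient {B : Type u} [CommRing B] [Algebra k B] {m d c : ℕ}
    (φ : MvPolynomial (Fin m) k →ₐ[k] B) (r : Fin d → MvPolynomial (Fin m) k)
    (hφ : Function.Surjective φ) (hker : RingHom.ker φ.toRingHom = Ideal.span (Set.range r))
    (l : Fin c → B) :
    ∃ r' : Fin (d + c) → MvPolynomial (Fin m) k,
      RingHom.ker ((Ideal.Quotient.mkₐ k (Ideal.span (Set.range l))).comp φ).toRingHom =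
        Ideal.span (Set.range r') := by
  choose L hL using fun i => hφ (l i)
  refine ⟨Fin.append r L, ?_⟩
  have h1 : RingHom.ker ((Ideal.Quotient.mkₐ k (Ideal.span (Set.range l))).comp φ).toRingHom =
      (Ideal.span (Set.range l)).comap φ.toRingHom := by
    ext x
    rw [RingHom.mem_ker, Ideal.mem_comap]
    show Ideal.Quotient.mk _ (φ x) = 0 ↔ _
    rw [Ideal.Quotient.eq_zero_iff_mem]
    rfl
  have h2 : Ideal.span (Set.range l) = (Ideal.span (Set.range L)).map φ.toRingHom := by
    rw [Ideal.map_span, ← Set.range_comp]
    congr 2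
    funext i
    exact (hL i).symm
  rw [h1, h2, Ideal.comap_map_of_surjective φ.toRingHom hφ, ← RingHom.ker_eq_comap_bot, hker,
    range_append, Ideal.span_union, sup_comm]

lemma aeval_comp_X {S : Type u} [CommRing S] [Algebra k S] {n : ℕ}
    (φ : MvPolynomial (Fin n) k →ₐ[k] S) : aeval (fun i => φ (X i)) = φ := by
  ext i; simp

lemma ker_aeval_comp_X {S : Type u} [CommRing S] [Algebra k S] {n c : ℕ}
    (φ : MvPolynomial (Fin n) k →ₐ[k] S) (r : Fin c → MvPolynomial (Fin n) k)
    (hker : RingHom.ker φ.toRingHom = Ideal.span (Set.range r)) :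
    RingHom.ker (aeval (R := k) fun i => φ (X i)) = Ideal.span (Set.range r) := by
  rw [aeval_comp_X, ← hker]
  rfl

/-- a presentation by a surjection with finitely generated kernel, as a Mathlib presentation. -/
noncomputable def presentationOf {S : Type u} [CommRing S] [Algebra k S] {n c : ℕ}
    (φ : MvPolynomial (Fin n) k →ₐ[k] S) (r : Fin c → MvPolynomial (Fin n) k)
    (hφ : Function.Surjective φ) (hker : RingHom.ker φ.toRingHom = Ideal.span (Set.range r)) :
    Algebra.Presentation k S (Fin n) (Fin c) :=
  { toGenerators := Algebra.Generators.ofSurjective (fun i => φ (X i))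
      (by rw [aeval_comp_X]; exact hφ)
    relation := r
    span_range_relation_eq_ker := by
      rw [Algebra.Generators.ker_eq_ker_aeval_val]
      exact (ker_aeval_comp_X φ r hker).symm }

end Pres

section Field

variable (κ : Type u) [Field κ]

/-- A presentation with `m` generators and `e ≤ m` relations of an algebra of dimension `≤ m - e` over a
field exhibits a global complete intersection. -/
theorem isGlobalCI_of_presentation (B : Type u) [CommRing B] [Algebra κ B] {m e : ℕ}
    (Q : Algebra.Presentation κ B (Fin m) (Fin e)) (he : e ≤ m)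
    (hdim : ringKrullDim B ≤ ((m - e : ℕ) : WithBot ℕ∞)) : Synt.IsGlobalCI κ B := by
  by_cases hsub : Subsingleton B
  · exact Or.inl hsub
  rw [not_subsingleton_iff_nontrivial] at hsub
  refine Or.inr ⟨m, e, he, aeval Q.val, Q.relation, Q.toGenerators.aeval_val_surjective, ?_, ?_⟩
  · rw [Q.span_range_relation_eq_ker, Algebra.Generators.ker_eq_ker_aeval_val]
    rfl
  · exact le_antisymm hdim (Groth.Agent.Lib.Helper82.RelGCIAway.le_ringKrullDim_of_presentation Q)

end Field

end Groth.Agent.Lib.Helper10.SyntPres
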