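import Mathlib
import Groth.Prelude.Def_RegImm
import Groth.Prelude.Def_LCI2
import Groth.Agent.Lib.Helper10.SyntH1
import Groth.Agent.Lib.Helper10.SyntDim
import Groth.Agent.Lib.Helper10.SyntPres
import Groth.Agent.Lib.Helper10.LciTrans
import Groth.Agent.Lib.Helper10.KoszulMinGen
import Groth.Agent.H46.GCILocalize

/-!
# Flat + Koszul-regular presentation ⇒ the fibres are global complete intersections locally (helper10)
-/

set_option autoImplicit false
universe u

namespace Groth.Agent.Lib.Helper10.SyntLocal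

open TensorProduct MvPolynomial
open Groth.Agent.Lib.Helper10.SyntH1 Groth.Agent.Lib.Helper10.SyntDim
open Groth.Agent.Lib.Helper10.SyntPres Groth.Agent.Lib.Helper10.LciTrans
open Groth.Agent.Lib.Helper10.KoszulH1 Groth.Agent.Lib.Helper10.KoszulMinGen

section Dim

variable {R : Type u} [CommRing R] (κ : Type u) [Field κ] [Algebra R κ] {n : ℕ}

lemma ringKrullDim_tensor_away_le (g : MvPolynomial (Fin n) R) :
    ringKrullDim (κ ⊗[R] Localization.Away g) ≤ (n : WithBot ℕ∞) := by
  have e₁ : κ ⊗[R] Localization.Away g ≃ₐ[κ] Localization.Away ((1 : κ) ⊗ₜ[R] g) :=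
    IsLocalization.Away.tensorProductEquivTMulRight R κ g (Localization.Away g)
  rw [ringKrullDim_eq_of_ringEquiv e₁.toRingEquiv]
  refine (Groth.Agent.H46.GCILocalize.ringKrullDim_localizationAway_le _).trans ?_
  rw [ringKrullDim_eq_of_ringEquiv (MvPolynomial.algebraTensorAlgEquiv R κ).toRingEquiv,
    MvPolynomial.ringKrullDim_of_isNoetherianRing, ringKrullDim_eq_zero_of_field]
  simp

end Dim

section Main

variable {R S : Type u} [CommRing R] [CommRing S] [Algebra R S] [Module.Flat R S] {n : ℕ}
  (φ : MvPolynomial (Fin n) R →ₐ[R] S) (hφ : Function.Surjective φ)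
  (g : MvPolynomial (Fin n) R) (l : List (Localization.Away g))
  (hl : LCI.IsKoszulRegularSeq (Localization.Away g) l)
  (hIl : (RingHom.ker φ.toRingHom).map (algebraMap _ (Localization.Away g)) = Ideal.span {x | x ∈ l})

include hφ hl hIl in
/-- the key local statement. -/
theorem isGlobalCI_fiber_away (κ : Type u) [Field κ] [Algebra R κ] :
    Synt.IsGlobalCI κ (κ ⊗[R] Localization.Away (φ g)) := by
  classical
  by_cases hsub : Subsingleton (κ ⊗[R] Localization.Away (φ g))
  · exact Or.inl hsub
  rw [not_subsingleton_iff_nontrivial] at hsub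
  -- the localised presentation
  let φg : Localization.Away g →ₐ[R] Localization.Away (φ g) := Localization.awayMapₐ φ g
  have hsq : φg.toRingHom.comp (algebraMap (MvPolynomial (Fin n) R) (Localization.Away g)) =
      (algebraMap S (Localization.Away (φ g))).comp φ.toRingHom := by
    refine RingHom.ext fun x => ?_
    show IsLocalization.Away.map _ _ φ.toRingHom g (algebraMap _ _ x) = _
    rw [IsLocalization.Away.map, IsLocalization.map_eq]
    rfl
  have hφg : Function.Surjective φg :=
    IsLocalization.Away.mapₐ_surjective_of_surjective g hφ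
  have hkerg : RingHom.ker φg.toRingHom = (RingHom.ker φ.toRingHom).map
      (algebraMap (MvPolynomial (Fin n) R) (Localization.Away g)) :=
    locSq_ker φ.toRingHom g (φ g) rfl φg.toRingHom hsq
  set J : Ideal (Localization.Away g) := Ideal.span (Set.range l.get) with hJdef
  have hJ : RingHom.ker φg = J := by
    change RingHom.ker φg.toRingHom = J
    rw [hkerg, hIl, hJdef, span_range_get]
  let e : (Localization.Away g ⧸ J) ≃ₐ[R] Localization.Away (φ g) :=
    (Ideal.quotientEquivAlgOfEq R hJ.symm).trans (Ideal.quotientKerAlgEquivOfSurjective hφg)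
  -- flatness
  have hfl1 : Module.Flat R (Localization.Away (φ g)) := Module.Flat.trans R S _
  have hfl2 : Module.Flat R (Localization.Away g ⧸ Ideal.span (Set.range l.get)) :=
    Module.Flat.of_linearEquiv e.toLinearEquiv
  -- `H_1`-regularity in the fibre
  have h1 : CAlgX.IsH1Regular l.get := isH1Regular_of_isKoszulRegularSeq l hl
  have h1' : CAlgX.IsH1Regular (fun i => (1 : κ) ⊗ₜ[R] l.get i) := isH1Regular_tmul l.get κ h1
  -- the fibre of `A`
  have hft : Algebra.FiniteType R (Localization.Away g) :=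
    Algebra.FiniteType.trans (inferInstance : Algebra.FiniteType R (MvPolynomial (Fin n) R))
      inferInstance
  have hNoeth : IsNoetherianRing (κ ⊗[R] Localization.Away g) :=
    Algebra.FiniteType.isNoetherianRing κ _
  have hdimA := ringKrullDim_tensor_away_le (R := R) κ g
  -- the fibre of `S'` as a quotient
  set Jbar : Ideal (κ ⊗[R] Localization.Away g) :=
    J.map (Algebra.TensorProduct.includeRight (R := R) (A := κ)) with hJbar
  have hJbar' : Ideal.span (Set.range (fun i => (1 : κ) ⊗ₜ[R] l.get i)) = Jbar := by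
    rw [hJbar, hJdef, Ideal.map_span, ← Set.range_comp]
    rfl
  let e₂ : κ ⊗[R] Localization.Away (φ g) ≃ₐ[κ] κ ⊗[R] (Localization.Away g ⧸ J) :=
    Algebra.TensorProduct.congr AlgEquiv.refl e.symm
  let e₃ : κ ⊗[R] (Localization.Away g ⧸ J) ≃ₐ[κ] (κ ⊗[R] Localization.Away g) ⧸ Jbar :=
    Algebra.TensorProduct.tensorQuotientEquiv κ (Localization.Away g) κ J
  have hnt : Nontrivial ((κ ⊗[R] Localization.Away g) ⧸ Jbar) :=
    (e₂.trans e₃).symm.toRingEquiv.toEquiv.nontrivial
  obtain ⟨hcn, hdim⟩ := ringKrullDim_quotient_le_of_isH1Regular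
    (fun i => (1 : κ) ⊗ₜ[R] l.get i) n hdimA h1' Jbar hJbar'
  have hdimT : ringKrullDim (κ ⊗[R] Localization.Away (φ g)) ≤
      ((n - l.length : ℕ) : WithBot ℕ∞) := by
    rw [ringKrullDim_eq_of_ringEquiv (S := (κ ⊗[R] Localization.Away g) ⧸ Jbar)
      (e₂.trans e₃).toRingEquiv]
    exact hdim
  -- the presentation
  have hker₀ : RingHom.ker (AlgHom.id R (MvPolynomial (Fin n) R)).toRingHom =
      Ideal.span (Set.range (Fin.elim0 : Fin 0 → MvPolynomial (Fin n) R)) := by
    rw [Set.range_eq_empty, Ideal.span_empty]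
    exact (RingHom.injective_iff_ker_eq_bot _).mp Function.injective_id
  obtain ⟨φ₁, r₁, hφ₁, hker₁⟩ := exists_presentation_away g (AlgHom.id R (MvPolynomial (Fin n) R))
    Fin.elim0 Function.surjective_id hker₀
  obtain ⟨r₂, hker₂⟩ := exists_presentation_quotient φ₁ r₁ hφ₁ hker₁ l.get
  let φ₂ : MvPolynomial (Fin (n + 1)) R →ₐ[R] Localization.Away (φ g) :=
    e.toAlgHom.comp ((Ideal.Quotient.mkₐ R J).comp φ₁)
  have hφ₂ : Function.Surjective φ₂ :=
    e.surjective.comp ((Ideal.Quotient.mkₐ_surjective R J).comp hφ₁)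
  have hker₃ : RingHom.ker φ₂.toRingHom = Ideal.span (Set.range r₂) := by
    rw [← hker₂]
    ext x
    simp only [RingHom.mem_ker]
    show e (((Ideal.Quotient.mkₐ R J).comp φ₁) x) = 0 ↔ ((Ideal.Quotient.mkₐ R J).comp φ₁) x = 0
    exact map_eq_zero_iff e e.injective
  let Pr := presentationOf φ₂ r₂ hφ₂ hker₃
  let Qr := Pr.baseChange κ
  refine isGlobalCI_of_presentation κ _ Qr (by omega) ?_
  have : n + 1 - (0 + 1 + l.length) = n - l.length := by omega
  rw [this]
  exact hdimT

end Main

end Groth.Agent.Lib.Helper10.SyntLocal
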