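import Mathlib
import Groth.Prelude.Def_RegImm
import Groth.Prelude.Def_LCI2
import Groth.Agent.Lib.Helper10.SyntLocal
import Groth.Agent.Lib.Helper10.RegDescentKoszul
import Groth.Agent.H46.SyntLocal

/-!
# Flat local complete intersection ring maps are syntomic (helper10)
-/

set_option autoImplicit false
universe u

namespace Groth.Agent.Lib.Helper10.SyntOfLci

open TensorProduct MvPolynomial
open Groth.Agent.Lib.Helper10.SyntLocal Groth.Agent.Lib.Helper10.RegDescent
open Groth.Agent.Lib.Helper10.RegDescentKoszul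

/-- **A flat local complete intersection ring map is syntomic.** -/
theorem isSyntomic_of_flat_of_isLCI (R S : Type u) [CommRing R] [CommRing S] [Algebra R S]
    [Module.Flat R S] (h : LCI.IsLCI R S) : Synt.IsSyntomic R S := by
  obtain ⟨hft, n, φ, hφ, hI⟩ := h
  have hfg : (RingHom.ker φ.toRingHom).FG := IsLoc.fg (K := koszulKind) hI
  have hfp : Algebra.FinitePresentation R S :=
    Algebra.FinitePresentation.of_surjective hφ hfg
  refine ⟨inferInstance, hfp, fun p => ⟨inferInstance, fun Q => ?_⟩⟩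
  -- the primes
  set q : Ideal S := Q.asIdeal.comap (Algebra.TensorProduct.includeRight.toRingHom) with hq
  have hqp : q.IsPrime := Ideal.comap_isPrime _ _
  set 𝔭 : Ideal (MvPolynomial (Fin n) R) := q.comap φ.toRingHom with h𝔭
  have h𝔭p : 𝔭.IsPrime := Ideal.comap_isPrime _ _
  have hle : RingHom.ker φ.toRingHom ≤ 𝔭 := by
    intro x hx
    rw [h𝔭, Ideal.mem_comap, RingHom.mem_ker.mp hx]
    exact zero_mem _
  obtain ⟨g, hg, l, hl, hIl⟩ := hI ⟨𝔭, h𝔭p⟩ hle
  refine ⟨(1 : p.asIdeal.ResidueField) ⊗ₜ[R] φ g, ?_, ?_⟩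
  · intro hmem
    apply hg
    show g ∈ 𝔭
    rw [h𝔭, Ideal.mem_comap, hq, Ideal.mem_comap]
    exact hmem
  · have h1 := isGlobalCI_fiber_away φ hφ g l hl hIl p.asIdeal.ResidueField
    exact Groth.Agent.H46.isGlobalCI_of_algEquiv
      (IsLocalization.Away.tensorProductEquivTMulRight R p.asIdeal.ResidueField (φ g)
        (Localization.Away (φ g))) h1

end Groth.Agent.Lib.Helper10.SyntOfLci
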