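import Groth.Agent.Lib.Helper10.LciSyntDescentA
import Groth.Agent.Lib.Helper10.LciEtaleDescentB
import Groth.Agent.Lib.Helper82.SyntLift
import Groth.Agent.Lib.Helper82.RelGCIKoszul
import Groth.Agent.Lib.Helper82.RelGCIFlat
import Groth.Agent.S9287

/-!
# Local complete intersection ring maps are syntomic local on the source (helper10)
-/

set_option autoImplicit false
set_option linter.unusedSectionVars false
set_option linter.style.haveILetI false
universe u

namespace Groth.Agent.Lib.Helper10.LciSyntDescent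

open Groth.Agent.Lib.Helper10.RegDescent Groth.Agent.Lib.Helper10.RegDescentKoszul
open Groth.Agent.Lib.Helper10.LciComp Groth.Agent.Lib.Helper10.LciSmooth
open Groth.Agent.Lib.Helper10.FlatLocal TensorProduct
open Groth.Agent.Lib.Helper10.LciEtaleDescent

lemma range_ofFn_get {α : Type*} {c : ℕ} (F : Fin c → α) :
    Set.range (List.ofFn F).get = Set.range F := by
  rw [Set.range_list_get]
  ext x
  simp [List.mem_ofFn]

/-- Core step: if `P` is smooth over `A`, `C̃ = P[x]/(F)` is a relative global complete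
intersection over `P`, `I` is an ideal of `P` and `A → C̃ / I C̃` is a local complete
intersection, then `I C̃` is locally Koszul-regular. -/
theorem isLoc_map_relGCI {A P : Type u} [CommRing A] [CommRing P] [Algebra A P]
    [Algebra.Smooth A P] (I : Ideal P) (n c : ℕ) (F : Fin c → MvPolynomial (Fin n) P)
    (hrel : Synt.IsRelGCI P n c F)
    (h : IsLCIHom (A := A)
      (B := Synt.RelGCIRing P n c F ⧸ I.map (algebraMap P (Synt.RelGCIRing P n c F)))
      (((Ideal.Quotient.mk (I.map (algebraMap P (Synt.RelGCIRing P n c F)))).comp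
      (Ideal.Quotient.mk (Ideal.span (Set.range F)))).comp
        (algebraMap A (MvPolynomial (Fin n) P)))) :
    IsLoc koszulKind (I.map (algebraMap P (Synt.RelGCIRing P n c F))) := by
  have hsurj : Function.Surjective (Ideal.Quotient.mk (Ideal.span (Set.range F))) :=
    Ideal.Quotient.mk_surjective
  have hker : RingHom.ker (Ideal.Quotient.mk (Ideal.span (Set.range F))) =
      Ideal.ofList (List.ofFn F) :=
    Ideal.mk_ker.trans (Groth.Agent.Lib.Helper82.RelGCIFlat.ofList_ofFn P n c F).symm
  have hKos := Groth.Agent.Lib.Helper82.RelGCIKoszul.isKoszulRegularSeq P n c F hrel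
  have hmapeq : algebraMap P (Synt.RelGCIRing P n c F) =
      (Ideal.Quotient.mk (Ideal.span (Set.range F))).comp
        (algebraMap P (MvPolynomial (Fin n) P)) := rfl
  have hJ : (I.map (algebraMap P (Synt.RelGCIRing P n c F))).comap
      (Ideal.Quotient.mk (Ideal.span (Set.range F))) =
      I.map (algebraMap P (MvPolynomial (Fin n) P)) ⊔ Ideal.span (Set.range F) := by
    rw [hmapeq, ← Ideal.map_map, Ideal.comap_map_of_surjective _ hsurj,
      ← RingHom.ker_eq_comap_bot, Ideal.mk_ker]
  refine Groth.Agent.Lib.Helper10.LciTrans.isLoc_of_comap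
    (Ideal.Quotient.mk (Ideal.span (Set.range F))) hsurj (List.ofFn F) hker hKos _ ?_ ?_
  · intro 𝔮 hJ𝔮 a ha
    haveI : Module.Flat P (MvPolynomial (Fin n) P ⧸ Ideal.span (Set.range (List.ofFn F).get)) := by
      rw [range_ofFn_get]
      exact Groth.Agent.Lib.Helper82.RelGCIFlat.flat_of_isRelGCI P n c F hrel
    refine ind_of_flat (R := P) (List.ofFn F).get
      (Groth.Agent.Lib.Helper10.KoszulH1.isH1Regular_of_isKoszulRegularSeq _ hKos) I
      (𝔮.asIdeal.comap (Ideal.Quotient.mk (Ideal.span (Set.range F)))) ?_ ?_ a ?_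
    · rw [Ideal.map_le_iff_le_comap]
      intro x hx
      rw [Ideal.mem_comap, Ideal.mem_comap]
      apply hJ𝔮
      exact Ideal.mem_map_of_mem _ hx
    · rw [range_ofFn_get]
      intro x hx
      rw [Ideal.mem_comap, Ideal.Quotient.eq_zero_iff_mem.mpr hx]
      exact Ideal.zero_mem _
    · rw [range_ofFn_get, ← hJ]
      exact ha
  · have hkerc : RingHom.ker ((Ideal.Quotient.mk
        (I.map (algebraMap P (Synt.RelGCIRing P n c F)))).comp
          (Ideal.Quotient.mk (Ideal.span (Set.range F)))) =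
        (I.map (algebraMap P (Synt.RelGCIRing P n c F))).comap
          (Ideal.Quotient.mk (Ideal.span (Set.range F))) := by
      rw [← RingHom.comap_ker, Ideal.mk_ker]
    rw [← hkerc]
    haveI : Algebra.Smooth P (MvPolynomial (Fin n) P) := ⟨inferInstance, inferInstance⟩
    haveI : Algebra.Smooth A (MvPolynomial (Fin n) P) :=
      Algebra.Smooth.comp A P (MvPolynomial (Fin n) P)
    have hsurj2 : Function.Surjective ((Ideal.Quotient.mk
        (I.map (algebraMap P (Synt.RelGCIRing P n c F)))).comp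
          (Ideal.Quotient.mk (Ideal.span (Set.range F)))) :=
      (Ideal.Quotient.mk_surjective).comp hsurj
    exact isLoc_ker_of_smooth (A := A) (B := MvPolynomial (Fin n) P) _ hsurj2 h

/-- **Syntomic descent on the source** for local complete intersection ring maps: if every prime
of `B` lifts along a flat local complete intersection map `ε : B → B'` with `ε ∘ φ` a local
complete intersection, then `φ` is a local complete intersection. -/
theorem isLCIHom_of_forall_exists_flat_lci {A B : Type u} [CommRing A] [CommRing B] (φ : A →+* B)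
    (hft : φ.FiniteType)
    (h : ∀ 𝔮 : PrimeSpectrum B, ∃ (B' : Type u) (_ : CommRing B') (ε : B →+* B'), ε.Flat ∧
      IsLCIHom ε ∧ (∃ 𝔮' : PrimeSpectrum B', 𝔮'.comap ε = 𝔮) ∧ IsLCIHom (ε.comp φ)) :
    IsLCIHom φ := by
  letI := φ.toAlgebra
  have hft' : Algebra.FiniteType A B := hft
  obtain ⟨n, α, hα⟩ := Algebra.FiniteType.iff_quotient_mvPolynomial''.mp hft'
  refine ⟨hft', n, α, hα, ?_⟩
  show IsLoc koszulKind (RingHom.ker α.toRingHom)
  apply isLoc_of_forall_exists_flat_fp
  intro 𝔭 h𝔭
  have hφα : ∀ a : A, φ a = α (algebraMap A (MvPolynomial (Fin n) A) a) :=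
    fun a => (α.commutes a).symm
  -- the prime `𝔮` of `B`
  have h𝔮prime : (𝔭.asIdeal.map α.toRingHom).IsPrime :=
    Ideal.map_isPrime_of_surjective hα h𝔭
  have h𝔮 : (𝔭.asIdeal.map α.toRingHom).comap α.toRingHom = 𝔭.asIdeal := by
    rw [Ideal.comap_map_of_surjective α.toRingHom hα]
    apply sup_eq_left.mpr
    rw [← RingHom.ker_eq_comap_bot]
    exact h𝔭
  obtain ⟨B', _, ε, hεflat, hεlci, ⟨𝔮', h𝔮'⟩, hlci⟩ := h ⟨𝔭.asIdeal.map α.toRingHom, h𝔮prime⟩
  haveI := 𝔮'.isPrime
  letI : Algebra (MvPolynomial (Fin n) A) B' := (ε.comp α.toRingHom).toAlgebra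
  letI : Algebra (MvPolynomial (Fin n) A ⧸ RingHom.ker α.toRingHom) B' :=
    (ε.comp (RingHom.quotientKerEquivOfSurjective hα : _ →+* B)).toAlgebra
  haveI : IsScalarTower (MvPolynomial (Fin n) A)
      (MvPolynomial (Fin n) A ⧸ RingHom.ker α.toRingHom) B' :=
    IsScalarTower.of_algebraMap_eq (R := MvPolynomial (Fin n) A)
      (S := MvPolynomial (Fin n) A ⧸ RingHom.ker α.toRingHom) (A := B') (fun p => by
      show ε (α.toRingHom p) = ε (RingHom.quotientKerEquivOfSurjective hα
        (Ideal.Quotient.mk _ p))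
      rw [RingHom.quotientKerEquivOfSurjective_apply_mk])
  have hsynt : Synt.IsSyntomic (MvPolynomial (Fin n) A ⧸ RingHom.ker α.toRingHom) B' := by
    refine (Groth.Agent.S9287.result _ _).mpr ⟨?_, ?_⟩
    · exact (RingHom.Flat.of_bijective
        (RingHom.quotientKerEquivOfSurjective hα).bijective).comp hεflat
    · refine (isLCIHom_iff_of_eq _ rfl).mp ?_
      exact isLCIHom_comp _ _ (isLCIHom_ringEquiv (RingHom.quotientKerEquivOfSurjective hα)) hεlci
  obtain ⟨s, hs, hcov⟩ := Groth.Agent.Lib.Helper82.SyntLift.exists_cover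
    (MvPolynomial (Fin n) A) (RingHom.ker α.toRingHom) B' hsynt
  obtain ⟨g, hgs, hg⟩ : ∃ g ∈ s, g ∉ 𝔮'.asIdeal := by
    by_contra hne
    have hle : Ideal.span (s : Set B') ≤ 𝔮'.asIdeal :=
      Ideal.span_le.mpr (fun x hx => by_contra (fun hx' => hne ⟨x, hx, hx'⟩))
    rw [hs] at hle
    exact 𝔮'.isPrime.ne_top (top_le_iff.mp hle)
  obtain ⟨n', c, F, hrel, ⟨e₁⟩⟩ := hcov g hgs
  haveI : Algebra.Smooth A (MvPolynomial (Fin n) A) := ⟨inferInstance, inferInstance⟩
  have hPB' : ∀ p : MvPolynomial (Fin n) A,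
      algebraMap (MvPolynomial (Fin n) A) (Localization.Away g) p =
        algebraMap B' (Localization.Away g) (ε (α p)) := fun p => by
    rw [IsScalarTower.algebraMap_apply (MvPolynomial (Fin n) A) B' (Localization.Away g)]
    rfl
  refine ⟨Synt.RelGCIRing (MvPolynomial (Fin n) A) n' c F, inferInstance,
    algebraMap (MvPolynomial (Fin n) A) (Synt.RelGCIRing (MvPolynomial (Fin n) A) n' c F),
    RingHom.flat_algebraMap_iff.mpr
      (Groth.Agent.Lib.Helper82.RelGCIFlat.flat_of_isRelGCI _ n' c F hrel),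
    RingHom.finitePresentation_algebraMap.mpr
      (Groth.Agent.Lib.Helper82.RelGCIFlat.isSyntomic_of_isRelGCI _ n' c F hrel).2.1, ?_, ?_⟩
  · obtain ⟨𝔮'', h𝔮''⟩ := exists_prime_away' g 𝔮' hg
    refine ⟨𝔮''.comap (e₁.symm.toRingEquiv.toRingHom.comp (Ideal.Quotient.mk _)), ?_⟩
    ext1
    show Ideal.comap _ (Ideal.comap _ 𝔮''.asIdeal) = 𝔭.asIdeal
    rw [← h𝔮]
    ext p
    simp only [Ideal.mem_comap, RingHom.comp_apply]
    have h0 : e₁.symm.toRingEquiv.toRingHom (Ideal.Quotient.mk _
        (algebraMap (MvPolynomial (Fin n) A)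
          (Synt.RelGCIRing (MvPolynomial (Fin n) A) n' c F) p)) =
        algebraMap B' (Localization.Away g) (ε (α p)) := by
      rw [← hPB' p]
      exact e₁.symm.commutes p
    rw [h0]
    have h1 : algebraMap B' (Localization.Away g) (ε (α p)) ∈ 𝔮''.asIdeal ↔
        ε (α p) ∈ 𝔮'.asIdeal := by
      rw [← h𝔮'']
      rfl
    rw [h1]
    have h2 : ε (α p) ∈ 𝔮'.asIdeal ↔ α p ∈ (𝔮'.comap ε).asIdeal := Iff.rfl
    rw [h2, h𝔮']
    rfl
  · apply isLoc_map_relGCI (A := A) (RingHom.ker α.toRingHom) n' c F hrel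
    have hcomp : ((Ideal.Quotient.mk ((RingHom.ker α.toRingHom).map
        (algebraMap (MvPolynomial (Fin n) A)
          (Synt.RelGCIRing (MvPolynomial (Fin n) A) n' c F)))).comp
        (Ideal.Quotient.mk (Ideal.span (Set.range F)))).comp
          (algebraMap A (MvPolynomial (Fin n') (MvPolynomial (Fin n) A))) =
        e₁.toRingEquiv.toRingHom.comp
          ((algebraMap B' (Localization.Away g)).comp (ε.comp φ)) := by
      ext a
      simp only [RingHom.comp_apply]
      rw [hφα a, ← hPB']
      exact (e₁.commutes (algebraMap A (MvPolynomial (Fin n) A) a)).symm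
    rw [hcomp]
    have he₁ := isLCIHom_ringEquiv (B := Localization.Away g)
        (B' := Synt.RelGCIRing (MvPolynomial (Fin n) A) n' c F ⧸
          (RingHom.ker α.toRingHom).map (algebraMap (MvPolynomial (Fin n) A)
            (Synt.RelGCIRing (MvPolynomial (Fin n) A) n' c F))) e₁.toRingEquiv
    exact isLCIHom_comp _ _ (isLCIHom_comp _ _ hlci (isLCIHom_away g)) he₁

end Groth.Agent.Lib.Helper10.LciSyntDescent
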