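import Groth.Agent.Lib.Helper10.LciSyntDescentB
import Groth.Agent.Lib.Helper10.LciEtaleDescentC
import Groth.Agent.Lib.Helper10.LciMor

/-!
# Local complete intersection morphisms of schemes: syntomic descent on the source (helper10)
-/

set_option autoImplicit false
set_option linter.unusedSectionVars false
set_option linter.style.haveILetI false
universe u

namespace Groth.Agent.Lib.Helper10.LciSyntDescent

open AlgebraicGeometry CategoryTheory CategoryTheory.Limits
open Groth.Agent.Lib.Helper10.LciComp Groth.Agent.Lib.Helper10.LciSmooth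
open Groth.Agent.Lib.Helper10.LciLocalProp Groth.Agent.Lib.Helper10.LciMor
open Groth.Agent.Lib.Helper10.RegImmDescent

variable {X' X Y W : Scheme.{u}}

/-- **Flat lci descent on the source**: if `e` is flat, surjective and a local complete
intersection morphism, `g` is locally of finite type and `e ≫ g` is a local complete intersection
morphism, so is `g`. -/
theorem lciMor_of_flat_lci_surjective_comp (e : X' ⟶ X) (g : X ⟶ Y) [Flat e] [Surjective e]
    [LocallyOfFiniteType g] (he : lciMor e) (h : lciMor (e ≫ g)) : lciMor g := by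
  rw [HasRingHomProperty.iff_appLE (P := lciMor)]
  intro V U hUV
  apply isLCIHom_of_forall_exists_flat_lci
  · exact HasRingHomProperty.appLE @LocallyOfFiniteType g inferInstance V U hUV
  · intro 𝔮
    have hxU : U.2.fromSpec 𝔮 ∈ U.1 := fromSpec_mem U.2 𝔮
    obtain ⟨x', hx'⟩ := e.surjective (U.2.fromSpec 𝔮)
    have hx'mem : x' ∈ e ⁻¹ᵁ U.1 := by
      show e x' ∈ U.1
      rw [hx']; exact hxU
    obtain ⟨_, ⟨U', hU', rfl⟩, hx'U', hU'le⟩ :=
      X'.isBasis_affineOpens.exists_subset_of_mem_open hx'mem (e ⁻¹ᵁ U.1).isOpen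
    refine ⟨Γ(X', U'), inferInstance, (e.appLE U.1 U' hU'le).hom, ?_, ?_,
      ⟨hU'.primeIdealOf ⟨x', hx'U'⟩, ?_⟩, ?_⟩
    · exact HasRingHomProperty.appLE @Flat e inferInstance U ⟨U', hU'⟩ hU'le
    · exact HasRingHomProperty.appLE lciMor e he U ⟨U', hU'⟩ hU'le
    · rw [IsAffineOpen.comap_primeIdealOf_appLE U.1 U.2 U' hU' hU'le hx'U']
      have : (⟨e x', hU'le hx'U'⟩ : U.1) = ⟨U.2.fromSpec 𝔮, hxU⟩ := Subtype.ext hx'
      rw [this]
      exact primeIdealOf_fromSpec U.2 𝔮 hxU
    · rw [← CommRingCat.hom_comp, Scheme.Hom.appLE_comp_appLE]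
      exact HasRingHomProperty.appLE lciMor (e ≫ g) h V ⟨U', hU'⟩ _

theorem locallyOfFinitePresentation_of_isSyntomicMor (g : X' ⟶ X) (hg : Synt.IsSyntomicMor g) :
    LocallyOfFinitePresentation g := by
  rw [HasRingHomProperty.iff_exists_appLE (P := @LocallyOfFinitePresentation)
    (RingHom.finitePresentation_stableUnderComposition.stableUnderCompositionWithLocalizationAway
      RingHom.finitePresentation_holdsForLocalizationAway).1]
  intro x
  obtain ⟨U, V, e, hx, hs⟩ := hg x
  refine ⟨V, U, hx, e, ?_⟩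
  letI := (g.appLE V.1 U.1 e).hom.toAlgebra
  exact hs.2.1

end Groth.Agent.Lib.Helper10.LciSyntDescent
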