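import Mathlib.RingTheory.Localization.AtPrime.Basic
import Mathlib.RingTheory.Localization.Away.Basic
import Mathlib.RingTheory.Localization.Integer
import Mathlib.RingTheory.FinitePresentation
import Mathlib.RingTheory.Ideal.Quotient.Operations
import Mathlib.RingTheory.Localization.Away.AdjoinRoot
import Mathlib.RingTheory.Idempotents
import Mathlib.Tactic

set_option autoImplicit false
universe u

namespace Groth.Agent.Lib.Helper10

variable {R T : Type u} [CommRing R] [CommRing T] [Algebra R T]

/-- canonical map `T_g → T_q` for `g ∉ q`, as an `R`-algebra map -/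
noncomputable def awayToAtPrime (q : Ideal T) [q.IsPrime] (g : T) (hg : g ∉ q) :
    Localization.Away g →ₐ[R] Localization.AtPrime q :=
  IsLocalization.liftAlgHom (M := Submonoid.powers g)
    (f := IsScalarTower.toAlgHom R T (Localization.AtPrime q))
    (by
      rintro ⟨_, k, rfl⟩
      exact IsLocalization.map_units (M := q.primeCompl) _
        ⟨g ^ k, fun h => hg (Ideal.IsPrime.mem_of_pow_mem inferInstance k h)⟩)

theorem awayToAtPrime_algebraMap (q : Ideal T) [q.IsPrime] (g : T) (hg : g ∉ q) (t : T) :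
    awayToAtPrime (R := R) q g hg (algebraMap T _ t) = algebraMap T _ t :=
  IsLocalization.lift_eq _ _

/-- canonical map `T_g → T_{g'}` for `g ∣ g'` -/
noncomputable def awayToAway (g g' : T) (h : g ∣ g') :
    Localization.Away g →ₐ[R] Localization.Away g' :=
  IsLocalization.liftAlgHom (M := Submonoid.powers g)
    (f := IsScalarTower.toAlgHom R T (Localization.Away g'))
    (by
      rintro ⟨_, k, rfl⟩
      have h1 : IsUnit (algebraMap T (Localization.Away g') g) :=
        isUnit_of_dvd_unit (map_dvd _ h) (IsLocalization.Away.algebraMap_isUnit g')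
      show IsUnit (algebraMap T (Localization.Away g') (g ^ k))
      rw [map_pow]
      exact h1.pow k)

theorem awayToAway_algebraMap (g g' : T) (h : g ∣ g') (t : T) :
    awayToAway (R := R) g g' h (algebraMap T _ t) = algebraMap T _ t :=
  IsLocalization.lift_eq _ _

theorem awayToAtPrime_awayToAway (q : Ideal T) [q.IsPrime] (g g' : T) (h : g ∣ g') (hg : g ∉ q)
    (hg' : g' ∉ q) (z : Localization.Away g) :
    awayToAtPrime (R := R) q g' hg' (awayToAway (R := R) g g' h z) = awayToAtPrime (R := R) q g hg z := by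
  have : ((awayToAtPrime (R := R) q g' hg').toRingHom.comp (awayToAway (R := R) g g' h).toRingHom) =
      (awayToAtPrime (R := R) q g hg).toRingHom := by
    apply IsLocalization.ringHom_ext (Submonoid.powers g)
    ext t
    simp only [RingHom.coe_comp, Function.comp_apply, AlgHom.toRingHom_eq_coe, RingHom.coe_coe]
    rw [awayToAway_algebraMap, awayToAtPrime_algebraMap, awayToAtPrime_algebraMap]
  exact congrFun (congrArg DFunLike.coe this) z

/-- an element of `T_g` dying in `T_q` is killed by some `c ∉ q`. -/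
theorem exists_mul_eq_zero_of_awayToAtPrime_eq_zero (q : Ideal T) [q.IsPrime] (g : T) (hg : g ∉ q)
    (z : Localization.Away g) (hz : awayToAtPrime (R := R) q g hg z = 0) :
    ∃ c : T, c ∉ q ∧ algebraMap T (Localization.Away g) c * z = 0 := by
  obtain ⟨t, y, rfl⟩ := IsLocalization.exists_mk'_eq (Submonoid.powers g) z
  have h1 : algebraMap T (Localization.AtPrime q) t = 0 := by
    have := (IsLocalization.lift_mk'_spec (M := Submonoid.powers g) (S := Localization.Away g)
      (g := (IsScalarTower.toAlgHom R T (Localization.AtPrime q)).toRingHom) _ t 0 y).mp hz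
    simpa using this
  obtain ⟨m, hm⟩ := (IsLocalization.map_eq_zero_iff q.primeCompl _ t).mp h1
  refine ⟨m, m.2, ?_⟩
  rw [IsLocalization.mul_mk'_eq_mk'_of_mul, hm, IsLocalization.mk'_zero]

/-- **Lifting**: an `R`-algebra map from a finitely presented algebra into `T_q` factors through
some `T_g`, `g ∉ q`. -/
theorem exists_lift_away {S' : Type u} [CommRing S'] [Algebra R S'] [Algebra.FinitePresentation R S']
    (q : Ideal T) [q.IsPrime] (ψ : S' →ₐ[R] Localization.AtPrime q) :
    ∃ (g : T) (hg : g ∉ q) (α : S' →ₐ[R] Localization.Away g),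
      ∀ x, awayToAtPrime (R := R) q g hg (α x) = ψ x := by
  classical
  obtain ⟨n, f, hfsurj, s, hs⟩ := Algebra.FinitePresentation.out (R := R) (A := S')
  -- common denominator
  obtain ⟨b, hb⟩ := IsLocalization.exist_integer_multiples_of_finset q.primeCompl
    (Finset.univ.image (fun i : Fin n => ψ (f (MvPolynomial.X i))))
  have hb' : ∀ i : Fin n, ∃ a : T, algebraMap T (Localization.AtPrime q) a =
      (b : T) • ψ (f (MvPolynomial.X i)) := fun i =>
    hb _ (Finset.mem_image.mpr ⟨i, Finset.mem_univ i, rfl⟩)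
  choose a ha using hb'
  set g₁ : T := (b : T) with hg₁
  have hg₁q : g₁ ∉ q := b.2
  let w : Fin n → Localization.Away g₁ := fun i =>
    IsLocalization.mk' (Localization.Away g₁) (a i) (⟨g₁, Submonoid.mem_powers g₁⟩ : Submonoid.powers g₁)
  have hw : ∀ i, awayToAtPrime (R := R) q g₁ hg₁q (w i) = ψ (f (MvPolynomial.X i)) := by
    intro i
    show IsLocalization.lift _ (IsLocalization.mk' _ _ _) = _
    rw [IsLocalization.lift_mk'_spec]
    simp only [AlgHom.toRingHom_eq_coe, RingHom.coe_coe, IsScalarTower.coe_toAlgHom']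
    rw [ha i, Algebra.smul_def]
  let α₀ : MvPolynomial (Fin n) R →ₐ[R] Localization.Away g₁ := MvPolynomial.aeval w
  have hα₀ : ∀ P, awayToAtPrime (R := R) q g₁ hg₁q (α₀ P) = ψ (f P) := by
    intro P
    have : (awayToAtPrime (R := R) q g₁ hg₁q).comp α₀ = ψ.comp f := by
      apply MvPolynomial.algHom_ext
      intro i
      simp only [AlgHom.comp_apply, α₀, MvPolynomial.aeval_X]
      exact hw i
    exact congrFun (congrArg DFunLike.coe this) P
  -- kill the relations
  have hrel : ∀ r : MvPolynomial (Fin n) R, r ∈ s →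
      ∃ c : T, c ∉ q ∧ algebraMap T (Localization.Away g₁) c * α₀ r = 0 := by
    intro r hr
    apply exists_mul_eq_zero_of_awayToAtPrime_eq_zero (R := R) q g₁ hg₁q
    rw [hα₀]
    have : r ∈ RingHom.ker f.toRingHom := by rw [← hs]; exact Ideal.subset_span hr
    rw [show f r = 0 from this, map_zero]
  let cf : MvPolynomial (Fin n) R → T := fun r =>
    if hr : r ∈ s then (hrel r hr).choose else 1
  have hcf1 : ∀ r, cf r ∉ q := by
    intro r
    by_cases hr : r ∈ s
    · simp only [cf, dif_pos hr]; exact (hrel r hr).choose_spec.1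
    · simp only [cf, dif_neg hr]; exact fun h => (Ideal.ne_top_iff_one q).mp (Ideal.IsPrime.ne_top inferInstance) h
  have hcf2 : ∀ r ∈ s, algebraMap T (Localization.Away g₁) (cf r) * α₀ r = 0 := by
    intro r hr
    simp only [cf, dif_pos hr]; exact (hrel r hr).choose_spec.2
  let C : T := ∏ r ∈ s, cf r
  have hC : C ∉ q := by
    intro h
    obtain ⟨r, _, hr⟩ := (Ideal.IsPrime.prod_mem_iff (hp := inferInstance)).mp h
    exact hcf1 r hr
  let g : T := g₁ * C
  have hg : g ∉ q := fun h => (Ideal.IsPrime.mem_or_mem inferInstance h).elim hg₁q hC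
  let τ := awayToAway (R := R) g₁ g (Dvd.intro C rfl)
  let α₁ : MvPolynomial (Fin n) R →ₐ[R] Localization.Away g := τ.comp α₀
  have hCunit : IsUnit (algebraMap T (Localization.Away g) C) :=
    isUnit_of_dvd_unit (map_dvd _ (Dvd.intro_left g₁ rfl)) (IsLocalization.Away.algebraMap_isUnit g)
  have hα₁ : ∀ r ∈ s, α₁ r = 0 := by
    intro r hr
    have h1 : algebraMap T (Localization.Away g₁) C * α₀ r = 0 := by
      have : C = (∏ r' ∈ s.erase r, cf r') * cf r := (Finset.prod_erase_mul s cf hr).symm
      rw [this, map_mul, mul_assoc, hcf2 r hr, mul_zero]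
    have h2 := congrArg τ h1
    rw [map_mul, map_zero, awayToAway_algebraMap] at h2
    exact (hCunit.mul_right_eq_zero).mp h2
  have hker : RingHom.ker f.toRingHom ≤ RingHom.ker α₁.toRingHom := by
    rw [← hs, Ideal.span_le]
    intro r hr
    exact hα₁ r hr
  refine ⟨g, hg, AlgHom.liftOfSurjective f hfsurj α₁ hker, ?_⟩
  intro x
  obtain ⟨P, rfl⟩ := hfsurj x
  rw [AlgHom.liftOfSurjective_apply]
  show awayToAtPrime (R := R) q g hg (τ (α₀ P)) = _
  rw [awayToAtPrime_awayToAway (R := R) q g₁ g _ hg₁q hg, hα₀]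

/-- the canonical map `T_g → T_{g'}` only kills `g'`-power torsion. -/
theorem exists_pow_mul_eq_zero_of_awayToAway_eq_zero (g g' : T) (h : g ∣ g')
    (z : Localization.Away g) (hz : awayToAway (R := R) g g' h z = 0) :
    ∃ j : ℕ, algebraMap T (Localization.Away g) (g' ^ j) * z = 0 := by
  obtain ⟨t, y, rfl⟩ := IsLocalization.exists_mk'_eq (Submonoid.powers g) z
  have h1 : algebraMap T (Localization.Away g') t = 0 := by
    have := (IsLocalization.lift_mk'_spec (M := Submonoid.powers g) (S := Localization.Away g)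
      (g := (IsScalarTower.toAlgHom R T (Localization.Away g')).toRingHom) _ t 0 y).mp hz
    simpa using this
  obtain ⟨m, hm⟩ := (IsLocalization.map_eq_zero_iff (Submonoid.powers g') _ t).mp h1
  obtain ⟨m, j, rfl⟩ := m
  refine ⟨j, ?_⟩
  rw [IsLocalization.mul_mk'_eq_mk'_of_mul]
  simp only at hm
  rw [hm, IsLocalization.mk'_zero]

end Groth.Agent.Lib.Helper10

namespace Groth.Agent.Lib.Helper10

/-- **Main lemma.** `S` finitely presented over `R`, `ψ : S → R_p` an `R`-algebra map which is
"a localization of `S` at the multiplicative set `U`" in the weak sense `H1`, `H2`.  Then `ψ` descends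
to a retraction-like map `α : S → R_f` with an element `c ∈ U` such that `α c` is a unit and
`c` kills `ker α` up to `f`-torsion. -/
theorem exists_away_retraction {R S : Type u} [CommRing R] [CommRing S] [Algebra R S]
    [Algebra.FinitePresentation R S] (p : Ideal R) [p.IsPrime] (U : Submonoid S)
    (ψ : S →ₐ[R] Localization.AtPrime p)
    (H1 : ∀ s, ψ s = 0 → ∃ c ∈ U, c * s = 0) (H2 : ∀ c ∈ U, IsUnit (ψ c)) :
    ∃ (f : R) (hf : f ∉ p) (α : S →ₐ[R] Localization.Away f) (c : S), c ∈ U ∧ IsUnit (α c) ∧
      (∀ x, awayToAtPrime (R := R) p f hf (α x) = ψ x) ∧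
      ∀ s, α s = 0 → ∃ t : ℕ, algebraMap R S (f ^ t) * (c * s) = 0 := by
  classical
  obtain ⟨f₁, hf₁, α, hα⟩ := exists_lift_away (R := R) (T := R) p ψ
  set F₁ : S := algebraMap R S f₁ with hF₁
  have hunits : ∀ y : Submonoid.powers F₁, IsUnit (α.toRingHom y) := by
    rintro ⟨_, k, rfl⟩
    show IsUnit (α (F₁ ^ k))
    rw [hF₁, ← map_pow, α.commutes]
    exact IsLocalization.map_units (M := Submonoid.powers f₁) _ ⟨f₁ ^ k, k, rfl⟩
  let αt : Localization.Away F₁ →ₐ[R] Localization.Away f₁ :=
    IsLocalization.liftAlgHom (M := Submonoid.powers F₁) (f := α) hunits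
  have hαt : ∀ s, αt (algebraMap S _ s) = α s := fun s => IsLocalization.lift_eq _ _
  have hsurj : Function.Surjective αt := by
    intro z
    obtain ⟨r, y, rfl⟩ := IsLocalization.exists_mk'_eq (Submonoid.powers f₁) z
    obtain ⟨_, k, rfl⟩ := y
    refine ⟨IsLocalization.mk' _ (algebraMap R S r) (⟨F₁ ^ k, k, rfl⟩ : Submonoid.powers F₁), ?_⟩
    show IsLocalization.lift _ (IsLocalization.mk' _ _ _) = _
    rw [IsLocalization.lift_mk'_spec]
    show α (algebraMap R S r) = α (F₁ ^ k) * _
    rw [hF₁, ← map_pow, α.commutes, α.commutes]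
    exact (IsLocalization.mk'_spec' _ r (⟨f₁ ^ k, k, rfl⟩ : Submonoid.powers f₁)).symm
  have hKfg : (RingHom.ker αt.toRingHom).FG :=
    Algebra.FinitePresentation.ker_fG_of_surjective αt hsurj
  obtain ⟨G, hG⟩ := hKfg
  have hGc : ∀ y ∈ G, ∃ c ∈ U, algebraMap S (Localization.Away F₁) c * y = 0 := by
    intro y hy
    have hyK : y ∈ RingHom.ker αt.toRingHom := by rw [← hG]; exact Ideal.subset_span hy
    obtain ⟨s, d, rfl⟩ := IsLocalization.exists_mk'_eq (Submonoid.powers F₁) y
    have h0 : α s = 0 := by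
      have := (IsLocalization.lift_mk'_spec (M := Submonoid.powers F₁)
        (S := Localization.Away F₁) (g := α.toRingHom) hunits s 0 d).mp hyK
      simpa using this
    have h1 : ψ s = 0 := by rw [← hα, h0, map_zero]
    obtain ⟨c, hcU, hc⟩ := H1 s h1
    refine ⟨c, hcU, ?_⟩
    rw [IsLocalization.mul_mk'_eq_mk'_of_mul, hc, IsLocalization.mk'_zero]
  let cf : Localization.Away F₁ → S := fun y => if hy : y ∈ G then (hGc y hy).choose else 1
  have hcf1 : ∀ y, cf y ∈ U := by
    intro y
    by_cases hy : y ∈ G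
    · simp only [cf, dif_pos hy]; exact (hGc y hy).choose_spec.1
    · simp only [cf, dif_neg hy]; exact U.one_mem
  have hcf2 : ∀ y ∈ G, algebraMap S (Localization.Away F₁) (cf y) * y = 0 := by
    intro y hy
    simp only [cf, dif_pos hy]; exact (hGc y hy).choose_spec.2
  let c : S := ∏ y ∈ G, cf y
  have hcU : c ∈ U := Submonoid.prod_mem U (fun y _ => hcf1 y)
  have hcK : ∀ y ∈ RingHom.ker αt.toRingHom, algebraMap S (Localization.Away F₁) c * y = 0 := by
    intro y hy
    rw [← hG] at hy
    induction hy using Submodule.span_induction with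
    | mem y hy =>
      have : c = (∏ y' ∈ G.erase y, cf y') * cf y := (Finset.prod_erase_mul G cf hy).symm
      rw [this, map_mul, mul_assoc, hcf2 y hy, mul_zero]
    | zero => rw [mul_zero]
    | add a b _ _ ha hb => rw [mul_add, ha, hb, add_zero]
    | smul a b _ hb => rw [smul_eq_mul, mul_left_comm, hb, mul_zero]
  -- the denominator of `α c`
  obtain ⟨r₀, d, hcd⟩ := IsLocalization.exists_mk'_eq (Submonoid.powers f₁) (α c)
  have hdunit : IsUnit (algebraMap R (Localization.AtPrime p) d) := by
    obtain ⟨_, k, rfl⟩ := d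
    exact IsLocalization.map_units (M := p.primeCompl) _
      ⟨f₁ ^ k, fun h => hf₁ (Ideal.IsPrime.mem_of_pow_mem inferInstance k h)⟩
  have hr₀ : r₀ ∉ p := by
    have h1 : IsUnit (awayToAtPrime (R := R) p f₁ hf₁ (α c)) := by rw [hα]; exact H2 c hcU
    have h2 : awayToAtPrime (R := R) p f₁ hf₁ (α c) * algebraMap R (Localization.AtPrime p) d =
        algebraMap R (Localization.AtPrime p) r₀ := by
      rw [← awayToAtPrime_algebraMap (R := R) p f₁ hf₁ (d : R), ← map_mul, ← hcd,
        IsLocalization.mk'_spec, awayToAtPrime_algebraMap]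
    have h3 : IsUnit (algebraMap R (Localization.AtPrime p) r₀) := by
      rw [← h2]; exact h1.mul hdunit
    intro hmem
    exact ((IsLocalization.AtPrime.isUnit_to_map_iff (Localization.AtPrime p) p r₀).mp h3) hmem
  let f : R := f₁ * r₀
  have hf : f ∉ p := fun h => (Ideal.IsPrime.mem_or_mem inferInstance h).elim hf₁ hr₀
  let τ := awayToAway (R := R) (T := R) f₁ f (Dvd.intro r₀ rfl)
  refine ⟨f, hf, τ.comp α, c, hcU, ?_, ?_, ?_⟩
  · -- unit
    have h2 : τ (α c) * algebraMap R (Localization.Away f) d = algebraMap R (Localization.Away f) r₀ := by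
      rw [← awayToAway_algebraMap (R := R) f₁ f (Dvd.intro r₀ rfl) (d : R), ← map_mul, ← hcd,
        IsLocalization.mk'_spec, awayToAway_algebraMap]
    have h3 : IsUnit (algebraMap R (Localization.Away f) r₀) :=
      IsLocalization.Away.isUnit_of_dvd (x := f) (Dvd.intro_left f₁ rfl)
    rw [← h2] at h3
    exact isUnit_of_mul_isUnit_left h3
  · intro x
    show awayToAtPrime (R := R) p f hf (τ (α x)) = ψ x
    rw [awayToAtPrime_awayToAway (R := R) p f₁ f _ hf₁ hf, hα]
  · intro s hs
    have hs' : τ (α s) = 0 := hs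
    obtain ⟨j, hj⟩ := exists_pow_mul_eq_zero_of_awayToAway_eq_zero (R := R) f₁ f _ _ hs'
    have h1 : α (algebraMap R S (f ^ j) * s) = 0 := by
      rw [map_mul, α.commutes]; exact hj
    have h2 : algebraMap S (Localization.Away F₁) (algebraMap R S (f ^ j) * s) ∈
        RingHom.ker αt.toRingHom := by
      show αt _ = 0
      rw [hαt, h1]
    have h3 := hcK _ h2
    rw [← map_mul] at h3
    obtain ⟨m, hm⟩ := (IsLocalization.map_eq_zero_iff (Submonoid.powers F₁) _ _).mp h3
    obtain ⟨_, t, rfl⟩ := m
    refine ⟨t + j, ?_⟩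
    simp only at hm
    have : algebraMap R S (f ^ (t + j)) * (c * s) =
        algebraMap R S (r₀ ^ t) * (F₁ ^ t * (c * (algebraMap R S (f ^ j) * s))) := by
      simp only [f, hF₁, map_pow, map_mul, pow_add, mul_pow]
      ring
    rw [this, hm, mul_zero]


end Groth.Agent.Lib.Helper10
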