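import Mathlib
import Groth.Prelude.Def_SheafNL
import Groth.Agent.Lib.Helper32.ModCxElem

/-!
# Quasi-isomorphism criterion for maps of two-term complexes of modules (helper10)

Elementwise criterion for `HomologicalComplex.mkHomFromDouble` between `double` complexes of
modules in degrees `-1, 0` to be a quasi-isomorphism; specialisation to `NLCx.bcMap`.
-/

set_option autoImplicit false
universe u
open CategoryTheory CategoryTheory.Limits HomologicalComplex TensorProduct

namespace Groth.Agent.Lib.Helper10.NLHens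

section double

variable {A : Type u} [CommRing A]

lemma relNegOne : (ComplexShape.up ℤ).Rel (-1) 0 := by simp

lemma neNegOne : (-1 : ℤ) ≠ 0 := by decide

variable {X₀ X₁ Y₀ Y₁ : ModuleCat.{u} A} (f : X₀ ⟶ X₁) (g : Y₀ ⟶ Y₁)
  (φ₀ : X₀ ⟶ Y₀) (φ₁ : X₁ ⟶ Y₁)

theorem quasiIso_mkHomFromDouble
    (comm' : (φ₀ ≫ (doubleXIso₀ g relNegOne).inv) ≫ (double g relNegOne).d (-1) 0 =
      f ≫ (φ₁ ≫ (doubleXIso₁ g relNegOne neNegOne).inv))
    (hφ' : ∀ (k : ℤ), (ComplexShape.up ℤ).Rel 0 k →
      (φ₁ ≫ (doubleXIso₁ g relNegOne neNegOne).inv) ≫ (double g relNegOne).d 0 k = 0)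
    (comm : ∀ x : X₀, g (φ₀ x) = φ₁ (f x))
    (ha : ∀ x : X₀, f x = 0 → φ₀ x = 0 → x = 0)
    (hb : ∀ y : Y₀, g y = 0 → ∃ x : X₀, f x = 0 ∧ φ₀ x = y)
    (hc : ∀ (x₁ : X₁) (w : Y₀), g w = φ₁ x₁ → ∃ w' : X₀, f w' = x₁)
    (hd : ∀ y₁ : Y₁, ∃ (x₁ : X₁) (w : Y₀), g w = y₁ - φ₁ x₁) :
    QuasiIso (mkHomFromDouble (K := double g relNegOne) relNegOne neNegOne
      (φ₀ ≫ (doubleXIso₀ g relNegOne).inv)
      (φ₁ ≫ (doubleXIso₁ g relNegOne neNegOne).inv) comm' hφ') := by
  set Φ := mkHomFromDouble (K := double g relNegOne) relNegOne neNegOne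
      (φ₀ ≫ (doubleXIso₀ g relNegOne).inv)
      (φ₁ ≫ (doubleXIso₁ g relNegOne neNegOne).inv) comm' hφ' with hΦ
  have hf0 : Φ.f (-1) = (doubleXIso₀ f relNegOne).hom ≫ φ₀ ≫ (doubleXIso₀ g relNegOne).inv :=
    mkHomFromDouble_f₀ _ _ _ _ _ _
  have hf1 : Φ.f 0 = (doubleXIso₁ f relNegOne neNegOne).hom ≫ φ₁ ≫
      (doubleXIso₁ g relNegOne neNegOne).inv :=
    mkHomFromDouble_f₁ _ _ _ _ _ _
  have hdK : (double f relNegOne).d (-1) 0 = (doubleXIso₀ f relNegOne).hom ≫ f ≫
      (doubleXIso₁ f relNegOne neNegOne).inv := double_d f relNegOne neNegOne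
  have hdL : (double g relNegOne).d (-1) 0 = (doubleXIso₀ g relNegOne).hom ≫ g ≫
      (doubleXIso₁ g relNegOne neNegOne).inv := double_d g relNegOne neNegOne
  have hKz : ∀ k : ℤ, k ≠ -1 → k ≠ 0 → Subsingleton ((double f relNegOne).X k) := fun k h0 h1 =>
    ModuleCat.subsingleton_of_isZero (isZero_double_X f relNegOne k h0 h1)
  have hLz : ∀ k : ℤ, k ≠ -1 → k ≠ 0 → Subsingleton ((double g relNegOne).X k) := fun k h0 h1 =>
    ModuleCat.subsingleton_of_isZero (isZero_double_X g relNegOne k h0 h1)
  refine ⟨fun q => ?_⟩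
  by_cases hq0 : q = -1
  · subst hq0
    refine Groth.Agent.Lib.Helper32.ModCxElem.quasiIsoAt_of_elementwise Φ (-1) ?_ ?_
    · intro z hz w hw
      have hz' : ((double f relNegOne).d (-1) 0) z = 0 := hz
      haveI := hLz (-1 - 1) (by decide) (by decide)
      have hw0 : w = 0 := Subsingleton.elim _ _
      rw [hw0, map_zero] at hw
      have hφz : (Φ.f (-1)) z = 0 := hw.symm
      refine ⟨0, ?_⟩
      rw [map_zero]
      symm
      set x : X₀ := (doubleXIso₀ f relNegOne).hom z with hx
      have hfx : f x = 0 := by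
        rw [hdK] at hz'
        have := congrArg (doubleXIso₁ f relNegOne neNegOne).hom hz'
        simpa using this
      have hφx : φ₀ x = 0 := by
        rw [hf0] at hφz
        have := congrArg (doubleXIso₀ g relNegOne).hom hφz
        simpa using this
      have hx0 := ha x hfx hφx
      have : (doubleXIso₀ f relNegOne).inv x = z := by simp [hx]
      rw [← this, hx0, map_zero]
    · intro z hz
      have hz' : ((double g relNegOne).d (-1) 0) z = 0 := hz
      set y : Y₀ := (doubleXIso₀ g relNegOne).hom z with hy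
      have hgy : g y = 0 := by
        rw [hdL] at hz'
        have := congrArg (doubleXIso₁ g relNegOne neNegOne).hom hz'
        simpa using this
      obtain ⟨x, hfx, hφx⟩ := hb y hgy
      refine ⟨(doubleXIso₀ f relNegOne).inv x, ?_, 0, ?_⟩
      · change ((double f relNegOne).d (-1) 0) _ = 0
        rw [hdK]
        simp [hfx]
      · rw [map_zero, hf0]
        simp [hφx, hy]
  · by_cases hq1 : q = 0
    · subst hq1
      refine Groth.Agent.Lib.Helper32.ModCxElem.quasiIsoAt_of_elementwise Φ 0 ?_ ?_
      · intro z hz w hw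
        have hw' : ((double g relNegOne).d (-1) 0) w = (Φ.f 0) z := hw
        set x₁ : X₁ := (doubleXIso₁ f relNegOne neNegOne).hom z with hx₁
        set w₀ : Y₀ := (doubleXIso₀ g relNegOne).hom w with hw₀
        have hgw : g w₀ = φ₁ x₁ := by
          rw [hdL, hf1] at hw'
          have := congrArg (doubleXIso₁ g relNegOne neNegOne).hom hw'
          simpa using this
        obtain ⟨w', hw'⟩ := hc x₁ w₀ hgw
        refine ⟨(doubleXIso₀ f relNegOne).inv w', ?_⟩
        change ((double f relNegOne).d (-1) 0) _ = z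
        rw [hdK]
        simp [hw', hx₁]
      · intro z hz
        set y₁ : Y₁ := (doubleXIso₁ g relNegOne neNegOne).hom z with hy₁
        obtain ⟨x₁, w, hw⟩ := hd y₁
        refine ⟨(doubleXIso₁ f relNegOne neNegOne).inv x₁, ?_, (doubleXIso₀ g relNegOne).inv w, ?_⟩
        · haveI := hKz (0 + 1) (by decide) (by decide)
          exact Subsingleton.elim _ _
        · change ((double g relNegOne).d (-1) 0) _ = _
          rw [hdL, hf1]
          simp [hw, hy₁]
    · refine Groth.Agent.Lib.Helper32.ModCxElem.quasiIsoAt_of_elementwise Φ q ?_ ?_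
      · intro z hz w hw
        haveI := hKz q hq0 hq1
        exact ⟨0, Subsingleton.elim _ _⟩
      · intro z hz
        haveI := hLz q hq0 hq1
        exact ⟨0, by simp, 0, Subsingleton.elim _ _⟩

end double

section bcMap

open Algebra

variable {R S R' S' : Type u} [CommRing R] [CommRing S] [CommRing R'] [CommRing S']
  [Algebra R S] [Algebra R' S'] [Algebra R R'] [Algebra S S'] [Algebra R S']
  [IsScalarTower R R' S'] [IsScalarTower R S S']
variable {P : Algebra.Extension.{u} R S} {P' : Algebra.Extension.{u} R' S'}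

lemma toKaehler_cotangentSpace_map (f : P.Hom P') (c : P.CotangentSpace) :
    P'.toKaehler (Algebra.Extension.CotangentSpace.map f c) =
      KaehlerDifferential.map R R' S S' (P.toKaehler c) := by
  induction c using TensorProduct.induction_on with
  | zero => simp
  | add a b ha hb => simp only [map_add, ha, hb]
  | tmul a ω =>
    obtain ⟨ω, rfl⟩ : ∃ l : P.Ring →₀ P.Ring, Finsupp.linearCombination P.Ring (KaehlerDifferential.D R P.Ring) l = ω := by
      have := KaehlerDifferential.span_range_derivation R P.Ring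
      have h : ω ∈ Submodule.span P.Ring (Set.range (KaehlerDifferential.D R P.Ring)) := by
        rw [this]; trivial
      rw [← Finsupp.range_linearCombination] at h
      exact h
    induction ω using Finsupp.induction_linear with
    | zero => simp
    | add x y hx hy => simp only [map_add, TensorProduct.tmul_add, hx, hy]
    | single p q =>
      simp only [Finsupp.linearCombination_single]
      rw [TensorProduct.tmul_smul, TensorProduct.smul_tmul', Algebra.Extension.CotangentSpace.map_tmul]
      simp only [Algebra.Extension.toKaehler, KaehlerDifferential.mapBaseChange_tmul,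
        KaehlerDifferential.map_D, map_smul, Algebra.Extension.Hom.toAlgHom_apply,
        Algebra.Extension.Hom.algebraMap_toRingHom]
      rw [algebraMap_smul]

lemma toKaehler_liftBaseChange (f : P.Hom P') (x : S' ⊗[S] P.CotangentSpace) :
    P'.toKaehler (LinearMap.liftBaseChange S' (Algebra.Extension.CotangentSpace.map f) x) =
      NLCx.bcH0Map R S R' S' (P.toKaehler.baseChange S' x) := by
  induction x using TensorProduct.induction_on with
  | zero => simp
  | add a b ha hb => simp only [map_add, ha, hb]
  | tmul s c =>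
    simp only [LinearMap.liftBaseChange_tmul, LinearMap.baseChange_tmul, NLCx.bcH0Map, map_smul]
    rw [toKaehler_cotangentSpace_map]

lemma comm_liftBaseChange (f : P.Hom P') (x : S' ⊗[S] P.Cotangent) :
    P'.cotangentComplex (LinearMap.liftBaseChange S' (Algebra.Extension.Cotangent.map f) x) =
      LinearMap.liftBaseChange S' (Algebra.Extension.CotangentSpace.map f)
        (P.cotangentComplex.baseChange S' x) := by
  induction x using TensorProduct.induction_on with
  | zero => simp
  | tmul s m =>
    simp only [LinearMap.liftBaseChange_tmul, LinearMap.baseChange_tmul, map_smul]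
    rw [Algebra.Extension.CotangentSpace.map_cotangentComplex]
  | add a b ha hb =>
    simp only [map_add]
    rw [← ha, ← hb]

/-- `bcMap f` is a quasi-isomorphism as soon as it is bijective on `H^{-1}` and `H^0`. -/
theorem quasiIso_bcMap (f : P.Hom P') (h1 : Function.Bijective (NLCx.bcH1Map f))
    (h0 : Function.Bijective (NLCx.bcH0Map R S R' S')) : QuasiIso (NLCx.bcMap f) := by
  unfold NLCx.bcMap
  refine quasiIso_mkHomFromDouble (ModuleCat.ofHom (P.cotangentComplex.baseChange S'))
    (ModuleCat.ofHom P'.cotangentComplex)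
    (ModuleCat.ofHom (LinearMap.liftBaseChange S' (Algebra.Extension.Cotangent.map f)))
    (ModuleCat.ofHom (LinearMap.liftBaseChange S' (Algebra.Extension.CotangentSpace.map f)))
    _ _ ?_ ?_ ?_ ?_ ?_
  · intro x
    exact comm_liftBaseChange f x
  · intro x hx hφ
    have hx' : x ∈ NLCx.bcH1 P S' := hx
    have : NLCx.bcH1Map f ⟨x, hx'⟩ = 0 := by
      apply Subtype.ext
      exact hφ
    have h := h1.1 (this.trans (map_zero _).symm)
    exact congrArg Subtype.val h
  · intro y hy
    have hy' : y ∈ LinearMap.ker P'.cotangentComplex := hy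
    obtain ⟨x, hx⟩ := h1.2 ⟨y, hy'⟩
    exact ⟨x.1, x.2, congrArg Subtype.val hx⟩
  · intro x₁ w hw
    have hw' : P'.cotangentComplex w =
      LinearMap.liftBaseChange S' (Algebra.Extension.CotangentSpace.map f) x₁ := hw
    have h2 : P'.toKaehler (LinearMap.liftBaseChange S' (Algebra.Extension.CotangentSpace.map f) x₁) = 0 := by
      rw [← hw']
      exact (P'.exact_cotangentComplex_toKaehler _).mpr ⟨w, rfl⟩
    rw [toKaehler_liftBaseChange] at h2
    have h3 : P.toKaehler.baseChange S' x₁ = 0 := h0.1 (h2.trans (map_zero _).symm)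
    have hex : Function.Exact (P.cotangentComplex.baseChange S') (P.toKaehler.baseChange S') := by
      rw [LinearMap.baseChange_eq_ltensor, LinearMap.baseChange_eq_ltensor]
      exact lTensor_exact S' P.exact_cotangentComplex_toKaehler P.toKaehler_surjective
    obtain ⟨w', hw'⟩ := (hex x₁).mp h3
    exact ⟨w', hw'⟩
  · intro y₁
    obtain ⟨u, hu⟩ := h0.2 (P'.toKaehler y₁)
    have hsurj : Function.Surjective (P.toKaehler.baseChange S') := by
      rw [LinearMap.baseChange_eq_ltensor]
      exact LinearMap.lTensor_surjective S' P.toKaehler_surjective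
    obtain ⟨x₁, rfl⟩ := hsurj u
    have h2 : P'.toKaehler (y₁ - LinearMap.liftBaseChange S'
        (Algebra.Extension.CotangentSpace.map f) x₁) = 0 := by
      rw [map_sub, toKaehler_liftBaseChange, hu, sub_self]
    obtain ⟨w, hw⟩ := (P'.exact_cotangentComplex_toKaehler _).mp h2
    exact ⟨x₁, w, hw⟩

end bcMap

end Groth.Agent.Lib.Helper10.NLHens
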