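import Mathlib

/-!
# Injectivity of `T ⊗_S I/I² → J/J²` from a flat square-zero lift (helper10)

`P : R[X] → S` with kernel `I`, `Q : S[Y] → T`, `Q.comp P : R[X,Y] → T` with kernel `J`.  If there is a
ring `W` with maps `R[X] → W → T` such that `W → T` is surjective with square-zero kernel and `W` is
"flat along `I`" (relations `∑ i_k w_k = 0`, `i_k ∈ I`, are trivial modulo `I²`), then
`T ⊗_S I/I² → J/J²` is injective.
-/

set_option autoImplicit false
universe u
open TensorProduct Algebra MvPolynomial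

namespace Groth.Agent.Lib.Helper10.NLHens

section Ext

variable {R S : Type u} [CommRing R] [CommRing S] [Algebra R S] (E : Extension.{u} R S)

lemma mk_sum_mul {κ : Type} [Fintype κ] (r : κ → E.Ring) (x : κ → E.ker)
    (h : ∑ k, r k * (x k).1 ∈ E.ker) :
    Extension.Cotangent.mk ⟨∑ k, r k * (x k).1, h⟩ = ∑ k, r k • Extension.Cotangent.mk (x k) := by
  have : (⟨∑ k, r k * (x k).1, h⟩ : E.ker) = ∑ k, r k • x k :=
    Subtype.ext (by rw [AddSubmonoidClass.coe_finset_sum]; rfl)
  rw [this, map_sum]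
  simp only [map_smul]

variable {T : Type u} [CommRing T] [Algebra S T]

/-- every element of `T ⊗ I/I²` is a finite sum of pure tensors `t ⊗ [i]`. -/
lemma exists_sum_tmul_mk (x : T ⊗[S] E.Cotangent) :
    ∃ (κ : Type) (_ : Fintype κ) (t : κ → T) (i : κ → E.ker),
      x = ∑ k, t k ⊗ₜ[S] Extension.Cotangent.mk (i k) := by
  induction x using TensorProduct.induction_on with
  | zero => exact ⟨PEmpty, inferInstance, PEmpty.elim, PEmpty.elim, by simp⟩
  | tmul t m =>
    obtain ⟨i, rfl⟩ := Extension.Cotangent.mk_surjective m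
    exact ⟨Unit, inferInstance, fun _ => t, fun _ => i, by simp⟩
  | add x y hx hy =>
    obtain ⟨κ₁, _, t₁, i₁, rfl⟩ := hx
    obtain ⟨κ₂, _, t₂, i₂, rfl⟩ := hy
    refine ⟨κ₁ ⊕ κ₂, inferInstance, Sum.elim t₁ t₂, Sum.elim i₁ i₂, ?_⟩
    rw [Fintype.sum_sum_type]
    simp

end Ext

section Lift

variable {R S T : Type u} [CommRing R] [CommRing S] [CommRing T] [Algebra R S] [Algebra S T]
  [Algebra R T] [IsScalarTower R S T]
variable {ι σ : Type u} (Q : Generators S T ι) (P : Generators R S σ)
variable {W : Type u} [CommRing W] (ιW : P.Ring →+* W) (π : W →+* T)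

/-- the ring map `R[X,Y] → W` lifting `R[X,Y] → T`. -/
noncomputable def liftHom (hπ : Function.Surjective π) : (Q.comp P).Ring →+* W :=
  MvPolynomial.eval₂Hom (ιW.comp MvPolynomial.C)
    (Sum.elim (Function.surjInv hπ ∘ Q.val) (fun s => ιW (MvPolynomial.X s)))

lemma liftHom_toComp (hπ : Function.Surjective π) (p : P.Ring) :
    liftHom Q P ιW π hπ ((Q.toComp P).toAlgHom p) = ιW p := by
  rw [Generators.toComp_toAlgHom]
  have : (liftHom Q P ιW π hπ).comp (MvPolynomial.rename Sum.inr : P.Ring →ₐ[R] _).toRingHom = ιW := by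
    apply MvPolynomial.ringHom_ext
    · intro r
      simp [liftHom]
    · intro s
      simp [liftHom]
  exact DFunLike.congr_fun this p

lemma pi_liftHom (hπ : Function.Surjective π)
    (hπι : ∀ p, π (ιW p) = algebraMap S T (algebraMap P.Ring S p)) (q : (Q.comp P).Ring) :
    π (liftHom Q P ιW π hπ q) = algebraMap (Q.comp P).Ring T q := by
  have : π.comp (liftHom Q P ιW π hπ) = algebraMap (Q.comp P).Ring T := by
    apply MvPolynomial.ringHom_ext
    · intro r
      simp only [liftHom, RingHom.comp_apply, MvPolynomial.coe_eval₂Hom, MvPolynomial.eval₂_C]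
      rw [hπι, Generators.algebraMap_apply, Generators.algebraMap_apply, MvPolynomial.aeval_C,
        MvPolynomial.aeval_C, ← IsScalarTower.algebraMap_apply]
    · intro s
      simp only [liftHom, RingHom.comp_apply, MvPolynomial.coe_eval₂Hom, MvPolynomial.eval₂_X]
      rw [Generators.algebraMap_apply, MvPolynomial.aeval_X]
      cases s with
      | inl j =>
        simp only [Sum.elim_inl, Function.comp_apply, Generators.comp_val]
        exact Function.surjInv_eq hπ _
      | inr s =>
        simp only [Sum.elim_inr, Generators.comp_val, Function.comp_apply]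
        rw [hπι, Generators.algebraMap_apply, MvPolynomial.aeval_X]
  exact DFunLike.congr_fun this q

/-- `liftHom` on the ring of the extension. -/
noncomputable def liftHom' (ιW : P.toExtension.Ring →+* W) (hπ : Function.Surjective π) :
    (Q.comp P).toExtension.Ring →+* W :=
  liftHom Q P ιW π hπ

lemma liftHom'_toComp (ιW : P.toExtension.Ring →+* W) (hπ : Function.Surjective π)
    (p : P.toExtension.Ring) :
    liftHom' Q P π ιW hπ ((Q.toComp P).toExtensionHom.toRingHom p) = ιW p :=
  liftHom_toComp Q P ιW π hπ p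

lemma pi_liftHom' (ιW : P.toExtension.Ring →+* W) (hπ : Function.Surjective π)
    (hπι : ∀ p, π (ιW p) = algebraMap S T (algebraMap P.toExtension.Ring S p))
    (q : (Q.comp P).toExtension.Ring) :
    π (liftHom' Q P π ιW hπ q) = algebraMap (Q.comp P).toExtension.Ring T q :=
  pi_liftHom Q P ιW π hπ hπι q

theorem injective_liftBaseChange_toComp_of_lift (ιW : P.toExtension.Ring →+* W)
    (hπ : Function.Surjective π)
    (hπι : ∀ p, π (ιW p) = algebraMap S T (algebraMap P.toExtension.Ring S p))
    (hsq : ∀ x ∈ RingHom.ker π, ∀ y ∈ RingHom.ker π, x * y = 0)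
    (hF : ∀ (κ : Type) [Fintype κ] (i : κ → P.toExtension.Ring), (∀ k, i k ∈ P.toExtension.ker) →
      ∀ (w : κ → W), ∑ k, ιW (i k) * w k = 0 →
        ∃ (m : ℕ) (a : κ → Fin m → P.toExtension.Ring) (y : Fin m → W),
          (∀ k, w k = ∑ j, ιW (a k j) * y j) ∧ ∀ j, ∑ k, a k j * i k ∈ P.toExtension.ker ^ 2) :
    Function.Injective
      ((Extension.Cotangent.map (Q.toComp P).toExtensionHom).liftBaseChange T) := by
  rw [injective_iff_map_eq_zero]
  intro x hx
  obtain ⟨κ, _, t, i, rfl⟩ := exists_sum_tmul_mk P.toExtension x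
  -- lifts of the `t k`
  have hsurj : Function.Surjective (algebraMap (Q.comp P).toExtension.Ring T) :=
    (Q.comp P).toExtension.algebraMap_surjective
  choose q hq using fun k => hsurj (t k)
  -- the element of `J` representing the image
  have hmemJ : ∀ k, (Q.toComp P).toExtensionHom.toAlgHom (i k).1 ∈ (Q.comp P).toExtension.ker := by
    intro k
    have := (Q.toComp P).toExtensionHom.algebraMap_toRingHom (i k).1
    rw [Extension.ker, RingHom.mem_ker]
    have h2 : algebraMap P.toExtension.Ring S (i k).1 = 0 := (i k).2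
    change algebraMap _ T ((Q.toComp P).toExtensionHom.toRingHom (i k).1) = 0
    rw [this, h2, map_zero]
  have hzmem : ∑ k, q k * (⟨(Q.toComp P).toExtensionHom.toAlgHom (i k).1, hmemJ k⟩ :
      (Q.comp P).toExtension.ker).1 ∈ (Q.comp P).toExtension.ker :=
    Ideal.sum_mem _ fun k _ => Ideal.mul_mem_left _ _ (hmemJ k)
  have hz : ((Extension.Cotangent.map (Q.toComp P).toExtensionHom).liftBaseChange T)
      (∑ k, t k ⊗ₜ[S] Extension.Cotangent.mk (i k)) =
      Extension.Cotangent.mk ⟨∑ k, q k * (⟨(Q.toComp P).toExtensionHom.toAlgHom (i k).1, hmemJ k⟩ :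
        (Q.comp P).toExtension.ker).1, hzmem⟩ := by
    rw [map_sum, mk_sum_mul (Q.comp P).toExtension q
      (fun k => ⟨(Q.toComp P).toExtensionHom.toAlgHom (i k).1, hmemJ k⟩) hzmem]
    refine Finset.sum_congr rfl fun k _ => ?_
    rw [LinearMap.liftBaseChange_tmul, Extension.Cotangent.map_mk, ← hq k, algebraMap_smul]
  rw [hz, Extension.Cotangent.mk_eq_zero_iff] at hx
  -- apply ψ
  have hψJ : ∀ j ∈ (Q.comp P).toExtension.ker, liftHom' Q P π ιW hπ j ∈ RingHom.ker π := by
    intro j hj
    rw [RingHom.mem_ker, pi_liftHom' Q P π ιW hπ hπι]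
    exact hj
  have hψJ2 : ∀ j ∈ (Q.comp P).toExtension.ker ^ 2, liftHom' Q P π ιW hπ j = 0 := by
    intro j hj
    rw [pow_two] at hj
    induction hj using Submodule.mul_induction_on' with
    | mem_mul_mem a ha b hb =>
      rw [map_mul]
      exact hsq _ (hψJ a ha) _ (hψJ b hb)
    | add a _ b _ ha hb =>
      rw [map_add, ha, hb, add_zero]
  have h0 := hψJ2 _ hx
  have h0' : ∑ k, ιW (i k).1 * liftHom' Q P π ιW hπ (q k) = 0 := by
    rw [← h0]
    change _ = liftHom' Q P π ιW hπ (∑ k, q k * (Q.toComp P).toExtensionHom.toRingHom (i k).1)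
    rw [map_sum]
    refine Finset.sum_congr rfl fun k _ => ?_
    rw [map_mul, mul_comm, liftHom'_toComp]
  obtain ⟨m, a, y, hw, hrel⟩ := hF κ (fun k => (i k).1) (fun k => (i k).2)
    (fun k => liftHom' Q P π ιW hπ (q k)) h0'
  -- rewrite the `t k`
  have ht : ∀ k, t k = ∑ j, algebraMap S T (algebraMap P.toExtension.Ring S (a k j)) * π (y j) := by
    intro k
    rw [← hq k, ← pi_liftHom' Q P π ιW hπ hπι, hw k, map_sum]
    refine Finset.sum_congr rfl fun j _ => ?_
    rw [map_mul, hπι]
  have hmem2 : ∀ j, ∑ k, a k j * (i k).1 ∈ P.toExtension.ker := fun j =>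
    Ideal.sum_mem _ fun k _ => Ideal.mul_mem_left _ _ (i k).2
  have : ∑ k, t k ⊗ₜ[S] Extension.Cotangent.mk (i k) =
      ∑ j, π (y j) ⊗ₜ[S] (Extension.Cotangent.mk (P := P.toExtension)
        ⟨∑ k, a k j * (i k).1, hmem2 j⟩) := by
    calc ∑ k, t k ⊗ₜ[S] Extension.Cotangent.mk (i k)
        = ∑ k, ∑ j, π (y j) ⊗ₜ[S] (a k j • Extension.Cotangent.mk (P := P.toExtension) (i k)) := by
          refine Finset.sum_congr rfl fun k _ => ?_
          rw [ht k, TensorProduct.sum_tmul]
          refine Finset.sum_congr rfl fun j _ => ?_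
          rw [← Algebra.smul_def, TensorProduct.smul_tmul, algebraMap_smul]
      _ = ∑ j, ∑ k, π (y j) ⊗ₜ[S] (a k j • Extension.Cotangent.mk (P := P.toExtension) (i k)) :=
          Finset.sum_comm
      _ = _ := by
          refine Finset.sum_congr rfl fun j _ => ?_
          rw [mk_sum_mul P.toExtension (fun k => a k j) i (hmem2 j), TensorProduct.tmul_sum]
  rw [this]
  refine Finset.sum_eq_zero fun j _ => ?_
  have hzero : Extension.Cotangent.mk (P := P.toExtension) ⟨∑ k, a k j * (i k).1, hmem2 j⟩ = 0 := by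
    rw [Extension.Cotangent.mk_eq_zero_iff]
    exact hrel j
  rw [hzero, TensorProduct.tmul_zero]

end Lift

end Groth.Agent.Lib.Helper10.NLHens
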