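import Mathlib
import Groth.Agent.Lib.Helper10.NLHensLift

/-!
# Injectivity of `T ⊗_S I/I² → J/J²` from a flat lift of `T` over `R[X]/I²` (helper10)
-/

set_option autoImplicit false
universe u
open TensorProduct Algebra MvPolynomial

namespace Groth.Agent.Lib.Helper10.NLHens

section Flat

variable {R S T : Type u} [CommRing R] [CommRing S] [CommRing T] [Algebra R S] [Algebra S T]
  [Algebra R T] [IsScalarTower R S T]
variable {ι σ : Type u} (Q : Generators S T ι) (P : Generators R S σ)
variable {W : Type u} [CommRing W] [Algebra (P.toExtension.Ring ⧸ P.toExtension.ker ^ 2) W]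
  [Module.Flat (P.toExtension.Ring ⧸ P.toExtension.ker ^ 2) W]

theorem injective_liftBaseChange_toComp_of_flat_lift (π : W →+* T) (hπ : Function.Surjective π)
    (hπι : ∀ p : P.toExtension.Ring,
      π (algebraMap (P.toExtension.Ring ⧸ P.toExtension.ker ^ 2) W
        (Ideal.Quotient.mk (P.toExtension.ker ^ 2) p)) =
      algebraMap S T (algebraMap P.toExtension.Ring S p))
    (hker : RingHom.ker π ≤ ((P.toExtension.ker.map
      (Ideal.Quotient.mk (P.toExtension.ker ^ 2))).map
        (algebraMap (P.toExtension.Ring ⧸ P.toExtension.ker ^ 2) W))) :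
    Function.Injective
      ((Extension.Cotangent.map (Q.toComp P).toExtensionHom).liftBaseChange T) := by
  refine injective_liftBaseChange_toComp_of_lift Q P π
    ((algebraMap (P.toExtension.Ring ⧸ P.toExtension.ker ^ 2) W).comp (Ideal.Quotient.mk (P.toExtension.ker ^ 2))) hπ (fun p => hπι p) ?_ ?_
  · intro x hx y hy
    have hx' := hker hx
    have hy' := hker hy
    have hxy : x * y ∈ ((P.toExtension.ker.map (Ideal.Quotient.mk (P.toExtension.ker ^ 2))).map (algebraMap (P.toExtension.Ring ⧸ P.toExtension.ker ^ 2) W)) ^ 2 := by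
      rw [pow_two]
      exact Ideal.mul_mem_mul hx' hy'
    rw [← Ideal.map_pow, ← Ideal.map_pow, Ideal.map_quotient_self, Ideal.map_bot] at hxy
    exact hxy
  · intro κ _ i hi w hw
    have hw' : ∑ k, (Ideal.Quotient.mk (P.toExtension.ker ^ 2) (i k)) • w k = 0 := by
      rw [← hw]
      refine Finset.sum_congr rfl fun k _ => ?_
      rw [Algebra.smul_def]
      rfl
    obtain ⟨m, a', y, hy, hrel⟩ := Module.Flat.isTrivialRelation_of_sum_smul_eq_zero
      (R := (P.toExtension.Ring ⧸ P.toExtension.ker ^ 2)) (M := W)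
      (f := fun k => Ideal.Quotient.mk (P.toExtension.ker ^ 2) (i k)) (x := w) hw'
    choose a ha using fun k j => Ideal.Quotient.mk_surjective (a' k j)
    refine ⟨m, a, y, ?_, ?_⟩
    · intro k
      rw [hy k]
      refine Finset.sum_congr rfl fun j _ => ?_
      rw [Algebra.smul_def, ← ha k j]
      rfl
    · intro j
      rw [← Ideal.Quotient.eq_zero_iff_mem, map_sum, ← hrel j]
      refine Finset.sum_congr rfl fun k _ => ?_
      rw [map_mul, ha k j, mul_comm]

end Flat

end Groth.Agent.Lib.Helper10.NLHens
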