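import Mathlib
import Groth.Prelude.Def_SheafNL
import Groth.Agent.Lib.Helper35.BcH1

/-!
# Jacobi–Zariski chases for formally étale maps (helper10)
-/

set_option autoImplicit false
universe u
open TensorProduct Algebra

namespace Groth.Agent.Lib.Helper10.NLHens

section JZ1

variable {R S T : Type u} [CommRing R] [CommRing S] [CommRing T] [Algebra R S] [Algebra S T]
  [Algebra R T] [IsScalarTower R S T]
variable {ι σ : Type u} (Q : Generators S T ι) (P : Generators R S σ)

/-- If `H¹(L_Q) = 0` and `T ⊗ I/I² → J/J²` is injective, then
`H^{-1}(NL(P) ⊗_S T) → H^{-1}(NL(Q.comp P))` is bijective. -/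
theorem bijective_bcH1Map_toComp (hQ : Function.Injective Q.toExtension.cotangentComplex)
    (hinj : Function.Injective
      ((Extension.Cotangent.map (Q.toComp P).toExtensionHom).liftBaseChange T)) :
    Function.Bijective (NLCx.bcH1Map (S' := T) (Q.toComp P).toExtensionHom) := by
  constructor
  · rw [injective_iff_map_eq_zero]
    intro x hx
    have h1 : LinearMap.liftBaseChange T (Extension.Cotangent.map (Q.toComp P).toExtensionHom) x.1
        = 0 := congrArg Subtype.val hx
    have h2 : x.1 = 0 := hinj (h1.trans (map_zero _).symm)
    exact Subtype.ext h2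
  · intro y
    have hy : (Q.comp P).toExtension.cotangentComplex y.1 = 0 := y.2
    have h1 : Q.toExtension.cotangentComplex
        (Extension.Cotangent.map (Q.ofComp P).toExtensionHom y.1) = 0 := by
      rw [← Extension.CotangentSpace.map_cotangentComplex, hy, map_zero]
    have h2 : Extension.Cotangent.map (Q.ofComp P).toExtensionHom y.1 = 0 :=
      hQ (h1.trans (map_zero _).symm)
    obtain ⟨v, hv⟩ := (Generators.Cotangent.exact Q P y.1).mp h2
    have h3 := congrArg (fun φ => φ v) (Generators.H1Cotangent.map_comp_cotangentComplex_baseChange Q P)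
    simp only [LinearMap.coe_comp, Function.comp_apply] at h3
    rw [hv, hy] at h3
    have h4 : P.toExtension.cotangentComplex.baseChange T v = 0 :=
      Generators.CotangentSpace.map_toComp_injective Q P (h3.trans (map_zero _).symm)
    refine ⟨⟨v, h4⟩, Subtype.ext ?_⟩
    exact hv

end JZ1

section JZ2

variable {R R' T : Type u} [CommRing R] [CommRing R'] [CommRing T] [Algebra R R'] [Algebra R' T]
  [Algebra R T] [IsScalarTower R R' T]
variable {ι σ : Type u} (Q : Generators R' T ι) (P : Generators R R' σ)

/-- If the differential of `NL(P)` is bijective (e.g. `R → R'` formally étale), then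
`H¹(L_{Q.comp P}) → H¹(L_Q)` is bijective. -/
theorem bijective_h1Cotangent_map_ofComp (hP : Function.Bijective P.toExtension.cotangentComplex) :
    Function.Bijective (Extension.H1Cotangent.map (Q.ofComp P).toExtensionHom) := by
  have hPT : Function.Bijective (P.toExtension.cotangentComplex.baseChange T) := by
    have := (LinearEquiv.lTensor T (LinearEquiv.ofBijective _ hP)).bijective
    rw [LinearMap.baseChange_eq_ltensor]
    exact this
  have hcomm : ∀ v : T ⊗[R'] P.toExtension.Cotangent,
      (Q.comp P).toExtension.cotangentComplex
        ((Extension.Cotangent.map (Q.toComp P).toExtensionHom).liftBaseChange T v) =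
      (Extension.CotangentSpace.map (Q.toComp P).toExtensionHom).liftBaseChange T
        (P.toExtension.cotangentComplex.baseChange T v) := fun v => by
    have h3 := congrArg (fun φ => φ v)
      (Generators.H1Cotangent.map_comp_cotangentComplex_baseChange Q P)
    simp only [LinearMap.coe_comp, Function.comp_apply] at h3
    exact h3.symm
  constructor
  · rw [injective_iff_map_eq_zero]
    intro x hx
    have hx1 : (Q.comp P).toExtension.cotangentComplex x.1 = 0 := x.2
    have h2 : Extension.Cotangent.map (Q.ofComp P).toExtensionHom x.1 = 0 :=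
      congrArg Subtype.val hx
    obtain ⟨v, hv⟩ := (Generators.Cotangent.exact Q P x.1).mp h2
    have h3 := hcomm v
    rw [hv, hx1] at h3
    have h4 : P.toExtension.cotangentComplex.baseChange T v = 0 :=
      Generators.CotangentSpace.map_toComp_injective Q P (h3.symm.trans (map_zero _).symm)
    have h5 : v = 0 := hPT.1 (h4.trans (map_zero _).symm)
    apply Subtype.ext
    rw [← hv, h5, map_zero]
    rfl
  · intro w
    have hw : Q.toExtension.cotangentComplex w.1 = 0 := w.2
    obtain ⟨w', hw'⟩ := Generators.Cotangent.surjective_map_ofComp Q P w.1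
    have h1 : Extension.CotangentSpace.map (Q.ofComp P).toExtensionHom
        ((Q.comp P).toExtension.cotangentComplex w') = 0 := by
      rw [Extension.CotangentSpace.map_cotangentComplex, hw', hw]
    obtain ⟨u, hu⟩ := (Generators.CotangentSpace.exact Q P _).mp h1
    obtain ⟨v, rfl⟩ := hPT.2 u
    set L := (Extension.Cotangent.map (Q.toComp P).toExtensionHom).liftBaseChange T with hL
    have h2 : (Q.comp P).toExtension.cotangentComplex (w' - L v) = 0 := by
      rw [map_sub, hcomm v, hu, sub_self]
    have h3 : Extension.Cotangent.map (Q.ofComp P).toExtensionHom (L v) = 0 :=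
      (Generators.Cotangent.exact Q P (L v)).mpr ⟨v, rfl⟩
    refine ⟨⟨w' - L v, h2⟩, Subtype.ext ?_⟩
    change Extension.Cotangent.map (Q.ofComp P).toExtensionHom (w' - L v) = w.1
    rw [map_sub, h3, sub_zero, hw']

end JZ2

end Groth.Agent.Lib.Helper10.NLHens
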