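import Mathlib
import Groth.Prelude.Def_SheafNL
import Groth.Agent.Lib.Helper35.BcH1
import Groth.Agent.Lib.Helper10.NLHensCx
import Groth.Agent.Lib.Helper10.NLHensJZ

/-!
# `NL_{S/R} ⊗_S T → NL_{T/R'}` for formally étale `R → R'`, `S → T` (helper10)
-/

set_option autoImplicit false
universe u
open TensorProduct Algebra

namespace Groth.Agent.Lib.Helper10.NLHens

section FE

variable (R S : Type u) [CommRing R] [CommRing S] [Algebra R S]

theorem bijective_cotangentComplex_self_of_formallyEtale [Algebra.FormallyEtale R S] :
    Function.Bijective (Generators.self R S).toExtension.cotangentComplex := by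
  constructor
  · haveI : Subsingleton (LinearMap.ker (Generators.self R S).toExtension.cotangentComplex) :=
      (inferInstance : Subsingleton (Algebra.H1Cotangent R S))
    exact LinearMap.ker_eq_bot.mp (Submodule.eq_bot_of_subsingleton)
  · intro y
    exact ((Generators.self R S).toExtension.exact_cotangentComplex_toKaehler y).mp
      (Subsingleton.elim _ _)

end FE

section H0

variable (R S R' T : Type u) [CommRing R] [CommRing S] [CommRing R'] [CommRing T]
  [Algebra R S] [Algebra R' T] [Algebra R R'] [Algebra S T] [Algebra R T]
  [IsScalarTower R R' T] [IsScalarTower R S T]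

lemma kaehler_map_map (ω : Ω[S⁄R]) :
    KaehlerDifferential.map R R' S T ω =
      KaehlerDifferential.map R R' T T (KaehlerDifferential.map R R S T ω) := by
  have h : ω ∈ Submodule.span S (Set.range (KaehlerDifferential.D R S)) := by
    rw [KaehlerDifferential.span_range_derivation]; trivial
  induction h using Submodule.span_induction with
  | mem x hx =>
    obtain ⟨s, rfl⟩ := hx
    simp
  | zero => simp
  | add x y _ _ hx hy => simp only [map_add, hx, hy]
  | smul a x _ hx =>
    rw [map_smul, map_smul, hx, ← algebraMap_smul T a ((KaehlerDifferential.map R R S T) x),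
      map_smul, algebraMap_smul]

lemma bcH0Map_eq (x : T ⊗[S] Ω[S⁄R]) :
    NLCx.bcH0Map R S R' T x =
      KaehlerDifferential.map R R' T T (KaehlerDifferential.mapBaseChange R S T x) := by
  induction x using TensorProduct.induction_on with
  | zero => simp
  | add a b ha hb => simp only [map_add, ha, hb]
  | tmul t ω =>
    simp only [NLCx.bcH0Map, LinearMap.liftBaseChange_tmul, KaehlerDifferential.mapBaseChange_tmul,
      map_smul]
    rw [kaehler_map_map R S R' T ω]

theorem bijective_bcH0Map [Algebra.FormallyEtale R R'] [Algebra.FormallyEtale S T] :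
    Function.Bijective (NLCx.bcH0Map R S R' T) := by
  have h1 : Function.Bijective (KaehlerDifferential.mapBaseChange R S T) :=
    (KaehlerDifferential.tensorKaehlerEquivOfFormallyEtale R S T).bijective
  have h2 : Function.Bijective (KaehlerDifferential.map R R' T T) := by
    refine ⟨?_, KaehlerDifferential.map_surjective R R' T⟩
    rw [injective_iff_map_eq_zero]
    intro x hx
    obtain ⟨y, rfl⟩ := (KaehlerDifferential.exact_mapBaseChange_map R R' T x).mp hx
    haveI : Subsingleton (T ⊗[R'] Ω[R'⁄R]) := by
      refine ⟨fun a b => ?_⟩
      have h0 : ∀ a : T ⊗[R'] Ω[R'⁄R], a = 0 := by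
        intro a
        induction a using TensorProduct.induction_on with
        | zero => rfl
        | add a b ha hb => rw [ha, hb, add_zero]
        | tmul t ω => rw [Subsingleton.elim ω 0, TensorProduct.tmul_zero]
      rw [h0 a, h0 b]
    rw [Subsingleton.elim y 0, map_zero]
  have : (NLCx.bcH0Map R S R' T : T ⊗[S] Ω[S⁄R] → Ω[T⁄R']) =
      (KaehlerDifferential.map R R' T T) ∘ (KaehlerDifferential.mapBaseChange R S T) := by
    funext x
    exact bcH0Map_eq R S R' T x
  rw [this]
  exact h2.comp h1

end H0

section H1

variable (R S R' T : Type u) [CommRing R] [CommRing S] [CommRing R'] [CommRing T]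
  [Algebra R S] [Algebra R' T] [Algebra R R'] [Algebra S T] [Algebra R T]
  [IsScalarTower R R' T] [IsScalarTower R S T]

theorem bijective_bcH1Map_self [Algebra.FormallyEtale R R'] [Algebra.FormallyEtale S T]
    (hinj : Function.Injective ((Extension.Cotangent.map
      ((Generators.self S T).toComp (Generators.self R S)).toExtensionHom).liftBaseChange T)) :
    Function.Bijective (NLCx.bcH1Map (S' := T)
      ((Generators.self R S).defaultHom (Generators.self R' T)).toExtensionHom) := by
  let P := Generators.self R S
  let Q := Generators.self S T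
  let Pe := Generators.self R R'
  let Q' := Generators.self R' T
  let a : P.toExtension.Hom (Q.comp P).toExtension := (Q.toComp P).toExtensionHom
  let b : (Q.comp P).toExtension.Hom (Q'.comp Pe).toExtension :=
    ((Q.comp P).defaultHom (Q'.comp Pe)).toExtensionHom
  let b' : (Q'.comp Pe).toExtension.Hom (Q.comp P).toExtension :=
    ((Q'.comp Pe).defaultHom (Q.comp P)).toExtensionHom
  let c : (Q'.comp Pe).toExtension.Hom Q'.toExtension := (Q'.ofComp Pe).toExtensionHom
  let g : P.toExtension.Hom Q'.toExtension := c.comp (b.comp a)
  rw [Groth.Agent.Lib.Helper35.BcH1.bcH1Map_eq _ g]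
  have hL : ∀ x : T ⊗[S] P.toExtension.Cotangent,
      LinearMap.liftBaseChange T (Extension.Cotangent.map g) x =
        Extension.Cotangent.map c (Extension.Cotangent.map b
          (LinearMap.liftBaseChange T (Extension.Cotangent.map a) x)) := by
    intro x
    induction x using TensorProduct.induction_on with
    | zero => simp
    | add x y hx hy => simp only [map_add, hx, hy]
    | tmul t m =>
      simp only [LinearMap.liftBaseChange_tmul, map_smul]
      rw [Extension.Cotangent.map_comp, Extension.Cotangent.map_comp]
      rfl
  have hfun : (NLCx.bcH1Map (S' := T) g : NLCx.bcH1 P.toExtension T → Q'.toExtension.H1Cotangent) =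
      (Extension.H1Cotangent.map c) ∘ (Extension.H1Cotangent.map b) ∘
        (NLCx.bcH1Map (S' := T) a) := by
    funext x
    apply Subtype.ext
    exact hL x.1
  rw [hfun]
  have ha : Function.Bijective (NLCx.bcH1Map (S' := T) a) :=
    bijective_bcH1Map_toComp Q P (bijective_cotangentComplex_self_of_formallyEtale S T).1 hinj
  have hb : Function.Bijective (Extension.H1Cotangent.map b) :=
    (Extension.H1Cotangent.equiv b b').bijective
  have hc : Function.Bijective (Extension.H1Cotangent.map c) :=
    bijective_h1Cotangent_map_ofComp Q' Pe (bijective_cotangentComplex_self_of_formallyEtale R R')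
  exact hc.comp (hb.comp ha)

/-- Main theorem: for formally étale `R → R'` and `S → T` (in a commutative square), and
`T ⊗_S I/I² → J/J²` injective, the map `NL_{S/R} ⊗_S T → NL_{T/R'}` is a quasi-isomorphism. -/
theorem quasiIso_bcMapSelf_of_formallyEtale [Algebra.FormallyEtale R R'] [Algebra.FormallyEtale S T]
    (hinj : Function.Injective ((Extension.Cotangent.map
      ((Generators.self S T).toComp (Generators.self R S)).toExtensionHom).liftBaseChange T)) :
    QuasiIso (NLCx.bcMapSelf R S R' T) :=
  quasiIso_bcMap _ (bijective_bcH1Map_self R S R' T hinj) (bijective_bcH0Map R S R' T)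

end H1

end Groth.Agent.Lib.Helper10.NLHens
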