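import Mathlib

/-!
# The square-zero thickening `R[X]/I²` of `S = R[X]/I` (helper10)
-/

set_option autoImplicit false
universe u
open Algebra

namespace Groth.Agent.Lib.Helper10.NLHens

section P2

variable {R S : Type u} [CommRing R] [CommRing S] [Algebra R S] (E : Extension.{u} R S)

/-- `R[X]/I²`. -/
abbrev P2 : Type u := E.Ring ⧸ E.ker ^ 2

/-- `R[X]/I² → S`. -/
noncomputable def sigma2 : P2 E →+* S :=
  Ideal.Quotient.lift (E.ker ^ 2) (algebraMap E.Ring S)
    (fun x hx => (Ideal.pow_le_self two_ne_zero hx : x ∈ E.ker))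

@[simp] lemma sigma2_mk (p : E.Ring) :
    sigma2 E (Ideal.Quotient.mk (E.ker ^ 2) p) = algebraMap E.Ring S p := rfl

lemma sigma2_surjective : Function.Surjective (sigma2 E) := by
  intro s
  obtain ⟨p, rfl⟩ := E.algebraMap_surjective s
  exact ⟨Ideal.Quotient.mk _ p, rfl⟩

lemma ker_sigma2 : RingHom.ker (sigma2 E) = E.ker.map (Ideal.Quotient.mk (E.ker ^ 2)) := by
  ext x
  obtain ⟨p, rfl⟩ := Ideal.Quotient.mk_surjective x
  rw [RingHom.mem_ker, sigma2_mk]
  constructor
  · intro h
    exact Ideal.mem_map_of_mem _ h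
  · intro h
    rw [Ideal.mem_map_iff_of_surjective _ Ideal.Quotient.mk_surjective] at h
    obtain ⟨p', hp', e⟩ := h
    have h1 : p' - p ∈ E.ker ^ 2 := by
      rw [← Ideal.Quotient.eq_zero_iff_mem, map_sub, e, sub_self]
    have h2 : p' - p ∈ E.ker := Ideal.pow_le_self two_ne_zero h1
    have h3 : p = p' - (p' - p) := by ring
    have h4 : p ∈ E.ker := by
      rw [h3]
      exact Ideal.sub_mem _ hp' h2
    exact h4

lemma ker_sigma2_sq : RingHom.ker (sigma2 E) ^ 2 = ⊥ := by
  rw [ker_sigma2, ← Ideal.map_pow, Ideal.map_quotient_self]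

lemma isLocalHom_sigma2 : IsLocalHom (sigma2 E) := by
  constructor
  intro a ha
  obtain ⟨c', hc'⟩ := ha.exists_right_inv
  obtain ⟨c, rfl⟩ := sigma2_surjective E c'
  have h1 : a * c - 1 ∈ RingHom.ker (sigma2 E) := by
    rw [RingHom.mem_ker, map_sub, map_mul, hc', map_one, sub_self]
  have hn : IsNilpotent (a * c - 1) := by
    refine ⟨2, ?_⟩
    have : (a * c - 1) ^ 2 ∈ RingHom.ker (sigma2 E) ^ 2 := Ideal.pow_mem_pow h1 2
    rw [ker_sigma2_sq] at this
    exact this
  have hu : IsUnit (a * c) := by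
    have := hn.isUnit_add_one
    rwa [sub_add_cancel] at this
  exact isUnit_of_mul_isUnit_left hu

lemma isLocalRing_P2 [IsLocalRing S] : IsLocalRing (P2 E) :=
  haveI := isLocalHom_sigma2 E
  RingHom.domain_isLocalRing (sigma2 E)

end P2

end Groth.Agent.Lib.Helper10.NLHens
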