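import Mathlib
import Groth.Agent.Lib.Helper9.HensK.StrictUnique
import Groth.Agent.Lib.Helper3.HensEquiv
import Groth.Agent.Lib.Helper10.NLHensP2
import Groth.Agent.Lib.Helper10.NLHensFlat
import Groth.Agent.Lib.Helper10.NLHensMain

/-!
# The naive cotangent complex and strict henselization (helper10)
-/

set_option autoImplicit false
universe u
open Algebra IsLocalRing

namespace Groth.Agent.Lib.Helper10.NLHens

section Quot

variable {A' S W T : Type u} [CommRing A'] [IsLocalRing A'] [CommRing S] [IsLocalRing S]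
  [CommRing W] [IsLocalRing W] [CommRing T] [IsLocalRing T]
  [Algebra A' W] [IsLocalHom (algebraMap A' W)] [Hensel.IsStrictHenselization A' W]
  [Algebra S T] [IsLocalHom (algebraMap S T)] [Hensel.IsStrictHenselization S T]

theorem exists_quotient_map_strict (σ : A' →+* S) (hσ : Function.Surjective σ) :
    ∃ π : W →+* T, Function.Surjective π ∧
      RingHom.ker π = (RingHom.ker σ).map (algebraMap A' W) ∧
      ∀ a, π (algebraMap A' W a) = algebraMap S T (σ a) := by
  set K := RingHom.ker σ with hK
  have hKtop : K ≠ ⊤ := RingHom.ker_ne_top σ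
  haveI : Nontrivial (A' ⧸ K) := Ideal.Quotient.nontrivial_iff.mpr hKtop
  haveI : IsLocalRing (A' ⧸ K) := IsLocalRing.of_surjective' _ Ideal.Quotient.mk_surjective
  haveI : Nontrivial (W ⧸ K.map (algebraMap A' W)) :=
    Ideal.Quotient.nontrivial_iff.mpr (Groth.Agent.Lib.Helper3.HensEquiv.map_ne_top K hKtop)
  haveI : IsLocalRing (W ⧸ K.map (algebraMap A' W)) :=
    IsLocalRing.of_surjective' _ Ideal.Quotient.mk_surjective
  haveI : IsLocalHom (algebraMap (A' ⧸ K) (W ⧸ K.map (algebraMap A' W))) := by
    constructor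
    intro a ha
    obtain ⟨a, rfl⟩ := Ideal.Quotient.mk_surjective a
    have h1 : algebraMap (A' ⧸ K) (W ⧸ K.map (algebraMap A' W)) (Ideal.Quotient.mk K a) =
        Ideal.Quotient.mk _ (algebraMap A' W a) := rfl
    rw [h1] at ha
    haveI : IsLocalHom (Ideal.Quotient.mk (K.map (algebraMap A' W))) :=
      .of_surjective _ Ideal.Quotient.mk_surjective
    have h2 : IsUnit (algebraMap A' W a) := isUnit_of_map_unit _ _ ha
    exact (isUnit_of_map_unit (algebraMap A' W) a h2).map _
  haveI := Groth.Agent.Lib.Helper3.isStrictHenselization_quotient (A := A') (S := W) K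
  let e : A' ⧸ K ≃+* S := RingHom.quotientKerEquivOfSurjective hσ
  letI : Algebra S (W ⧸ K.map (algebraMap A' W)) :=
    ((algebraMap (A' ⧸ K) (W ⧸ K.map (algebraMap A' W))).comp e.symm.toRingHom).toAlgebra
  haveI : IsLocalHom (algebraMap S (W ⧸ K.map (algebraMap A' W))) :=
    Groth.Agent.Lib.Helper3.HensEquiv.isLocalHom_comp_ringEquiv
      (algebraMap (A' ⧸ K) (W ⧸ K.map (algebraMap A' W))) e.symm
  haveI : Hensel.IsStrictHenselization S (W ⧸ K.map (algebraMap A' W)) :=
    Groth.Agent.Lib.Helper3.HensEquiv.isStrictHenselization_of_ringEquiv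
      (A := A' ⧸ K) (A' := S) (S := W ⧸ K.map (algebraMap A' W)) e.symm rfl
  obtain ⟨ε⟩ := Groth.Agent.Lib.Helper9.HensK.nonempty_algEquiv_of_isStrictHenselization S
    (W ⧸ K.map (algebraMap A' W)) T
  refine ⟨ε.toAlgHom.toRingHom.comp (Ideal.Quotient.mk (K.map (algebraMap A' W))), ?_, ?_, ?_⟩
  · exact ε.surjective.comp Ideal.Quotient.mk_surjective
  · ext x
    rw [RingHom.mem_ker, RingHom.comp_apply]
    change ε (Ideal.Quotient.mk _ x) = 0 ↔ _
    rw [EmbeddingLike.map_eq_zero_iff, Ideal.Quotient.eq_zero_iff_mem]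
  · intro a
    rw [RingHom.comp_apply]
    change ε (Ideal.Quotient.mk _ (algebraMap A' W a)) = _
    have h1 : Ideal.Quotient.mk (K.map (algebraMap A' W)) (algebraMap A' W a) =
        algebraMap S (W ⧸ K.map (algebraMap A' W)) (σ a) := by
      change _ = algebraMap (A' ⧸ K) (W ⧸ K.map (algebraMap A' W)) (e.symm (σ a))
      have : e.symm (σ a) = Ideal.Quotient.mk K a := by
        rw [RingEquiv.symm_apply_eq]
        rfl
      rw [this]
      rfl
    rw [h1, ε.commutes]

end Quot

section Main

open CategoryTheory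
attribute [local instance] HasDerivedCategory.standard

variable (A B Ash Bsh : Type u) [CommRing A] [CommRing B] [CommRing Ash] [CommRing Bsh]
  [IsLocalRing A] [IsLocalRing B] [IsLocalRing Ash] [IsLocalRing Bsh]
  [Algebra A B]
  [Algebra A Ash] [IsLocalHom (algebraMap A Ash)] [Hensel.IsStrictHenselization A Ash]
  [Algebra B Bsh] [IsLocalHom (algebraMap B Bsh)] [Hensel.IsStrictHenselization B Bsh]
  [Algebra Ash Bsh] [Algebra A Bsh] [IsScalarTower A Ash Bsh] [IsScalarTower A B Bsh]

theorem injective_liftBaseChange_strict :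
    Function.Injective ((Extension.Cotangent.map
      ((Generators.self B Bsh).toComp (Generators.self A B)).toExtensionHom).liftBaseChange Bsh) := by
  haveI := isLocalRing_P2 (Generators.self A B).toExtension
  haveI : Module.Flat (P2 (Generators.self A B).toExtension)
      (Groth.Agent.Lib.Helper9.HensK.StrictHenselization (P2 (Generators.self A B).toExtension)) :=
    Groth.Agent.Lib.Helper9.HensK.flat_of_isStrictHenselization _ _
  obtain ⟨π, hπs, hπk, hπa⟩ := exists_quotient_map_strict
    (A' := P2 (Generators.self A B).toExtension) (S := B)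
    (W := Groth.Agent.Lib.Helper9.HensK.StrictHenselization (P2 (Generators.self A B).toExtension))
    (T := Bsh) (sigma2 (Generators.self A B).toExtension)
    (sigma2_surjective (Generators.self A B).toExtension)
  refine injective_liftBaseChange_toComp_of_flat_lift (Generators.self B Bsh) (Generators.self A B)
    (W := Groth.Agent.Lib.Helper9.HensK.StrictHenselization (P2 (Generators.self A B).toExtension))
    π hπs ?_ ?_
  · intro p
    rw [hπa, sigma2_mk]
  · rw [hπk, ker_sigma2]

theorem quasiIso_bcMapSelf_strictHenselization : QuasiIso (NLCx.bcMapSelf A B Ash Bsh) := by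
  haveI : Algebra.FormallyEtale A Ash :=
    Groth.Agent.Lib.Helper9.HensK.formallyEtale_of_isStrictHenselization A Ash
  haveI : Algebra.FormallyEtale B Bsh :=
    Groth.Agent.Lib.Helper9.HensK.formallyEtale_of_isStrictHenselization B Bsh
  exact quasiIso_bcMapSelf_of_formallyEtale A B Ash Bsh
    (injective_liftBaseChange_strict A B Bsh)

end Main

end Groth.Agent.Lib.Helper10.NLHens
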