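import Groth.Prelude.Def_Models
import Mathlib.Tactic

set_option autoImplicit false
open Finset

namespace Groth.Agent.Lib.Helper10

open Models Models.NumericalType

variable {n : ℕ} (T : Models.NumericalType n)

theorem nt_row_sum (i : Fin n) : ∑ j, T.a i j * T.m j = 0 := by
  have h := congrFun T.mulVec_m i
  simpa [Matrix.mulVec, dotProduct] using h

theorem nt_symm (i j : Fin n) : T.a i j = T.a j i := by
  have := T.symm
  exact (Matrix.IsSymm.apply this i j).symm

theorem nt_diag_mul_m (i : Fin n) :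
    T.a i i * T.m i = - ∑ j ∈ univ.erase i, T.a i j * T.m j := by
  have h := nt_row_sum T i
  rw [← Finset.add_sum_erase univ _ (Finset.mem_univ i)] at h
  linarith

theorem nt_offdiag_sum_nonneg (i : Fin n) :
    0 ≤ ∑ j ∈ univ.erase i, T.a i j * T.m j := by
  apply Finset.sum_nonneg
  intro j hj
  have hji : j ≠ i := (Finset.mem_erase.mp hj).1
  exact mul_nonneg (T.offDiag_nonneg i j hji.symm) (T.m_pos j).le

theorem nt_diag_nonpos (i : Fin n) : T.a i i ≤ 0 := by
  have h1 := nt_diag_mul_m T i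
  have h2 := nt_offdiag_sum_nonneg T i
  have h3 := T.m_pos i
  by_contra hcon
  rw [not_le] at hcon
  have : 0 < T.a i i * T.m i := mul_pos hcon h3
  linarith

theorem nt_diag_neg (hn : 1 < n) (i : Fin n) : T.a i i < 0 := by
  have h0 := nt_diag_nonpos T i
  rcases lt_or_eq_of_le h0 with h | h
  · exact h
  exfalso
  have h1 := nt_diag_mul_m T i
  rw [h, zero_mul] at h1
  have hsum : ∑ j ∈ univ.erase i, T.a i j * T.m j = 0 := by linarith
  have hterm : ∀ j ∈ univ.erase i, T.a i j * T.m j = 0 := by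
    have := (Finset.sum_eq_zero_iff_of_nonneg (fun j hj => ?_)).mp hsum
    · exact this
    · have hji : j ≠ i := (Finset.mem_erase.mp hj).1
      exact mul_nonneg (T.offDiag_nonneg i j hji.symm) (T.m_pos j).le
  have hzero : ∀ j, j ≠ i → T.a i j = 0 := by
    intro j hj
    have := hterm j (Finset.mem_erase.mpr ⟨hj, Finset.mem_univ j⟩)
    rcases mul_eq_zero.mp this with h' | h'
    · exact h'
    · exact absurd h' (T.m_pos j).ne'
  obtain ⟨i', hi', j, hj, hne⟩ := T.connected {i} (Finset.singleton_nonempty i) (by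
    intro heq
    have hcard := congrArg Finset.card heq
    simp at hcard
    omega)
  rw [Finset.mem_singleton] at hi' hj
  subst hi'
  exact hne (hzero j hj)

end Groth.Agent.Lib.Helper10

namespace Groth.Agent.Lib.Helper10

open Models Models.NumericalType

theorem two_dvd_sum_sub_diag : ∀ (n : ℕ) (f : Fin n → Fin n → ℤ), (∀ i j, f i j = f j i) →
    (2 : ℤ) ∣ (∑ i, ∑ j, f i j) - ∑ i, f i i := by
  intro n
  induction n with
  | zero => intro f _; simp
  | succ k ih =>
    intro f hf
    have h := ih (fun i j => f i.succ j.succ) (fun i j => hf _ _)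
    obtain ⟨c, hc⟩ := h
    refine ⟨c + ∑ j : Fin k, f 0 j.succ, ?_⟩
    simp only [Fin.sum_univ_succ, Finset.sum_add_distrib] at hc ⊢
    have hsym : ∑ i : Fin k, f i.succ 0 = ∑ j : Fin k, f 0 j.succ :=
      Finset.sum_congr rfl (fun i _ => hf _ _)
    rw [hsym]
    linarith

theorem nt_two_dvd_sum_m_mul_diag {n : ℕ} (T : Models.NumericalType n) :
    (2 : ℤ) ∣ ∑ i, T.m i * T.a i i := by
  have h1 := two_dvd_sum_sub_diag n (fun i j => T.m i * (T.a i j * T.m j))
    (fun i j => by rw [nt_symm T i j]; ring)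
  have h2 : ∑ i, ∑ j, T.m i * (T.a i j * T.m j) = 0 := by
    apply Finset.sum_eq_zero
    intro i _
    rw [← Finset.mul_sum, nt_row_sum T i, mul_zero]
  rw [h2, zero_sub, dvd_neg] at h1
  have h3 : (2 : ℤ) ∣ ∑ i, (T.m i * (T.a i i * T.m i) - T.m i * T.a i i) := by
    apply Finset.dvd_sum
    intro i _
    have : T.m i * (T.a i i * T.m i) - T.m i * T.a i i = (T.m i * (T.m i - 1)) * T.a i i := by ring
    rw [this]
    exact Dvd.dvd.mul_right (Int.even_mul_pred_self (T.m i)).two_dvd _
  rw [Finset.sum_sub_distrib] at h3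
  have := (Int.dvd_sub h1 h3)
  simpa using this

end Groth.Agent.Lib.Helper10

namespace Groth.Agent.Lib.Helper10

open Models Models.NumericalType

theorem nt_ne_of_pos {n : ℕ} (T : Models.NumericalType n) (i j : Fin n) (hij : 0 < T.a i j) :
    i ≠ j := by
  rintro rfl
  have := nt_diag_nonpos T i
  linarith

theorem nt_mul_le_of_pos {n : ℕ} (T : Models.NumericalType n) (i j : Fin n) (hij : 0 < T.a i j) :
    T.m i * T.a i j ≤ T.m j * |T.a j j| := by
  have hne := nt_ne_of_pos T i j hij
  have h1 := nt_diag_mul_m T j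
  have h2 : T.a j i * T.m i ≤ ∑ k ∈ univ.erase j, T.a j k * T.m k := by
    apply Finset.single_le_sum (f := fun k => T.a j k * T.m k)
    · intro k hk
      have hkj : k ≠ j := (Finset.mem_erase.mp hk).1
      exact mul_nonneg (T.offDiag_nonneg j k hkj.symm) (T.m_pos k).le
    · exact Finset.mem_erase.mpr ⟨hne, Finset.mem_univ i⟩
  have h3 : |T.a j j| = - T.a j j := abs_of_nonpos (nt_diag_nonpos T j)
  rw [h3, nt_symm T i j]
  nlinarith

theorem nt_w_le_of_pos {n : ℕ} (T : Models.NumericalType n) (i j : Fin n) (hij : 0 < T.a i j) :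
    T.w i ≤ T.a i j :=
  Int.le_of_dvd hij (T.w_dvd i j)

end Groth.Agent.Lib.Helper10

namespace Groth.Agent.Lib.Helper10

open Models Models.NumericalType

theorem nt_term_nonneg {n : ℕ} (T : Models.NumericalType n) (hmin : T.IsMinimal) (hn : 1 < n)
    (i : Fin n) : 0 ≤ 2 * T.w i * (T.g i - 1) - T.a i i := by
  obtain ⟨c, hc⟩ := T.w_dvd i i
  have hneg := nt_diag_neg T hn i
  have hw := T.w_pos i
  have hg := T.g_nonneg i
  have hc1 : c < 0 := by
    by_contra h
    rw [not_lt] at h
    have : 0 ≤ T.w i * c := mul_nonneg hw.le h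
    linarith
  rcases eq_or_lt_of_le hg with h0 | hpos
  · have hc2 : c ≠ -1 := by
      intro h
      apply hmin i
      refine ⟨h0.symm, ?_⟩
      rw [hc, h]; ring
    have hc3 : c ≤ -2 := by omega
    rw [← h0, hc]
    nlinarith
  · have : 0 ≤ 2 * T.w i * (T.g i - 1) := by
      apply mul_nonneg
      · linarith
      · linarith
    linarith

theorem nt_genus_eq {n : ℕ} (T : Models.NumericalType n) :
    2 * T.genus = 2 + ∑ i, T.m i * (2 * T.w i * (T.g i - 1) - T.a i i) := by
  unfold Models.NumericalType.genus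
  obtain ⟨c, hc⟩ := nt_two_dvd_sum_m_mul_diag T
  rw [hc, Int.mul_ediv_cancel_left _ (by norm_num : (2 : ℤ) ≠ 0)]
  have : ∑ i, T.m i * (2 * T.w i * (T.g i - 1) - T.a i i) =
      2 * (∑ i, T.m i * T.w i * (T.g i - 1)) - ∑ i, T.m i * T.a i i := by
    rw [Finset.mul_sum, ← Finset.sum_sub_distrib]
    apply Finset.sum_congr rfl
    intro i _
    ring
  rw [this, hc]
  ring

theorem nt_one_le_genus_of_isMinimal {n : ℕ} (T : Models.NumericalType n) (hmin : T.IsMinimal)
    (hn : 1 < n) : 1 ≤ T.genus := by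
  have h := nt_genus_eq T
  have h2 : 0 ≤ ∑ i, T.m i * (2 * T.w i * (T.g i - 1) - T.a i i) := by
    apply Finset.sum_nonneg
    intro i _
    exact mul_nonneg (T.m_pos i).le (nt_term_nonneg T hmin hn i)
  linarith

end Groth.Agent.Lib.Helper10

namespace Groth.Agent.Lib.Helper10

open Models Models.NumericalType

theorem nt_eq_trivial_of_isMinimal_of_genus_zero {n : ℕ} (T : Models.NumericalType n)
    (hmin : T.IsMinimal) (hg : T.genus = 0) :
    n = 1 ∧ ∀ i, T.m i = 1 ∧ T.a i i = 0 ∧ T.w i = 1 ∧ T.g i = 0 := by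
  have hn1 : n = 1 := by
    by_contra hne
    have hpos := T.pos
    have hn : 1 < n := by omega
    have := nt_one_le_genus_of_isMinimal T hmin hn
    omega
  subst hn1
  refine ⟨rfl, fun i => ?_⟩
  have hi : i = 0 := Subsingleton.elim _ _
  subst hi
  have ha : T.a 0 0 = 0 := by
    have h := nt_row_sum T 0
    simp only [Fin.sum_univ_one] at h
    rcases mul_eq_zero.mp h with h' | h'
    · exact h'
    · exact absurd h' (T.m_pos 0).ne'
  have hgen := nt_genus_eq T
  simp only [Fin.sum_univ_one, hg, ha] at hgen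
  have hm := T.m_pos 0
  have hw := T.w_pos 0
  have hgn := T.g_nonneg 0
  have key : T.m 0 * (T.w 0 * (1 - T.g 0)) = 1 := by linarith
  have hg0 : T.g 0 = 0 := by
    by_contra hne
    have : 1 ≤ T.g 0 := by omega
    have : T.m 0 * (T.w 0 * (1 - T.g 0)) ≤ 0 := by
      apply mul_nonpos_of_nonneg_of_nonpos hm.le
      apply mul_nonpos_of_nonneg_of_nonpos hw.le
      linarith
    linarith
  rw [hg0] at key
  have key2 : T.m 0 * T.w 0 = 1 := by linarith
  have hm1 : T.m 0 = 1 := by
    rcases Int.eq_one_or_neg_one_of_mul_eq_one key2 with h | h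
    · exact h
    · omega
  rw [hm1] at key2
  refine ⟨hm1, ha, by linarith, hg0⟩

end Groth.Agent.Lib.Helper10
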