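import Groth.Prelude.Def_Models
import Groth.Agent.Lib.Helper10.NumType
import Mathlib.Tactic

set_option autoImplicit false
open Finset

namespace Groth.Agent.Lib.Helper10

open Models Models.NumericalType

variable {n : ℕ}

/-- Reindexing of a numerical type along a permutation. -/
def ntPerm (T : Models.NumericalType n) (σ : Equiv.Perm (Fin n)) : Models.NumericalType n where
  m i := T.m (σ i)
  a i j := T.a (σ i) (σ j)
  w i := T.w (σ i)
  g i := T.g (σ i)
  pos := T.pos
  m_pos _ := T.m_pos _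
  w_pos _ := T.w_pos _
  g_nonneg _ := T.g_nonneg _
  symm := by
    ext i j
    exact nt_symm T (σ j) (σ i)
  offDiag_nonneg i j hij := T.offDiag_nonneg _ _ (σ.injective.ne hij)
  connected I hI hIu := by
    obtain ⟨i, hi, j, hj, hij⟩ := T.connected (I.map σ.toEmbedding) (by simpa using hI)
      (by
        intro h
        apply hIu
        rw [Finset.eq_univ_iff_forall] at h ⊢
        intro x
        have := h (σ x)
        simpa using this)
    simp only [Finset.mem_map, Equiv.coe_toEmbedding] at hi hj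
    obtain ⟨i', hi', rfl⟩ := hi
    refine ⟨i', hi', σ.symm j, ?_, ?_⟩
    · intro hc
      exact hj ⟨σ.symm j, hc, by simp⟩
    · simpa using hij
  mulVec_m := by
    funext i
    simp only [Matrix.mulVec, dotProduct, Pi.zero_apply]
    rw [Equiv.sum_comp σ (fun j => T.a (σ i) j * T.m j)]
    exact nt_row_sum T (σ i)
  w_dvd _ _ := T.w_dvd _ _

theorem ntPerm_genus (T : Models.NumericalType n) (σ : Equiv.Perm (Fin n)) :
    (ntPerm T σ).genus = T.genus := by
  unfold Models.NumericalType.genus
  show 1 + ∑ i, T.m (σ i) * T.w (σ i) * (T.g (σ i) - 1) - (∑ i, T.m (σ i) * T.a (σ i) (σ i)) / 2 = _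
  rw [Equiv.sum_comp σ (fun i => T.m i * T.w i * (T.g i - 1)),
    Equiv.sum_comp σ (fun i => T.m i * T.a i i)]

/-- The Picard group is invariant under reindexing. -/
noncomputable def ntPermPicEquiv (T : Models.NumericalType n) (σ : Equiv.Perm (Fin n)) :
    T.Pic ≃ₗ[ℤ] (ntPerm T σ).Pic := by
  let L : (Fin n → ℤ) ≃ₗ[ℤ] (Fin n → ℤ) := LinearEquiv.funCongrLeft ℤ ℤ σ
  have hL : ∀ x, L (Matrix.mulVecLin T.picMatrix x) =
      Matrix.mulVecLin (ntPerm T σ).picMatrix (L x) := by
    intro x
    funext i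
    show (T.picMatrix.mulVec x) (σ i) = ((ntPerm T σ).picMatrix.mulVec (fun j => x (σ j))) i
    simp only [Matrix.mulVec, dotProduct]
    rw [← Equiv.sum_comp σ (fun j => T.picMatrix (σ i) j * x j)]
    rfl
  refine Submodule.Quotient.equiv _ _ L ?_
  ext y
  constructor
  · rintro ⟨_, ⟨x, rfl⟩, rfl⟩
    exact ⟨L x, (hL x).symm⟩
  · rintro ⟨x, rfl⟩
    refine ⟨Matrix.mulVecLin T.picMatrix (L.symm x), ⟨_, rfl⟩, ?_⟩
    have := hL (L.symm x)
    rw [L.apply_symm_apply] at this
    exact this

end Groth.Agent.Lib.Helper10
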