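import Mathlib
import Groth.Prelude.Def_CAlgX
import Groth.Agent.Lib.Helper10.RegDescent
import Groth.Agent.Lib.Helper10.RegSeqFlat
import Groth.Agent.Lib.Helper10.KoszulMinGen
import Groth.Agent.Lib.Helper18.QuasiReg

/-!
# The `H_1`-regular kind (helper10)
-/

set_option autoImplicit false

universe u

namespace Groth.Agent.Lib.Helper10.RegDescentH1

open Groth.Agent.Lib.Helper10.RegDescent Groth.Agent.Lib.Helper10.FlatLocal
open Groth.Agent.Lib.Helper10.RegSeqFlat Groth.Agent.Lib.Helper10.KoszulH1
open TensorProduct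

variable {R : Type u} [CommRing R]

lemma isH1Regular_iff {c : ℕ} (f : Fin c → R) :
    CAlgX.IsH1Regular f ↔ ∀ a : Fin c → R, ∑ i, a i * f i = 0 → a ∈ Triv f := Iff.rfl

/-- a sequence generating the unit ideal is `H_1`-regular. -/
lemma isH1Regular_of_top {c : ℕ} (f : Fin c → R) (h : Ideal.span (Set.range f) = ⊤) :
    CAlgX.IsH1Regular f := by
  classical
  intro a ha
  have h1 : (1 : R) ∈ Ideal.span (Set.range f) := by rw [h]; trivial
  obtain ⟨cf, hcf⟩ := Ideal.mem_span_range_iff_exists_fun.mp h1
  have key : a = ∑ i, ∑ j, (cf i * a j) • (Pi.single j (f i) - Pi.single i (f j) : Fin c → R) := by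
    funext k
    simp only [Finset.sum_apply, Pi.smul_apply, Pi.sub_apply, Pi.single_apply, smul_eq_mul,
      mul_sub, mul_ite, mul_zero, Finset.sum_sub_distrib]
    have e0 : ∀ x, (∑ x_1, if k = x_1 then cf x * a x_1 * f x else 0) = cf x * a k * f x := by
      intro x
      rw [Finset.sum_ite_eq]
      simp
    simp only [e0]
    have e1 : ∑ x, cf x * a k * f x = a k := by
      calc ∑ x, cf x * a k * f x = a k * ∑ x, cf x * f x := by
            rw [Finset.mul_sum]; exact Finset.sum_congr rfl fun x _ => by ring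
        _ = a k := by rw [hcf, mul_one]
    have e2 : ∑ x, ∑ x_1, (if k = x then cf x * a x_1 * f x_1 else 0) = 0 := by
      have : ∀ x, ∑ x_1, (if k = x then cf x * a x_1 * f x_1 else 0) =
          if k = x then cf x * ∑ x_1, a x_1 * f x_1 else 0 := by
        intro x
        split_ifs
        · rw [Finset.mul_sum]; exact Finset.sum_congr rfl fun y _ => by ring
        · simp
      simp only [this, ha, mul_zero, ite_self, Finset.sum_const_zero]
    rw [e1, e2, sub_zero]
  rw [key]
  refine Submodule.sum_mem _ fun i _ => Submodule.sum_mem _ fun j _ => Submodule.smul_mem _ _ ?_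
  exact Submodule.subset_span ⟨j, i, rfl⟩

lemma triv_map {c : ℕ} (f : Fin c → R) {R' : Type u} [CommRing R'] (θ : R →+* R') :
    Triv (fun i => θ (f i)) = Submodule.span R' ((fun v : Fin c → R => fun i => θ (v i)) ''
      {v | ∃ i j : Fin c, v = Pi.single i (f j) - Pi.single j (f i)}) := by
  classical
  unfold Triv
  congr 1
  ext w
  constructor
  · rintro ⟨i, j, rfl⟩
    refine ⟨Pi.single i (f j) - Pi.single j (f i), ⟨i, j, rfl⟩, ?_⟩
    funext k
    simp only [Pi.sub_apply, Pi.single_apply, map_sub]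
    split_ifs <;> simp
  · rintro ⟨v, ⟨i, j, rfl⟩, rfl⟩
    refine ⟨i, j, ?_⟩
    funext k
    simp only [Pi.sub_apply, Pi.single_apply, map_sub]
    split_ifs <;> simp

theorem isH1Regular_of_flat_local {c : ℕ} (f : Fin c → R)
    (h : ∀ 𝔮 : PrimeSpectrum R, ∃ (R' : Type u) (_ : CommRing R') (θ : R →+* R'), θ.Flat ∧
      (∃ 𝔮' : PrimeSpectrum R', 𝔮'.comap θ = 𝔮) ∧ CAlgX.IsH1Regular (fun i => θ (f i))) :
    CAlgX.IsH1Regular f := by
  classical
  intro a ha
  by_contra hnot
  set M := (Fin c → R) ⧸ Triv f with hM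
  set x : M := (Triv f).mkQ a with hx
  have hne : LinearMap.ker (LinearMap.toSpanSingleton R M x) ≠ ⊤ := by
    intro htop
    apply hnot
    have h1 : (1 : R) ∈ LinearMap.ker (LinearMap.toSpanSingleton R M x) := by
      rw [htop]
      trivial
    rw [LinearMap.mem_ker, LinearMap.toSpanSingleton_apply, one_smul] at h1
    exact (Submodule.Quotient.mk_eq_zero _).mp h1
  obtain ⟨𝔪, h𝔪, hle⟩ := Ideal.exists_le_maximal _ hne
  obtain ⟨R', _, θ, hθ, ⟨𝔮', h𝔮'⟩, hq⟩ := h ⟨𝔪, h𝔪.isPrime⟩
  algebraize [θ]
  have hθa : (fun i => θ (a i)) ∈ Triv (fun i => θ (f i)) := by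
    apply hq
    have := congrArg θ ha
    rw [map_sum, map_zero] at this
    simpa [map_mul] using this
  -- the submodule of `Fin c → R'` killed by `1 ⊗ mkQ`
  let Φ : (Fin c → R') →ₗ[R'] R' ⊗[R] M :=
    ((Triv f).mkQ.baseChange R') ∘ₗ (TensorProduct.piScalarRight R R' R' (Fin c)).symm.toLinearMap
  have hΦ : ∀ v : Fin c → R, Φ (fun i => θ (v i)) = (1 : R') ⊗ₜ[R] (Triv f).mkQ v := by
    intro v
    have h1 : (TensorProduct.piScalarRight R R' R' (Fin c)) ((1 : R') ⊗ₜ[R] v) =
        fun i => θ (v i) := by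
      rw [TensorProduct.piScalarRight_apply, TensorProduct.piScalarRightHom_tmul]
      funext i
      rw [Algebra.smul_def, mul_one]
      rfl
    show ((Triv f).mkQ.baseChange R') ((TensorProduct.piScalarRight R R' R' (Fin c)).symm _) = _
    rw [← h1, LinearEquiv.symm_apply_apply, LinearMap.baseChange_tmul]
  have hker : Triv (fun i => θ (f i)) ≤ LinearMap.ker Φ := by
    rw [triv_map, Submodule.span_le]
    rintro _ ⟨v, hv, rfl⟩
    rw [SetLike.mem_coe, LinearMap.mem_ker, hΦ]
    have : (Triv f).mkQ v = 0 := by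
      rw [Submodule.mkQ_apply, Submodule.Quotient.mk_eq_zero]
      exact Submodule.subset_span hv
    rw [this, TensorProduct.tmul_zero]
  have h0 : (1 : R') ⊗ₜ[R] x = 0 := by
    rw [hx, ← hΦ]
    exact hker hθa
  have h1 : x ⊗ₜ[R] (1 : R') = 0 := by
    have h5 := congrArg (TensorProduct.comm R R' M) h0
    simpa using h5
  obtain ⟨s, hs, hsx⟩ := exists_smul_eq_zero_of_tmul_eq_zero 𝔮'.asIdeal x h1
  apply hs
  have h3 : s ∈ 𝔪 := hle (by
    rw [LinearMap.mem_ker, LinearMap.toSpanSingleton_apply]
    exact hsx)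
  have h4 : (𝔮'.comap θ).asIdeal = 𝔪 := by rw [h𝔮']
  rw [← h4] at h3
  exact h3

open Matrix in
/-- a linear change of generators maps trivial relations to trivial relations. -/
lemma vecMul_mem_triv {c : ℕ} (f g : Fin c → R) (A : Matrix (Fin c) (Fin c) R)
    (hg : ∀ i, g i = ∑ j, A i j * f j) (t : Fin c → R) (ht : t ∈ Triv g) :
    Matrix.vecMul t A ∈ Triv f := by
  classical
  have hle : Triv g ≤ (Triv f).comap (Matrix.vecMulLinear A) := by
    unfold Triv
    rw [Submodule.span_le]
    rintro _ ⟨i, j, rfl⟩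
    rw [SetLike.mem_coe, Submodule.mem_comap, Matrix.vecMulLinear_apply]
    have key : Matrix.vecMul (Pi.single i (g j) - Pi.single j (g i) : Fin c → R) A =
        ∑ k, ∑ l, (A i k * A j l) • (Pi.single k (f l) - Pi.single l (f k) : Fin c → R) := by
      funext m
      rw [Matrix.sub_vecMul, Matrix.single_vecMul, Matrix.single_vecMul]
      simp only [Pi.sub_apply, Pi.smul_apply, smul_eq_mul, Finset.sum_apply, Pi.single_apply,
        mul_sub, mul_ite, mul_zero, Finset.sum_sub_distrib]
      have e0 : ∀ k, (∑ l, if m = k then A i k * A j l * f l else 0) =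
          if m = k then A i k * g j else 0 := by
        intro k
        split_ifs
        · rw [hg j, Finset.mul_sum]; exact Finset.sum_congr rfl fun y _ => by ring
        · simp
      have e1 : ∀ k, (∑ l, if m = l then A i k * A j l * f k else 0) = A i k * A j m * f k := by
        intro k
        rw [Finset.sum_ite_eq]
        simp
      simp only [e0, e1, Finset.sum_ite_eq, Finset.mem_univ, if_true]
      have e2 : ∑ k, A i k * A j m * f k = A j m * g i := by
        rw [hg i, Finset.mul_sum]; exact Finset.sum_congr rfl fun y _ => by ring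
      rw [e2]
      simp only [Matrix.row_apply]
      ring
    rw [key]
    refine Submodule.sum_mem _ fun k _ => Submodule.sum_mem _ fun l _ =>
      Submodule.smul_mem _ _ ?_
    exact Submodule.subset_span ⟨k, l, rfl⟩
  exact hle ht

lemma isH1Regular_of_isUnit_det {c : ℕ} (f g : Fin c → R) (A : Matrix (Fin c) (Fin c) R)
    (hA : IsUnit A.det) (hg : ∀ i, g i = ∑ j, A i j * f j) (hf : CAlgX.IsH1Regular f) :
    CAlgX.IsH1Regular g := by
  classical
  have hAinv : A * A⁻¹ = 1 := Matrix.mul_nonsing_inv A hA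
  have hAinv' : A⁻¹ * A = 1 := Matrix.nonsing_inv_mul A hA
  have hf' : ∀ i, f i = ∑ j, A⁻¹ i j * g j := by
    intro i
    have h1 : Matrix.mulVec (A⁻¹ * A) f i = f i := by rw [hAinv', Matrix.one_mulVec]
    rw [← h1, ← Matrix.mulVec_mulVec]
    have h2 : Matrix.mulVec A f = g := by
      funext k
      rw [hg k]
      rfl
    rw [h2]
    rfl
  intro b hb
  have hrel : ∑ k, (Matrix.vecMul b A) k * f k = 0 := by
    rw [← hb]
    simp only [Matrix.vecMul, dotProduct, Finset.sum_mul]
    rw [Finset.sum_comm]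
    refine Finset.sum_congr rfl fun i _ => ?_
    rw [hg i, Finset.mul_sum]
    exact Finset.sum_congr rfl fun k _ => by ring
  have h1 := hf _ hrel
  have h2 := vecMul_mem_triv g f A⁻¹ hf' _ h1
  rwa [Matrix.vecMul_vecMul, hAinv, Matrix.vecMul_one] at h2

lemma span_range_get (l : List R) : Ideal.span (Set.range l.get) = Ideal.ofList l := by
  rw [Set.range_list_get, Ideal.ofList]

/-- `H_1`-regularity only depends on the ideal, among generating sequences of the same length. -/
theorem isH1Regular_of_span_eq {c : ℕ} (f g : Fin c → R) (hf : CAlgX.IsH1Regular f)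
    (hI : Ideal.span (Set.range g) = Ideal.span (Set.range f)) : CAlgX.IsH1Regular g := by
  classical
  set J := Ideal.span (Set.range f) with hJ
  obtain ⟨A, hA⟩ := Groth.Agent.Lib.Helper18.exists_matrix_of_span_le f g hI.le
  obtain ⟨B, hB⟩ := Groth.Agent.Lib.Helper18.exists_matrix_of_span_le g f hI.ge
  -- `B * A ≡ 1` modulo `J`
  have hBA : ∀ i k, (B * A - 1) i k ∈ J := by
    intro i k
    have hrel : ∑ k', (B * A - 1) i k' * f k' = 0 := by
      simp only [Matrix.sub_apply, Matrix.mul_apply, Matrix.one_apply, sub_mul,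
        Finset.sum_sub_distrib, Finset.sum_mul]
      rw [Finset.sum_comm]
      have h1 : ∑ y, ∑ x, B i y * A y x * f x = f i := by
        rw [hB i]
        refine Finset.sum_congr rfl fun y _ => ?_
        rw [hA y, Finset.mul_sum]
        exact Finset.sum_congr rfl fun x _ => by ring
      rw [h1]
      simp
    have := Groth.Agent.Lib.Helper10.KoszulMinGen.triv_entries_mem f _ (hf _ hrel) k
    exact this
  have hdet : (B * A).det - 1 ∈ J := by
    have h1 : (Ideal.Quotient.mk J) ((B * A).det) = 1 := by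
      rw [RingHom.map_det]
      have : (Ideal.Quotient.mk J).mapMatrix (B * A) = 1 := by
        ext i k
        have h2 := Ideal.Quotient.eq_zero_iff_mem.mpr (hBA i k)
        rw [Matrix.sub_apply, map_sub, sub_eq_zero] at h2
        rw [RingHom.mapMatrix_apply, Matrix.map_apply, h2, Matrix.one_apply, Matrix.one_apply]
        split_ifs <;> simp
      rw [this, Matrix.det_one]
    rw [← Ideal.Quotient.eq_zero_iff_mem, map_sub, h1, map_one, sub_self]
  set d := (B * A).det with hd
  apply isH1Regular_of_flat_local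
  intro 𝔮
  by_cases hJ𝔮 : J ≤ 𝔮.asIdeal
  · have hd𝔮 : d ∉ 𝔮.asIdeal := by
      intro hmem
      have h1 : (1 : R) ∈ 𝔮.asIdeal := by
        have : (1 : R) = d - (d - 1) := by ring
        rw [this]
        exact Ideal.sub_mem _ hmem (hJ𝔮 hdet)
      exact 𝔮.isPrime.ne_top ((Ideal.eq_top_iff_one _).mpr h1)
    obtain ⟨𝔮'', h𝔮''⟩ := exists_prime_away' d 𝔮 hd𝔮
    refine ⟨Localization.Away d, inferInstance, algebraMap R (Localization.Away d),
      algebraMap_away_flat d, ⟨𝔮'', h𝔮''⟩, ?_⟩
    set θ := algebraMap R (Localization.Away d) with hθ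
    have hf' : CAlgX.IsH1Regular (fun i => θ (f i)) :=
      isH1Regular_map θ (algebraMap_away_flat d) f hf
    refine isH1Regular_of_isUnit_det (fun i => θ (f i)) (fun i => θ (g i)) (θ.mapMatrix A) ?_ ?_ hf'
    · have hdu : IsUnit (θ d) := IsLocalization.Away.algebraMap_isUnit d
      have hd2 : θ d = θ B.det * θ A.det := by
        rw [← map_mul, ← Matrix.det_mul]
      rw [hd2] at hdu
      rw [← RingHom.map_det]
      exact isUnit_of_mul_isUnit_right hdu
    · intro i
      rw [hA i, map_sum]
      refine Finset.sum_congr rfl fun j _ => ?_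
      rw [map_mul]
      rfl
  · obtain ⟨j, hj, hj𝔮⟩ := Set.not_subset.mp hJ𝔮
    obtain ⟨𝔮'', h𝔮''⟩ := exists_prime_away' j 𝔮 hj𝔮
    refine ⟨Localization.Away j, inferInstance, algebraMap R (Localization.Away j),
      algebraMap_away_flat j, ⟨𝔮'', h𝔮''⟩, ?_⟩
    apply isH1Regular_of_top
    rw [span_range_map, hI]
    exact Ideal.eq_top_of_isUnit_mem _ (Ideal.mem_map_of_mem _ hj)
      (IsLocalization.Away.algebraMap_isUnit j)

lemma isH1Regular_map_get (l : List R) {R' : Type u} [CommRing R'] (θ : R →+* R') :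
    CAlgX.IsH1Regular (l.map θ).get ↔ CAlgX.IsH1Regular (fun i => θ (l.get i)) := by
  constructor
  · intro h
    rw [get_map] at h
    have := isH1Regular_cast (List.length_map θ).symm _ h
    simpa using this
  · intro h
    rw [get_map]
    exact isH1Regular_cast (List.length_map θ) (fun i => θ (l.get i)) h

/-- the `H_1`-regular kind. -/
def h1Kind : Kind.{u} where
  P R _ l := CAlgX.IsH1Regular l.get
  map_flat θ hθ l h := (isH1Regular_map_get l θ).mpr (isH1Regular_map θ hθ l.get h)
  of_ofList_eq f g hf hI hlen := by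
    have hlen' : f.length = g.length := hlen.symm
    have h1 : CAlgX.IsH1Regular (fun i : Fin g.length => f.get (Fin.cast hlen i)) :=
      isH1Regular_cast hlen f.get hf
    refine isH1Regular_of_span_eq _ g.get h1 ?_
    rw [span_range_get, hI, ← span_range_get]
    congr 1
    ext y
    constructor
    · rintro ⟨i, rfl⟩
      exact ⟨Fin.cast hlen' i, by simp⟩
    · rintro ⟨i, rfl⟩
      exact ⟨Fin.cast hlen i, rfl⟩
  length_le f h hf hne hI :=
    Groth.Agent.Lib.Helper10.KoszulMinGen.length_le_of_isH1Regular f h hf hne hI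
  flat_local l h := by
    apply isH1Regular_of_flat_local
    intro 𝔮
    obtain ⟨R', _, θ, hθ, h𝔮', hreg⟩ := h 𝔮
    exact ⟨R', inferInstance, θ, hθ, h𝔮', (isH1Regular_map_get l θ).mp hreg⟩
  of_top l h := isH1Regular_of_top l.get (by rw [span_range_get]; exact h)

end Groth.Agent.Lib.Helper10.RegDescentH1
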