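import Mathlib
import Groth.Prelude.Def_CAlgX
import Groth.Prelude.Def_PP16
import Groth.Agent.Lib.Helper10.RegDescent
import Groth.Agent.Lib.Helper10.RegSeqFlat
import Groth.Agent.Lib.Helper18.QuasiReg

/-!
# The quasi-regular kind (helper10)

Quasi-regular sequences form a `RegDescent.Kind`; hence (locally) quasi-regular ideals descend
along faithfully flat ring maps.
-/

set_option autoImplicit false

universe u

namespace Groth.Agent.Lib.Helper10.RegDescentQuasi

open Groth.Agent.Lib.Helper10.RegDescent Groth.Agent.Lib.Helper10.FlatLocal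
open Groth.Agent.Lib.Helper10.RegSeqFlat
open TensorProduct MvPolynomial

variable {R : Type u} [CommRing R]

lemma span_range_get (l : List R) : Ideal.span (Set.range l.get) = Ideal.ofList l := by
  rw [Set.range_list_get, Ideal.ofList]

/-- a generating sequence all of whose relations have entries in the ideal, generating a proper
ideal, has minimal length among generating sequences. -/
theorem length_le_of_rel_mem (f h : List R)
    (hrm : ∀ a : Fin f.length → R, ∑ i, a i * f.get i = 0 →
      ∀ i, a i ∈ Ideal.span (Set.range f.get))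
    (hne : Ideal.ofList f ≠ ⊤) (hI : Ideal.ofList h = Ideal.ofList f) : f.length ≤ h.length := by
  classical
  set I := Ideal.ofList f with hIdef
  have hfI : Ideal.span (Set.range f.get) = I := span_range_get f
  have hhI : Ideal.span (Set.range h.get) = I := (span_range_get h).trans hI
  have hm : ∀ i : Fin f.length, ∃ m : Fin h.length → R, ∑ j, m j * h.get j = f.get i := fun i =>
    Ideal.mem_span_range_iff_exists_fun.mp (by rw [hhI, ← hfI]; exact Ideal.subset_span ⟨i, rfl⟩)
  have hn : ∀ j : Fin h.length, ∃ n : Fin f.length → R, ∑ k, n k * f.get k = h.get j := fun j =>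
    Ideal.mem_span_range_iff_exists_fun.mp (by rw [hfI, ← hhI]; exact Ideal.subset_span ⟨j, rfl⟩)
  choose m hm using hm
  choose n hn using hn
  haveI : Nontrivial (R ⧸ I) := Ideal.Quotient.nontrivial_iff.mpr hne
  let M : Matrix (Fin f.length) (Fin h.length) (R ⧸ I) := fun i j => Ideal.Quotient.mk I (m i j)
  let N : Matrix (Fin h.length) (Fin f.length) (R ⧸ I) := fun j k => Ideal.Quotient.mk I (n j k)
  have hMN : M * N = 1 := by
    ext i k
    rw [Matrix.mul_apply, Matrix.one_apply]
    have hrel : ∑ k', (∑ j, m i j * n j k' - if i = k' then 1 else 0) * f.get k' = 0 := by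
      simp only [sub_mul, Finset.sum_sub_distrib, Finset.sum_mul]
      rw [Finset.sum_comm]
      have h1 : ∑ y, ∑ x, m i y * n y x * f.get x = ∑ y, m i y * h.get y := by
        refine Finset.sum_congr rfl fun y _ => ?_
        rw [← hn y, Finset.mul_sum]
        refine Finset.sum_congr rfl fun x _ => ?_
        ring
      rw [h1, hm i]
      simp
    have hmem := hrm _ hrel k
    rw [hfI] at hmem
    have h2 := Ideal.Quotient.eq_zero_iff_mem.mpr hmem
    rw [map_sub, map_sum] at h2
    simp only [map_mul] at h2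
    rw [sub_eq_zero] at h2
    simp only [M, N]
    rw [h2]
    split_ifs <;> simp
  have hinj : Function.Injective (Matrix.mulVecLin N) := by
    intro x y hxy
    have := congrArg (Matrix.mulVecLin M) hxy
    simpa [Matrix.mulVec_mulVec, hMN] using this
  exact le_of_fin_injective (R ⧸ I) (Matrix.mulVecLin N) hinj

lemma rel_mem_of_isQuasiRegular {c : ℕ} (f : Fin c → R) (hf : CAlgX.IsQuasiRegular f)
    (a : Fin c → R) (ha : ∑ i, a i * f i = 0) (i : Fin c) : a i ∈ Ideal.span (Set.range f) := by
  have := hf 1 (Groth.Agent.Lib.Helper18.linForm (fun _ k => a k) i)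
    (Groth.Agent.Lib.Helper18.linForm_isHomogeneous _ _)
    (by rw [Groth.Agent.Lib.Helper18.eval_linForm, ha]; exact Ideal.zero_mem _)
    (Finsupp.single i 1)
  rwa [Groth.Agent.Lib.Helper18.coeff_linForm] at this

theorem isQuasiRegular_of_flat_local {c : ℕ} (f : Fin c → R)
    (h : ∀ 𝔮 : PrimeSpectrum R, ∃ (R' : Type u) (_ : CommRing R') (θ : R →+* R'), θ.Flat ∧
      (∃ 𝔮' : PrimeSpectrum R', 𝔮'.comap θ = 𝔮) ∧ CAlgX.IsQuasiRegular (fun i => θ (f i))) :
    CAlgX.IsQuasiRegular f := by
  intro n P hP hev d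
  set J := Ideal.span (Set.range f) with hJ
  by_contra hc₀
  set x : R ⧸ J := Ideal.Quotient.mk J (coeff d P) with hx
  have hne : LinearMap.ker (LinearMap.toSpanSingleton R (R ⧸ J) x) ≠ ⊤ := by
    intro htop
    apply hc₀
    have h1 : (1 : R) ∈ LinearMap.ker (LinearMap.toSpanSingleton R (R ⧸ J) x) := by
      rw [htop]
      trivial
    rw [LinearMap.mem_ker, LinearMap.toSpanSingleton_apply, one_smul] at h1
    exact Ideal.Quotient.eq_zero_iff_mem.mp h1
  obtain ⟨𝔪, h𝔪, hle⟩ := Ideal.exists_le_maximal _ hne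
  obtain ⟨R', _, θ, hθ, ⟨𝔮', h𝔮'⟩, hq⟩ := h ⟨𝔪, h𝔪.isPrime⟩
  algebraize [θ]
  have hcoef : θ (coeff d P) ∈ J.map θ := by
    have hev' : eval (fun i => θ (f i)) (map θ P) ∈
        Ideal.span (Set.range fun i => θ (f i)) ^ (n + 1) := by
      rw [span_range_map, ← Ideal.map_pow]
      have : eval (fun i => θ (f i)) (map θ P) = θ (eval f P) := by
        rw [eval_map]
        have h1 : θ (eval f P) = (θ.comp (eval f)) P := rfl
        have h2 : eval₂ θ (fun i => θ (f i)) P = (eval₂Hom θ (fun i => θ (f i))) P := rfl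
        rw [h1, h2]
        congr 1
        apply MvPolynomial.ringHom_ext
        · intro r
          simp
        · intro i
          simp
      rw [this]
      exact Ideal.mem_map_of_mem _ hev
    have := hq n (map θ P) (hP.map θ) hev' d
    rwa [coeff_map, span_range_map] at this
  -- the ideal of `R'` killing `1 ⊗ 1`
  let g : R' →ₗ[R'] R' ⊗[R] (R ⧸ J) :=
    LinearMap.toSpanSingleton R' _ ((1 : R') ⊗ₜ[R] (1 : R ⧸ J))
  have hJg : J.map θ ≤ LinearMap.ker g := by
    rw [Ideal.map_le_iff_le_comap]
    intro j hj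
    show θ j ∈ LinearMap.ker g
    rw [LinearMap.mem_ker, LinearMap.toSpanSingleton_apply, TensorProduct.smul_tmul',
      smul_eq_mul, mul_one]
    have h1 : θ j = j • (1 : R') := by
      rw [Algebra.smul_def, mul_one]
      rfl
    rw [h1, TensorProduct.smul_tmul]
    have h2 : j • (1 : R ⧸ J) = 0 := by
      rw [Algebra.smul_def, mul_one]
      exact Ideal.Quotient.eq_zero_iff_mem.mpr hj
    rw [h2, TensorProduct.tmul_zero]
  have h1 : x ⊗ₜ[R] (1 : R') = 0 := by
    have h2 : g (θ (coeff d P)) = 0 := hJg hcoef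
    rw [LinearMap.toSpanSingleton_apply, TensorProduct.smul_tmul', smul_eq_mul, mul_one] at h2
    have h3 : θ (coeff d P) = (coeff d P) • (1 : R') := by
      rw [Algebra.smul_def, mul_one]
      rfl
    rw [h3, TensorProduct.smul_tmul] at h2
    have h4 : (coeff d P) • (1 : R ⧸ J) = x := by
      rw [Algebra.smul_def, mul_one]
      rfl
    rw [h4] at h2
    have h5 := congrArg (TensorProduct.comm R R' (R ⧸ J)) h2
    simpa using h5
  obtain ⟨s, hs, hsx⟩ := exists_smul_eq_zero_of_tmul_eq_zero 𝔮'.asIdeal x h1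
  apply hs
  have h3 : s ∈ 𝔪 := hle (by
    rw [LinearMap.mem_ker, LinearMap.toSpanSingleton_apply]
    exact hsx)
  have h4 : (𝔮'.comap θ).asIdeal = 𝔪 := by rw [h𝔮']
  rw [← h4] at h3
  exact h3

lemma isQuasiRegular_of_top {c : ℕ} (f : Fin c → R) (h : Ideal.span (Set.range f) = ⊤) :
    CAlgX.IsQuasiRegular f := by
  intro n P _ _ d
  rw [h]
  trivial

lemma isQuasiRegular_map_get (l : List R) {R' : Type u} [CommRing R'] (θ : R →+* R') :
    CAlgX.IsQuasiRegular (l.map θ).get ↔ CAlgX.IsQuasiRegular (fun i => θ (l.get i)) := by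
  constructor
  · intro h
    rw [get_map] at h
    have := isQuasiRegular_cast (List.length_map θ).symm _ h
    simpa using this
  · intro h
    rw [get_map]
    exact isQuasiRegular_cast (List.length_map θ) (fun i => θ (l.get i)) h

/-- the quasi-regular kind. -/
def quasiKind : Kind.{u} where
  P R _ l := CAlgX.IsQuasiRegular l.get
  map_flat θ hθ l h := (isQuasiRegular_map_get l θ).mpr (isQuasiRegular_map θ hθ l.get h)
  of_ofList_eq f g hf hI hlen := by
    subst_vars
    have hlen' : f.length = g.length := hlen.symm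
    have h1 : CAlgX.IsQuasiRegular (fun i : Fin g.length => f.get (Fin.cast hlen i)) :=
      isQuasiRegular_cast hlen f.get hf
    refine Groth.Agent.Lib.Helper18.isQuasiRegular_of_span_eq _ g.get h1 ?_
    rw [span_range_get, hI, ← span_range_get]
    congr 1
    ext y
    constructor
    · rintro ⟨i, rfl⟩
      exact ⟨Fin.cast hlen' i, by simp⟩
    · rintro ⟨i, rfl⟩
      exact ⟨Fin.cast hlen i, rfl⟩
  length_le f h hf hne hI :=
    length_le_of_rel_mem f h (fun a ha i => rel_mem_of_isQuasiRegular f.get hf a ha i) hne hI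
  flat_local l h := by
    apply isQuasiRegular_of_flat_local
    intro 𝔮
    obtain ⟨R', _, θ, hθ, h𝔮', hreg⟩ := h 𝔮
    exact ⟨R', inferInstance, θ, hθ, h𝔮', (isQuasiRegular_map_get l θ).mp hreg⟩
  of_top l h := isQuasiRegular_of_top l.get (by rw [span_range_get]; exact h)

lemma isLoc_quasiKind_iff {A : Type u} [CommRing A] (I : Ideal A) :
    IsLoc quasiKind I ↔ PP16.IsLocallyQuasiRegular A I := by
  constructor
  · intro h P hP hIP
    obtain ⟨g, hg, l, hl, hIl⟩ := h ⟨P, hP⟩ hIP
    exact ⟨g, hg, l.length, l.get, hl, by rw [span_range_get, hIl]⟩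
  · intro h 𝔭 hI𝔭
    obtain ⟨g, hg, r, f, hf, hIf⟩ := h 𝔭.asIdeal hI𝔭
    refine ⟨g, hg, List.ofFn f, ?_, ?_⟩
    · show CAlgX.IsQuasiRegular (List.ofFn f).get
      have : (List.ofFn f).get = fun i => f (Fin.cast (List.length_ofFn) i) := by
        funext i
        simp
        rfl
      rw [this]
      exact isQuasiRegular_cast _ f hf
    · rw [← hIf, ofList_ofFn]

/-- locally quasi-regular ideals descend along faithfully flat ring maps. -/
theorem isLocallyQuasiRegular_of_faithfullyFlat (A B : Type u) [CommRing A] [CommRing B]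
    [Algebra A B] [Module.FaithfullyFlat A B] (I : Ideal A)
    (h : PP16.IsLocallyQuasiRegular B (Ideal.map (algebraMap A B) I)) :
    PP16.IsLocallyQuasiRegular A I :=
  (isLoc_quasiKind_iff I).mp
    (isLoc_of_faithfullyFlat (K := quasiKind) I ((isLoc_quasiKind_iff _).mpr h))

end Groth.Agent.Lib.Helper10.RegDescentQuasi
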