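import Mathlib.LinearAlgebra.Matrix.ToLin
import Mathlib.Data.Real.Basic
import Mathlib.Algebra.Module.Submodule.Ker
import Mathlib.LinearAlgebra.Matrix.Symmetric
import Mathlib.Tactic

set_option autoImplicit false
open Finset

namespace Groth.Agent.Lib.Helper10

variable {n : ℕ}

theorem quad_identity (b : Fin n → Fin n → ℝ) (hb : ∀ i j, b i j = b j i) (y : Fin n → ℝ) :
    ∑ i, ∑ j, b i j * y i * y j =
      ∑ i, (∑ j, b i j) * y i ^ 2 - (1 / 2) * ∑ i, ∑ j, b i j * (y i - y j) ^ 2 := by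
  have h1 : ∑ i, ∑ j, b i j * (y i - y j) ^ 2 =
      ∑ i, ∑ j, b i j * y i ^ 2 - 2 * ∑ i, ∑ j, b i j * y i * y j + ∑ i, ∑ j, b i j * y j ^ 2 := by
    simp only [Finset.mul_sum, ← Finset.sum_add_distrib, ← Finset.sum_sub_distrib]
    refine Finset.sum_congr rfl (fun i _ => Finset.sum_congr rfl (fun j _ => ?_))
    ring
  have h2 : ∑ i, ∑ j, b i j * y j ^ 2 = ∑ i, ∑ j, b i j * y i ^ 2 := by
    rw [Finset.sum_comm]
    refine Finset.sum_congr rfl (fun i _ => Finset.sum_congr rfl (fun j _ => ?_))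
    rw [hb]
  have h3 : ∑ i, (∑ j, b i j) * y i ^ 2 = ∑ i, ∑ j, b i j * y i ^ 2 := by
    refine Finset.sum_congr rfl (fun i _ => ?_)
    rw [Finset.sum_mul]
  rw [h1, h2, h3]; ring

/-- The quadratic form of a symmetric matrix in the coordinates `x i = m i * y i`. -/
theorem quad_form_eq (A : Matrix (Fin n) (Fin n) ℝ) (m y : Fin n → ℝ) (hsymm : A.IsSymm) :
    dotProduct (fun i => m i * y i) (A.mulVec (fun i => m i * y i)) =
      ∑ i, (m i * A.mulVec m i) * y i ^ 2 -
        (1 / 2) * ∑ i, ∑ j, (A i j * m i * m j) * (y i - y j) ^ 2 := by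
  have hs : ∀ i j, A i j = A j i := fun i j => (Matrix.IsSymm.apply hsymm i j).symm
  have h := quad_identity (fun i j => A i j * m i * m j)
    (fun i j => by rw [hs i j]; ring) y
  have h4 : ∑ i, (m i * A.mulVec m i) * y i ^ 2 = ∑ i, (∑ j, A i j * m i * m j) * y i ^ 2 := by
    refine Finset.sum_congr rfl (fun i _ => ?_)
    congr 1
    simp only [Matrix.mulVec, dotProduct, Finset.mul_sum]
    refine Finset.sum_congr rfl (fun j _ => ?_)
    ring
  rw [h4, ← h]
  simp only [dotProduct, Matrix.mulVec, Finset.mul_sum]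
  refine Finset.sum_congr rfl (fun i _ => Finset.sum_congr rfl (fun j _ => ?_))
  ring

theorem quad_second_nonneg (A : Matrix (Fin n) (Fin n) ℝ) (m y : Fin n → ℝ)
    (hA : ∀ i j, i ≠ j → 0 ≤ A i j) (hm : ∀ i, 0 < m i) (i j : Fin n) :
    0 ≤ (A i j * m i * m j) * (y i - y j) ^ 2 := by
  by_cases hij : i = j
  · subst hij; simp
  · have := hA i j hij
    have h1 := hm i
    have h2 := hm j
    positivity

theorem quad_form_nonpos (A : Matrix (Fin n) (Fin n) ℝ) (m y : Fin n → ℝ) (hsymm : A.IsSymm)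
    (hA : ∀ i j, i ≠ j → 0 ≤ A i j) (hm : ∀ i, 0 < m i) (hle : ∀ i, A.mulVec m i ≤ 0) :
    dotProduct (fun i => m i * y i) (A.mulVec (fun i => m i * y i)) ≤ 0 := by
  rw [quad_form_eq A m y hsymm]
  have h1 : ∑ i, (m i * A.mulVec m i) * y i ^ 2 ≤ 0 := by
    apply Finset.sum_nonpos
    intro i _
    have := hle i
    have := hm i
    have : m i * A.mulVec m i ≤ 0 := mul_nonpos_of_nonneg_of_nonpos (hm i).le (hle i)
    exact mul_nonpos_of_nonpos_of_nonneg this (sq_nonneg _)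
  have h2 : 0 ≤ ∑ i, ∑ j, (A i j * m i * m j) * (y i - y j) ^ 2 :=
    Finset.sum_nonneg (fun i _ => Finset.sum_nonneg (fun j _ => quad_second_nonneg A m y hA hm i j))
  linarith

theorem quad_form_eq_zero (A : Matrix (Fin n) (Fin n) ℝ) (m y : Fin n → ℝ) (hsymm : A.IsSymm)
    (hA : ∀ i j, i ≠ j → 0 ≤ A i j) (hm : ∀ i, 0 < m i) (hle : ∀ i, A.mulVec m i ≤ 0)
    (h0 : dotProduct (fun i => m i * y i) (A.mulVec (fun i => m i * y i)) = 0) :
    (∀ i, y i ≠ 0 → A.mulVec m i = 0) ∧ (∀ i j, A i j ≠ 0 → y i = y j) := by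
  rw [quad_form_eq A m y hsymm] at h0
  have t1 : ∀ i ∈ (univ : Finset (Fin n)), (m i * A.mulVec m i) * y i ^ 2 ≤ 0 := by
    intro i _
    have : m i * A.mulVec m i ≤ 0 := mul_nonpos_of_nonneg_of_nonpos (hm i).le (hle i)
    exact mul_nonpos_of_nonpos_of_nonneg this (sq_nonneg _)
  have h1 : ∑ i, (m i * A.mulVec m i) * y i ^ 2 ≤ 0 := Finset.sum_nonpos t1
  have t2 : ∀ i ∈ (univ : Finset (Fin n)), 0 ≤ ∑ j, (A i j * m i * m j) * (y i - y j) ^ 2 :=
    fun i _ => Finset.sum_nonneg (fun j _ => quad_second_nonneg A m y hA hm i j)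
  have h2 : 0 ≤ ∑ i, ∑ j, (A i j * m i * m j) * (y i - y j) ^ 2 := Finset.sum_nonneg t2
  have e1 : ∑ i, (m i * A.mulVec m i) * y i ^ 2 = 0 := by linarith
  have e2 : ∑ i, ∑ j, (A i j * m i * m j) * (y i - y j) ^ 2 = 0 := by linarith
  constructor
  · intro i hyi
    have := (Finset.sum_eq_zero_iff_of_nonpos t1).mp e1 i (Finset.mem_univ i)
    rcases mul_eq_zero.mp this with h | h
    · rcases mul_eq_zero.mp h with h' | h'
      · exact absurd h' (hm i).ne'
      · exact h'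
    · exact absurd ((pow_eq_zero_iff (two_ne_zero)).mp h) hyi
  · intro i j hij
    have hi := (Finset.sum_eq_zero_iff_of_nonneg t2).mp e2 i (Finset.mem_univ i)
    have hj := (Finset.sum_eq_zero_iff_of_nonneg
      (fun j _ => quad_second_nonneg A m y hA hm i j)).mp hi j (Finset.mem_univ j)
    rcases mul_eq_zero.mp hj with h | h
    · exfalso
      rcases mul_eq_zero.mp h with h' | h'
      · rcases mul_eq_zero.mp h' with h'' | h''
        · exact hij h''
        · exact (hm i).ne' h''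
      · exact (hm j).ne' h'
    · have := (pow_eq_zero_iff (two_ne_zero)).mp h
      linarith

end Groth.Agent.Lib.Helper10
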