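import Mathlib
import Groth.Prelude.Def_RegImm
import Groth.Agent.Lib.Helper82.SyntLocal
import Groth.Agent.Lib.Helper82.RelGCIReg
import Groth.Agent.Lib.Helper82.RelGCIFlat
import Groth.Agent.H46.SyntMor

/-!
# Syntomic ring maps and morphisms are stable under base change (helper10)

Via the local structure theorem (a syntomic algebra is locally a relative global complete
intersection, helper82) and base change of relative global complete intersections.
-/

set_option autoImplicit false
universe u

namespace Groth.Agent.Lib.Helper10.SyntBC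

open TensorProduct AlgebraicGeometry CategoryTheory
open Groth.Agent.H46.SyntLocality Groth.Agent.H46.SyntMor

/-- base change of a relative global complete intersection algebra is syntomic -/
theorem isSyntomic_tensor_of_relGCI {R S T : Type u} [CommRing R] [CommRing S] [CommRing T]
    [Algebra R S] [Algebra R T] (n c : ℕ) (F : Fin c → MvPolynomial (Fin n) R)
    (hF : Synt.IsRelGCI R n c F) (e : T ≃ₐ[R] Synt.RelGCIRing R n c F) :
    Synt.IsSyntomic S (S ⊗[R] T) := by
  have hF' := Groth.Agent.Lib.Helper82.RelGCIReg.isRelGCI_baseChange (algebraMap R S) F hF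
  have h1 := Groth.Agent.Lib.Helper82.RelGCIFlat.isSyntomic_of_isRelGCI S n c _ hF'
  let Q : Algebra.Presentation S (S ⊗[R] Synt.RelGCIRing R n c F) (Fin n) (Fin c) :=
    (Algebra.Presentation.naive (v := F)).baseChange S
  have hker : Ideal.span (Set.range (fun i => MvPolynomial.map (algebraMap R S) (F i))) =
      Q.ker := by
    rw [← Q.span_range_relation_eq_ker]
    rfl
  let ψ : Synt.RelGCIRing S n c (fun i => MvPolynomial.map (algebraMap R S) (F i)) ≃ₐ[S]
      S ⊗[R] Synt.RelGCIRing R n c F :=
    (Ideal.quotientEquivAlgOfEq S hker).trans (Q.quotientEquiv.restrictScalars S)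
  exact Groth.Agent.Lib.Helper82.SyntLocal.isSyntomic_of_algEquiv (R := S)
    (e := ψ.trans (Algebra.TensorProduct.congr AlgEquiv.refl e.symm)) h1

/-- syntomic algebras are stable under base change -/
theorem isSyntomic_tensor {R S T : Type u} [CommRing R] [CommRing S] [CommRing T]
    [Algebra R S] [Algebra R T] (h : Synt.IsSyntomic R T) : Synt.IsSyntomic S (S ⊗[R] T) := by
  classical
  let G : Set T := {g | ∃ (n c : ℕ) (F : Fin c → MvPolynomial (Fin n) R), Synt.IsRelGCI R n c F ∧
      Nonempty (Localization.Away g ≃ₐ[R] Synt.RelGCIRing R n c F)}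
  have hG : Ideal.span G = ⊤ := by
    by_contra hne
    obtain ⟨m, hm, hle⟩ := Ideal.exists_le_maximal _ hne
    haveI : m.IsPrime := hm.isPrime
    obtain ⟨g, hg, n, c, F, hF, he⟩ :=
      Groth.Agent.Lib.Helper82.SyntLocal.exists_relGCI_of_isSyntomic (R := R) T h m
    exact hg (hle (Ideal.subset_span ⟨n, c, F, hF, he⟩))
  have hs : Ideal.span ((Algebra.TensorProduct.includeRight (R := R) (A := S) (B := T)) '' G) =
      ⊤ := by
    rw [← Ideal.map_span, hG, Ideal.map_top]
  have key : Q (algebraMap S (S ⊗[R] T)) := by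
    refine Q_ofLocalizationSpanTarget _ _ hs ?_
    rintro ⟨_, g, hg, rfl⟩
    obtain ⟨n, c, F, hF, ⟨e⟩⟩ := hg
    have h1 := isSyntomic_tensor_of_relGCI (S := S) n c F hF e
    let χ := IsLocalization.Away.tensorProductEquivTMulRight R S g (Localization.Away g)
    have h2 := Groth.Agent.Lib.Helper82.SyntLocal.isSyntomic_of_algEquiv (R := S) (e := χ) h1
    exact isSyntomic_congr (R := S) (S := Localization.Away ((1 : S) ⊗ₜ[R] g))
      OreLocalization.instAlgebra _ (fun r => rfl) h2
  exact isSyntomic_congr (R := S) (S := S ⊗[R] T) (algebraMap S (S ⊗[R] T)).toAlgebra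
    Algebra.TensorProduct.leftAlgebra (fun r => rfl) key

theorem Q_isStableUnderBaseChange : RingHom.IsStableUnderBaseChange @Q := by
  refine RingHom.IsStableUnderBaseChange.mk Q_propertyIsLocal.respectsIso ?_
  intro R S T _ _ _ _ _ h
  have h' : Synt.IsSyntomic R T :=
    isSyntomic_congr (R := R) (S := T) (algebraMap R T).toAlgebra _ (fun r => rfl) h
  exact isSyntomic_congr (R := S) (S := S ⊗[R] T) Algebra.TensorProduct.leftAlgebra
    (algebraMap S (S ⊗[R] T)).toAlgebra (fun r => rfl) (isSyntomic_tensor h')

instance : MorphismProperty.IsStableUnderBaseChange P :=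
  HasRingHomProperty.isStableUnderBaseChange Q_isStableUnderBaseChange

/-- syntomic morphisms are stable under base change -/
theorem isSyntomicMor_of_isPullback {X S X' S' : Scheme.{u}} {f : X ⟶ S} {g : S' ⟶ S}
    {g' : X' ⟶ X} {f' : X' ⟶ S'} (hsq : IsPullback g' f' f g) (hf : Synt.IsSyntomicMor f) :
    Synt.IsSyntomicMor f' :=
  (isSyntomicMor_iff f').mpr
    (MorphismProperty.of_isPullback hsq ((isSyntomicMor_iff f).mp hf))

/-- the fibres of a syntomic morphism are syntomic -/
theorem isSyntomicMor_fiberToSpecResidueField {X S : Scheme.{u}} (f : X ⟶ S)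
    (hf : Synt.IsSyntomicMor f) (s : S) :
    Synt.IsSyntomicMor (f.fiberToSpecResidueField s) :=
  isSyntomicMor_of_isPullback (IsPullback.of_hasPullback f (S.fromSpecResidueField s)) hf

end Groth.Agent.Lib.Helper10.SyntBC
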