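import Mathlib
import Groth.Prelude.Def_RegImm
import Groth.Agent.Lib.Helper10.LciMor
import Groth.Agent.Lib.Helper10.SyntOfLci

/-!
# Flat local complete intersection morphisms are syntomic (helper10)
-/

set_option autoImplicit false
universe u

namespace Groth.Agent.Lib.Helper10.SyntMor

open AlgebraicGeometry CategoryTheory CategoryTheory.Limits
open Groth.Agent.Lib.Helper10.LciMor Groth.Agent.Lib.Helper10.LciComp
open Groth.Agent.Lib.Helper10.SyntOfLci

variable {X S : Scheme.{u}}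

/-- a flat local complete intersection morphism is syntomic. -/
theorem isSyntomicMor_of_flat_of_lciMor (f : X ⟶ S) [Flat f] (h : lciMor f) :
    Synt.IsSyntomicMor f := by
  intro x
  obtain ⟨V, hV, hxV, -⟩ := (TopologicalSpace.Opens.isBasis_iff_nbhd.mp S.isBasis_affineOpens)
    (TopologicalSpace.Opens.mem_top (f x))
  obtain ⟨U, hU, hxU, hUV⟩ := (TopologicalSpace.Opens.isBasis_iff_nbhd.mp X.isBasis_affineOpens)
    (show x ∈ f ⁻¹ᵁ V from hxV)
  refine ⟨⟨U, hU⟩, ⟨V, hV⟩, hUV, hxU, ?_⟩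
  have h1 : IsLCIHom (f.appLE V U hUV).hom :=
    HasRingHomProperty.appLE lciMor _ h ⟨V, hV⟩ ⟨U, hU⟩ hUV
  have h2 : (f.appLE V U hUV).hom.Flat :=
    HasRingHomProperty.appLE @Flat _ inferInstance ⟨V, hV⟩ ⟨U, hU⟩ hUV
  letI := (f.appLE V U hUV).hom.toAlgebra
  haveI : Module.Flat Γ(S, V) Γ(X, U) := h2
  exact isSyntomic_of_flat_of_isLCI _ _ h1

end Groth.Agent.Lib.Helper10.SyntMor
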