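import Groth.Agent.Lib.Helper3.GeomUnibranch
import Groth.Agent.S0537
import Groth.Agent.S2748
import Groth.Agent.S0539

/-!
# A criterion for an ideal of a strict henselization to be prime (helper10)

If `R₀ → R'` is an integral map of local rings with `R'` an integrally closed local domain and
trivial residue field extension, then the kernel of `R₀ → R'` extends to a prime ideal of the strict
henselization of `R₀`.
-/

set_option autoImplicit false
set_option linter.unusedSectionVars false
set_option linter.style.haveILetI false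
universe u

namespace Groth.Agent.Lib.Helper10.TensorBranch

open IsLocalRing TensorProduct Groth.Agent.Lib.Helper3

/-- If a local ring `R₀` embeds integrally into an integrally closed local domain `R'` with trivial
residue field extension, then the strict henselization of `R₀` is a domain. -/
theorem isDomain_strictHenselization_of_normal (R₀ S₀ R' : Type u) [CommRing R₀] [IsLocalRing R₀]
    [CommRing S₀] [IsLocalRing S₀] [Algebra R₀ S₀] [IsLocalHom (algebraMap R₀ S₀)]
    [Hensel.IsStrictHenselization R₀ S₀]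
    [CommRing R'] [IsLocalRing R'] [IsDomain R'] [IsIntegrallyClosed R'] [Algebra R₀ R']
    [Algebra.IsIntegral R₀ R'] (hinj : Function.Injective (algebraMap R₀ R'))
    (hres : ∀ x : R', ∃ r : R₀, x - algebraMap R₀ R' r ∈ maximalIdeal R') : IsDomain S₀ := by
  haveI : IsLocalHom (algebraMap R₀ R') := isLocalHom_algebraMap_of_isIntegral _ _
  haveI : IsPurelyInseparable (ResidueField R₀) (ResidueField R') := by
    rw [isPurelyInseparable_iff_pow_mem (ResidueField R₀) (ringExpChar (ResidueField R₀))]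
    intro x
    obtain ⟨x, rfl⟩ := residue_surjective x
    obtain ⟨r, hr⟩ := hres x
    refine ⟨0, residue R₀ r, ?_⟩
    rw [pow_zero, pow_one]
    have h0 : residue R' (x - algebraMap R₀ R' r) = 0 := (residue_eq_zero_iff _).mpr hr
    rw [map_sub, sub_eq_zero] at h0
    rw [h0]
    rfl
  obtain ⟨Rh', _, _, _, _, hH⟩ := Groth.Agent.S0537.result R'
  have hdom : IsDomain Rh' :=
    ((Groth.Agent.S2748.result R' Rh').mpr ⟨inferInstance, inferInstance⟩).1
  obtain ⟨φ, hφ⟩ := exists_bijective_tensor_to_strictHenselization R₀ S₀ R' Rh'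
  haveI : IsDomain (S₀ ⊗[R₀] R') := hφ.injective.isDomain φ
  haveI : Module.Flat R₀ S₀ := (Groth.Agent.S0539.result R₀ S₀).toFlat
  have hinc : Function.Injective (Algebra.TensorProduct.includeLeft : S₀ →ₐ[R₀] S₀ ⊗[R₀] R') :=
    Algebra.TensorProduct.includeLeft_injective hinj
  exact hinc.isDomain (Algebra.TensorProduct.includeLeft : S₀ →ₐ[R₀] S₀ ⊗[R₀] R').toRingHom

theorem map_ne_top {A S : Type*} [CommRing A] [IsLocalRing A] [CommRing S] [IsLocalRing S]
    [Algebra A S] [IsLocalHom (algebraMap A S)] (I : Ideal A) (hI : I ≠ ⊤) :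
    I.map (algebraMap A S) ≠ ⊤ := by
  have h1 : I ≤ maximalIdeal A := le_maximalIdeal hI
  have h2 : (maximalIdeal A).map (algebraMap A S) ≤ maximalIdeal S :=
    ((local_hom_TFAE (algebraMap A S)).out 0 2 rfl rfl).mp ‹_›
  intro h
  have h3 : (⊤ : Ideal S) ≤ maximalIdeal S := h ▸ (Ideal.map_mono h1).trans h2
  exact (maximalIdeal.isMaximal S).ne_top (top_le_iff.mp h3)

/-- If a local ring `R₀` maps integrally to an integrally closed local domain `R'` with trivial
residue field extension, then the kernel of `R₀ → R'` extends to a prime ideal of the strict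
henselization of `R₀`. -/
theorem isPrime_map_ker_of_normal (R₀ S₀ R' : Type u) [CommRing R₀] [IsLocalRing R₀]
    [CommRing S₀] [IsLocalRing S₀] [Algebra R₀ S₀] [IsLocalHom (algebraMap R₀ S₀)]
    [Hensel.IsStrictHenselization R₀ S₀]
    [CommRing R'] [IsLocalRing R'] [IsDomain R'] [IsIntegrallyClosed R'] [Algebra R₀ R']
    [Algebra.IsIntegral R₀ R']
    (hres : ∀ x : R', ∃ r : R₀, x - algebraMap R₀ R' r ∈ maximalIdeal R') :
    ((RingHom.ker (algebraMap R₀ R')).map (algebraMap R₀ S₀)).IsPrime := by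
  set N := RingHom.ker (algebraMap R₀ R') with hN
  have hNtop : N ≠ ⊤ := RingHom.ker_ne_top _
  haveI : Nontrivial (R₀ ⧸ N) := Ideal.Quotient.nontrivial_iff.mpr hNtop
  haveI : IsLocalRing (R₀ ⧸ N) := IsLocalRing.of_surjective' _ Ideal.Quotient.mk_surjective
  haveI : Nontrivial (S₀ ⧸ N.map (algebraMap R₀ S₀)) :=
    Ideal.Quotient.nontrivial_iff.mpr (map_ne_top N hNtop)
  haveI : IsLocalRing (S₀ ⧸ N.map (algebraMap R₀ S₀)) :=
    IsLocalRing.of_surjective' _ Ideal.Quotient.mk_surjective
  haveI : IsLocalHom (algebraMap (R₀ ⧸ N) (S₀ ⧸ N.map (algebraMap R₀ S₀))) :=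
    isLocalHom_quotient_map R₀ S₀ N (le_maximalIdeal hNtop)
  haveI := isStrictHenselization_quotient (A := R₀) (S := S₀) N
  letI : Algebra (R₀ ⧸ N) R' := (RingHom.kerLift (algebraMap R₀ R')).toAlgebra
  haveI : IsScalarTower R₀ (R₀ ⧸ N) R' := .of_algebraMap_eq (fun _ => rfl)
  haveI : Algebra.IsIntegral (R₀ ⧸ N) R' :=
    ⟨fun x => (Algebra.IsIntegral.isIntegral (R := R₀) x).tower_top⟩
  have hinj : Function.Injective (algebraMap (R₀ ⧸ N) R') :=
    RingHom.kerLift_injective (algebraMap R₀ R')
  have hres' : ∀ x : R', ∃ r : R₀ ⧸ N, x - algebraMap (R₀ ⧸ N) R' r ∈ maximalIdeal R' := by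
    intro x
    obtain ⟨r, hr⟩ := hres x
    exact ⟨Ideal.Quotient.mk N r, hr⟩
  have := isDomain_strictHenselization_of_normal (R₀ ⧸ N) (S₀ ⧸ N.map (algebraMap R₀ S₀)) R'
    hinj hres'
  exact (Ideal.Quotient.isDomain_iff_prime _).mp this

end Groth.Agent.Lib.Helper10.TensorBranch
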