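import Mathlib

/-!
# Localizing an integral extension with a unique prime over a given prime (helper10)

`P → T` integral, `T` a domain, `𝔪` a prime of `P` with a unique prime `Q₀` of `T` over it.  Then
`T_𝔪 := T ⊗_P P_𝔪` is the local ring `T_{Q₀}`; it is integral over `P_𝔪`, and the kernel of
`P_𝔪 → T_𝔪` is generated by the kernel of `P → T`.
-/

set_option autoImplicit false
set_option linter.unusedSectionVars false
set_option linter.style.haveILetI false
universe u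

namespace Groth.Agent.Lib.Helper10.TensorBranch

open IsLocalRing

section Layer1

variable {P T : Type u} [CommRing P] [CommRing T] [IsDomain T] [Algebra P T]
  [Algebra.IsIntegral P T] (𝔪 : Ideal P) [𝔪.IsPrime] (Q₀ : Ideal T) [Q₀.IsPrime]
  (hQ₀ : Q₀.comap (algebraMap P T) = 𝔪)
  (huniq : ∀ Q : Ideal T, Q.IsPrime → Q.comap (algebraMap P T) = 𝔪 → Q = Q₀)

/-- The localization of `T` at the image of the complement of `𝔪`. -/
abbrev Tm : Type u := Localization (Algebra.algebraMapSubmonoid T 𝔪.primeCompl)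

theorem isIntegral_Tm : Algebra.IsIntegral (Localization.AtPrime 𝔪) (Tm (T := T) 𝔪) :=
  ⟨isIntegral_localization (R := P) (S := T) (M := 𝔪.primeCompl)
    (Rₘ := Localization.AtPrime 𝔪) (Sₘ := Tm (T := T) 𝔪)⟩

include hQ₀ in
theorem algebraMapSubmonoid_le : Algebra.algebraMapSubmonoid T 𝔪.primeCompl ≤ Q₀.primeCompl := by
  rintro x ⟨p, hp, rfl⟩ hx
  apply hp
  rw [← hQ₀]
  exact hx

include hQ₀ huniq in
theorem isLocalization_atPrime_Tm : IsLocalization.AtPrime (Tm (T := T) 𝔪) Q₀ := by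
  haveI := isIntegral_Tm (T := T) 𝔪
  refine IsLocalization.of_le (M := Algebra.algebraMapSubmonoid T 𝔪.primeCompl)
    (N := Q₀.primeCompl) (algebraMapSubmonoid_le 𝔪 Q₀ hQ₀) ?_
  intro t ht
  by_contra hu
  obtain ⟨M, hM, htM⟩ := exists_max_ideal_of_mem_nonunits (mem_nonunits_iff.mpr hu)
  have h1 : (M.comap (algebraMap (Localization.AtPrime 𝔪) (Tm (T := T) 𝔪))).IsMaximal :=
    Ideal.isMaximal_comap_of_isIntegral_of_isMaximal M
  have h2 : M.comap (algebraMap (Localization.AtPrime 𝔪) (Tm (T := T) 𝔪)) =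
      maximalIdeal (Localization.AtPrime 𝔪) := IsLocalRing.eq_maximalIdeal h1
  have h3 : (M.comap (algebraMap T (Tm (T := T) 𝔪))).comap (algebraMap P T) = 𝔪 := by
    rw [Ideal.comap_comap, ← IsScalarTower.algebraMap_eq,
      IsScalarTower.algebraMap_eq P (Localization.AtPrime 𝔪) (Tm (T := T) 𝔪), ← Ideal.comap_comap,
      h2]
    exact IsLocalization.AtPrime.comap_maximalIdeal (Localization.AtPrime 𝔪) 𝔪
  have h4 := huniq _ (Ideal.IsPrime.comap _) h3
  apply ht
  rw [← h4]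
  exact htM

include hQ₀ huniq in
theorem isLocalRing_Tm : IsLocalRing (Tm (T := T) 𝔪) :=
  haveI := isLocalization_atPrime_Tm 𝔪 Q₀ hQ₀ huniq
  IsLocalization.AtPrime.isLocalRing (Tm (T := T) 𝔪) Q₀

include hQ₀ in
theorem isDomain_Tm : IsDomain (Tm (T := T) 𝔪) := by
  apply IsLocalization.isDomain_localization
  intro x hx
  have := algebraMapSubmonoid_le 𝔪 Q₀ hQ₀ hx
  exact mem_nonZeroDivisors_of_ne_zero (fun h => this (h ▸ Q₀.zero_mem))

include hQ₀ huniq in
theorem isIntegrallyClosed_Tm [IsIntegrallyClosed (Localization.AtPrime Q₀)] :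
    IsIntegrallyClosed (Tm (T := T) 𝔪) := by
  haveI := isLocalization_atPrime_Tm 𝔪 Q₀ hQ₀ huniq
  exact IsIntegrallyClosed.of_equiv
    (IsLocalization.algEquiv Q₀.primeCompl (Localization.AtPrime Q₀) (Tm (T := T) 𝔪)).toRingEquiv

include hQ₀ in
theorem ker_algebraMap_Tm :
    RingHom.ker (algebraMap (Localization.AtPrime 𝔪) (Tm (T := T) 𝔪)) =
      (RingHom.ker (algebraMap P T)).map (algebraMap P (Localization.AtPrime 𝔪)) := by
  apply le_antisymm
  · intro x hx
    obtain ⟨p, s, rfl⟩ := IsLocalization.exists_mk'_eq 𝔪.primeCompl x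
    rw [RingHom.mem_ker, IsLocalization.algebraMap_mk' (S := T) (Rₘ := Localization.AtPrime 𝔪)
      (Sₘ := Tm (T := T) 𝔪), IsLocalization.mk'_eq_zero_iff] at hx
    obtain ⟨m, hm⟩ := hx
    have hm0 : (m : T) ≠ 0 := fun h =>
      algebraMapSubmonoid_le 𝔪 Q₀ hQ₀ m.2 (h ▸ Q₀.zero_mem)
    have hp : algebraMap P T p = 0 := (mul_eq_zero.mp hm).resolve_left hm0
    rw [IsLocalization.mk'_mem_iff]
    exact Ideal.mem_map_of_mem _ ((RingHom.mem_ker).mpr hp)
  · rw [Ideal.map_le_iff_le_comap]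
    intro p hp
    rw [Ideal.mem_comap, RingHom.mem_ker, ← IsScalarTower.algebraMap_apply,
      IsScalarTower.algebraMap_apply P T (Tm (T := T) 𝔪), (RingHom.mem_ker).mp hp, map_zero]

include hQ₀ huniq in
theorem exists_sub_mem_nonunits_Tm (hres : ∀ t : T, ∃ p : P, t - algebraMap P T p ∈ Q₀)
    (x : Tm (T := T) 𝔪) :
    ∃ r : Localization.AtPrime 𝔪,
      x - algebraMap (Localization.AtPrime 𝔪) (Tm (T := T) 𝔪) r ∈ nonunits (Tm (T := T) 𝔪) := by
  haveI := isLocalization_atPrime_Tm 𝔪 Q₀ hQ₀ huniq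
  obtain ⟨⟨t, s⟩, hx⟩ := IsLocalization.surj (Algebra.algebraMapSubmonoid T 𝔪.primeCompl) x
  obtain ⟨s₀, hs₀, hs⟩ := s.2
  obtain ⟨p, hp⟩ := hres t
  refine ⟨IsLocalization.mk' (Localization.AtPrime 𝔪) p ⟨s₀, hs₀⟩, ?_⟩
  rw [mem_nonunits_iff]
  intro hu
  have hsu : IsUnit (algebraMap T (Tm (T := T) 𝔪) s) :=
    IsLocalization.map_units (Tm (T := T) 𝔪) s
  have h1 : (x - algebraMap (Localization.AtPrime 𝔪) (Tm (T := T) 𝔪)
      (IsLocalization.mk' (Localization.AtPrime 𝔪) p ⟨s₀, hs₀⟩)) *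
        algebraMap T (Tm (T := T) 𝔪) s =
      algebraMap T (Tm (T := T) 𝔪) (t - algebraMap P T p) := by
    rw [sub_mul, hx, map_sub, ← hs, ← IsScalarTower.algebraMap_apply P T (Tm (T := T) 𝔪),
      IsScalarTower.algebraMap_apply P (Localization.AtPrime 𝔪) (Tm (T := T) 𝔪), ← map_mul,
      show IsLocalization.mk' (Localization.AtPrime 𝔪) p ⟨s₀, hs₀⟩ *
        algebraMap P (Localization.AtPrime 𝔪) s₀ = algebraMap P (Localization.AtPrime 𝔪) p from
        IsLocalization.mk'_spec (Localization.AtPrime 𝔪) p ⟨s₀, hs₀⟩,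
      ← IsScalarTower.algebraMap_apply, ← IsScalarTower.algebraMap_apply]
  have h2 : IsUnit (algebraMap T (Tm (T := T) 𝔪) (t - algebraMap P T p)) := h1 ▸ hu.mul hsu
  rw [IsLocalization.AtPrime.isUnit_to_map_iff (Tm (T := T) 𝔪) Q₀] at h2
  exact h2 hp

end Layer1

end Groth.Agent.Lib.Helper10.TensorBranch
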