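import Groth.Agent.Lib.Helper10.TensorBranchB
import Groth.Agent.Lib.Helper3.GeomUnibranch
import Groth.Agent.Lib.Helper50.NormalTensor
import Groth.Agent.Lib.Helper50.TensorDomain

/-!
# Tensor products of local algebras with residue field an algebraically closed field (helper10)
-/

set_option autoImplicit false
set_option linter.unusedSectionVars false
set_option linter.style.haveILetI false
universe u

namespace Groth.Agent.Lib.Helper10.TensorBranch

open IsLocalRing TensorProduct Groth.Agent.Lib.Helper3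

/-- Over an algebraically closed residue field, an integral local extension has the same residue
field. -/
theorem exists_sub_mem_of_isIntegral {k A A' : Type u} [Field k] [IsAlgClosed k] [CommRing A]
    [IsLocalRing A] [Algebra k A] (hA : Function.Bijective ((residue A).comp (algebraMap k A)))
    [CommRing A'] [IsLocalRing A'] [Algebra A A'] [Algebra.IsIntegral A A'] (a' : A') :
    ∃ c : k, a' - algebraMap A A' (algebraMap k A c) ∈ maximalIdeal A' := by
  haveI : IsLocalHom (algebraMap A A') := isLocalHom_algebraMap_of_isIntegral _ _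
  haveI := isAlgebraic_residueField_of_isIntegral A A'
  haveI : IsAlgClosed (ResidueField A) := IsAlgClosed.of_ringEquiv k _ (RingEquiv.ofBijective _ hA)
  obtain ⟨y, hy⟩ := (IsAlgClosed.algebraMap_bijective_of_isIntegral (k := ResidueField A)
    (K := ResidueField A')).2 (residue A' a')
  obtain ⟨a, rfl⟩ := residue_surjective y
  obtain ⟨c, hc⟩ := hA.2 (residue A a)
  refine ⟨c, ?_⟩
  rw [← residue_eq_zero_iff, map_sub, ← hy, sub_eq_zero]
  rw [RingHom.comp_apply] at hc
  rw [← hc]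
  rfl

section Tensor

variable {k A B A' B' : Type u} [Field k] [CommRing A] [CommRing B] [Algebra k A] [Algebra k B]
  [CommRing A'] [CommRing B'] [Algebra k A'] [Algebra k B'] [Algebra A A'] [Algebra B B']
  [IsScalarTower k A A'] [IsScalarTower k B B']

variable (k A B A' B') in
/-- The map `A ⊗ B → A' ⊗ B'`. -/
noncomputable def tmap : A ⊗[k] B →ₐ[k] A' ⊗[k] B' :=
  Algebra.TensorProduct.map (IsScalarTower.toAlgHom k A A') (IsScalarTower.toAlgHom k B B')

variable (k A B A' B') in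
/-- `A' ⊗ B'` as an algebra over `A ⊗ B`. -/
@[instance_reducible] noncomputable def algT : Algebra (A ⊗[k] B) (A' ⊗[k] B') :=
  (tmap k A B A' B').toRingHom.toAlgebra

attribute [local instance] algT

theorem algebraMap_tmul (a : A) (b : B) :
    algebraMap (A ⊗[k] B) (A' ⊗[k] B') (a ⊗ₜ b) = algebraMap A A' a ⊗ₜ algebraMap B B' b := by
  change tmap k A B A' B' (a ⊗ₜ b) = _
  simp [tmap]

theorem isIntegral_tensor [Algebra.IsIntegral A A'] [Algebra.IsIntegral B B'] :
    Algebra.IsIntegral (A ⊗[k] B) (A' ⊗[k] B') := by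
  refine ⟨fun t => ?_⟩
  induction t using TensorProduct.induction_on with
  | zero => exact isIntegral_zero
  | add x y hx hy => exact hx.add hy
  | tmul a' b' =>
    have h1 : IsIntegral (A ⊗[k] B) ((a' ⊗ₜ (1 : B')) : A' ⊗[k] B') := by
      refine IsIntegral.map_of_comp_eq (Algebra.TensorProduct.includeLeftRingHom : A →+* A ⊗[k] B)
        (Algebra.TensorProduct.includeLeftRingHom : A' →+* A' ⊗[k] B') ?_
        (Algebra.IsIntegral.isIntegral (R := A) a')
      ext a
      simp [algebraMap_tmul]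
    have h2 : IsIntegral (A ⊗[k] B) (((1 : A') ⊗ₜ b') : A' ⊗[k] B') := by
      refine IsIntegral.map_of_comp_eq
        ((Algebra.TensorProduct.includeRight : B →ₐ[k] A ⊗[k] B) : B →+* A ⊗[k] B)
        ((Algebra.TensorProduct.includeRight : B' →ₐ[k] A' ⊗[k] B') : B' →+* A' ⊗[k] B') ?_
        (Algebra.IsIntegral.isIntegral (R := B) b')
      ext b
      simp [algebraMap_tmul]
    have := h1.mul h2
    rwa [Algebra.TensorProduct.tmul_mul_tmul, mul_one, one_mul] at this

theorem ker_algebraMap_tensor :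
    RingHom.ker (algebraMap (A ⊗[k] B) (A' ⊗[k] B')) =
      (RingHom.ker (algebraMap A A')).map
        (Algebra.TensorProduct.includeLeft : A →ₐ[k] A ⊗[k] B) ⊔
      (RingHom.ker (algebraMap B B')).map
        (Algebra.TensorProduct.includeRight : B →ₐ[k] A ⊗[k] B) := by
  let f : A →ₐ[k] A' := IsScalarTower.toAlgHom k A A'
  let g : B →ₐ[k] B' := IsScalarTower.toAlgHom k B B'
  have hfac : tmap k A B A' B' =
      (Algebra.TensorProduct.map (Ideal.kerLiftAlg f) (Ideal.kerLiftAlg g)).comp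
        (Algebra.TensorProduct.map (Ideal.Quotient.mkₐ k (RingHom.ker f))
          (Ideal.Quotient.mkₐ k (RingHom.ker g))) := by
    apply Algebra.TensorProduct.ext'
    intro a b
    simp [tmap, f, g]
  have hinj : Function.Injective
      (Algebra.TensorProduct.map (Ideal.kerLiftAlg f) (Ideal.kerLiftAlg g)) :=
    TensorProduct.map_injective_of_flat_flat (Ideal.kerLiftAlg f).toLinearMap
      (Ideal.kerLiftAlg g).toLinearMap (Ideal.kerLiftAlg_injective f) (Ideal.kerLiftAlg_injective g)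
  have h1 : RingHom.ker (algebraMap (A ⊗[k] B) (A' ⊗[k] B')) =
      RingHom.ker (Algebra.TensorProduct.map (Ideal.Quotient.mkₐ k (RingHom.ker f))
          (Ideal.Quotient.mkₐ k (RingHom.ker g))) := by
    ext x
    change tmap k A B A' B' x = 0 ↔ _
    rw [hfac, AlgHom.comp_apply, RingHom.mem_ker]
    exact ⟨fun h => hinj (h.trans (map_zero _).symm), fun h => by
      rw [show (Algebra.TensorProduct.map (Ideal.Quotient.mkₐ k (RingHom.ker f))
        (Ideal.Quotient.mkₐ k (RingHom.ker g))) x = 0 from h, map_zero]⟩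
  rw [h1, Algebra.TensorProduct.map_ker _ _ (Ideal.Quotient.mkₐ_surjective k _)
    (Ideal.Quotient.mkₐ_surjective k _)]
  have hk1 : RingHom.ker (Ideal.Quotient.mkₐ k (RingHom.ker f)) = RingHom.ker (algebraMap A A') :=
    Ideal.Quotient.mkₐ_ker k (RingHom.ker f)
  have hk2 : RingHom.ker (Ideal.Quotient.mkₐ k (RingHom.ker g)) = RingHom.ker (algebraMap B B') :=
    Ideal.Quotient.mkₐ_ker k (RingHom.ker g)
  rw [hk1, hk2]

section Local

variable [IsLocalRing A] [IsLocalRing B] [IsLocalRing A'] [IsLocalRing B']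
  [Algebra.IsIntegral A A'] [Algebra.IsIntegral B B']
  (𝔪 : Ideal (A ⊗[k] B)) [𝔪.IsPrime]
  (h𝔪 : 𝔪 = (maximalIdeal A).map (Algebra.TensorProduct.includeLeft : A →ₐ[k] A ⊗[k] B) ⊔
      (maximalIdeal B).map (Algebra.TensorProduct.includeRight : B →ₐ[k] A ⊗[k] B))

variable (k A' B') in
/-- The ideal `m_{A'} ⊗ B' + A' ⊗ m_{B'}`. -/
def mT : Ideal (A' ⊗[k] B') :=
  (maximalIdeal A').map (Algebra.TensorProduct.includeLeft : A' →ₐ[k] A' ⊗[k] B') ⊔
    (maximalIdeal B').map (Algebra.TensorProduct.includeRight : B' →ₐ[k] A' ⊗[k] B')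

include h𝔪 in
theorem mT_le_of_comap_eq (Q : Ideal (A' ⊗[k] B')) [Q.IsPrime]
    (hQ : Q.comap (algebraMap (A ⊗[k] B) (A' ⊗[k] B')) = 𝔪) : mT k A' B' ≤ Q := by
  unfold mT
  rw [sup_le_iff, Ideal.map_le_iff_le_comap, Ideal.map_le_iff_le_comap]
  constructor
  · set q₁ := Q.comap (Algebra.TensorProduct.includeLeft : A' →ₐ[k] A' ⊗[k] B') with hq₁
    have h1 : q₁.comap (algebraMap A A') =
        𝔪.comap (Algebra.TensorProduct.includeLeft : A →ₐ[k] A ⊗[k] B) := by
      rw [← hQ]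
      ext a
      simp only [hq₁, Ideal.mem_comap, Algebra.TensorProduct.includeLeft_apply, algebraMap_tmul,
        map_one]
    have h2 : maximalIdeal A ≤ 𝔪.comap (Algebra.TensorProduct.includeLeft : A →ₐ[k] A ⊗[k] B) := by
      rw [h𝔪]; exact Ideal.le_comap_of_map_le le_sup_left
    have h3 : 𝔪.comap (Algebra.TensorProduct.includeLeft : A →ₐ[k] A ⊗[k] B) ≠ ⊤ :=
      (Ideal.IsPrime.comap _).ne_top
    have h4 : q₁.comap (algebraMap A A') = maximalIdeal A :=
      h1 ▸ ((maximalIdeal.isMaximal A).eq_of_le h3 h2).symm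
    haveI : q₁.IsPrime := Ideal.IsPrime.comap _
    have h5 : q₁.IsMaximal :=
      Ideal.isMaximal_of_isIntegral_of_isMaximal_comap q₁ (h4 ▸ maximalIdeal.isMaximal A)
    exact (IsLocalRing.eq_maximalIdeal h5).ge
  · set q₁ := Q.comap (Algebra.TensorProduct.includeRight : B' →ₐ[k] A' ⊗[k] B') with hq₁
    have h1 : q₁.comap (algebraMap B B') =
        𝔪.comap (Algebra.TensorProduct.includeRight : B →ₐ[k] A ⊗[k] B) := by
      rw [← hQ]
      ext a
      simp only [hq₁, Ideal.mem_comap, Algebra.TensorProduct.includeRight_apply, algebraMap_tmul,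
        map_one]
    have h2 : maximalIdeal B ≤
        𝔪.comap (Algebra.TensorProduct.includeRight : B →ₐ[k] A ⊗[k] B) := by
      rw [h𝔪]; exact Ideal.le_comap_of_map_le le_sup_right
    have h3 : 𝔪.comap (Algebra.TensorProduct.includeRight : B →ₐ[k] A ⊗[k] B) ≠ ⊤ :=
      (Ideal.IsPrime.comap _).ne_top
    have h4 : q₁.comap (algebraMap B B') = maximalIdeal B :=
      h1 ▸ ((maximalIdeal.isMaximal B).eq_of_le h3 h2).symm
    haveI : q₁.IsPrime := Ideal.IsPrime.comap _
    have h5 : q₁.IsMaximal :=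
      Ideal.isMaximal_of_isIntegral_of_isMaximal_comap q₁ (h4 ▸ maximalIdeal.isMaximal B)
    exact (IsLocalRing.eq_maximalIdeal h5).ge

omit [IsLocalRing A] [IsLocalRing B] [Algebra.IsIntegral A A'] [Algebra.IsIntegral B B']
  [Algebra A A'] [Algebra B B'] [IsScalarTower k A A'] [IsScalarTower k B B'] [Algebra k A]
  [Algebra k B] [CommRing A] [CommRing B] in
theorem exists_sub_mem_mT
    (hA' : ∀ a' : A', ∃ c : k, a' - algebraMap k A' c ∈ maximalIdeal A')
    (hB' : ∀ b' : B', ∃ c : k, b' - algebraMap k B' c ∈ maximalIdeal B') (t : A' ⊗[k] B') :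
    ∃ c : k, t - algebraMap k (A' ⊗[k] B') c ∈ mT k A' B' := by
  induction t using TensorProduct.induction_on with
  | zero => exact ⟨0, by simp⟩
  | add x y hx hy =>
    obtain ⟨c₁, h₁⟩ := hx
    obtain ⟨c₂, h₂⟩ := hy
    refine ⟨c₁ + c₂, ?_⟩
    have : x + y - algebraMap k (A' ⊗[k] B') (c₁ + c₂) =
        (x - algebraMap k (A' ⊗[k] B') c₁) + (y - algebraMap k (A' ⊗[k] B') c₂) := by
      rw [map_add]; ring
    rw [this]
    exact Ideal.add_mem _ h₁ h₂
  | tmul a' b' =>
    obtain ⟨α, hα⟩ := hA' a'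
    obtain ⟨β, hβ⟩ := hB' b'
    refine ⟨α * β, ?_⟩
    have h0 : algebraMap k (A' ⊗[k] B') (α * β) = algebraMap k A' α ⊗ₜ[k] algebraMap k B' β := by
      rw [Algebra.TensorProduct.algebraMap_apply, map_mul, mul_comm, ← Algebra.smul_def,
        TensorProduct.smul_tmul, ← Algebra.algebraMap_eq_smul_one]
    have h1 : a' ⊗ₜ[k] b' - algebraMap k (A' ⊗[k] B') (α * β) =
        ((a' - algebraMap k A' α) ⊗ₜ[k] (1 : B')) * ((1 : A') ⊗ₜ[k] b') +
          (algebraMap k A' α ⊗ₜ[k] (1 : B')) * ((1 : A') ⊗ₜ[k] (b' - algebraMap k B' β)) := by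
      rw [h0, Algebra.TensorProduct.tmul_mul_tmul, Algebra.TensorProduct.tmul_mul_tmul, mul_one,
        one_mul, mul_one, one_mul, TensorProduct.sub_tmul, TensorProduct.tmul_sub]
      ring
    rw [h1]
    refine Ideal.add_mem _ (Ideal.mul_mem_right _ _ (Ideal.mem_sup_left ?_))
      (Ideal.mul_mem_left _ _ (Ideal.mem_sup_right ?_))
    · exact Ideal.mem_map_of_mem (Algebra.TensorProduct.includeLeft : A' →ₐ[k] A' ⊗[k] B') hα
    · exact Ideal.mem_map_of_mem (Algebra.TensorProduct.includeRight : B' →ₐ[k] A' ⊗[k] B') hβ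

include h𝔪 in
theorem exists_unique_prime_over
    (hA' : ∀ a' : A', ∃ c : k, a' - algebraMap k A' c ∈ maximalIdeal A')
    (hB' : ∀ b' : B', ∃ c : k, b' - algebraMap k B' c ∈ maximalIdeal B') :
    ∃ Q₀ : Ideal (A' ⊗[k] B'), Q₀.IsPrime ∧
      Q₀.comap (algebraMap (A ⊗[k] B) (A' ⊗[k] B')) = 𝔪 ∧
      (∀ Q : Ideal (A' ⊗[k] B'), Q.IsPrime →
        Q.comap (algebraMap (A ⊗[k] B) (A' ⊗[k] B')) = 𝔪 → Q = Q₀) ∧
      ∀ t : A' ⊗[k] B', ∃ p : A ⊗[k] B, t - algebraMap (A ⊗[k] B) (A' ⊗[k] B') p ∈ Q₀ := by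
  haveI := isIntegral_tensor (k := k) (A := A) (B := B) (A' := A') (B' := B')
  have hker : (⊥ : Ideal (A' ⊗[k] B')).comap (algebraMap (A ⊗[k] B) (A' ⊗[k] B')) ≤ 𝔪 := by
    change RingHom.ker (algebraMap (A ⊗[k] B) (A' ⊗[k] B')) ≤ 𝔪
    rw [ker_algebraMap_tensor, h𝔪]
    exact sup_le_sup (Ideal.map_mono (le_maximalIdeal (RingHom.ker_ne_top _)))
      (Ideal.map_mono (le_maximalIdeal (RingHom.ker_ne_top _)))
  obtain ⟨Q₀, -, hQ₀p, hQ₀⟩ := Ideal.exists_ideal_over_prime_of_isIntegral 𝔪 ⊥ hker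
  have key : ∀ Q₁ Q₂ : Ideal (A' ⊗[k] B'), Q₁.IsPrime → Q₂.IsPrime →
      Q₁.comap (algebraMap (A ⊗[k] B) (A' ⊗[k] B')) = 𝔪 →
      Q₂.comap (algebraMap (A ⊗[k] B) (A' ⊗[k] B')) = 𝔪 → Q₁ ≤ Q₂ := by
    intro Q₁ Q₂ hp₁ hp₂ h₁ h₂ t ht
    obtain ⟨c, hc⟩ := exists_sub_mem_mT hA' hB' t
    have hc₁ : t - algebraMap k (A' ⊗[k] B') c ∈ Q₁ := mT_le_of_comap_eq 𝔪 h𝔪 Q₁ h₁ hc
    have hc₂ : algebraMap k (A' ⊗[k] B') c ∈ Q₁ := by
      have := Ideal.sub_mem _ ht hc₁
      rwa [sub_sub_cancel] at this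
    have hc0 : c = 0 := by
      by_contra hne
      have hu : IsUnit (algebraMap k (A' ⊗[k] B') c) := (IsUnit.mk0 c hne).map _
      exact hp₁.ne_top (Ideal.eq_top_of_isUnit_mem _ hc₂ hu)
    rw [hc0, map_zero, sub_zero] at hc
    exact mT_le_of_comap_eq 𝔪 h𝔪 Q₂ h₂ hc
  refine ⟨Q₀, hQ₀p, hQ₀, fun Q hQp hQ => le_antisymm (key Q Q₀ hQp hQ₀p hQ hQ₀)
    (key Q₀ Q hQ₀p hQp hQ₀ hQ), fun t => ?_⟩
  obtain ⟨c, hc⟩ := exists_sub_mem_mT hA' hB' t
  refine ⟨algebraMap k (A ⊗[k] B) c, ?_⟩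
  have : algebraMap (A ⊗[k] B) (A' ⊗[k] B') (algebraMap k (A ⊗[k] B) c) =
      algebraMap k (A' ⊗[k] B') c := (tmap k A B A' B').commutes c
  rw [this]
  exact mT_le_of_comap_eq 𝔪 h𝔪 Q₀ hQ₀ hc

end Local

end Tensor

/-- An integrally closed domain over an algebraically closed field is geometrically normal. -/
theorem isGeomNormal_of_isAlgClosed (k A' : Type u) [Field k] [IsAlgClosed k] [CommRing A']
    [IsDomain A'] [IsIntegrallyClosed A'] [Algebra k A'] : EGA4.IsGeomNormal k A' := by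
  intro k' _ _ hfin
  haveI : Algebra.IsIntegral k k' := Algebra.IsIntegral.of_finite k k'
  have hbij : Function.Bijective (Algebra.ofId k k') :=
    IsAlgClosed.algebraMap_bijective_of_isIntegral (k := k) (K := k')
  let e : k ≃ₐ[k] k' := AlgEquiv.ofBijective (Algebra.ofId k k') hbij
  let e' : A' ≃+* k' ⊗[k] A' :=
    ((Algebra.TensorProduct.congr e.symm (AlgEquiv.refl : A' ≃ₐ[k] A')).trans
      (Algebra.TensorProduct.lid k A')).symm.toRingEquiv
  exact Groth.Agent.Lib.Helper50.isNormalRing_of_ringEquiv e'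
    (Groth.Agent.Lib.Helper50.isNormalRing_of_isIntegrallyClosed' A')

open Groth.Agent.Lib.Helper50 in
/-- **Key construction.** For local `k`-algebras `A`, `B` with residue field the algebraically
closed field `k`, and integral local extensions `A → A'`, `B → B'` with `A'`, `B'` integrally closed
domains, the ring `(A' ⊗ B')_𝔪` is an integrally closed local domain, integral over `(A ⊗ B)_𝔪`
with trivial residue field extension, and the kernel of `(A ⊗ B)_𝔪 → (A' ⊗ B')_𝔪` is generated by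
the kernels of `A → A'` and `B → B'`. -/
theorem exists_normal_local_tensor {k A B : Type u} [Field k] [IsAlgClosed k] [CommRing A]
    [CommRing B] [IsLocalRing A] [IsLocalRing B] [Algebra k A] [Algebra k B]
    (hA : Function.Bijective ((residue A).comp (algebraMap k A)))
    (hB : Function.Bijective ((residue B).comp (algebraMap k B)))
    (𝔪 : Ideal (A ⊗[k] B)) [𝔪.IsPrime]
    (h𝔪 : 𝔪 = (maximalIdeal A).map (Algebra.TensorProduct.includeLeft : A →ₐ[k] A ⊗[k] B) ⊔
      (maximalIdeal B).map (Algebra.TensorProduct.includeRight : B →ₐ[k] A ⊗[k] B))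
    (A' B' : Type u) [CommRing A'] [CommRing B'] [IsLocalRing A'] [IsLocalRing B'] [IsDomain A']
    [IsDomain B'] [IsIntegrallyClosed A'] [IsIntegrallyClosed B'] [Algebra A A'] [Algebra B B']
    [Algebra.IsIntegral A A'] [Algebra.IsIntegral B B'] :
    ∃ (R' : Type u) (_ : CommRing R') (_ : IsLocalRing R') (_ : IsDomain R')
      (_ : IsIntegrallyClosed R') (_ : Algebra (Localization.AtPrime 𝔪) R')
      (_ : Algebra.IsIntegral (Localization.AtPrime 𝔪) R'),
      (∀ x : R', ∃ r : Localization.AtPrime 𝔪,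
        x - algebraMap (Localization.AtPrime 𝔪) R' r ∈ maximalIdeal R') ∧
      RingHom.ker (algebraMap (Localization.AtPrime 𝔪) R') =
        ((RingHom.ker (algebraMap A A')).map
            (Algebra.TensorProduct.includeLeft : A →ₐ[k] A ⊗[k] B) ⊔
          (RingHom.ker (algebraMap B B')).map
            (Algebra.TensorProduct.includeRight : B →ₐ[k] A ⊗[k] B)).map
          (algebraMap (A ⊗[k] B) (Localization.AtPrime 𝔪)) ∧
      (∀ a : A, algebraMap (Localization.AtPrime 𝔪) R'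
        (algebraMap (A ⊗[k] B) (Localization.AtPrime 𝔪) (a ⊗ₜ 1)) = 0 → algebraMap A A' a = 0) ∧
      (∀ b : B, algebraMap (Localization.AtPrime 𝔪) R'
        (algebraMap (A ⊗[k] B) (Localization.AtPrime 𝔪) (1 ⊗ₜ b)) = 0 → algebraMap B B' b = 0) := by
  letI : Algebra k A' := ((algebraMap A A').comp (algebraMap k A)).toAlgebra
  haveI : IsScalarTower k A A' := .of_algebraMap_eq (fun _ => rfl)
  letI : Algebra k B' := ((algebraMap B B').comp (algebraMap k B)).toAlgebra
  haveI : IsScalarTower k B B' := .of_algebraMap_eq (fun _ => rfl)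
  letI := algT k A B A' B'
  have hA' : ∀ a' : A', ∃ c : k, a' - algebraMap k A' c ∈ maximalIdeal A' :=
    fun a' => exists_sub_mem_of_isIntegral hA a'
  have hB' : ∀ b' : B', ∃ c : k, b' - algebraMap k B' c ∈ maximalIdeal B' :=
    fun b' => exists_sub_mem_of_isIntegral hB b'
  haveI : IsDomain (A' ⊗[k] B') := isDomain_tensorProduct_of_isAlgClosed
  haveI := isIntegral_tensor (k := k) (A := A) (B := B) (A' := A') (B' := B')
  obtain ⟨Q₀, hQ₀p, hQ₀, huniq, hres⟩ := exists_unique_prime_over 𝔪 h𝔪 hA' hB'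
  have hT : EGA4.IsNormalRing (A' ⊗[k] B') :=
    isNormalRing_tensor_of_isGeomNormal k A' B' (isGeomNormal_of_isAlgClosed k A')
      (isNormalRing_of_isIntegrallyClosed' B')
  haveI : IsIntegrallyClosed (Localization.AtPrime Q₀) := (hT Q₀).2
  letI hloc : IsLocalRing (Tm (T := A' ⊗[k] B') 𝔪) := isLocalRing_Tm 𝔪 Q₀ hQ₀ huniq
  refine ⟨Tm (T := A' ⊗[k] B') 𝔪, inferInstance, hloc, isDomain_Tm 𝔪 Q₀ hQ₀,
    isIntegrallyClosed_Tm 𝔪 Q₀ hQ₀ huniq, inferInstance, isIntegral_Tm 𝔪, ?_, ?_, ?_, ?_⟩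
  · intro x
    obtain ⟨r, hr⟩ := exists_sub_mem_nonunits_Tm 𝔪 Q₀ hQ₀ huniq hres x
    exact ⟨r, hr⟩
  · rw [ker_algebraMap_Tm 𝔪 Q₀ hQ₀, ker_algebraMap_tensor]
  · intro a ha
    rw [← IsScalarTower.algebraMap_apply,
      IsScalarTower.algebraMap_apply (A ⊗[k] B) (A' ⊗[k] B') (Tm (T := A' ⊗[k] B') 𝔪)] at ha
    have hinjT : Function.Injective (algebraMap (A' ⊗[k] B') (Tm (T := A' ⊗[k] B') 𝔪)) :=
      IsLocalization.injective _ (fun x hx => mem_nonZeroDivisors_of_ne_zero (fun h =>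
        algebraMapSubmonoid_le 𝔪 Q₀ hQ₀ hx (h ▸ Q₀.zero_mem)))
    have h1 := hinjT (ha.trans (map_zero _).symm)
    rw [algebraMap_tmul, map_one] at h1
    exact Algebra.TensorProduct.includeLeft_injective (S := k)
      (FaithfulSMul.algebraMap_injective k B') (h1.trans (map_zero _).symm)
  · intro b hb
    rw [← IsScalarTower.algebraMap_apply,
      IsScalarTower.algebraMap_apply (A ⊗[k] B) (A' ⊗[k] B') (Tm (T := A' ⊗[k] B') 𝔪)] at hb
    have hinjT : Function.Injective (algebraMap (A' ⊗[k] B') (Tm (T := A' ⊗[k] B') 𝔪)) :=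
      IsLocalization.injective _ (fun x hx => mem_nonZeroDivisors_of_ne_zero (fun h =>
        algebraMapSubmonoid_le 𝔪 Q₀ hQ₀ hx (h ▸ Q₀.zero_mem)))
    have h1 := hinjT (hb.trans (map_zero _).symm)
    rw [algebraMap_tmul, map_one] at h1
    exact Algebra.TensorProduct.includeRight_injective
      (FaithfulSMul.algebraMap_injective k A') (h1.trans (map_zero _).symm)

end Groth.Agent.Lib.Helper10.TensorBranch
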