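import Groth.Agent.Lib.Helper10.TensorBranchA
import Groth.Agent.Lib.Helper10.TensorBranchC
import Groth.Agent.Lib.Helper3.HensQF
import Groth.Agent.S13598

/-!
# Minimal primes of the strict henselization of `(A ⊗_k B)_𝔪` (helper10)
-/

set_option autoImplicit false
set_option linter.unusedSectionVars false
set_option linter.style.haveILetI false
universe u

namespace Groth.Agent.Lib.Helper10.TensorBranch

open IsLocalRing TensorProduct Groth.Agent.Lib.Helper3

/-- For a prime `𝔭` of a henselian local ring `A`, the normalization of `A/𝔭` is an integrally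
closed local domain, integral over `A`, with kernel `𝔭`. -/
theorem exists_normalization (A : Type u) [CommRing A] [HenselianLocalRing A] (𝔭 : Ideal A)
    [𝔭.IsPrime] :
    ∃ (A' : Type u) (_ : CommRing A') (_ : IsLocalRing A') (_ : IsDomain A')
      (_ : IsIntegrallyClosed A') (_ : Algebra A A') (_ : Algebra.IsIntegral A A'),
      RingHom.ker (algebraMap A A') = 𝔭 := by
  have h𝔭 : 𝔭 ≠ ⊤ := Ideal.IsPrime.ne_top'
  haveI : Nontrivial (A ⧸ 𝔭) := Ideal.Quotient.nontrivial_iff.mpr h𝔭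
  haveI : IsLocalRing (A ⧸ 𝔭) := IsLocalRing.of_surjective' _ Ideal.Quotient.mk_surjective
  haveI : HenselianLocalRing (A ⧸ 𝔭) := Groth.Agent.S13598.henselianLocalRing_quotient 𝔭
  haveI := isHenselization_self (A ⧸ 𝔭)
  haveI hloc : IsLocalRing (integralClosure (A ⧸ 𝔭) (FractionRing (A ⧸ 𝔭))) :=
    isLocalRing_integralClosure_of_isDomain_henselization (A ⧸ 𝔭) (A ⧸ 𝔭)
  haveI : IsIntegrallyClosed (integralClosure (A ⧸ 𝔭) (FractionRing (A ⧸ 𝔭))) :=
    integralClosure.isIntegrallyClosedOfFiniteExtension (FractionRing (A ⧸ 𝔭))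
  letI : Algebra A (integralClosure (A ⧸ 𝔭) (FractionRing (A ⧸ 𝔭))) :=
    ((algebraMap (A ⧸ 𝔭) (integralClosure (A ⧸ 𝔭) (FractionRing (A ⧸ 𝔭)))).comp
      (Ideal.Quotient.mk 𝔭)).toAlgebra
  haveI : IsScalarTower A (A ⧸ 𝔭) (integralClosure (A ⧸ 𝔭) (FractionRing (A ⧸ 𝔭))) :=
    .of_algebraMap_eq (fun _ => rfl)
  haveI : Algebra.IsIntegral A (A ⧸ 𝔭) :=
    Algebra.isIntegral_of_surjective Ideal.Quotient.mk_surjective
  haveI : Algebra.IsIntegral A (integralClosure (A ⧸ 𝔭) (FractionRing (A ⧸ 𝔭))) :=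
    Algebra.IsIntegral.trans (A ⧸ 𝔭)
  refine ⟨integralClosure (A ⧸ 𝔭) (FractionRing (A ⧸ 𝔭)), inferInstance, hloc, inferInstance,
    inferInstance, inferInstance, inferInstance, ?_⟩
  ext a
  rw [RingHom.mem_ker]
  change algebraMap (A ⧸ 𝔭) (integralClosure (A ⧸ 𝔭) (FractionRing (A ⧸ 𝔭)))
    (Ideal.Quotient.mk 𝔭 a) = 0 ↔ _
  rw [map_eq_zero_iff _ (FaithfulSMul.algebraMap_injective (A ⧸ 𝔭)
    (integralClosure (A ⧸ 𝔭) (FractionRing (A ⧸ 𝔭)))), Ideal.Quotient.eq_zero_iff_mem]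

section Main

variable {k A B C : Type u} [Field k] [IsAlgClosed k] [CommRing A] [CommRing B]
  [HenselianLocalRing A] [HenselianLocalRing B] [Algebra k A] [Algebra k B]
  (hA : Function.Bijective ((residue A).comp (algebraMap k A)))
  (hB : Function.Bijective ((residue B).comp (algebraMap k B)))
  (𝔪 : Ideal (A ⊗[k] B)) [𝔪.IsPrime]
  (h𝔪 : 𝔪 = (maximalIdeal A).map (Algebra.TensorProduct.includeLeft : A →ₐ[k] A ⊗[k] B) ⊔
    (maximalIdeal B).map (Algebra.TensorProduct.includeRight : B →ₐ[k] A ⊗[k] B))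
  [CommRing C] [IsLocalRing C] [Algebra (Localization.AtPrime 𝔪) C]
  [IsLocalHom (algebraMap (Localization.AtPrime 𝔪) C)]
  [Hensel.IsStrictHenselization (Localization.AtPrime 𝔪) C]

variable (C) in
/-- The ideal of `C` generated by a prime of `A` and a prime of `B`. -/
def pairIdeal (𝔭 : Ideal A) (𝔮 : Ideal B) : Ideal C :=
  ((𝔭.map (Algebra.TensorProduct.includeLeft : A →ₐ[k] A ⊗[k] B) ⊔
    𝔮.map (Algebra.TensorProduct.includeRight : B →ₐ[k] A ⊗[k] B)).map
      (algebraMap (A ⊗[k] B) (Localization.AtPrime 𝔪))).map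
    (algebraMap (Localization.AtPrime 𝔪) C)

omit [IsAlgClosed k] [HenselianLocalRing A] [HenselianLocalRing B] [IsLocalRing C]
  [IsLocalHom (algebraMap (Localization.AtPrime 𝔪) C)]
  [Hensel.IsStrictHenselization (Localization.AtPrime 𝔪) C] in
theorem pairIdeal_le_iff (𝔭 : Ideal A) (𝔮 : Ideal B) (𝔯 : Ideal C) :
    pairIdeal C 𝔪 𝔭 𝔮 ≤ 𝔯 ↔
      𝔭 ≤ 𝔯.comap ((algebraMap (Localization.AtPrime 𝔪) C).comp
        ((algebraMap (A ⊗[k] B) (Localization.AtPrime 𝔪)).comp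
          (Algebra.TensorProduct.includeLeft : A →ₐ[k] A ⊗[k] B).toRingHom)) ∧
      𝔮 ≤ 𝔯.comap ((algebraMap (Localization.AtPrime 𝔪) C).comp
        ((algebraMap (A ⊗[k] B) (Localization.AtPrime 𝔪)).comp
          (Algebra.TensorProduct.includeRight : B →ₐ[k] A ⊗[k] B).toRingHom)) := by
  unfold pairIdeal
  rw [Ideal.map_le_iff_le_comap, Ideal.map_le_iff_le_comap, sup_le_iff, Ideal.map_le_iff_le_comap,
    Ideal.map_le_iff_le_comap]
  rfl

include hA hB h𝔪 in
theorem pairIdeal_spec (𝔭 : Ideal A) [𝔭.IsPrime] (𝔮 : Ideal B) [𝔮.IsPrime] :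
    (pairIdeal C 𝔪 𝔭 𝔮).IsPrime ∧
      (pairIdeal C 𝔪 𝔭 𝔮).comap ((algebraMap (Localization.AtPrime 𝔪) C).comp
        ((algebraMap (A ⊗[k] B) (Localization.AtPrime 𝔪)).comp
          (Algebra.TensorProduct.includeLeft : A →ₐ[k] A ⊗[k] B).toRingHom)) = 𝔭 ∧
      (pairIdeal C 𝔪 𝔭 𝔮).comap ((algebraMap (Localization.AtPrime 𝔪) C).comp
        ((algebraMap (A ⊗[k] B) (Localization.AtPrime 𝔪)).comp
          (Algebra.TensorProduct.includeRight : B →ₐ[k] A ⊗[k] B).toRingHom)) = 𝔮 := by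
  obtain ⟨A', _, _, _, _, _, _, hkA⟩ := exists_normalization A 𝔭
  obtain ⟨B', _, _, _, _, _, _, hkB⟩ := exists_normalization B 𝔮
  obtain ⟨R', _, _, _, _, _, _, hres, hker, hcA, hcB⟩ :=
    exists_normal_local_tensor hA hB 𝔪 h𝔪 A' B'
  rw [hkA, hkB] at hker
  have hprime := isPrime_map_ker_of_normal (Localization.AtPrime 𝔪) C R' hres
  rw [hker] at hprime
  haveI : Module.FaithfullyFlat (Localization.AtPrime 𝔪) C :=
    Groth.Agent.S0539.result (Localization.AtPrime 𝔪) C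
  have hcomap : (pairIdeal C 𝔪 𝔭 𝔮).comap (algebraMap (Localization.AtPrime 𝔪) C) =
      RingHom.ker (algebraMap (Localization.AtPrime 𝔪) R') := by
    rw [hker]
    exact Ideal.comap_map_eq_self_of_faithfullyFlat _
  refine ⟨hprime, ?_, ?_⟩
  · apply le_antisymm
    · intro a ha
      rw [← Ideal.comap_comap, hcomap] at ha
      have h1 := hcA a ha
      rwa [← RingHom.mem_ker, hkA] at h1
    · exact ((pairIdeal_le_iff 𝔪 𝔭 𝔮 _).mp le_rfl).1
  · apply le_antisymm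
    · intro b hb
      rw [← Ideal.comap_comap, hcomap] at hb
      have h1 := hcB b hb
      rwa [← RingHom.mem_ker, hkB] at h1
    · exact ((pairIdeal_le_iff 𝔪 𝔭 𝔮 _).mp le_rfl).2

end Main

end Groth.Agent.Lib.Helper10.TensorBranch
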